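/-
S3114: the conclusion and the identification chunks.
-/
import Cfsg.Prelude.Def_CaseTheorems
import Cfsg.Prelude.Def_ChevG2
import Cfsg.Prelude.Def_Classical
import Cfsg.Prelude.Def_ClassificationK
import Cfsg.Prelude.Def_Exceptional
import Cfsg.Prelude.Def_LieChev
import Cfsg.Prelude.Def_Local
import Cfsg.Prelude.Def_Spor_J2
import Cfsg.Prelude.Def_Spor_J3
import Cfsg.Prelude.Def_Spor_Mathieu
import Cfsg.Prelude.Def_Sporadic
import Cfsg.Prelude.Def_SporadicB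

set_option autoImplicit false

open Cfsg
namespace H18.SQ
universe u

/-- the conclusion of S3114 -/
def Concl (G : Type u) [Group G] : Prop :=
    (∃ (F : Type) (_ : Field F) (_ : Fintype F), Fintype.card F = 3 ∧
        (Nonempty (G ≃* Matrix.ProjectiveSpecialLinearGroup (Fin 4) F) ∨ Nonempty (G ≃* Cfsg.PSp 2 F) ∨
          Nonempty (G ≃* ↥(Cfsg.Lie.chevG2.group F)))) ∨
      (∃ (F : Type) (_ : Field F) (_ : Fintype F), Fintype.card F = 9 ∧ Nonempty (G ≃* Cfsg.PSU 4 F 3)) ∨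
      (∃ (F : Type) (_ : Field F) (_ : Fintype F), Fintype.card F = 4 ∧
        Nonempty (G ≃* Matrix.ProjectiveSpecialLinearGroup (Fin 3) F)) ∨
      (∃ n : ℕ, 8 ≤ n ∧ n ≤ 11 ∧ Nonempty (G ≃* ↥(alternatingGroup (Fin n)))) ∨ Cfsg.Spor.IsoM22 G

/-- nonabelian Sylow 2-subgroups of order 128, solvable involution centralizers -/
structure Sv (G : Type u) [Group G] : Prop where
  syl : ∀ S : Sylow 2 G, Nat.card S.1 = 128 ∧ ¬ IsMulCommutative S.1
  sol : ∀ t : G, orderOf t = 2 → Group.IsSolvable (Subgroup.centralizer ({t} : Set G))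

/-- sorting the conclusion of S1179 -/
def X1 : Prop := ∀ (G : Type u) [Group G] [Finite G] [IsSimpleGroup G], Sv G →
  ((∃ (n : ℕ) (F : Type) (_ : Field F) (_ : Fintype F), 2 ≤ n ∧ CharP F 2 ∧
      Nonempty (G ≃* Matrix.ProjectiveSpecialLinearGroup (Fin n) F)) ∨ Cfsg.IsSuzuki G ∨
    (∃ (F : Type) (_ : Field F) (_ : Fintype F) (q : ℕ), Fintype.card F = q ^ 2 ∧ Even q ∧ 4 ≤ q ∧
      Nonempty (G ≃* Cfsg.PSU 3 F q)) ∨ (∃ n : ℕ, 6 ≤ n ∧ n ≤ 9 ∧ Nonempty (G ≃* alternatingGroup (Fin n))) ∨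
    Cfsg.IsM22 G ∨ Cfsg.IsM23 G ∨ Cfsg.IsM24 G ∨ Cfsg.IsHe G) → Concl G

/-- sorting the conclusion of S1759 -/
def X2 : Prop := ∀ (G : Type u) [Group G] [Finite G] [IsSimpleGroup G], Sv G →
  ((∃ (F : Type) (_ : Field F) (_ : Fintype F), Fintype.card F = 9 ∧
      (Nonempty (G ≃* Cfsg.PSU 3 F 3) ∨ Nonempty (G ≃* Cfsg.PSU 4 F 3))) ∨
    (∃ (F : Type) (_ : Field F) (_ : Fintype F), Fintype.card F = 4 ∧ Nonempty (G ≃* Cfsg.PSU 4 F 2)) ∨
    (∃ (F : Type) (_ : Field F) (_ : Fintype F), Fintype.card F = 3 ∧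
      (Nonempty (G ≃* Matrix.ProjectiveSpecialLinearGroup (Fin 4) F) ∨ Nonempty (G ≃* ↥(Cfsg.Lie.chevG2.group F)))) ∨
    Nonempty (G ≃* ↥(alternatingGroup (Fin 8))) ∨ Nonempty (G ≃* ↥(alternatingGroup (Fin 9))) ∨
    Cfsg.Spor.IsoM12 G ∨ Cfsg.Spor.IsoJ2 G ∨ Cfsg.Spor.IsoJ3 G) → Concl G

/-- sorting the conclusion of S2919: centres of quaternion subgroups have solvable centralizers -/
def X3 : Prop := ∀ (G : Type u) [Group G] [Finite G],
  (∀ i j : G, i * i = j * j → i * j * (i * j) = i * i → i * i ≠ 1 →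
    Group.IsSolvable (Subgroup.centralizer ({i * i} : Set G))) →
  (Nonempty (G ≃* ↥(alternatingGroup (Fin 10))) ∨ Nonempty (G ≃* ↥(alternatingGroup (Fin 11))) ∨
    (∃ (F : Type) (_ : Field F) (_ : Fintype F) (q : ℕ), Fintype.card F = q ∧ q % 4 = 3 ∧
      Nonempty (G ≃* Matrix.ProjectiveSpecialLinearGroup (Fin 4) F)) ∨
    (∃ (F : Type) (_ : Field F) (_ : Fintype F) (q : ℕ), Fintype.card F = q ^ 2 ∧ q % 4 = 1 ∧
      Nonempty (G ≃* Cfsg.PSU 4 F q))) → Concl G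

end H18.SQ
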