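/-
Fong-Wong-Harris: Wong's lemma for an odd index extension.
-/
import Cfsg.Agent.H10.SL2Like

set_option autoImplicit false

namespace H18.FH
open Cfsg Subgroup H28 H10

/-- `j` is isolated if all involutions of `C(j)` lie in `L₁L₂` and the other `2`-elements interchange the factors -/
theorem isolated {G : Type*} [Group G] [Finite G] {L₁ L₂ : Subgroup G} {j : G} (h : SL2Pair L₁ L₂ j)
    (hnorm : ∀ y ∈ centralizer {j}, ∀ m ∈ L₁ ⊔ L₂, y * m * y⁻¹ ∈ L₁ ⊔ L₂)
    (hin : ∀ y ∈ centralizer {j}, y * y = 1 → y ∈ L₁ ⊔ L₂)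
    (sw : ∀ d ∈ centralizer {j}, ∀ k, d ^ 2 ^ k = 1 → d ∉ L₁ ⊔ L₂ → ∀ w ∈ L₁, d * w * d⁻¹ ∈ L₂) :
    IsIsolatedInvolution j := by
  refine ⟨h.h₁.two, fun g hg => ?_⟩
  by_contra hne
  obtain ⟨u, hu, u2⟩ := h.h₁.ex
  obtain ⟨v, hv, v2⟩ := h.h₂.ex
  have hcl : ∀ y, orderOf y = 2 → y * j = j * y → y ≠ j → ∃ m, m * j * m⁻¹ = j ∧
      m * (u * v) * m⁻¹ = y := fun y o2 hc hy => by
    obtain ⟨m, hm, e⟩ := (h.invol_conj hu hv u2 v2 (hin y (mem_centralizer_singleton.2 hc)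
      (mul_self_of_orderOf_two o2)) o2).resolve_left hy
    exact ⟨m, by rw [h.comm_j hm, mul_inv_cancel_right], e⟩
  set x := u * v with hx
  have xj : x * j = j * x := h.comm_j (mul_mem (mem_sup_left hu) (mem_sup_right hv))
  -- an element interchanging `j` and `x`
  obtain ⟨σ, σ1, σ2⟩ : ∃ σ, σ * j * σ⁻¹ = x ∧ σ * x * σ⁻¹ = j := by
    obtain ⟨m, -, e⟩ := hcl _ ((orderOf_conj g j).trans h.h₁.two) hg.eq.symm hne
    have e1 : (m⁻¹ * g) * j * (m⁻¹ * g)⁻¹ = x := by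
      calc _ = m⁻¹ * (g * j * g⁻¹) * m := by group
        _ = _ := by rw [← e]; group
    generalize m⁻¹ * g = k at e1
    obtain ⟨m, m1, m2⟩ := hcl (k⁻¹ * j * k⁻¹⁻¹) ((orderOf_conj _ j).trans h.h₁.two) (by
      calc _ = k⁻¹ * (j * (k * j * k⁻¹)) * k := by group
        _ = k⁻¹ * ((k * j * k⁻¹) * j) * k := by rw [e1, xj]
        _ = _ := by group) fun e => (h.invol hu hv u2 v2).2 (by
      rw [← hx, ← e1]; nth_rewrite 1 [← e]; group)
    refine ⟨k * m, ?_, ?_⟩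
    · rw [← e1]; nth_rewrite 2 [← m1]; group
    · calc _ = k * (m * x * m⁻¹) * k⁻¹ := by group
        _ = _ := by rw [m2]; group
  have hC : ∀ y, y * x = x * y → σ * y * σ⁻¹ ∈ centralizer {j} := fun y hy => by
    rw [← σ2, ← cj_centralizer_singleton]; exact conj_mem_cj (mem_centralizer_singleton.2 hy)
  have root : ∀ k : ℕ, ∀ y ∈ L₁ ⊔ L₂, y ^ 2 ^ k = x ∨ y ^ 2 ^ k = j * x →
      ∃ c ∈ L₁, c * u = u * c ∧ c ^ 2 ^ (k + 1) = j := fun k y hy e => by
    obtain ⟨a, ha, b, hb, rfl⟩ := h.mem_sup hy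
    rw [h.mul_pow ha hb] at e
    have uj := h.comm_j (mem_sup_left hu)
    have : a ^ 2 ^ k = u ∨ a ^ 2 ^ k = u * j := by
      rcases e with e | e
      · exact (h.eq_of_mul_eq (pow_mem ha _) (pow_mem hb _) hu hv e).imp And.left And.left
      · rw [hx, ← mul_assoc, ← uj] at e
        rcases h.eq_of_mul_eq (pow_mem ha _) (pow_mem hb _) (mul_mem hu h.h₁.mem) hv e with e | e
        · exact Or.inr e.1
        · left; rw [e.1, mul_assoc, h.jj, mul_one]
    refine ⟨a, ha, ?_, ?_⟩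
    · have c1 : a * a ^ 2 ^ k = a ^ 2 ^ k * a := by group
      rcases this with e | e <;> rw [e] at c1
      · exact c1
      · rwa [mul_assoc u, ← h.comm_j (mem_sup_left ha), ← mul_assoc, ← mul_assoc,
          mul_left_inj] at c1
    · rw [pow_succ, pow_mul, pow_two]
      rcases this with e | e <;> rw [e]
      · exact u2
      · rw [mul_assoc, ← mul_assoc j, ← uj, mul_assoc, h.jj, mul_one, u2]
  obtain ⟨w, hw, wu⟩ := h.h₁.conj u hu u⁻¹ (inv_mem hu) u2 (by
    rw [← mul_inv_rev, u2, inv_eq_of_mul_eq_one_right h.jj])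
  have w2 := h.h₁.inv u hu w hw u2 wu
  have wx : w * x * w⁻¹ = x * j := by
    rw [hx, ← mul_assoc, mul_assoc _ v, ← h.comm _ (inv_mem hw) v hv, ← mul_assoc, wu, ← hx, xj,
      ← inv_eq_of_mul_eq_one_right h.jj, ← u2, hx]
    group
  have key : ∀ k : ℕ, ∃ c ∈ L₁, c * u = u * c ∧ c ^ 2 ^ (k + 1) = j := by
    intro k
    induction k with
    | zero => exact ⟨u, hu, rfl, by simpa [pow_two] using u2⟩
    | succ k ih =>
      obtain ⟨c, hc, cu, ck⟩ := ih
      have cx : c * x = x * c := by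
        rw [hx, ← mul_assoc, cu, mul_assoc, h.comm c hc v hv, mul_assoc]
      have dC := hC c cx
      have dk : (σ * c * σ⁻¹) ^ 2 ^ (k + 1) = x := by rw [conj_pow, ck, σ1]
      have dx : σ * c * σ⁻¹ * x = x * (σ * c * σ⁻¹) := by
        rw [← dk]; exact (Commute.self_pow _ _).eq
      have hd : σ * (σ * c * σ⁻¹) * σ⁻¹ ∈ L₁ ⊔ L₂ := by
        have := hnorm (σ * σ) (mem_centralizer_singleton.2 (by
          rw [← mul_inv_eq_iff_eq_mul]
          calc _ = σ * (σ * j * σ⁻¹) * σ⁻¹ := by group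
            _ = _ := by rw [σ1, σ2])) c (mem_sup_left hc)
        simpa [mul_assoc] using this
      generalize σ * c * σ⁻¹ = d at dC dk dx hd
      by_cases hd' : d ∈ L₁ ⊔ L₂
      · exact root _ d hd' (Or.inl dk)
      have dw : d * w⁻¹ * d⁻¹ ∈ L₂ := sw d dC (k + 2) (by
        rw [pow_succ, pow_mul, dk, pow_two, mul_self_of_orderOf_two (h.invol hu hv u2 v2).1]) hd' _ (inv_mem hw)
      have dj := mem_centralizer_singleton.1 dC
      have ek : (w * d * w⁻¹) ^ 2 ^ (k + 1) = x * j := by rw [conj_pow, dk, wx]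
      have ej : w * d * w⁻¹ ∈ centralizer {j} :=
        have := mem_centralizer_singleton.2 (h.comm_j (mem_sup_left hw))
        mul_mem (mul_mem this dC) (inv_mem this)
      have ex : w * d * w⁻¹ * x = x * (w * d * w⁻¹) := by
        have c1 : w * d * w⁻¹ * (x * j) = x * j * (w * d * w⁻¹) := by
          rw [← ek]; exact (Commute.self_pow _ _).eq
        rwa [mul_assoc x, ← mem_centralizer_singleton.1 ej, ← mul_assoc, ← mul_assoc x,
          mul_left_inj] at c1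
      have t2 : w * (d * w⁻¹ * d⁻¹) * (w * (d * w⁻¹ * d⁻¹)) = 1 := by
        rw [h.mul_mul dw hw, w2]
        calc _ = j * (d * (w * w)⁻¹ * d⁻¹) := by group
          _ = _ := by rw [w2, inv_eq_of_mul_eq_one_right h.jj, dj, mul_inv_cancel_right, h.jj]
      have ht := hin _ (hC (w * (d * w⁻¹ * d⁻¹)) (by
        calc _ = w * d * w⁻¹ * (d⁻¹ * (x * d) * d⁻¹) := by group
          _ = w * d * w⁻¹ * x * d⁻¹ := by rw [← dx]; group
          _ = _ := by rw [ex]; group)) (by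
        calc _ = σ * (w * (d * w⁻¹ * d⁻¹) * (w * (d * w⁻¹ * d⁻¹))) * σ⁻¹ := by group
          _ = _ := by rw [t2]; group)
      refine root _ _ (mul_mem ht hd) (Or.inr ?_)
      calc _ = (σ * (w * d * w⁻¹) * σ⁻¹) ^ 2 ^ (k + 1) := by group
        _ = (σ * x * σ⁻¹) * (σ * j * σ⁻¹) := by rw [conj_pow, ek]; group
        _ = _ := by rw [σ1, σ2]
  obtain ⟨c, -, -, hc⟩ := key (Nat.card G)
  have := orderOf_eq_prime_pow (p := 2) (x := c) (n := Nat.card G + 1) (hc ▸ h.j_ne)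
    (by rw [pow_succ, pow_mul, hc, pow_two, h.jj])
  have h3 := this ▸ _root_.orderOf_le_card (x := c)
  have h4 := Nat.lt_two_pow_self (n := Nat.card G + 1 + 1)
  omega

end H18.FH
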