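/-
The group `SU₄(q)`, `q` even (including `q = 2`; copied from H27/UV0), for the antidiagonal form: elements and relations.
-/
import Cfsg.Agent.H28.CY1
import Cfsg.Agent.H14.Aut3
import Cfsg.Agent.H11.SUMat

set_option autoImplicit false
set_option linter.unusedSectionVars false

namespace H18.U2
open Cfsg Subgroup H19 Matrix

export H19 (cj_zpowers cj_eq_iff card_mul_relIndex cj_le_iff cjEquiv conj_mem_cj cj_inj cj_bot PG
  cj_inv_cj cj_mono card_cj orderOf_conj' cj_lt_cj cj_eq_top relIndex_pos cj_inf le_cj_iff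
  cj_cj relIndex_cj cj_eq_bot cj_le_cj cj_le_of_mem cj_one cj_sup cj_cj_inv card_subgroupOf mem_cj
  cj_top card_sup_dvd mem_cj' cj_comm cj_cent cj_cent1 cj_norm cj_mul mem_cj_inv card_le card_pos)

/-- fields with `4 ^ n` elements, `n ≥ 1` -/
class Big (F : Type) [Field F] [StarRing F] : Prop where
  pw : ∃ n, 1 ≤ n ∧ Nat.card F = (2 ^ n) ^ 2 ∧ ∀ x : F, star x = x ^ 2 ^ n

/-- the fixed field -/
abbrev K (F : Type) [Field F] [StarRing F] : Type := selfAdjoint F

variable {F : Type} [Field F] [StarRing F] [Big F] {x y b β β' : F} {c d α δ : K F} {σ τ : F ≃+* F}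

instance instFin : Finite F := let ⟨_, _, h, _⟩ := Big.pw (F := F); Nat.finite_of_card_ne_zero (by rw [h]; positivity)
theorem h2 : (2 : F) = 0 := by
  obtain ⟨n, hn, h, -⟩ := Big.pw (F := F)
  have := Fintype.ofFinite F
  have e := FiniteField.cast_card_eq_zero F
  rw [← Nat.card_eq_fintype_card, h, ← pow_mul, Nat.cast_pow] at e
  exact_mod_cast pow_eq_zero_iff (by omega) |>.1 e
instance instChar : CharP F 2 := CharTwo.of_one_ne_zero_of_two_eq_zero one_ne_zero h2
theorem k2 : (2 : K F) = 0 := Subtype.ext (by rw [← one_add_one_eq_two]; exact one_add_one_eq_two.trans h2)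
instance instCharK : CharP (K F) 2 := CharTwo.of_one_ne_zero_of_two_eq_zero one_ne_zero k2
@[simp] theorem sk (c : K F) : star (c : F) = c := c.2
theorem kext (h : (c : F) = d) : c = d := Subtype.ext h
theorem k0 : (c : F) = 0 ↔ c = 0 := ⟨fun h => kext h, fun h => h ▸ rfl⟩

section
variable {R : Type*} [Field R] [CharP R 2]
theorem aa (t : R) : t + t = 0 := CharTwo.add_self_eq_zero t
theorem add0 {s t : R} : s + t = 0 ↔ s = t := CharTwo.add_eq_zero
theorem sq_inj {s t : R} (h : s ^ 2 = t ^ 2) : s = t := CharTwo.sq_inj.1 h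
theorem ex_sqrt [Finite R] (s : R) : ∃ t, t ^ 2 = s := Finite.surjective_of_injective (f := fun t : R => t ^ 2) (fun _ _ => sq_inj) s
end

/-- trace -/
def tr (x : F) : K F := ⟨x + star x, by rw [selfAdjoint.mem_iff, star_add, star_star, add_comm]⟩
/-- norm -/
def nm (x : F) : K F := ⟨x * star x, by rw [selfAdjoint.mem_iff, star_mul, star_star]⟩
@[simp] theorem tr_v (x : F) : (tr x : F) = x + star x := rfl
@[simp] theorem nm_v (x : F) : (nm x : F) = x * star x := rfl
theorem tr_add (x y : F) : tr (x + y) = tr x + tr y := kext (by simp; ring)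
theorem tr_k (c : K F) (x : F) : tr (c * x) = c * tr x := kext (by simp; ring)
theorem tr_c (c : K F) : tr (c : F) = 0 := kext (by simp [aa])
@[simp] theorem tr_0 : tr (0 : F) = 0 := kext (by simp)
theorem tr_s (x : F) : tr (star x) = tr x := kext (by simp; ring)
theorem nm_mul (x y : F) : nm (x * y) = nm x * nm y := kext (by simp; ring)
theorem nm_add (x y : F) : nm (x + y) = nm x + nm y + tr (star x * y) := kext (by simp; ring)
@[simp] theorem nm_0 : nm (0 : F) = 0 := kext (by simp)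
@[simp] theorem nm_1 : nm (1 : F) = 1 := kext (by simp)
theorem nm_k (c : K F) : nm (c : F) = c ^ 2 := kext (by simp; ring)
theorem nm_s (x : F) : nm (star x) = nm x := kext (by simp; ring)
theorem nm_ne (h : x ≠ 0) : nm x ≠ 0 := fun e => by simpa [h] using congrArg Subtype.val e
theorem aut_comm (σ τ : F ≃+* F) : σ * τ = τ * σ :=
  have := H14.isCyclic_ringAut F
  (IsCyclic.commGroup (α := F ≃+* F)).mul_comm σ τ
/-- the involution -/
abbrev st : F ≃+* F := starRingAut
theorem σs (σ : F ≃+* F) (x : F) : σ (star x) = star (σ x) := DFunLike.congr_fun (aut_comm σ st) x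
theorem ex_ne : ∃ θ : F, star θ ≠ θ := by
  obtain ⟨n, hn, h, e⟩ := Big.pw (F := F)
  have := Fintype.ofFinite F
  rw [Nat.card_eq_fintype_card] at h
  by_contra! k
  exact H11.frob_ne_id h (RingHom.ext fun x => (e x).symm.trans (k x))
theorem tr_eq0 : tr x = 0 ↔ star x = x := by rw [← k0, tr_v, add0, eq_comm]
theorem ex_tr (c : K F) : ∃ x, tr x = c := by
  obtain ⟨θ, h⟩ := ex_ne (F := F)
  exact ⟨(c / tr θ : K F) * θ, by rw [tr_k, div_mul_cancel₀ _ (mt tr_eq0.1 h)]⟩
theorem cardK : Nat.card F = Nat.card (K F) ^ 2 := by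
  let f : F →+ K F := AddMonoidHom.mk' tr tr_add
  rw [AddSubgroup.card_eq_card_quotient_mul_card_addSubgroup f.ker, pow_two,
    Nat.card_congr (QuotientAddGroup.quotientKerEquivOfSurjective f ex_tr).toEquiv]
  congr 1
  exact Nat.card_congr (Equiv.subtypeEquivRight fun x => tr_eq0)
theorem pwK : ∃ n, 1 ≤ n ∧ Nat.card (K F) = 2 ^ n ∧ ∀ x : F, star x = x ^ 2 ^ n :=
  let ⟨n, hn, h, e⟩ := Big.pw (F := F); ⟨n, hn, Nat.pow_left_injective two_ne_zero (cardK.symm.trans h), e⟩
theorem ex_eta (h : nm x = 1) : ∃ η : F, nm η = 1 ∧ η ^ 2 = x := by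
  obtain ⟨η, rfl⟩ := ex_sqrt x
  exact ⟨η, sq_inj (by rw [pow_two, ← nm_mul, ← pow_two, h, one_pow]), rfl⟩
theorem nm1 (h : nm x = 1) : x * star x = 1 := congrArg Subtype.val h
theorem nm_div (h : x ≠ 0) : nm (star x / x) = 1 := kext (by simp; field_simp [star_ne_zero.2 h])
theorem fix_K (h : ∀ c : K F, σ c = c) : σ * σ = 1 := RingEquiv.ext fun x => by
  have h1 := h (tr x)
  have h3 := h (nm x)
  simp only [tr_v, nm_v, map_add, map_mul] at h1 h3
  have : (σ x + x) * (σ x + star x) = 0 := by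
    linear_combination h3 + σ x * h1 + (x * star x + σ x * x + σ x * star x - σ x * σ (star x)) * (h2 : (2 : F) = 0)
  rcases mul_eq_zero.1 this with e | e <;> rw [add0] at e
  · exact (congrArg σ e).trans e
  · exact (congrArg σ e).trans ((σs σ x).trans (by rw [e, star_star]; rfl))
theorem sq_one (h : σ * σ = 1) : σ = 1 ∨ σ = st := by
  have := H14.isCyclic_ringAut F
  have := Fintype.ofFinite (F ≃+* F)
  classical
  by_contra! k
  obtain ⟨θ, h0⟩ := ex_ne (F := F)
  have l := IsCyclic.card_pow_eq_one_le (α := F ≃+* F) two_pos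
  have := Finset.card_le_card (show {1, σ, st} ⊆ Finset.univ.filter (fun a : F ≃+* F => a ^ 2 = 1) from fun a ha => by
    simp only [Finset.mem_insert, Finset.mem_singleton] at ha
    rcases ha with rfl | rfl | rfl <;> simp [pow_two, h]
    exact RingEquiv.ext star_star)
  rw [Finset.card_eq_three.2 ⟨_, _, _, k.1.symm, fun e => h0 (DFunLike.congr_fun e θ).symm, k.2, rfl⟩] at this
  omega

/-- matrices -/
abbrev Mt (F : Type) : Type := Matrix (Fin 4) (Fin 4) F
/-- the form -/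
def J : Mt F := !![0, 0, 0, 1; 0, 0, 1, 0; 0, 1, 0, 0; 1, 0, 0, 0]
variable (F) in
/-- the unitary group inside `SL₄` -/
def Γs : Subgroup (SpecialLinearGroup (Fin 4) F) where
  carrier := {g | (g : Mt F)ᴴ * J * (g : Mt F) = J}
  one_mem' := by simp
  mul_mem' {a b} ha hb := by
    have : ((a : Mt F) * (b : Mt F))ᴴ * J * ((a : Mt F) * (b : Mt F)) = J := by
      rw [conjTranspose_mul, ← Matrix.mul_assoc, Matrix.mul_assoc _ _ J, Matrix.mul_assoc _ _ (a : Mt F), ha, hb]
    exact this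
  inv_mem' {a} ha := by
    have e : (a : Mt F) * (a⁻¹ : SpecialLinearGroup (Fin 4) F) = 1 := congrArg Subtype.val (mul_inv_cancel a)
    rw [Set.mem_setOf_eq] at *
    nth_rw 1 [← ha]
    rw [← Matrix.mul_assoc, ← Matrix.mul_assoc, ← conjTranspose_mul, Matrix.mul_assoc, e]; simp
/-- `SU₄(q)` -/
abbrev Γ (F : Type) [Field F] [StarRing F] [Big F] : Type := Γs F
/-- the matrix of an element -/
def mat (g : Γ F) : Mt F := g.1.1
theorem mt_mul (g k : Γ F) : mat (g * k) = mat g * mat k := rfl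
theorem mt_one : mat (1 : Γ F) = 1 := rfl
theorem mext {g k : Γ F} (h : mat g = mat k) : g = k := Subtype.ext (Subtype.ext h)
theorem mt_u (g : Γ F) : (mat g)ᴴ * J * mat g = J := g.2
theorem mt_det (g : Γ F) : (mat g).det = 1 := g.1.2
/-- an element given by its matrix -/
def mk (A : Mt F) (h1 : A.det = 1) (h : Aᴴ * J * A = J) : Γ F := ⟨⟨A, h1⟩, h⟩
theorem mt_mk (A : Mt F) (h1 h) : mat (mk A h1 h) = A := rfl

section
variable {a00 a01 a02 a03 a10 a11 a12 a13 a20 a21 a22 a23 a30 a31 a32 a33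
  b00 b01 b02 b03 b10 b11 b12 b13 b20 b21 b22 b23 b30 b31 b32 b33 : F}
theorem mul4 : !![a00, a01, a02, a03; a10, a11, a12, a13; a20, a21, a22, a23; a30, a31, a32, a33] * !![b00, b01, b02,
      b03; b10, b11, b12, b13; b20, b21, b22, b23; b30, b31, b32, b33] = !![a00 * b00 + a01 * b10 + a02 * b20 + a03 *
      b30, a00 * b01 + a01 * b11 + a02 * b21 + a03 * b31, a00 * b02 + a01 * b12 + a02 * b22 + a03 * b32, a00 * b03 +
      a01 * b13 + a02 * b23 + a03 * b33; a10 * b00 + a11 * b10 + a12 * b20 + a13 * b30, a10 * b01 + a11 * b11 + a12 *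
      b21 + a13 * b31, a10 * b02 + a11 * b12 + a12 * b22 + a13 * b32, a10 * b03 + a11 * b13 + a12 * b23 + a13 * b33;
      a20 * b00 + a21 * b10 + a22 * b20 + a23 * b30, a20 * b01 + a21 * b11 + a22 * b21 + a23 * b31, a20 * b02 + a21 *
      b12 + a22 * b22 + a23 * b32, a20 * b03 + a21 * b13 + a22 * b23 + a23 * b33; a30 * b00 + a31 * b10 + a32 * b20 +
      a33 * b30, a30 * b01 + a31 * b11 + a32 * b21 + a33 * b31, a30 * b02 + a31 * b12 + a32 * b22 + a33 * b32, a30 *
      b03 + a31 * b13 + a32 * b23 + a33 * b33] := by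
  ext i j; fin_cases i <;> fin_cases j <;> simp [Matrix.mul_apply, Fin.sum_univ_four]
theorem ct4 : !![a00, a01, a02, a03; a10, a11, a12, a13; a20, a21, a22, a23; a30, a31, a32, a33]ᴴ = !![star a00, star
      a10, star a20, star a30; star a01, star a11, star a21, star a31; star a02, star a12, star a22, star a32; star
      a03, star a13, star a23, star a33] := by
  ext i j; fin_cases i <;> fin_cases j <;> rfl
theorem eq4 : !![a00, a01, a02, a03; a10, a11, a12, a13; a20, a21, a22, a23; a30, a31, a32, a33] = !![b00, b01, b02,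
      b03; b10, b11, b12, b13; b20, b21, b22, b23; b30, b31, b32, b33] ↔ a00 = b00 ∧ a01 = b01 ∧ a02 = b02 ∧ a03 = b03
      ∧ a10 = b10 ∧ a11 = b11 ∧ a12 = b12 ∧ a13 = b13 ∧ a20 = b20 ∧ a21 = b21 ∧ a22 = b22 ∧ a23 = b23 ∧ a30 = b30 ∧
      a31 = b31 ∧ a32 = b32 ∧ a33 = b33 :=
  ⟨fun h => have e := fun i j => congrFun (congrFun h i) j
    ⟨e 0 0, e 0 1, e 0 2, e 0 3, e 1 0, e 1 1, e 1 2, e 1 3, e 2 0, e 2 1, e 2 2, e 2 3, e 3 0, e 3 1, e 3 2, e 3 3⟩,
    by rintro ⟨rfl, rfl, rfl, rfl, rfl, rfl, rfl, rfl, rfl, rfl, rfl, rfl, rfl, rfl, rfl, rfl⟩; rfl⟩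
theorem det4 : det !![a00, a01, a02, a03; 0, a11, a12, a13; 0, 0, a22, a23; 0, 0, 0, a33] = a00 * a11 * a22 * a33 :=
      by
  simp [det_succ_row_zero, Fin.sum_univ_succ, mul_assoc]
theorem eta4 (A : Mt F) : A = !![A 0 0, A 0 1, A 0 2, A 0 3; A 1 0, A 1 1, A 1 2, A 1 3; A 2 0, A 2 1, A 2 2, A 2 3; A
      3 0, A 3 1, A 3 2, A 3 3] := by
  ext i j; fin_cases i <;> fin_cases j <;> rfl
theorem one4 : (1 : Mt F) = !![1, 0, 0, 0; 0, 1, 0, 0; 0, 0, 1, 0; 0, 0, 0, 1] := eta4 1
end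

/-- entrywise computation -/
scoped macro "mx" "[" ts:Lean.Parser.Tactic.simpLemma,* "]" : tactic =>
  `(tactic| (simp only [mt_mul, mt_mk, mt_one, one4, mul4, ct4, J, eq4, $ts,*]
             refine ⟨?_, ?_, ?_, ?_, ?_, ?_, ?_, ?_, ?_, ?_, ?_, ?_, ?_, ?_, ?_, ?_⟩ <;> simp [aa] <;> grind))

/-- coordinates of the elementary abelian group `A` -/
abbrev Hm (F : Type) [Field F] [StarRing F] : Type := K F × F × K F
/-- unipotent elements -/
def up (β : F) (y : Hm F) : Γ F :=
  mk !![1, β, y.2.1 + β * y.2.2, y.1 + β * star y.2.1; 0, 1, y.2.2, star y.2.1; 0, 0, 1, star β; 0, 0, 0, 1]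
    (by simp [det4]) (by mx [J])
/-- the action of `u β` on `A` -/
def act (β : F) (y : Hm F) : Hm F := (y.1 + tr (star β * y.2.1) + nm β * y.2.2, y.2.1 + β * y.2.2, y.2.2)
theorem up_mul (β β' : F) (y y' : Hm F) : up β y * up β' y' = up (β + β') (act β' y + y') :=
  mext (by mx [up, act])
theorem up_0 : up (0 : F) 0 = 1 := mext (by mx [up])
theorem up_inj {y y' : Hm F} (h : up β y = up β' y') : β = β' ∧ y = y' := by
  have e := fun i j => congrFun (congrFun (congrArg mat h) i) j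
  have e1 := e 0 1; have e2 := e 1 2; have e3 := e 1 3; have e4 := e 0 3
  simp only [up, mt_mk, of_apply, cons_val, star_inj] at e1 e2 e3 e4
  rw [e1, e3, add_left_inj] at e4
  exact ⟨e1, Prod.ext (kext e4) (Prod.ext e3 (kext e2))⟩
/-- the Weyl element of the line stabilizer -/
def nn : Γ F := mk !![0, 1, 0, 0; 1, 0, 0, 0; 0, 0, 0, 1; 0, 0, 1, 0]
  (by simp [det_succ_row_zero, Fin.sum_univ_succ, Fin.succAbove]) (by mx [J])
/-- the Weyl element of the point stabilizer -/
def mm : Γ F := mk !![1, 0, 0, 0; 0, 0, 1, 0; 0, 1, 0, 0; 0, 0, 0, 1]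
  (by simp [det_succ_row_zero, Fin.sum_univ_succ, Fin.succAbove, CharTwo.neg_eq]) (by mx [J])
variable (F) in
/-- parameters of the torus -/
def T : Subgroup (Fˣ × Fˣ) where
  carrier := {p | star ((p.1 : F) * p.2) = p.1 * p.2}
  one_mem' := by simp
  mul_mem' {a b} ha hb := by
    simp only [Set.mem_setOf_eq, Prod.fst_mul, Prod.snd_mul, Units.val_mul] at *
    rw [mul_mul_mul_comm, star_mul', ha, hb]
  inv_mem' {a} ha := by
    simp only [Set.mem_setOf_eq, Prod.fst_inv, Prod.snd_inv, Units.val_inv_eq_inv_val] at *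
    rw [← mul_inv, star_inv₀, ha]
/-- first parameter -/
def ta (h : T F) : F := h.1.1
/-- second parameter -/
def td (h : T F) : F := h.1.2
theorem ta0 (h : T F) : ta h ≠ 0 := h.1.1.ne_zero
theorem td0 (h : T F) : td h ≠ 0 := h.1.2.ne_zero
theorem tad (h : T F) : star (ta h) * star (td h) = ta h * td h := (star_mul' ..).symm.trans h.2
@[simp] theorem ta_mul (h k : T F) : ta (h * k) = ta h * ta k := rfl
@[simp] theorem td_mul (h k : T F) : td (h * k) = td h * td k := rfl
@[simp] theorem ta_inv (h : T F) : ta h⁻¹ = (ta h)⁻¹ := Units.val_inv_eq_inv_val _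
@[simp] theorem td_inv (h : T F) : td h⁻¹ = (td h)⁻¹ := Units.val_inv_eq_inv_val _
@[simp] theorem ta_one : ta (1 : T F) = 1 := rfl
@[simp] theorem td_one : td (1 : T F) = 1 := rfl
theorem text {h k : T F} (e1 : ta h = ta k) (e2 : td h = td k) : h = k := Subtype.ext (Prod.ext (Units.ext e1) (Units.ext e2))
/-- a torus parameter -/
def tk (a d : F) (a0 : a ≠ 0) (d0 : d ≠ 0) (h : star (a * d) = a * d) : T F := ⟨(Units.mk0 a a0, Units.mk0 d d0), h⟩
@[simp] theorem ta_tk (a d : F) (a0 d0 h) : ta (tk a d a0 d0 h) = a := rfl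
@[simp] theorem td_tk (a d : F) (a0 d0 h) : td (tk a d a0 d0 h) = d := rfl
/-- diagonal elements -/
def hh : T F →* Γ F := MonoidHom.mk' (fun h => mk !![ta h, 0, 0, 0; 0, td h, 0, 0; 0, 0, (star (td h))⁻¹, 0; 0, 0, 0, (star (ta h))⁻¹]
    (by
      have := ta0 h; have := td0 h; have := star_ne_zero.2 (ta0 h); have := star_ne_zero.2 (td0 h)
      have := tad h
      rw [det4]; grind)
    (by have := ta0 h; have := td0 h; have := star_ne_zero.2 (ta0 h); have := star_ne_zero.2 (td0 h); mx [J])) fun h k => mext (by simp [mt_mul, mt_mk, mul4, mul_comm])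
theorem mt_hh (h : T F) : mat (hh h) =
    !![ta h, 0, 0, 0; 0, td h, 0, 0; 0, 0, (star (td h))⁻¹, 0; 0, 0, 0, (star (ta h))⁻¹] := rfl
/-- the action of the torus on `A` -/
def tact (h : T F) (y : Hm F) : Hm F := (nm (ta h) * y.1, ta h * star (td h) * y.2.1, nm (td h) * y.2.2)
theorem hh_up (h : T F) (β : F) (y : Hm F) : hh h * up β y * (hh h)⁻¹ = up (ta h / td h * β) (tact h y) :=
  mul_inv_eq_iff_eq_mul.2 (mext (by
    have := ta0 h; have := td0 h; have := tad h; have := star_ne_zero.2 (ta0 h); have := star_ne_zero.2 (td0 h)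
    mx [up, mt_hh, tact]))
theorem nn2 : nn * nn = (1 : Γ F) := mext (by mx [nn])
theorem mm2 : mm * mm = (1 : Γ F) := mext (by mx [mm])
theorem nn_inv : (nn : Γ F)⁻¹ = nn := inv_eq_of_mul_eq_one_right nn2
theorem mm_inv : (mm : Γ F)⁻¹ = mm := inv_eq_of_mul_eq_one_right mm2
/-- the action of `nn` on `A` -/
def nact (y : Hm F) : Hm F := (y.2.2, star y.2.1, y.1)
theorem nn_up (y : Hm F) : nn * up 0 y * nn⁻¹ = up 0 (nact y) :=
  mul_inv_eq_iff_eq_mul.2 (mext (by mx [up, nn, nact]))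
theorem mm_up (β b : F) (α : K F) : mm * up β (α, b, 0) * mm⁻¹ = up b (α + tr (star β * b), β, 0) :=
  mul_inv_eq_iff_eq_mul.2 (mext (by mx [up, mm]))
/-- interchange of the parameters -/
def tn (h : T F) : T F := tk (td h) (ta h) (td0 h) (ta0 h) (by rw [mul_comm]; exact h.2)
theorem nn_hh (h : T F) : nn * hh h * nn⁻¹ = hh (tn h) :=
  mul_inv_eq_iff_eq_mul.2 (mext (by mx [mt_hh, nn, tn]))
theorem nn_u (h : β ≠ 0) : nn * up β 0 * nn = up β⁻¹ 0 * nn * hh (tk β β⁻¹ h (inv_ne_zero h) (by simp [h])) * up β⁻¹ 0 :=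
  mext (by have := star_ne_zero.2 h; mx [mt_hh, nn, up])
theorem mm_x (h : (c : F) ≠ 0) : mm * up 0 (0, 0, c) * mm =
    up 0 (0, 0, c⁻¹) * mm * hh (tk 1 (c : F) one_ne_zero h (by simp)) * up 0 (0, 0, c⁻¹) :=
  mext (by mx [mt_hh, mm, up])
end H18.U2
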