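/-
The group `SU₄(q)`, `q` even: unipotent subgroups, point stabilizer, generation.
-/
import Cfsg.Agent.H18.GU0

set_option autoImplicit false
set_option linter.unusedSectionVars false

namespace H18.U2
open Cfsg Subgroup H19 Matrix

variable {F : Type} [Field F] [StarRing F] [Big F] {x b β β' : F} {c d α δ : K F} {y y' : Hm F} {g k r s : Γ F} {h : T F}
  {M : Subgroup (Γ F)} {v w : F × F}

theorem hext (h1 : (y.1 : F) = y'.1) (h2 : y.2.1 = y'.2.1) (h3 : (y.2.2 : F) = y'.2.2) : y = y' :=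
  Prod.ext (kext h1) (Prod.ext h2 (kext h3))
/-- computation in coordinates -/
scoped macro "hx" : tactic => `(tactic| (refine hext ?_ ?_ ?_ <;> simp [act, tact, nact, aa] <;> grind))
theorem yy (y : Hm F) : y + y = 0 := by hx
theorem act_add (β : F) (y y' : Hm F) : act β (y + y') = act β y + act β y' := by hx
theorem act_act (β β' : F) (y : Hm F) : act β (act β' y) = act (β + β') y := by hx
@[simp] theorem act_0 (y : Hm F) : act 0 y = y := by hx
@[simp] theorem act_0' (β : F) : act β (0 : Hm F) = 0 := by hx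
@[simp] theorem act_z (β : F) (c : K F) : act β (c, 0, 0) = (c, 0, 0) := by hx
@[simp] theorem tact_0 (h : T F) : tact h (0 : Hm F) = 0 := by hx
theorem up_inv (β : F) (y : Hm F) : (up β y)⁻¹ = up β (act β y) :=
  inv_eq_of_mul_eq_one_right (by rw [up_mul, aa, yy, up_0])
theorem up_a (β : F) (y y' : Hm F) : up β y * up 0 y' * (up β y)⁻¹ = up 0 (act β y') := by
  rw [up_inv, up_mul, up_mul, add_zero, aa, act_0, act_add, add_right_comm, yy, zero_add]
theorem a_mul (y y' : Hm F) : up 0 y * up 0 y' = up (0 : F) (y + y') := by rw [up_mul, add_zero, act_0]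
theorem u_mul (β β' : F) : up β 0 * up β' 0 = up (β + β') 0 := by rw [up_mul, add_zero, act_0']
theorem u_a (β : F) (y : Hm F) : up β 0 * up 0 y = up β y := by simp [up_mul]
theorem a_sq (y : Hm F) : up 0 y * up 0 y = (1 : Γ F) := by rw [a_mul, yy, up_0]
theorem u_sq (β : F) : up β 0 * up β 0 = 1 := by rw [u_mul, aa, up_0]
theorem a_inv (y : Hm F) : (up 0 y)⁻¹ = up (0 : F) y := by rw [up_inv, act_0]
theorem u_inv (β : F) : (up β 0)⁻¹ = up β 0 := by rw [up_inv, act_0']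
theorem a_comm (y y' : Hm F) : up 0 y * up 0 y' = up 0 y' * up (0 : F) y := by rw [a_mul, a_mul, add_comm]
theorem up_eq1 (e : up β y = 1) : β = 0 ∧ y = 0 := up_inj (e.trans up_0.symm)
theorem hh_a (h : T F) (y : Hm F) : hh h * up 0 y * (hh h)⁻¹ = up 0 (tact h y) := by rw [hh_up, mul_zero]
theorem hh_u (h : T F) (β : F) : hh h * up β 0 * (hh h)⁻¹ = up (ta h / td h * β) 0 := by rw [hh_up, tact_0]
theorem hh_comm (h k : T F) : hh h * hh k = hh k * hh h := by rw [← map_mul, mul_comm, map_mul]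
/-- long root elements -/
abbrev z (c : K F) : Γ F := up 0 (c, 0, 0)
theorem up_z (β : F) (y : Hm F) (c : K F) : up β y * z c = z c * up β y :=
  mul_inv_eq_iff_eq_mul.1 (by rw [up_a, act_z])
theorem z_mul (c d : K F) : z c * z d = z (c + d) := by simp [a_mul]
theorem z_inj (e : z c = z d) : c = d := congrArg Prod.fst (up_inj e).2
theorem z_0 : z (0 : K F) = 1 := up_0
theorem z_eq1 (e : z c = 1) : c = 0 := z_inj (e.trans z_0.symm)
theorem hh_z (h : T F) (c : K F) : hh h * z c * (hh h)⁻¹ = z (nm (ta h) * c) := by simp [hh_a, tact]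
theorem mm_z (c : K F) : mm * z c = z c * mm := mul_inv_eq_iff_eq_mul.1 (by simp [mm_up])
/-- the group `Q` -/
def q (v : F × F) (α : K F) : Γ F := up v.1 (α, v.2, 0)
/-- the commutator form -/
def B (v w : F × F) : K F := tr (star v.1 * w.2) + tr (star w.1 * v.2)
theorem q_mul (v w : F × F) (α c : K F) : q v α * q w c = q (v + w) (α + c + tr (star w.1 * v.2)) := by
  rw [q, q, up_mul]; congr 1; hx
theorem q_inj (e : q v α = q w c) : v = w ∧ α = c :=
  ⟨Prod.ext (up_inj e).1 (congrArg (·.2.1) (up_inj e).2), congrArg Prod.fst (up_inj e).2⟩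
theorem q_0 (c : K F) : q 0 c = z c := rfl
theorem q_z (v : F × F) (α c : K F) : q v α * z c = q v (α + c) := by rw [← q_0, q_mul]; simp
theorem q_inv (v : F × F) (α : K F) : (q v α)⁻¹ = q v (α + tr (star v.1 * v.2)) := by rw [q, up_inv]; congr 1; hx
theorem vv (v : F × F) : v + v = 0 := Prod.ext (aa _) (aa _)
theorem q_conj (v w : F × F) (α c : K F) : q v α * q w c * (q v α)⁻¹ = q w (c + B v w) := by
  rw [q_inv, q_mul, q_mul, add_right_comm, vv, zero_add]; congr 1; exact kext (by simp [B]; grind)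
theorem B_nd (e : ∀ v, B w v = 0) : w = 0 := by
  have f : ∀ x : F, (∀ y, tr (star y * x) = 0) → x = 0 := fun x h => by_contra fun x0 => by
    obtain ⟨θ, k⟩ := ex_tr (1 : K F)
    have := h (star (θ / x))
    rw [star_star, div_mul_cancel₀ _ x0, k] at this
    exact one_ne_zero this
  exact Prod.ext (f _ fun y => by
    rw [← tr_s, star_mul', star_star, mul_comm]; simpa [B] using e (0, y)) (f _ fun y => by simpa [B] using e (y, 0))
theorem mm_q (v : F × F) (α : K F) : mm * q v α * mm⁻¹ = q v.swap (α + tr (star v.1 * v.2)) := mm_up ..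
theorem hh_q (h : T F) (v : F × F) (α : K F) :
    hh h * q v α * (hh h)⁻¹ = q (ta h / td h * v.1, ta h * star (td h) * v.2) (nm (ta h) * α) := by simp [q, hh_up, tact]
theorem up_q (β : F) (y : Hm F) (v : F × F) (α : K F) : ∃ e, up β y * q v α * (up β y)⁻¹ = q (v.1, v.2 + v.1 * y.2.2) e := by
  rw [up_inv, q, up_mul, up_mul, add_right_comm, aa, zero_add]
  exact ⟨_, congrArg _ (Prod.ext rfl (Prod.ext (by simp [act]; grind) (by simp [act, aa])))⟩

variable (F) in
/-- the Sylow 2-subgroup -/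
def U : Subgroup (Γ F) where
  carrier := {g | ∃ β y, g = up β y}
  one_mem' := ⟨0, 0, up_0.symm⟩
  mul_mem' := by rintro _ _ ⟨_, _, rfl⟩ ⟨_, _, rfl⟩; exact ⟨_, _, up_mul ..⟩
  inv_mem' := by rintro _ ⟨_, _, rfl⟩; exact ⟨_, _, up_inv ..⟩
variable (F) in
/-- the unipotent radical of the point stabilizer -/
def Qs : Subgroup (Γ F) where
  carrier := {g | ∃ v α, g = q v α}
  one_mem' := ⟨0, 0, up_0.symm⟩
  mul_mem' := by rintro _ _ ⟨_, _, rfl⟩ ⟨_, _, rfl⟩; exact ⟨_, _, q_mul ..⟩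
  inv_mem' := by rintro _ ⟨_, _, rfl⟩; exact ⟨_, _, q_inv ..⟩
variable (F) in
/-- the unipotent radical of the line stabilizer -/
def As : Subgroup (Γ F) where
  carrier := {g | ∃ y, g = up 0 y}
  one_mem' := ⟨0, up_0.symm⟩
  mul_mem' := by rintro _ _ ⟨_, rfl⟩ ⟨_, rfl⟩; exact ⟨_, a_mul ..⟩
  inv_mem' := by rintro _ ⟨_, rfl⟩; exact ⟨_, a_inv ..⟩
theorem upU (β : F) (y : Hm F) : up β y ∈ U F := ⟨_, _, rfl⟩
theorem qQ (v : F × F) (α : K F) : q v α ∈ Qs F := ⟨_, _, rfl⟩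
theorem aA (y : Hm F) : up 0 y ∈ As F := ⟨_, rfl⟩
theorem QU : Qs F ≤ U F := by rintro _ ⟨_, _, rfl⟩; exact upU ..
theorem U_le (h1 : ∀ β, up β 0 ∈ M) (h2 : ∀ b, up 0 (0, b, 0) ∈ M) (h3 : ∀ c, up 0 (0, 0, c) ∈ M) : U F ≤ M := by
  rintro _ ⟨β, ⟨α, b, δ⟩, rfl⟩
  obtain ⟨x, rfl⟩ := ex_tr α
  have := mul_mem (mul_mem (mul_mem (h1 1) (h2 x)) (inv_mem (h1 1))) (h2 x)
  rw [up_a, a_mul] at this
  convert mul_mem (h1 β) (mul_mem this (mul_mem (h2 b) (h3 δ)))
  rw [a_mul, a_mul, u_a]; congr 1; hx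
theorem card_U : #(U F) = Nat.card (K F) ^ 6 := by
  rw [← Nat.card_congr (Equiv.ofBijective (fun p : F × Hm F => (⟨_, upU p.1 p.2⟩ : U F))
    ⟨fun _ _ e => Prod.ext (up_inj (congrArg Subtype.val e)).1 (up_inj (congrArg Subtype.val e)).2,
      fun ⟨_, β, y, e⟩ => ⟨(β, y), Subtype.ext e.symm⟩⟩)]
  simp only [Nat.card_prod, cardK]; ring
theorem pg_U : PG 2 (U F) :=
  let ⟨n, _, e, _⟩ := pwK (F := F); PiN.of_card_pow (k := n * 6) Nat.prime_two (by rw [card_U, e, pow_mul])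

theorem of_tri (h1 : mat g 1 0 = 0) (h2 : mat g 2 0 = 0) (h3 : mat g 3 0 = 0) (h4 : mat g 2 1 = 0) :
    ∃ β y h, g = up β y * hh h := by
  have e := mt_u g
  have e' := mt_det g
  rw [eta4 (mat g)] at e e'
  simp only [h1, h2, h3, h4, ct4, J, mul4, eq4, star_zero, mul_zero, zero_mul, add_zero, zero_add, mul_one] at e e'
  obtain ⟨-, e1, e2, e3, -, -, e6, e7, -, -, e10, e11, -, -, -, e15⟩ := e
  have a0 : star (mat g 0 0) ≠ 0 := left_ne_zero_of_mul_eq_one e3
  rw [mul_eq_zero, or_iff_right a0] at e1 e2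
  simp only [e1, e2, star_zero, mul_zero, zero_mul, add_zero, zero_add] at e6 e7 e10 e11 e15 e'
  have d0 : star (mat g 1 1) ≠ 0 := left_ne_zero_of_mul_eq_one e6
  have s3 := congrArg star e3; have s6 := congrArg star e6; have s7 := congrArg star e7; have s11 := congrArg star e11
  simp only [star_mul', star_star, star_one, star_add, star_zero] at s3 s6 s7 s11
  rw [det4] at e'
  refine ⟨mat g 0 1 * star (mat g 2 2), (⟨mat g 0 3 * star (mat g 0 0) + mat g 0 1 * star (mat g 2 2) * (mat g 1 3 * star (mat g 0 0)), ?_⟩,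
    star (mat g 1 3) * mat g 0 0, ⟨mat g 1 2 * star (mat g 1 1), ?_⟩), tk _ _ (star_ne_zero.1 a0) (star_ne_zero.1 d0) (by simp; grind),
    mext ((eta4 _).trans ?_)⟩
  · simp [selfAdjoint.mem_iff]; grind
  · simp [selfAdjoint.mem_iff]; grind
  · mx [up, mt_hh]
theorem stab (h1 : mat g 1 0 = 0) (h2 : mat g 2 0 = 0) (h3 : mat g 3 0 = 0) :
    (∃ β y h, g = up β y * hh h) ∨ ∃ c β y h, g = up 0 (0, 0, c) * mm * (up β y * hh h) := by
  by_cases h4 : mat g 2 1 = 0
  · exact .inl (of_tri h1 h2 h3 h4)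
  have e := mt_u g
  rw [eta4 (mat g)] at e
  simp only [h1, h2, h3, ct4, J, mul4, eq4, star_zero, mul_zero, zero_mul, add_zero, zero_add, mul_one] at e
  obtain ⟨-, e1, -, e3, -, e5, -⟩ := e
  rw [mul_eq_zero, or_iff_right (left_ne_zero_of_mul_eq_one e3)] at e1
  have := star_ne_zero.2 h4
  let c : K F := ⟨mat g 1 1 / mat g 2 1, by simp [selfAdjoint.mem_iff, e1] at e5 ⊢; grind⟩
  obtain ⟨β, y, h, e⟩ := of_tri (g := mm * (up 0 (0, 0, c) * g)) (by simp [mt_mul, mm, up, mt_mk, vecMul, dotProduct, Fin.sum_univ_four, *])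
    (by simp [mt_mul, mm, up, mt_mk, vecMul, dotProduct, Fin.sum_univ_four, *]) (by simp [mt_mul, mm, up, mt_mk, vecMul, dotProduct, Fin.sum_univ_four, *])
    (by simp [mt_mul, mm, up, mt_mk, vecMul, dotProduct, Fin.sum_univ_four, c, h4, aa])
  exact .inr ⟨c, β, y, h, by rw [← e, mul_assoc, ← mul_assoc mm, mm2, one_mul, ← mul_assoc, a_sq, one_mul]⟩
theorem stabZ (e : g * z 1 * g⁻¹ = z c) :
    (∃ β y h, g = up β y * hh h) ∨ ∃ c β y h, g = up 0 (0, 0, c) * mm * (up β y * hh h) := by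
  have := congrArg mat (mul_inv_eq_iff_eq_mul.1 e)
  rw [mt_mul, mt_mul, eta4 (mat g)] at this
  simp [up, mt_mk, mul4, eq4] at this
  exact stab (by tauto) (by tauto) (by tauto)
theorem ha_mem (hU : U F ≤ M) (hm : mm ∈ M) (e : ta h = 1) : hh h ∈ M := by
  let c : K F := ⟨td h, by simpa [e, selfAdjoint.mem_iff] using tad h⟩
  have := mm_x (c := c) (td0 h)
  rw [show tk 1 (c : F) one_ne_zero (td0 h) _ = h from text e.symm rfl] at this
  have e' := mul_mem (mul_mem hm (hU (upU 0 (0, 0, c)))) hm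
  rwa [this, mul_mem_cancel_right (hU (upU ..)), mul_mem_cancel_left (mul_mem (hU (upU ..)) hm)] at e'
theorem hh_mem (hU : U F ≤ M) (hm : mm ∈ M) (hn : nn ∈ M) (h : T F) : hh h ∈ M := by
  have e' := mul_mem (mul_mem hn (hU (upU (ta h) 0))) hn
  rw [nn_u (ta0 h), mul_mem_cancel_right (hU (upU ..)), mul_mem_cancel_left (mul_mem (hU (upU ..)) hn)] at e'
  rw [← mul_mem_cancel_left (inv_mem e'), ← map_inv, ← map_mul]
  exact ha_mem hU hm (by simp [ta0])
theorem gen (hU : U F ≤ M) (hm : mm ∈ M) (hn : nn ∈ M) (g : Γ F) : g ∈ M := by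
  have s : ∀ g : Γ F, mat g 1 0 = 0 → mat g 2 0 = 0 → mat g 3 0 = 0 → g ∈ M := fun g h1 h2 h3 => by
    have := fun β y h => mul_mem (hU (upU β y)) (hh_mem hU hm hn h)
    rcases stab h1 h2 h3 with ⟨β, y, h, rfl⟩ | ⟨c, β, y, h, rfl⟩
    exacts [this .., mul_mem (mul_mem (hU (upU ..)) hm) (this ..)]
  have s3 : ∀ g : Γ F, mat g 3 0 ≠ 0 → g ∈ M := fun g h => by
    have e := congrFun (congrFun (mt_u g) 0) 0
    have := star_ne_zero.2 h
    simp [J, mul_apply, Fin.sum_univ_four] at e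
    let w := q (star (mat g 2 0 / mat g 3 0), star (mat g 1 0 / mat g 3 0))
      ⟨(mat g 0 0 + star (mat g 1 0 / mat g 3 0) * mat g 2 0) / mat g 3 0, by simp [selfAdjoint.mem_iff]; grind⟩
    rw [← mul_mem_cancel_left (mul_mem (mul_mem (mul_mem hn hm) hn) (hU (QU (qQ ..)) : w ∈ M))]
    refine s _ ?_ ?_ ?_ <;> simp [w, q, mt_mul, mm, nn, up, mt_mk, mul4, mul_apply, Fin.sum_univ_four] <;> grind
  by_cases h3 : mat g 3 0 = 0
  · by_cases h2 : mat g 2 0 = 0
    · by_cases h1 : mat g 1 0 = 0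
      · exact s g h1 h2 h3
      · exact (mul_mem_cancel_left (mul_mem hn hm)).1 (s3 _ (by simpa [mt_mul, mm, nn, mt_mk, mul4, mul_apply, Fin.sum_univ_four]))
    · exact (mul_mem_cancel_left hn).1 (s3 _ (by simpa [mt_mul, nn, mt_mk, mul_apply, Fin.sum_univ_four]))
  · exact s3 g h3
end H18.U2
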