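/-
The group `SU₄(q)`, `q` even: automorphisms, centralizers, involutions.
-/
import Cfsg.Agent.H18.GU1
import Cfsg.Agent.S2692
import Cfsg.Agent.H11.SUSimple

set_option autoImplicit false
set_option linter.unusedSectionVars false

namespace H18.U2
open Cfsg Subgroup H19 Matrix

variable {F : Type} [Field F] [StarRing F] [Big F] {x b β β' : F} {c d α δ : K F} {y y' : Hm F} {g k r s : Γ F} {h : T F}
  {M D : Subgroup (Γ F)} {v w : F × F} {σ τ : F ≃+* F} {n : ℕ}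

theorem pw' [Fintype F] (hF : Fintype.card F = (2 ^ n) ^ 2) : 1 ≤ n ∧ ∀ x : F, star x = x ^ 2 ^ n := by
  obtain ⟨m, hm, e, k⟩ := Big.pw (F := F)
  obtain rfl : m = n := Nat.pow_right_injective le_rfl
    (Nat.pow_left_injective two_ne_zero (e.symm.trans (Nat.card_eq_fintype_card.trans hF)))
  exact ⟨hm, k⟩
theorem ex_n : ∃ (n : ℕ) (_ : Fintype F), Fintype.card F = (2 ^ n) ^ 2 :=
  let ⟨n, _, e, _⟩ := Big.pw (F := F); ⟨n, Fintype.ofFinite F, (@Nat.card_eq_fintype_card _ (_)).symm.trans e⟩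
theorem JJ : (J : Mt F) * J = 1 := by mx [J]
theorem det_J : (J : Mt F).det = 1 := by simp [J, det_succ_row_zero, Fin.sum_univ_succ, Fin.succAbove, CharTwo.neg_eq]
theorem ex_su [Fintype F] (hF : Fintype.card F = (2 ^ n) ^ 2) : ∃ (e : Γ F ≃* SU 4 F (2 ^ n)) (P : GL (Fin 4) F), ∀ s,
    (e s).1.1 * P.1 = P.1 * mat s := by
  have hM : (J : Mt F)ᵀ = J.map (H11.frob hF) := by ext i j; fin_cases i <;> fin_cases j <;> simp [J, -H11.frob_apply]
  obtain ⟨e, he⟩ := H12.hermT_iso_hermC hF (H11.hermMatC_nondeg hF hM (by simp [det_J])) (n := 4) (by simp)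
  have k : Γs F = H11.suMat hF J := Subgroup.ext fun g => by
    rw [H11.mem_suMat, show ((g.1.map (H11.frob hF))ᵀ : Mt F) = (g : Mt F)ᴴ from by ext i j; exact ((pw' hF).2 _).symm]; rfl
  let ψ := (MulEquiv.subgroupCongr k).trans
    (((H11.suMatEquiv hF hM).trans (H11.sisomCongr e he)).trans (H11.suEquivSisom hF 4).symm)
  refine ⟨ψ, H11.glEquiv.symm e, fun s => ?_⟩
  have : SpecialLinearGroup.toGL (ψ s).1 = H11.glEquiv.symm e * SpecialLinearGroup.toGL s.1 * (H11.glEquiv.symm e)⁻¹ :=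
    H11.glEquiv.injective (LinearEquiv.ext fun v => by
      rw [map_mul, map_mul, map_inv, MulEquiv.apply_symm_apply]
      exact congrArg (·.1.1 v) ((H11.suEquivSisom hF 4).apply_symm_apply _))
  exact congrArg Units.val (eq_mul_inv_iff_mul_eq.1 this)
theorem gcd1 (hn : 1 ≤ n) : Nat.gcd 4 (2 ^ n + 1) = 1 :=
  Nat.Coprime.pow_left 2 (Nat.coprime_two_left.2 ((Nat.even_pow.2 ⟨even_two, by omega⟩).add_one))
theorem ex_psu [Fintype F] (hF : Fintype.card F = (2 ^ n) ^ 2) : ∃ e : SU 4 F (2 ^ n) ≃* PSU 4 F (2 ^ n), ∀ s, e s = QuotientGroup.mk s :=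
  ⟨((QuotientGroup.quotientMulEquivOfEq (card_eq_one.1 ((H11.card_center_SU hF (by omega)).trans (gcd1 (pw' hF).1)))).trans
    QuotientGroup.quotientBot).symm, fun _ => rfl⟩
theorem simple : IsSimpleGroup (Γ F) := by
  obtain ⟨n, _, hF⟩ := ex_n (F := F)
  obtain ⟨e, -⟩ := ex_su hF
  obtain ⟨e', -⟩ := ex_psu hF
  have := H11.psu_simple hF (n := 4) (by omega) (by omega)
  exact (e.trans e').isSimpleGroup

/-- field automorphisms on the fixed field -/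
def kσ (σ : F ≃+* F) (c : K F) : K F := ⟨σ c, by rw [selfAdjoint.mem_iff, ← σs, sk]⟩
@[simp] theorem kσ_v (σ : F ≃+* F) (c : K F) : (kσ σ c : F) = σ c := rfl
/-- field automorphisms on `A` -/
def hσ (σ : F ≃+* F) (y : Hm F) : Hm F := (kσ σ y.1, σ y.2.1, kσ σ y.2.2)
@[simp] theorem kσ_0 : kσ σ 0 = 0 := kext (map_zero σ)
@[simp] theorem kσ_1 : kσ σ 1 = 1 := kext (map_one σ)
@[simp] theorem hσ_0 : hσ σ 0 = 0 := by simp [hσ]
theorem J_map (σ : F ≃+* F) : (J : Mt F).map σ = J := by ext i j; fin_cases i <;> fin_cases j <;> simp [J]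
/-- field automorphisms -/
def φ (σ : F ≃+* F) : Γ F →* Γ F := MonoidHom.mk' (fun g => mk ((mat g).map σ)
    (by rw [← RingEquiv.mapMatrix_apply, ← RingEquiv.map_det, mt_det, map_one])
    (by rw [← conjTranspose_map σ (fun x => σs σ x), ← J_map σ, ← Matrix.map_mul, ← Matrix.map_mul, mt_u]))
  fun _ _ => mext Matrix.map_mul
theorem mt_φ (σ : F ≃+* F) (g : Γ F) : mat (φ σ g) = (mat g).map σ := rfl
theorem φφ (σ τ : F ≃+* F) (g : Γ F) : φ σ (φ τ g) = φ (σ * τ) g := rfl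
theorem φ1 (g : Γ F) : φ (1 : F ≃+* F) g = g := rfl
theorem φ_up (σ : F ≃+* F) (β : F) (y : Hm F) : φ σ (up β y) = up (σ β) (hσ σ y) :=
  mext (by rw [mt_φ]; ext i j; fin_cases i <;> fin_cases j <;> simp [up, mt_mk, hσ, σs])
theorem φ_mm (σ : F ≃+* F) : φ σ mm = mm := mext (by rw [mt_φ]; ext i j; fin_cases i <;> fin_cases j <;> simp [mm, mt_mk])
theorem φ_z (σ : F ≃+* F) (c : K F) : φ σ (z c) = z (kσ σ c) := by simp [φ_up, hσ]
theorem φ_q (σ : F ≃+* F) (v : F × F) (c : K F) : φ σ (q v c) = q (σ v.1, σ v.2) (kσ σ c) := by simp [q, φ_up, hσ]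

theorem cmA {N : Mt F} (e : ∀ y, N * mat (up 0 (hσ σ y)) = mat (up 0 y) * N) : N 1 0 = 0 ∧ N 2 0 = 0 ∧ N 3 0 = 0 ∧ N 2 1 = 0 ∧
    N 3 1 = 0 ∧ N 3 2 = 0 ∧ N 0 1 = 0 ∧ N 2 3 = 0 ∧ N 1 1 = N 0 0 ∧ N 2 2 = N 0 0 ∧ N 3 3 = N 0 0 ∧
      ∀ x, N 0 0 * σ x = N 0 0 * x := by
  have e1 := e (1, 0, 0); have e2 := e (0, 0, 1); have e3 := fun x => e (0, x, 0)
  rw [eta4 N] at e1 e2 e3
  simp only [up, mt_mk, mul4, eq4, hσ, kσ_0, kσ_1, map_zero] at e1 e2 e3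
  have e4 := e3 1
  simp at e1 e2 e4
  refine ⟨by tauto, by tauto, by tauto, by tauto, by tauto, by tauto, by tauto, by tauto, by grind, by grind, by grind, fun x => ?_⟩
  have := (e3 x).2.2.1
  simp at this; grind
theorem cA (e : ∀ y, k * φ σ (up 0 y) * k⁻¹ = up 0 y) : σ = 1 ∧ k ∈ As F := by
  obtain ⟨h1, h2, h3, h4, h5, h6, h7, -, h8, h9, h10, h11⟩ := cmA (N := mat k) (σ := σ) fun y => by
    have := congrArg mat (mul_inv_eq_iff_eq_mul.1 (e y)); rwa [φ_up, map_zero] at this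
  have d := mt_det k
  rw [eta4 (mat k), h1, h2, h3, h4, h5, h6, det4, h8, h9, h10] at d
  have d1 : mat k 0 0 = 1 := sq_inj (sq_inj (by linear_combination d))
  obtain ⟨β, y, h, e⟩ := of_tri h1 h2 h3 h4
  rw [e] at d1 h7 h8
  simp [mt_mul, up, mt_mk, mt_hh, mul4, td0] at d1 h7 h8
  refine ⟨RingEquiv.ext fun x => by simpa [e, mt_mul, up, mt_mk, mt_hh, mul4, ta0] using h11 x, y, ?_⟩
  rw [e, h7, text (h := h) (k := 1) d1 (h8.trans d1), map_one, mul_one]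
theorem of_norm {R : Mt F} (hR : R.det ≠ 0) (e : ∀ s, ∃ s', mat s' * R = R * mat s) : ∃ (k : Γ F) (c : F), c ≠ 0 ∧ mat k = c • R := by
  have cm : ∀ s : Γ F, J * (Rᴴ * J * R) * mat s = mat s * (J * (Rᴴ * J * R)) := fun s => by
    obtain ⟨s', e⟩ := e s
    have e1 : (mat s)ᴴ * (Rᴴ * J * R) * mat s = Rᴴ * J * R := by
      conv_rhs => rw [← mt_u s']
      calc _ = (R * mat s)ᴴ * J * (R * mat s) := by simp only [conjTranspose_mul, Matrix.mul_assoc]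
        _ = _ := by simp only [← e, conjTranspose_mul, Matrix.mul_assoc]
    have e2 : mat s * J * (mat s)ᴴ = J := by
      have := mul_eq_one_comm.1 (show J * (mat s)ᴴ * J * mat s = 1 by rw [Matrix.mul_assoc J, Matrix.mul_assoc J, mt_u, JJ])
      calc _ = mat s * (J * (mat s)ᴴ * J) * J := by simp only [Matrix.mul_assoc, JJ, Matrix.mul_one]
        _ = _ := by rw [this, Matrix.one_mul]
    conv_rhs => rw [← e1]
    simp only [← Matrix.mul_assoc, e2]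
  obtain ⟨h1, h2, h3, h4, h5, h6, h7, h8, h9, h10, h11, -⟩ := cmA (σ := 1) fun y => cm (up 0 y)
  have c1 := cm nn; have c2 := cm mm
  have hM : (Rᴴ * J * R)ᴴ = Rᴴ * J * R := by
    rw [conjTranspose_mul, conjTranspose_mul, conjTranspose_conjTranspose, ← Matrix.mul_assoc]; congr 2; mx [J]
  have dM : (J * (Rᴴ * J * R)).det ≠ 0 := by simp [det_J, hR]
  have e0 : Rᴴ * J * R = J * (J * (Rᴴ * J * R)) := by rw [← Matrix.mul_assoc, JJ, Matrix.one_mul]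
  generalize J * (Rᴴ * J * R) = N at *
  rw [eta4 N] at c1 c2
  simp [nn, mm, mt_mk, mul4, eq4, *] at c1 c2
  have eN : N = N 0 0 • 1 := by rw [eta4 N]; ext i j; fin_cases i <;> fin_cases j <;> simp <;> grind
  generalize N 0 0 = l at eN
  subst eN
  rw [Matrix.mul_smul, Matrix.mul_one] at e0
  obtain ⟨ρ, hρ⟩ := ex_sqrt (⟨l, by rw [e0] at hM; simpa [J, selfAdjoint.mem_iff] using congrFun (congrFun hM 0) 3⟩ : K F)
  obtain rfl : (ρ : F) ^ 2 = l := congrArg Subtype.val hρ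
  have ρ0 : (ρ : F) ≠ 0 := fun e => dM (by simp [e])
  have dd := congrArg det e0
  simp [det_J] at dd
  obtain ⟨η, η1, e1⟩ := ex_eta (x := (ρ : F) ^ 4 / R.det) (kext (by have := star_ne_zero.2 hR; simp; grind))
  obtain ⟨ζ, ζ1, rfl⟩ := ex_eta η1
  have := nm1 ζ1
  exact ⟨mk ((ζ / ρ) • R) (by simp; grind) (by
    rw [conjTranspose_smul, smul_mul, smul_mul, Matrix.mul_smul, e0, smul_smul, smul_smul]
    convert one_smul F J; simp; grind), _, div_ne_zero (left_ne_zero_of_mul_eq_one this) ρ0, rfl⟩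
theorem aut (ψ : MulAut (Γ F)) : ∃ k σ, ∀ x, ψ x = k * φ σ x * k⁻¹ := by
  obtain ⟨n, _, hF⟩ := ex_n (F := F)
  obtain ⟨e, P, he⟩ := ex_su hF
  obtain ⟨e', he'⟩ := ex_psu hF
  have := Fact.mk Nat.prime_two
  obtain ⟨δ, φ0, σ, ⟨g, hg, h1⟩, h2, h3⟩ := Cfsg.Agent.S2692.result (p := 2) rfl (pw' hF).1 hF (n := 4) (by omega)
    (by omega) (MulAut.congr (e.trans e') ψ)
  have k : ∀ s, mat (ψ s) * (P⁻¹.1 * g.1 * P.1.map σ) = P⁻¹.1 * g.1 * P.1.map σ * mat (φ σ s) := fun s => by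
    obtain ⟨s3, e3⟩ := H22.exists_suGL (g := g * H22.suGL 4 F _ (H11.suCongr 4 (2 ^ n) σ (e s)) * g⁻¹)
      (mul_mem (mul_mem hg (H11.suCongr 4 (2 ^ n) σ (e s)).2) (inv_mem hg)) (by simp)
    have e6 : s3.1.1 = g.1 * (e s).1.1.map σ * g⁻¹.1 := congrArg Units.val e3
    have e4 := DFunLike.congr_fun h3 (e' (e s))
    rw [MulAut.mul_apply, he', h2 _ (H11.suCongr 4 (2 ^ n) σ (e s)) rfl, h1 (H11.suCongr 4 (2 ^ n) σ (e s)) s3 e6,
      ← he', ← he'] at e4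
    have e5 : e (ψ s) = s3 := e'.injective (by simpa using e4)
    have e7 := he (ψ s)
    rw [e5, e6] at e7
    calc _ = P⁻¹.1 * (P.1 * mat (ψ s)) * P⁻¹.1 * g.1 * P.1.map σ := by simp only [← Matrix.mul_assoc, Units.inv_mul, Matrix.one_mul]
      _ = P⁻¹.1 * g.1 * ((e s).1.1 * P.1).map σ := by
        rw [← e7, Matrix.map_mul]; simp only [Matrix.mul_assoc, Units.mul_inv_cancel_left, Units.inv_mul_cancel_left]
      _ = _ := by rw [he, Matrix.map_mul, mt_φ, Matrix.mul_assoc _ (P.1.map σ)]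
  obtain ⟨k0, c, c0, hk⟩ := of_norm (R := P⁻¹.1 * g.1 * P.1.map σ) (by
    rw [det_mul, det_mul, ← RingEquiv.mapMatrix_apply, ← RingEquiv.map_det]
    exact mul_ne_zero (mul_ne_zero P⁻¹.det_ne_zero g.det_ne_zero) (σ.map_ne_zero_iff.2 P.det_ne_zero))
    fun s => ⟨ψ (φ σ⁻¹ s), by rw [k, φφ, mul_inv_cancel, φ1]⟩
  exact ⟨k0, σ, fun x => eq_mul_inv_iff_mul_eq.2 (mext (by rw [mt_mul, mt_mul, hk, Matrix.mul_smul, smul_mul, k]))⟩
end H18.U2
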