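/-
The group `SU₄(q)`, `q` even: the point stabilizer, Sylow subgroups, involutions.
-/
import Cfsg.Agent.H18.GU2

set_option autoImplicit false
set_option linter.unusedSectionVars false

namespace H18.U2
open Cfsg Subgroup H19 H28.CY

variable {F : Type} [Field F] [StarRing F] [Big F] {x b β β' : F} {c d l α δ : K F} {y y' : Hm F} {g k r s : Γ F} {h : T F}
  {M D P : Subgroup (Γ F)} {v w : F × F} {σ τ : F ≃+* F} {ψ ψ' : F × F → F × F}

theorem kne (e : c ≠ 0) : (c : F) ≠ 0 := mt k0.1 e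
/-- the torus of the point Levi factor -/
def ha (l : K F) (e : l ≠ 0) : T F := tk 1 l one_ne_zero (kne e) (by simp)
/-- a torus of the line Levi factor -/
def hb (x : F) (e : x ≠ 0) : T F := tk x x⁻¹ e (inv_ne_zero e) (by simp [e])
/-- the scalars on `A` -/
def hs (l : K F) (e : l ≠ 0) : T F := tk l l (kne e) (kne e) (by simp)
theorem ha_t (e : l ≠ 0) (y : Hm F) : tact (ha l e) y = (y.1, l * y.2.1, l ^ 2 * y.2.2) := by simp [tact, ha, nm_k]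
theorem hb_t (e : (l : F) ≠ 0) (y : Hm F) : tact (hb (l : F) e) y = (l ^ 2 * y.1, y.2.1, l⁻¹ ^ 2 * y.2.2) := by
  refine hext ?_ ?_ ?_ <;> simp [tact, hb, e, pow_two]
/-- scalar multiplication -/
def sm (c : K F) (y : Hm F) : Hm F := (c * y.1, c * y.2.1, c * y.2.2)
theorem hs_t (e : l ≠ 0) (y : Hm F) : tact (hs l e) y = sm (l ^ 2) y := by refine hext ?_ ?_ ?_ <;> simp [tact, hs, sm, pow_two]
theorem ex_tor (hx : x ≠ 0) (e : l ≠ 0) :
    ∃ h : T F, ta h / td h = x / l ∧ ta h * star (td h) = x * l ∧ nm (ta h) = nm x ∧ nm (td h) = l ^ 2 := by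
  obtain ⟨η, η1, e1⟩ := ex_eta (nm_div hx)
  obtain ⟨ζ, ζ1, rfl⟩ := ex_eta η1
  have z1 := nm1 ζ1
  have z0 := left_ne_zero_of_mul_eq_one z1
  have := kne e
  refine ⟨tk (x * ζ) (l * ζ) (mul_ne_zero hx z0) (mul_ne_zero (kne e) z0) (sq_inj (by simp; grind)), ?_, ?_, ?_, ?_⟩ <;>
    simp [nm_mul, ζ1, nm_k] <;> grind
theorem T_sqrt (h : T F) : ∃ k : T F, k * k = h := by
  obtain ⟨a, e1⟩ := ex_sqrt (ta h)
  obtain ⟨d, e2⟩ := ex_sqrt (td h)
  have := tad h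
  exact ⟨tk a d (fun e => ta0 h (by simp [← e1, e])) (fun e => td0 h (by simp [← e2, e]))
    (sq_inj (by rw [← star_pow, mul_pow, e1, e2, star_mul', this])), text (by simp [← e1, pow_two]) (by simp [← e2, pow_two])⟩
theorem ex_hz (e : c ≠ 0) : ∃ h : T F, nm (ta h) = c ∧ td h = 1 :=
  let ⟨r, hr⟩ := ex_sqrt c
  ⟨tk r 1 (kne fun k => e (by simp [← hr, k])) one_ne_zero (by simp), by simp [nm_k, hr], rfl⟩
theorem orb {p : Hm F → Prop} (p1 : ∀ β y, p y → p (act β y)) (p2 : ∀ h y, p y → p (tact h y)) (p3 : ∀ y, p y → p (nact y))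
    (h0 : p 0) (h1 : p (1, 0, 0)) (h2 : p (0, 1, 0)) (y : Hm F) : p y := by
  have k1 : ∀ α, p (α, 0, 0) := fun α => by
    by_cases e : α = 0
    · rw [e]; exact h0
    obtain ⟨h, e, -⟩ := ex_hz e
    simpa [tact, e] using p2 h _ h1
  have k2 : ∀ α δ, δ ≠ 0 → p (α, 0, δ) := fun α δ e => by
    by_cases e' : α = 0
    · simpa [nact, e'] using p3 _ (k1 δ)
    obtain ⟨θ, eθ⟩ := ex_tr (1 : K F)
    obtain ⟨h, e1, e2⟩ := ex_hz e'
    obtain ⟨h', e3, e4⟩ := ex_hz e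
    simpa [tact, act, nact, tn, e1, e2, e3, e4, eθ, aa, show tr (1 : F) = 0 from tr_c 1] using p2 h _ (p2 (tn h') _ (p1 1 _ (p3 _ (p1 (star θ) _ h2))))
  have k3 : ∀ α b δ, δ ≠ 0 → p (α, b, δ) := fun α b δ e => by
    convert p1 (b / δ) _ (k2 (α + nm (b / δ) * δ) δ e) using 1
    have := kne e
    hx
  obtain ⟨α, b, δ⟩ := y
  by_cases e : δ = 0
  · by_cases e' : α = 0
    · by_cases e'' : b = 0
      · rw [e, e', e'']; exact h0
      obtain ⟨h, -, e1, -⟩ := ex_tor (l := 1) e'' one_ne_zero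
      simpa [tact, e1, e, e'] using p2 h _ h2
    · simpa [nact, e] using p3 _ (k3 0 (star b) α e')
  · exact k3 α b δ e

theorem z_cj (e : c ≠ 0) : IsConj (z 1) (z c) :=
  let ⟨h, e, _⟩ := ex_hz e; isConj_iff.2 ⟨hh h, by rw [hh_z, e, mul_one]⟩
theorem m21 (e : mm * up β y * mm ∈ U F) : y.2.2 = 0 := by
  obtain ⟨β', y', e⟩ := e
  simpa [mt_mul, mm, up, mt_mk, mul4, k0] using congrFun (congrFun (congrArg mat e) 2) 1
theorem cU (e : g ∈ U F) (c : up 1 0 * g = g * up 1 0) (c' : ∀ b, up 0 (0, b, 0) * g = g * up 0 (0, b, 0)) : ∃ α b, g = up 0 (α, b, 0) ∧ tr b = 0 := by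
  obtain ⟨β, y, rfl⟩ := e
  have : β = 0 := congrArg Prod.fst (B_nd (w := (β, 0)) fun v => by
    simpa [act, B] using congrArg Prod.fst (up_inj ((up_a ..).symm.trans (mul_inv_eq_iff_eq_mul.2 (c' v.2).symm))).2)
  subst this
  have := (up_inj ((up_a ..).symm.trans (mul_inv_eq_iff_eq_mul.2 c))).2
  have e3 : y.2.2 = 0 := by simpa [act, k0] using congrArg (·.2.1) this
  exact ⟨y.1, y.2.1, e3 ▸ rfl, by simpa [act, e3] using congrArg Prod.fst this⟩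
theorem ZU (e : g ∈ U F) (c : g ∈ C(U F)) : ∃ α, g = z α := by
  obtain ⟨α, b, rfl, -⟩ := cU e (mem_cent.1 c _ (upU ..)) fun _ => mem_cent.1 c _ (upU ..)
  obtain rfl : b = 0 := congrArg Prod.snd (B_nd (w := (0, b)) fun v => by
    simpa [act, B] using congrArg Prod.fst (up_inj ((up_a ..).symm.trans (mul_inv_eq_iff_eq_mul.2 (mem_cent.1 c _ (upU v.1 0))))).2)
  exact ⟨α, rfl⟩
theorem zU (c : K F) : z c ∈ C(U F) := mem_cent.2 (by rintro _ ⟨_, _, rfl⟩; exact up_z ..)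
theorem hhU (h : T F) : hh h ∈ N(U F) := mem_norm_of (by rintro _ ⟨_, _, rfl⟩; exact ⟨_, _, hh_up ..⟩)
theorem borel (e : k ∈ N(U F)) : ∃ β y h, k = up β y * hh h := by
  obtain ⟨c, e1⟩ := ZU (conj_mem_of_norm e (upU 0 (1, 0, 0))) (conj_mem_of_norm (norm_le_norm_cent _ e) (zU 1))
  refine (stabZ e1).resolve_right ?_
  rintro ⟨c, β, y, h, rfl⟩
  rw [mul_mem_cancel_right (mul_mem (le_normalizer (upU ..)) (hhU h)), mul_mem_cancel_left (le_normalizer (upU ..))] at e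
  exact one_ne_zero (m21 (mm_inv (F := F) ▸ conj_mem_of_norm e (upU 0 (0, 0, 1))))
theorem T_odd : PiG {2}ᶜ (hh (F := F)).range := PiN.of_elt fun x ⟨h, e⟩ => by
  have := (Finite.surjective_iff_bijective (f := fun h : T F => h * h)).1 T_sqrt
  refine e ▸ PiN.dvd (fun p hp d p2 => ?_) (orderOf_map_dvd hh h)
  obtain ⟨k, o⟩ := exists_prime_orderOf_dvd_card' (G := T F) (hp := ⟨hp⟩) p (d.trans (orderOf_dvd_natCard h))
  rw [Set.mem_singleton_iff.1 p2, orderOf_eq_prime_iff, pow_two] at o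
  exact o.2 (this.1 (o.1.trans (mul_one 1).symm))
theorem syl_U : Syl 2 (U F) ⊤ := syl_of_subnorm (Hall.of_le (M := U F ⊔ hh.range) ⟨le_sup_left, pg_U, by
    rw [relIndex_sup_of_norm (by rintro _ ⟨h, rfl⟩; exact hhU h)]; exact T_odd.relIndex _⟩ (le_inf le_top le_normalizer)
  fun k hk => let ⟨_, _, h, e⟩ := borel hk.2; e ▸ mul_mem_sup (upU ..) ⟨h, rfl⟩)

/-- the action on `Q / Z` -/
def Cq (g : Γ F) (ψ : F × F → F × F) : Prop := ∀ v α, ∃ e, g * q v α * g⁻¹ = q (ψ v) e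
theorem Cq.mul (h1 : Cq g ψ) (h2 : Cq k ψ') : Cq (g * k) (fun v => ψ (ψ' v)) := fun v α =>
  let ⟨e, p⟩ := h2 v α; let ⟨e', p'⟩ := h1 (ψ' v) e; ⟨e', by rw [← p', ← p]; group⟩
theorem Cq.eq (h1 : Cq g ψ) (h2 : Cq g ψ') (v : F × F) : ψ v = ψ' v :=
  let ⟨_, p⟩ := h1 v 0; let ⟨_, p'⟩ := h2 v 0; (q_inj (p.symm.trans p')).1
theorem cq_u (β : F) (y : Hm F) : Cq (up β y) fun v => (v.1, v.2 + v.1 * y.2.2) := up_q β y
theorem cq_h (h : T F) : Cq (hh h) fun v => (ta h / td h * v.1, ta h * star (td h) * v.2) := fun _ _ => ⟨_, hh_q ..⟩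
theorem cq_m : Cq (mm : Γ F) Prod.swap := fun _ _ => ⟨_, mm_q ..⟩
theorem cq_lin (e : g * z 1 * g⁻¹ = z c) : ∃ a b c d : F, Cq g fun v => (a * v.1 + b * v.2, c * v.1 + d * v.2) := by
  rcases stabZ e with ⟨β, y, h, rfl⟩ | ⟨c, β, y, h, rfl⟩
  · exact ⟨ta h / td h, 0, ta h / td h * y.2.2, ta h * star (td h), by convert (cq_u β y).mul (cq_h h) using 3 <;> ring⟩
  · exact ⟨ta h / td h * y.2.2, ta h * star (td h), ta h / td h * (1 + y.2.2 * c), ta h * star (td h) * c, by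
      convert ((cq_u 0 (0, 0, c)).mul cq_m).mul ((cq_u β y).mul (cq_h h)) using 3 <;> simp <;> ring⟩
theorem CQ (e : g * z 1 * g⁻¹ = z 1) (p : Cq g id) : g ∈ Qs F := by
  rcases stabZ e with ⟨β, y, h, rfl⟩ | ⟨c, β, y, h, rfl⟩
  · have k := ((cq_u β y).mul (cq_h h)).eq p
    have k1 := k (1, 0); have k2 := k (0, 1)
    simp [div_eq_one_iff_eq (td0 h), k0, ta0, td0] at k1 k2
    have := tad h
    rw [k1.1] at k2 this
    have e1 : td h = 1 := sq_inj (sq_inj (by grind))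
    rw [text (h := h) (k := 1) (k1.1.trans e1) e1, map_one, mul_one]
    exact ⟨(β, y.2.1), y.1, by rw [q, ← k1.2]⟩
  · simpa [ta0, td0] using congrArg Prod.fst ((((cq_u 0 (0, 0, c)).mul cq_m).mul ((cq_u β y).mul (cq_h h))).eq p (0, 1))
theorem cQ (e : ∀ v α, k * φ σ (q v α) * k⁻¹ = q v α) : σ = 1 ∧ ∃ d, k = z d := by
  have e1 : k * z 1 * k⁻¹ = z 1 := by simpa [q_0, φ_z] using e 0 1
  obtain ⟨a, b, c, d, p⟩ := cq_lin e1
  have f : ∀ v : F × F, a * σ v.1 + b * σ v.2 = v.1 ∧ c * σ v.1 + d * σ v.2 = v.2 := fun v =>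
    let ⟨_, r⟩ := p (σ v.1, σ v.2) (kσ σ 0); Prod.ext_iff.1 (q_inj (r.symm.trans (φ_q σ v 0 ▸ e v 0))).1
  have f1 := (f (1, 0)).1
  obtain rfl : σ = 1 := RingEquiv.ext fun x => by simpa [show a = 1 by simpa using f1] using (f (x, 0)).1
  obtain ⟨w, d, rfl⟩ := CQ e1 fun v α => ⟨α, e v α⟩
  obtain rfl : w = 0 := B_nd fun v => by simpa using (q_inj ((q_conj ..).symm.trans (e v 0))).2
  exact ⟨rfl, d, rfl⟩

variable (F) in
/-- the subgroup generated by the 2-elements centralizing `Z` -/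
def X0 : Subgroup (Γ F) := U F ⊔ zpowers mm
theorem UX : U F ≤ X0 F := le_sup_left
theorem mX : mm ∈ X0 F := mem_sup_right (mem_zpowers _)
theorem X0_le (h1 : U F ≤ M) (h2 : mm ∈ M) : X0 F ≤ M := sup_le h1 (zpowers_le.2 h2)
theorem X0_z (c : K F) : X0 F ≤ C[z c] := X0_le (le_cent1_iff.2 (zU c)) (mem_cent1.2 (mm_z c))
theorem X0_cj (e : g ∈ X0 F) (c : K F) : g * z c * g⁻¹ = z c := mul_inv_eq_iff_eq_mul.2 (mem_cent1.1 (X0_z c e))
theorem mm_hh (h : T F) : ∃ k, mm * hh h * mm = hh k ∧ ta k = ta h :=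
  ⟨tk (ta h) (star (td h))⁻¹ (ta0 h) (inv_ne_zero (star_ne_zero.2 (td0 h))) (by
    have := tad h; have := td0 h; have := star_ne_zero.2 (td0 h); simp; grind), mext (by mx [mm, mt_hh]), rfl⟩
theorem hhX (h : T F) : hh h ∈ N(X0 F) := mem_norm_of_cj_le (by
  rw [X0, cj_sup, cj_of_mem_norm (hhU h), cj_zpowers]
  refine sup_le le_sup_left (zpowers_le.2 ?_)
  obtain ⟨k, e, e'⟩ := mm_hh h
  rw [show hh h * mm * (hh h)⁻¹ = mm * (mm * hh h * mm * (hh h)⁻¹) by rw [← mul_assoc, ← mul_assoc, ← mul_assoc, mm2, one_mul],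
    e, ← map_inv, ← map_mul]
  exact mul_mem mX (ha_mem UX mX (by simp [e', ta0])))
theorem perfX (l : P ≤ C[z 1]) (p : P ≤ ⁅P, P⁆) : P ≤ X0 F := by
  have : P ≤ X0 F ⊔ hh.range := fun g hg => by
    have : ∀ β y (h : T F), up β y * hh h ∈ X0 F ⊔ hh.range := fun β y h => mul_mem_sup (UX (upU β y)) ⟨h, rfl⟩
    rcases stabZ (mul_inv_eq_iff_eq_mul.2 (mem_cent1.1 (l hg))) with ⟨β, y, h, rfl⟩ | ⟨c, β, y, h, rfl⟩
    exacts [this _ _ _, mul_mem (mem_sup_left (mul_mem (UX (upU ..)) mX)) (this _ _ _)]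
  refine p.trans ((der_mono this).trans ((der_sup_le (by rintro _ ⟨h, rfl⟩; exact hhX h)).trans (sup_le le_rfl ?_)))
  exact commutator_le.2 (by rintro _ ⟨h, rfl⟩ _ ⟨k, rfl⟩; rw [commutatorElement_eq_one_iff_mul_comm.2 (hh_comm h k)]; exact one_mem _)
theorem cm_mem (hk : k ∈ D) (hg : g ∈ D) (e : k * g * k⁻¹ * g⁻¹ = r) : r ∈ ⁅D, D⁆ := e ▸ commutator_mem_commutator hk hg
theorem X0_gen (e : ∀ s ∈ X0 F, s * s = 1 → s ∈ M) : X0 F ≤ M :=
  X0_le (U_le (fun _ => e _ (UX (upU ..)) (u_sq _)) (fun _ => e _ (UX (upU ..)) (a_sq _)) fun _ => e _ (UX (upU ..)) (a_sq _))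
    (e _ mX mm2)
theorem XQ (e : g * z 1 * g⁻¹ = z c) : g ∈ N(Qs F) := mem_norm_of (by
  obtain ⟨_, _, _, _, p⟩ := cq_lin e
  rintro _ ⟨v, α, rfl⟩
  exact let ⟨e, r⟩ := p v α; ⟨_, e, r⟩)
theorem le_Q (l : D ≤ X0 F) (hn : X0 F ≤ N(D)) (p : PG 2 D) : D ≤ Qs F := fun g hg => by
  have l : D ≤ U F := (syl_U.of_le UX le_top).le_of_norm' l p (UX.trans hn)
  obtain ⟨β, y, rfl⟩ := l hg
  exact ⟨(β, y.2.1), y.1, by rw [q, ← m21 (mm_inv (F := F) ▸ l (conj_mem_of_norm (hn mX) hg))]⟩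
theorem φX (σ : F ≃+* F) (e : g ∈ X0 F) : φ σ g ∈ X0 F :=
  X0_le (M := (X0 F).comap (φ σ)) (by rintro _ ⟨_, _, rfl⟩; exact UX ⟨_, _, φ_up ..⟩) (mem_comap.2 ((φ_mm σ).symm ▸ mX)) e

theorem inv_cls (gg : g * g = 1) (g1 : g ≠ 1) : IsConj (z 1) g ∨ IsConj (up 0 (0, 1, 0)) g := by
  have a : ∀ y : Hm F, y = 0 ∨ IsConj (z 1) (up 0 y) ∨ IsConj (up 0 (0, 1, 0)) (up 0 y) := by
    have k : ∀ {y y' : Hm F} (g : Γ F), g * up 0 y * g⁻¹ = up 0 y' → (y = 0 ∨ IsConj (z 1) (up 0 y) ∨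
        IsConj (up 0 (0, 1, 0)) (up 0 y)) → y' = 0 ∨ IsConj (z 1) (up 0 y') ∨ IsConj (up 0 (0, 1, 0)) (up 0 y') := fun g e p =>
      p.imp (fun p => (up_eq1 (by rw [← e, p, up_0]; simp)).2) (Or.imp (·.trans (isConj_iff.2 ⟨g, e⟩)) (·.trans (isConj_iff.2 ⟨g, e⟩)))
    exact orb (fun β y => k _ (up_a β 0 y)) (fun h y => k _ (hh_a h y)) (fun y => k _ (nn_up y)) (.inl rfl)
      (.inr (.inl (.refl _))) (.inr (.inr (.refl _)))
  obtain ⟨k, -, l⟩ := syl_U.scj_le le_top (piG_zpowers.2 (two_of_sq gg))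
  obtain ⟨β, y, e⟩ := l (conj_mem_cj.2 (mem_zpowers g))
  have f : ∀ k y, k * g * k⁻¹ = up 0 y → IsConj (z 1) g ∨ IsConj (up 0 (0, 1, 0)) g := fun k y e =>
    ((a y).resolve_left fun p => g1 (by simpa [p, up_0] using e)).imp (·.trans (isConj_iff.2 ⟨k, e⟩).symm)
      (·.trans (isConj_iff.2 ⟨k, e⟩).symm)
  by_cases b0 : β = 0
  · exact f k y (b0 ▸ e)
  have e2 : act β y + y = 0 := (up_eq1 (by rw [← up_mul, ← e, conj_mul, gg]; simp)).2
  have e3 : y.2.2 = 0 := by simpa [act, add_right_comm, aa, b0, k0] using congrArg (·.2.1) e2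
  have e4 : tr (star β * y.2.1) = 0 := by simpa [act, add_right_comm, aa, e3] using congrArg (·.1) e2
  have := star_ne_zero.2 b0
  let s : K F := ⟨y.2.1 / β, by have := congrArg Subtype.val e4; simp [selfAdjoint.mem_iff] at this ⊢; grind⟩
  obtain ⟨c, p⟩ := up_q 0 (0, 0, s) (β, y.2.1) y.1
  refine f (mm * up 0 (0, 0, s) * k) (c + tr (star β * 0), β, 0) ((show _ = mm * (up 0 (0, 0, s) * (k * g * k⁻¹) * (up 0 (0, 0, s))⁻¹) * mm⁻¹ by group).trans ?_)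
  rw [e, show up β y = q (β, y.2.1) y.1 by rw [q, ← e3], p, mm_q, q, show y.2.1 + β * s = 0 by simp [s, mul_div_cancel₀ _ b0, aa]]
  rfl
theorem long_U (e : IsConj (z 1) (up β y)) : β = 0 ∧ y.1 * y.2.2 = nm y.2.1 := by
  obtain ⟨k, e⟩ := isConj_iff.1 e
  have e1 : mat k * mat k⁻¹ = 1 := congrArg mat (mul_inv_cancel k)
  have e2 := congrArg mat e
  rw [mt_mul, mt_mul] at e2
  generalize mat k = A at *
  generalize mat k⁻¹ = A' at *
  rw [eta4 A, eta4 A'] at e1 e2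
  simp only [up, mt_mk, mul4, eq4, one4] at e1 e2
  simp at e2
  have e3 : β * star β = 0 := by grind
  obtain rfl : β = 0 := by simpa using e3
  exact ⟨rfl, kext (by simp; grind)⟩
theorem two_long (hP : PG 2 P) (hg : g ∈ P) (hk : k ∈ P) (hr : r ∈ P) (hs : s ∈ P) (e1 : IsConj (z 1) g) (e2 : IsConj (z 1) k)
    (c1 : r * g = g * r) (c2 : s * g = g * s) (c3 : r * k = k * r) (c4 : s * k = k * s) (n : r * s ≠ s * r) :
    g * k = 1 ∨ IsConj (z 1) (g * k) := by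
  obtain ⟨x, -, l⟩ := syl_U.scj_le le_top hP
  have f : ∀ g ∈ P, IsConj (z 1) g → r * g = g * r → s * g = g * s → ∃ α, x * g * x⁻¹ = z α := fun g hg e c1 c2 => by
    obtain ⟨β, y, p⟩ := l (conj_mem_cj.2 hg)
    obtain ⟨rfl, p'⟩ := long_U (p ▸ e.trans (isConj_iff.2 ⟨x, rfl⟩))
    by_cases d0 : y.2.2 = 0
    · obtain b0 : y.2.1 = 0 := by_contra fun b0 => nm_ne b0 (by rw [← p', d0, mul_zero])
      exact ⟨y.1, by rw [p, z, ← d0, ← b0]⟩
    have a : ∀ r ∈ P, r * g = g * r → ∃ y, x * r * x⁻¹ = up 0 y := fun r hr c => by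
      obtain ⟨β, y', p1⟩ := l (conj_mem_cj.2 hr)
      have : act β y = y := (up_inj ((up_a β y' y).symm.trans (by
        rw [← p1, ← p, conj_mul, c]; group))).2
      obtain rfl : β = 0 := by simpa [act, k0, d0] using congrArg (·.2.1) this
      exact ⟨y', p1⟩
    obtain ⟨y1, p1⟩ := a r hr c1
    obtain ⟨y2, p2⟩ := a s hs c2
    have := a_comm y1 y2
    rw [← p1, ← p2, conj_mul, conj_mul, mul_left_inj, mul_right_inj] at this
    exact absurd this n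
  obtain ⟨α, p1⟩ := f g hg e1 c1 c2
  obtain ⟨α', p2⟩ := f k hk e2 c3 c4
  have p : x * (g * k) * x⁻¹ = z (α + α') := by rw [← conj_mul, p1, p2, z_mul]
  by_cases e : α + α' = 0
  · exact .inl (by simpa [e, z_0] using p)
  · exact .inr ((z_cj e).trans (isConj_iff.2 ⟨x, p⟩).symm)
end H18.U2
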