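/-
Standard subgroups of type `U₄(2ⁿ)`, `n ≥ 1` (copied from H27/UV5-8): the hypothesis and the doubling of `A`.
-/
import Cfsg.Agent.H18.GU3

set_option autoImplicit false
set_option linter.unusedSectionVars false

namespace H18.U2
open Cfsg Subgroup H19 H28.CY

variable {G : Type*} [Group G] [Finite G] {F : Type} [Field F] [StarRing F] [Big F] {e ι : Γ F →* G} {g k t n d y y' o : G}
  {σ τ : F ≃+* F} {κ c : K F} {x v : Γ F} {m : ℕ} {a b : Hm F} {ϑ : Hm F → G}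

theorem tact_n (h : T F) (y : Hm F) : tact (tn h) (nact y) = nact (tact h y) := by simp [tact, nact, tn, mul_comm]
theorem nact2 (y : Hm F) : nact (nact y) = y := by simp [nact]
theorem tact_mul (h k : T F) (y : Hm F) : tact (h * k) y = tact h (tact k y) := by hx
theorem tact_add (h : T F) (y y' : Hm F) : tact h (y + y') = tact h y + tact h y' := by hx
theorem nact_add (y y' : Hm F) : nact (y + y') = nact y + nact y' := by hx
theorem tn2 (h : T F) : tn (tn h) = h := text rfl rfl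

theorem sm_act (c : K F) (β : F) (y : Hm F) : act β (sm c y) = sm c (act β y) := by
  refine hext ?_ ?_ ?_ <;> simp [sm, act] <;> ring
theorem sm_tact (c : K F) (h : T F) (y : Hm F) : tact h (sm c y) = sm c (tact h y) := by
  refine hext ?_ ?_ ?_ <;> simp [sm, tact] <;> ring
theorem sm_nact (c : K F) (y : Hm F) : nact (sm c y) = sm c (nact y) := by simp [sm, nact]

/-- the image `L` of `ι` is normal in `C(t)`, and `t` is the only involution of `C(L) ∩ C(t)` -/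
structure Hyp (ι : Γ F →* G) (t : G) : Prop where
  inj : Function.Injective ι
  tt : t * t = 1
  t1 : t ≠ 1
  cen : ∀ x, t * ι x = ι x * t
  nor : C[t] ≤ N(ι.range)
  rk : ∀ k ∈ C(ι.range), k * k = 1 → k * t = t * k → k = 1 ∨ k = t

/-- `g` acts on the image of `e` as an inner automorphism times the field automorphism `σ` -/
def Ac (e : Γ F →* G) (g : G) (σ : F ≃+* F) : Prop := ∃ k, ∀ x, g * e x * g⁻¹ = e (k * φ σ x * k⁻¹)

theorem exA (he : Function.Injective e) (hg : g ∈ N(e.range)) : ∃ σ, Ac e g σ := by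
  choose f hf using fun x => conj_mem_of_norm hg (MonoidHom.mem_range.2 ⟨x, rfl⟩)
  let f' : Γ F →* Γ F := MonoidHom.mk' f fun x y => he (by rw [map_mul, hf, hf, hf, map_mul]; group)
  have i : Function.Injective f' := fun x y h => he (by
    have : e (f x) = e (f y) := congrArg e h
    rwa [hf, hf, mul_left_inj, mul_right_inj] at this)
  obtain ⟨k, σ, h⟩ := aut (MulEquiv.ofBijective f' (Finite.injective_iff_bijective.1 i))
  exact ⟨σ, k, fun x => (hf x).symm.trans (congrArg e (h x))⟩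
theorem Ac.mul (h : Ac e g σ) (h' : Ac e k τ) : Ac e (g * k) (σ * τ) :=
  let ⟨a, h⟩ := h; let ⟨b, h'⟩ := h'
  ⟨a * φ σ b, fun x => by
    rw [show g * k * e x * (g * k)⁻¹ = g * (k * e x * k⁻¹) * g⁻¹ by group, h', h, map_mul (φ σ), map_mul (φ σ), map_inv (φ σ), φφ]; group⟩
theorem Ac.inv (h : Ac e g σ) : Ac e g⁻¹ σ⁻¹ :=
  let ⟨a, h⟩ := h
  ⟨φ σ⁻¹ a⁻¹, fun x => by
    rw [← map_inv, ← map_mul, ← map_mul, eq_comm, eq_mul_inv_iff_mul_eq, eq_inv_mul_iff_mul_eq, ← mul_assoc, h, φφ,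
      mul_inv_cancel, φ1]; group⟩
theorem Ac.self (e : Γ F →* G) (k : Γ F) : Ac e (e k) 1 := ⟨k, fun x => by simp [φ1]⟩
theorem Ac.cent (h : g ∈ C(e.range)) : Ac e g 1 := ⟨1, fun x => by simp [φ1, ← mem_cent.1 h _ ⟨x, rfl⟩]⟩
theorem inn {a : Γ F} (h : ∀ x, g * e x * g⁻¹ = e (a * x * a⁻¹)) : ∃ c ∈ C(e.range), g = e a * c :=
  ⟨(e a)⁻¹ * g, mem_cent.2 (by
    rintro _ ⟨x, rfl⟩
    rw [mul_assoc, mul_inv_eq_iff_eq_mul.1 (h x), map_mul, map_mul, map_inv]; group), by group⟩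
theorem Ac.one (h : Ac e g 1) : ∃ k, ∃ c ∈ C(e.range), g = e k * c := let ⟨a, h⟩ := h; ⟨a, inn h⟩
theorem Ac.der (he : Function.Injective e) {P : Subgroup G} (hP : P ≤ N(e.range)) (hg : g ∈ ⁅P, P⁆) : Ac e g 1 := by
  let D : Subgroup G :=
    { carrier := {g | Ac e g 1}
      one_mem' := map_one e ▸ Ac.self e 1
      mul_mem' := fun a b => by simpa using a.mul b
      inv_mem' := fun a => by simpa using a.inv }
  refine (commutator_le.2 fun a ha b hb => ?_ : ⁅P, P⁆ ≤ D) hg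
  obtain ⟨σ, h⟩ := exA he (hP ha)
  obtain ⟨τ, h'⟩ := exA he (hP hb)
  have := ((h.mul h').mul h.inv).mul h'.inv
  rwa [aut_comm σ τ, mul_inv_cancel_right, mul_inv_cancel] at this
theorem Ac.two (he : Function.Injective e) (h : Ac e g σ) (gg : g * g = 1) : σ = 1 ∨ σ = st :=
  let ⟨_, p⟩ := h.mul h; sq_one (cA fun y => he ((p _).symm.trans (by simp [gg]))).1
theorem cen1 (h : ∀ y, y * x = x * y) : x = 1 := by
  obtain ⟨-, d, rfl⟩ := cQ (k := x) (σ := 1) fun v α => mul_inv_eq_iff_eq_mul.2 (h _).symm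
  rw [show d = 0 from congrArg Prod.fst (up_inj ((mul_inv_eq_iff_eq_mul.2 (h nn)).symm.trans (nn_up _))).2, z_0]
theorem LK (he : Function.Injective e) (h : e x ∈ C(e.range)) : x = 1 :=
  cen1 fun r => he (by rw [map_mul, map_mul, mem_cent.1 h _ ⟨_, rfl⟩])
theorem map_norm {D : Subgroup (Γ F)} (h : x ∈ N(D)) : ι x ∈ N(D.map ι) := mem_norm_of (by
  rintro _ ⟨y, hy, rfl⟩; exact ⟨_, conj_mem_of_norm h hy, by simp⟩)
theorem ι_cj (a x : Γ F) : ι a * ι x * (ι a)⁻¹ = ι (a * x * a⁻¹) := by simp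
theorem φU (σ : F ≃+* F) (h : x ∈ U F) : φ σ x ∈ U F := let ⟨_, _, e⟩ := h; ⟨_, _, e ▸ φ_up ..⟩
theorem normU (he : Function.Injective e) (h : Ac e g σ) (hg : g ∈ N((U F).map e)) :
    ∃ β y h, ∀ x, g * e x * g⁻¹ = e (up β y * hh h * φ σ x * (up β y * hh h)⁻¹) := by
  obtain ⟨k, p⟩ := h
  obtain ⟨β, y, h, rfl⟩ := borel (k := k) (mem_norm_of fun u hu => by
    obtain ⟨w, hw, r⟩ := conj_mem_of_norm hg (mem_map_of_mem e (φU σ⁻¹ hu))
    rw [p, φφ, mul_inv_cancel, φ1] at r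
    exact he r ▸ hw)
  exact ⟨β, y, h, p⟩
theorem syl_L (ι : Γ F →* G) : Syl 2 ((U F).map ι) ι.range := MonoidHom.range_eq_map ι ▸ syl_U.map ι
/-- the conjugate embedding -/
def cjh (g : G) (ι : Γ F →* G) : Γ F →* G := (MulAut.conj g).toMonoidHom.comp ι
theorem cjh_ap (g : G) (ι : Γ F →* G) (x : Γ F) : cjh g ι x = g * ι x * g⁻¹ := rfl
theorem cjh_range (g : G) (ι : Γ F →* G) : (cjh g ι).range = cj g ι.range := by rw [cjh, MonoidHom.range_comp, cj_def]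

namespace Hyp
variable (H : Hyp ι t)
include H
theorem tinv : t⁻¹ = t := inv_eq_of_mul_eq_one_right H.tt
theorem tK : t ∈ C(ι.range) := mem_cent.2 (by rintro _ ⟨x, rfl⟩; exact (H.cen x).symm)
theorem LC (x : Γ F) : ι x ∈ C[t] := mem_cent1.2 (H.cen x).symm
theorem tL (x : Γ F) : ι x ≠ t := fun h => H.t1 (by rw [← h, LK (x := x) H.inj (h ▸ H.tK), map_one])
theorem Kt (h : ι x * k ∈ C[t]) : k * t = t * k := mem_cent1.1 ((mul_mem_cancel_left (H.LC x)).1 h)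
theorem tcj (x : Γ F) : ι x * t * (ι x)⁻¹ = t := by rw [← H.cen, mul_inv_cancel_right]
/-- involutions of `L C(L) ∩ C(t)` -/
theorem inv (hg : g ∈ C[t]) (h : Ac ι g 1) (gg : g * g = 1) : ∃ x, x * x = 1 ∧ (g = ι x ∨ g = ι x * t) := by
  obtain ⟨x, k, hk, rfl⟩ := h.one
  have e : ι (x * x) * (k * k) = 1 := by
    rw [← gg, map_mul, mul_assoc, mul_assoc, ← mul_assoc k, ← mem_cent.1 hk _ ⟨x, rfl⟩, mul_assoc]
  have x1 : x * x = 1 := LK H.inj ((eq_inv_of_mul_eq_one_left e).symm ▸ inv_mem (mul_mem hk hk))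
  rw [x1, map_one, one_mul] at e
  exact ⟨x, x1, (H.rk k hk e (H.Kt hg)).imp (fun h => by rw [h, mul_one]) fun h => by rw [h]⟩
theorem conj (g : G) : Hyp (cjh g ι) (g * t * g⁻¹) where
  inj := (MulAut.conj g).injective.comp H.inj
  tt := by rw [conj_mul, H.tt]; simp
  t1 h := H.t1 (by simpa using h)
  cen x := by rw [cjh_ap, conj_mul, conj_mul, H.cen]
  nor := by rw [cjh_range, ← cj_cent1, ← cj_norm]; exact cj_mono g H.nor
  rk k hk kk kt := by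
    rw [cjh_range, ← cj_cent, H19.mem_cj'] at hk
    obtain ⟨k, hk, rfl⟩ := hk
    rw [conj_mul] at kk
    rw [conj_mul, conj_mul, mul_left_inj, mul_right_inj] at kt
    exact (H.rk k hk (by simpa using kk) kt).imp (fun h => by simp [h]) fun h => by rw [h]
theorem tc {y : Γ F} (h : IsConj x y) : IsConj (t * ι x) (t * ι y) :=
  let ⟨k, p⟩ := isConj_iff.1 h; isConj_iff.2 ⟨ι k, by rw [← conj_mul, H.tcj, ι_cj, p]⟩
end Hyp
theorem cj2 {G : Type*} [Group G] (a b x : G) : a * b * x * (a * b)⁻¹ = a * (b * x * b⁻¹) * a⁻¹ := by group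
theorem cm_q (v w : F × F) (α c : K F) : q v α * q w c * (q v α)⁻¹ * (q w c)⁻¹ = z (B v w) := by
  rw [q_conj, ← q_z, (show q w c * z _ = _ * q w c from up_z ..), mul_inv_cancel_right]
theorem B_sur (c : K F) : ∃ v w, B v w = c := let ⟨θ, h⟩ := ex_tr c; ⟨(1, 0), (0, θ), by simp [B, h]⟩
theorem zc (h : x * z 1 * x⁻¹ = z 1) (c : K F) : x * z c * x⁻¹ = z c := by
  have f : ∀ β y (h : T F) c, up β y * hh h * z c * (up β y * hh h)⁻¹ = z (nm (ta h) * c) := fun β y h c => by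
    rw [cj2, hh_z, X0_cj (UX (upU β y))]
  have f' : ∀ x ∈ X0 F, ∀ β y (h : T F) c, x * (up β y * hh h) * z c * (x * (up β y * hh h))⁻¹ = z (nm (ta h) * c) :=
    fun x hx β y h c => by rw [cj2, f, X0_cj hx]
  rcases stabZ h with ⟨β, y, h', rfl⟩ | ⟨c, β, y, h', rfl⟩
  · rw [f, ← mul_one (nm _), z_inj ((f ..).symm.trans h), one_mul]
  · have := f' _ (mul_mem (UX (upU 0 (0, 0, c))) mX) β y h'
    rw [this, ← mul_one (nm _), z_inj ((this _).symm.trans h), one_mul]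
theorem cQ' (e1 : x * z 1 * x⁻¹ = z 1) (e : ∀ v α, ∃ c, x * φ σ (q v α) * x⁻¹ = q v c) : σ = 1 ∧ x ∈ Qs F := by
  obtain ⟨a, b, c, d, p⟩ := cq_lin e1
  have f : ∀ v : F × F, a * σ v.1 + b * σ v.2 = v.1 := fun v =>
    let ⟨_, r⟩ := p (σ v.1, σ v.2) (kσ σ 0); let ⟨_, s⟩ := e v 0; congrArg Prod.fst (q_inj (r.symm.trans (φ_q σ v 0 ▸ s))).1
  obtain rfl : σ = 1 := RingEquiv.ext fun x => by simpa [show a = 1 by simpa using f (1, 0)] using f (x, 0)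
  exact ⟨rfl, CQ e1 e⟩
/-- a torus element acting as a scalar on `Q / Z` -/
theorem ex_sc {s : F} (h : s ≠ 0) : ∃ k : T F, ∀ v α, hh k * q v α * (hh k)⁻¹ = q (s • v) (nm s * α) :=
  let ⟨k, e1, e2, e3, _⟩ := ex_tor (l := 1) h one_ne_zero; ⟨k, fun v α => by rw [hh_q, e1, e2, e3]; simp; rfl⟩

/-- the image of `X₀` -/
abbrev P0 (ι : Γ F →* G) : Subgroup G := (X0 F).map ι
theorem hhP (h : T F) : ι (hh h) ∈ N(P0 ι) := map_norm (hhX h)
theorem cm_l' {D : Subgroup G} (hg : g ∈ D) (hk : n ∈ N(D)) : g * n * g⁻¹ * n⁻¹ ∈ D := by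
  have := mul_mem hg (conj_mem_of_norm hk (inv_mem hg)); simpa only [mul_assoc] using this

/-- the elements of odd order of `C(L) ∩ C(t)` -/
def O1 (ι : Γ F →* G) (t : G) : Set G := {o | o ∈ C(ι.range) ∧ o * t = t * o ∧ ∃ m, Odd m ∧ o ^ m = 1}
theorem odd_pow (h : g * g = 1) (hm : Odd m) : g ^ m = g := by
  obtain ⟨j, rfl⟩ := hm
  rw [pow_succ, pow_mul, pow_two, h, one_pow, one_mul]
theorem ia2 (a : Hm F) : ι (up 0 a) * ι (up 0 a) = 1 := by rw [← map_mul, a_sq, map_one]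
theorem iam (a b : Hm F) : ι (up 0 a) * ι (up 0 b) = ι (up 0 (a + b)) := by rw [← map_mul, a_mul]
theorem iai (a : Hm F) : (ι (up 0 a))⁻¹ = ι (up 0 a) := by rw [← map_inv, a_inv]
theorem pw_conj (h : y * t * y⁻¹ = t * g) (c : g * y = y * g) (n : ℕ) : y ^ n * t * (y ^ n)⁻¹ = t * g ^ n := by
  induction n with
  | zero => simp
  | succ n ih => rw [pow_succ', cj2, ih, ← conj_mul, h, ← (Commute.pow_left c n).eq, pow_succ']; group
theorem uA (β : F) : up β 0 ∈ N(As F) := mem_norm_of (by rintro _ ⟨y, rfl⟩; exact ⟨_, up_a ..⟩)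
theorem hA (h : T F) : hh h ∈ N(As F) := mem_norm_of (by rintro _ ⟨y, rfl⟩; exact ⟨_, hh_a ..⟩)
theorem nnA : nn ∈ N(As F) := mem_norm_of (by rintro _ ⟨y, rfl⟩; exact ⟨_, nn_up _⟩)
theorem aP (hy : y ∈ C(P0 ι)) (a : Hm F) : ι (up 0 a) * y = y * ι (up 0 a) := mem_cent.1 hy _ (mem_map_of_mem ι (UX (upU ..)))
theorem zP (c : K F) : ι (z c) ∈ C(P0 ι) := mem_cent.2 (by rintro _ ⟨y, hy, rfl⟩; rw [← map_mul, ← map_mul, mem_cent1.1 (X0_z c hy)])
theorem hP (h : T F) : ι (hh h) ∈ N(C(P0 ι)) := norm_le_norm_cent _ (hhP h)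
theorem ict (hy : ∀ a, ι (up 0 a) * y = y * ι (up 0 a)) (e : y * t * y⁻¹ = t * ι (up 0 a)) (p : g * t * g⁻¹ = t * ι (up 0 b)) :
    y⁻¹ * g * t * (y⁻¹ * g)⁻¹ = t * ι (up 0 (a + b)) := by
  calc _ = y⁻¹ * (g * t * g⁻¹) * y := by group
    _ = y⁻¹ * (y * t * y⁻¹ * ι (up 0 (a + b))) * y := by rw [p, e, mul_assoc t, iam, ← add_assoc, yy, zero_add]
    _ = _ := by rw [mul_assoc, mul_assoc, hy]; group

namespace Hyp
variable (H : Hyp ι t)
include H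
theorem tP : t ∈ C(P0 ι) := cent_mono (map_le_range _ _) H.tK
theorem cP (hg : g ∈ C[t]) (h : ∀ v α, ι (q v α) * g = g * ι (q v α)) : ∃ d, ∃ k ∈ C(ι.range), g = ι (z d) * k := by
  obtain ⟨σ, x, p⟩ := exA H.inj (H.nor hg)
  obtain ⟨rfl, d, rfl⟩ := cQ fun v α => H.inj ((p _).symm.trans (by rw [← h, mul_inv_cancel_right]))
  exact ⟨d, inn p⟩
theorem cV (hg : g * t = t * g) (h : ∀ a, ι (up 0 a) * g = g * ι (up 0 a)) : ∃ a, ∃ k ∈ C(ι.range), g = ι (up 0 a) * k := by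
  obtain ⟨σ, x, p⟩ := exA H.inj (H.nor (mem_cent1.2 hg))
  obtain ⟨rfl, d, rfl⟩ := cA fun a => H.inj ((p _).symm.trans (by rw [← h, mul_inv_cancel_right]))
  exact ⟨d, inn p⟩
theorem cjK (hd : d ∈ C(P0 ι)) (e : d * t * d⁻¹ = t * ι (z κ)) (hk : k ∈ C(ι.range)) (kt : k * t = t * k) :
    ∃ c, ∃ k' ∈ C(ι.range), d * k * d⁻¹ = ι (z c) * k' := by
  have p : d * k * d⁻¹ ∈ C(P0 ι) := mul_mem (mul_mem hd (cent_mono (map_le_range _ _) hk)) (inv_mem hd)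
  refine H.cP (mem_cent1_symm.1 ((mul_mem_cancel_right (mem_cent1.2 (aP p (κ, 0, 0)))).1 ?_)) fun v α =>
    mem_cent.1 p _ (mem_map_of_mem ι (UX (QU (qQ ..))))
  rw [← e, ← cj_cent1, conj_mem_cj, mem_cent1, kt]
theorem pw (hk : k ∈ C(ι.range)) (x : Γ F) (n : ℕ) : (ι x * k) ^ n = ι (x ^ n) * k ^ n := by
  rw [Commute.mul_pow (mem_cent.1 hk _ ⟨x, rfl⟩), map_pow]
theorem pw1 (hk : k ∈ C(ι.range)) (h : (ι x * k) ^ m = 1) : x ^ m = 1 := by
  rw [H.pw hk] at h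
  exact LK H.inj ((eq_inv_of_mul_eq_one_left h).symm ▸ inv_mem (pow_mem hk m))
theorem two (hd : d ∈ C(P0 ι)) (e : d * t * d⁻¹ = t * ι (z κ)) (κ0 : κ ≠ 0) (hk : k ∈ C(ι.range)) (kt : k * t = t * k)
    (h : k ^ 2 ^ m = 1) : k = 1 ∨ k = t := by
  induction m generalizing k with
  | zero => exact .inl (by simpa using h)
  | succ m ih =>
    refine H.rk k hk ((ih (mul_mem hk hk) (by rw [mul_assoc, kt, ← mul_assoc, kt, mul_assoc])
      (by rw [← pow_two, ← pow_mul, ← pow_succ', h])).resolve_right fun p => κ0 ?_) kt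
    obtain ⟨c, k', h', r⟩ := H.cjK hd e hk kt
    rw [← p, ← conj_mul, r, ← pow_two, H.pw h', pow_two, a_sq, map_one, one_mul, p] at e
    exact z_eq1 (LK H.inj ((mul_mem_cancel_left H.tK).1 (e ▸ pow_mem h' 2)))
theorem odd_or (hd : d ∈ C(P0 ι)) (e : d * t * d⁻¹ = t * ι (z κ)) (κ0 : κ ≠ 0) (hk : k ∈ C(ι.range)) (kt : k * t = t * k) :
    k ∈ O1 ι t ∨ t * k ∈ O1 ι t := by
  obtain ⟨j, m, hm, p⟩ := Nat.exists_eq_two_pow_mul_odd (orderOf_pos k).ne'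
  refine (H.two (m := j) hd e κ0 (pow_mem hk m) (Commute.pow_left kt m) (by
    rw [← pow_mul, mul_comm, ← p, pow_orderOf_eq_one])).imp (fun h => ⟨hk, kt, m, hm, h⟩) fun h =>
      ⟨mul_mem H.tK hk, by rw [mul_assoc, kt], m, hm, by rw [Commute.mul_pow kt.symm, h, odd_pow H.tt hm, H.tt]⟩
theorem cct (e : y * t * y⁻¹ = t * ι v) (x : Γ F) :
    ι x * y * (ι x)⁻¹ * t * (ι x * y * (ι x)⁻¹)⁻¹ = t * ι (x * v * x⁻¹) := by
  calc _ = ι x * (y * (ι x⁻¹ * t * (ι x⁻¹)⁻¹) * y⁻¹) * (ι x)⁻¹ := by rw [map_inv]; group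
    _ = _ := by rw [H.tcj, e, ← conj_mul, H.tcj, ι_cj]
end Hyp
/-- the doubling of `A` -/
structure Dbl (ι : Γ F →* G) (t : G) (ϑ : Hm F → G) : Prop where
  add : ∀ a b, ϑ (a + b) = ϑ a * ϑ b
  ct : ∀ a, ϑ a * t * (ϑ a)⁻¹ = t * ι (up 0 a)
  ca : ∀ a b, ι (up 0 b) * ϑ a = ϑ a * ι (up 0 b)
  u : ∀ β a, ι (up β 0) * ϑ a * (ι (up β 0))⁻¹ = ϑ (act β a)
  h : ∀ h a, ι (hh h) * ϑ a * (ι (hh h))⁻¹ = ϑ (tact h a)
  n : ∀ a, ι nn * ϑ a * (ι nn)⁻¹ = ϑ (nact a)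
  cen : ∀ c, ϑ (c, 0, 0) ∈ C(P0 ι)
  hk : ∀ k ∈ C(ι.range), k * t = t * k → (∀ a, k * ϑ a = ϑ a * k) ∨ ∀ a, t * k * ϑ a = ϑ a * (t * k)

theorem Hm_gen {p : Hm F → Prop} (p0 : ∀ a b, p a → p b → p (a + b)) (p1 : ∀ β y, p y → p (act β y)) (p2 : ∀ h y, p y → p (tact h y))
    (p3 : ∀ y, p y → p (nact y)) (h1 : p (1, 0, 0)) : ∀ y, p y :=
  orb p1 p2 p3 (yy ((1, 0, 0) : Hm F) ▸ p0 _ _ h1 h1) h1 (by simpa [act, nact, aa] using p0 _ _ (p0 _ _ (p1 1 _ (p3 _ h1)) h1) (p3 _ h1))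
theorem nun : nn * (up 1 0 * nn) = up 1 0 * (nn * up (1 : F) 0) := mext (by mx [nn, up])
namespace Hyp
variable (H : Hyp ι t)
include H
/-- the involutions centralizing `Q` and moving `t` to `t z(c)` -/
theorem can (yy : y * y = 1) (yy' : y' * y' = 1) (h : y ∈ C(P0 ι)) (h' : y' ∈ C(P0 ι)) (c0 : c ≠ 0) (p : y * t * y⁻¹ = t * ι (z c))
    (p' : y' * t * y'⁻¹ = t * ι (z c))
    (hk : ∀ k ∈ C(ι.range), k * t = t * k → k * y' = y' * k ∨ t * k * y' = y' * (t * k)) : ∃ d, y = y' * ι (z d) := by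
  have w : y'⁻¹ * y ∈ C[t] := mem_cent1.2 (mul_inv_eq_iff_eq_mul.1 (by
    rw [show y'⁻¹ * y * t * (y'⁻¹ * y)⁻¹ = y'⁻¹ * (y * t * y⁻¹) * y' by group, p, ← p']; group))
  obtain ⟨d, k, kK, e⟩ := H.cP w fun v α => mem_cent.1 (mul_mem (inv_mem h') h) _ (mem_map_of_mem ι (UX (QU (qQ ..))))
  have kt := H.Kt (e ▸ w)
  obtain rfl := inv_mul_eq_iff_eq_mul.1 e
  have zy := aP h' (d, 0, 0)
  have n : y' * t ≠ t * y' := fun q => c0 (z_eq1 (H.inj (by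
    rw [q, mul_inv_cancel_right, left_eq_mul] at p'; rw [p', map_one])))
  have sq : y' * (ι (z d) * k) * (y' * (ι (z d) * k)) = y' * k * y' * k := by
    calc _ = y' * (ι (z d) * k) * (y' * ι (z d)) * k := by group
      _ = y' * k * (ι (z d) * ι (z d)) * y' * k := by rw [← zy, mem_cent.1 kK _ ⟨_, rfl⟩]; group
      _ = _ := by rw [ia2, mul_one]
  rw [sq] at yy
  rcases hk k kK kt with q | q
  · rw [mul_assoc y', q, ← mul_assoc, yy', one_mul] at yy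
    rcases H.rk k kK yy kt with rfl | rfl
    · exact ⟨d, by rw [mul_one]⟩
    · exact absurd q.symm n
  · have oK := mul_mem H.tK kK
    have ot : t * k * t = t * (t * k) := by rw [mul_assoc, kt]
    have ek : k = t * (t * k) := by rw [← mul_assoc, H.tt, one_mul]
    generalize t * k = o at q oK ot ek
    have e : ι (z c) * (o * o) = 1 := by
      calc _ = t * ι (z c) * t * (o * o) := by rw [H.cen, mul_assoc _ t t, H.tt, mul_one]
        _ = y' * t * (y' * o) * (t * o) := by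
          rw [← p', inv_eq_of_mul_eq_one_right yy', mul_assoc _ t, ← mul_assoc t, ← ot, mul_assoc o, ← ot]; group
        _ = 1 := by rw [← yy, ek, ← q]; group
    exact absurd (z_eq1 (LK H.inj ((eq_inv_of_mul_eq_one_left e).symm ▸ inv_mem (mul_mem oK oK)))) c0
end Hyp

variable (ι ϑ) in
/-- the group generated by `L` and the doubling -/
def G0 : Subgroup G := ι.range ⊔ Subgroup.closure (Set.range ϑ)
theorem LG (x : Γ F) : ι x ∈ G0 ι ϑ := mem_sup_left ⟨x, rfl⟩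
theorem ϑG (a : Hm F) : ϑ a ∈ G0 ι ϑ := mem_sup_right (Subgroup.subset_closure ⟨a, rfl⟩)
theorem G0_le {M : Subgroup G} (h1 : ∀ x, ι x ∈ M) (h2 : ∀ a, ϑ a ∈ M) : G0 ι ϑ ≤ M :=
  sup_le (by rintro _ ⟨x, rfl⟩; exact h1 x) ((closure_le _).2 (by rintro _ ⟨x, rfl⟩; exact h2 x))

namespace Dbl
variable (D : Dbl ι t ϑ)
include D
theorem zero : ϑ 0 = 1 := by simpa using D.add 0 0
theorem sq (a : Hm F) : ϑ a * ϑ a = 1 := by rw [← D.add, yy, D.zero]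
theorem inv (a : Hm F) : (ϑ a)⁻¹ = ϑ a := inv_eq_of_mul_eq_one_right (D.sq a)
theorem comm (a b : Hm F) : ϑ a * ϑ b = ϑ b * ϑ a := by rw [← D.add, ← D.add, add_comm]
theorem tc (H : Hyp ι t) (a : Hm F) : t * ϑ a * t⁻¹ = ϑ a * ι (up 0 a) := by
  have := D.ct a
  rw [D.inv] at this
  rw [H.tinv, ← D.ca, ← mul_right_inj t, ← mul_assoc t (ι _), ← this, ← mul_assoc, ← mul_assoc, H.tt, one_mul, mul_assoc _ _ (ϑ a), D.sq, mul_one]
theorem ind {M : Subgroup G} (h1 : ∀ x, ι x ∈ N(M)) (h : ϑ (1, 0, 0) ∈ M) : ∀ a, ϑ a ∈ M :=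
  Hm_gen (fun a b p q => D.add a b ▸ mul_mem p q) (fun β a p => D.u β a ▸ conj_mem_of_norm (h1 _) p)
    (fun β a p => D.h β a ▸ conj_mem_of_norm (h1 _) p) (fun a p => D.n a ▸ conj_mem_of_norm (h1 _) p) h
theorem nor (H : Hyp ι t) : C[t] ≤ N(G0 ι ϑ) := fun g hg => by
  obtain ⟨σ, k, p⟩ := exA H.inj (H.nor hg)
  have p' : ∀ x, (ι k)⁻¹ * g * ι x * ((ι k)⁻¹ * g)⁻¹ = ι (φ σ x) := fun x => by
    rw [cj2, p, map_mul, map_mul, map_inv]; group
  have hg' := mul_mem (inv_mem (H.LC k)) hg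
  refine (mul_mem_cancel_left (inv_mem (le_normalizer (LG k)))).1 ?_
  generalize (ι k)⁻¹ * g = g at p' hg'
  refine mem_norm_of_cj_le (cj_le_iff.2 (G0_le (fun x => mem_cj_inv.2 (p' x ▸ LG _)) (D.ind (fun x => ?_) (mem_cj_inv.2 ?_))))
  · rw [← cj_norm, mem_cj_inv, p']; exact le_normalizer (LG _)
  obtain ⟨d, e⟩ := H.can (y := g * ϑ (1, 0, 0) * g⁻¹) (by rw [conj_mul, D.sq]; simp) (D.sq _)
    (conj_mem_of_norm (norm_le_norm_cent _ (mem_norm_of (by rintro _ ⟨x, hx, rfl⟩; exact ⟨_, φX σ hx, (p' x).symm⟩))) (D.cen 1))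
    (D.cen 1) one_ne_zero
    (by
      have q : g * t * g⁻¹ = t := mul_inv_eq_iff_eq_mul.2 (mem_cent1.1 hg')
      calc _ = g * ϑ (1, 0, 0) * g⁻¹ * (g * t * g⁻¹) * (g * ϑ (1, 0, 0) * g⁻¹)⁻¹ := by rw [q]
        _ = g * (ϑ (1, 0, 0) * t * (ϑ (1, 0, 0))⁻¹) * g⁻¹ := by group
        _ = _ := by rw [D.ct, ← conj_mul, q, p', φ_z, kσ_1]) (D.ct _)
    fun k hk kt => (D.hk k hk kt).imp (· _) (· _)
  exact e ▸ mul_mem (ϑG _) (LG _)
theorem odd (H : Hyp ι t) (hk : k ∈ C(G0 ι ϑ)) (kk : k * k = 1) : k = 1 := by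
  have hM : t ∈ N(C(G0 ι ϑ)) := norm_le_norm_cent _ (D.nor H (mem_cent1_self t))
  obtain ⟨S, hS, l⟩ := PiN.exists_syl (piG_zpowers.2 (two_of_sq H.tt)) (le_sup_right (a := C(G0 ι ϑ)))
  have nL := left_normal_sup (zpowers_le.2 hM)
  have s := hS.inf_normal nL
  by_contra k1
  obtain ⟨j, hj, j1⟩ := exists_ne_one (PiN.meet_cent s.pi (piG_zpowers.2 (two_of_sq H.tt))
    (l.trans (norms_inf le_normalizer (hS.le.trans nL.2))) (s.sne_bot Nat.prime_two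
      (orderOf_eq_prime (pow_two k ▸ kk) k1 ▸ orderOf_dvd_card' hk)))
  obtain ⟨m, hm⟩ := pow_of_two (s.pi.elt hj.1)
  rcases H.two (D.cen 1) (D.ct _) one_ne_zero (cent_mono le_sup_left hj.1.2) (mem_cent.1 hj.2 _ (mem_zpowers t)).symm hm with e | rfl
  · exact j1 e
  · have := D.ct (1, 0, 0)
    rw [mem_cent.1 hj.1.2 _ (ϑG _), mul_inv_cancel_right, left_eq_mul] at this
    exact one_ne_zero (z_eq1 (H.inj (this.trans (map_one ι).symm)))
end Dbl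
end H18.U2
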