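/-
Standard subgroups of type `U₄(2ⁿ)`: the action of the doubles of the short root groups.
-/
import Cfsg.Agent.H18.GU4

set_option autoImplicit false
set_option linter.unusedSectionVars false

namespace H18.U2
open Cfsg Subgroup H19 H28.CY

variable {G : Type*} [Group G] [Finite G] {F : Type} [Field F] [StarRing F] [Big F] {ι : Γ F →* G} {g t k y y' : G} {x : Γ F}
  {c c' ρ α : K F} {a b : Hm F} {ϑ : Hm F → G} {v : F × F} {β : F}

variable (ι ϑ) in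
/-- the double of `u β` -/
def tb (β : F) : G := ι mm * ϑ (0, β, 0) * (ι mm)⁻¹
variable (ι ϑ) in
/-- the double of `A` -/
def wd (a b : Hm F) : G := ι (up 0 a) * ϑ b
variable (ι ϑ) in
/-- the action of `tb β` on the double of `A` -/
def Dis (ρ : K F) : Prop := ∀ β a b, tb ι ϑ β * wd ι ϑ a b * (tb ι ϑ β)⁻¹ =
  wd ι ϑ (a + sm ρ ((nm β * a.2.2, 0, 0) + act β b + b)) (b + (ρ * nm β * b.2.2, 0, 0) + act β (a + b) + (a + b))
local notation "θ" => tb ι ϑ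
local notation "ω" => wd ι ϑ

theorem z0 : ((0, 0, 0) : Hm F) = 0 := rfl
theorem cj3 {G : Type*} [Group G] (m a x : G) : m * a * m⁻¹ * (m * x * m⁻¹) * (m * a * m⁻¹)⁻¹ = m * (a * x * a⁻¹) * m⁻¹ := by group
theorem cj4 {G : Type*} [Group G] {m : G} (h : m * m = 1) (s g : G) :
    m * s * m⁻¹ * g * (m * s * m⁻¹)⁻¹ = m * (s * (m * g * m⁻¹) * s⁻¹) * m⁻¹ := by rw [← cj3, ← cj2 m m, h]; simp
theorem mm_u (β : F) : mm * up β 0 * mm⁻¹ = up 0 (0, β, 0) := by simpa [z0] using mm_up β 0 0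
theorem mm_b (β : F) : mm * up 0 (0, β, 0) * mm⁻¹ = up β 0 := by simpa [z0] using mm_up 0 β 0
theorem imm (g : G) : ι mm * (ι mm * g * (ι mm)⁻¹) * (ι mm)⁻¹ = g := by rw [← cj2, ← map_mul, mm2]; simp
theorem ωG (a b : Hm F) : ω a b ∈ G0 ι ϑ := mul_mem (LG _) (ϑG _)
theorem θG (β : F) : θ β ∈ G0 ι ϑ := mul_mem (mul_mem (LG _) (ϑG _)) (inv_mem (LG _))
theorem mθ (β : F) : ι mm * θ β * (ι mm)⁻¹ = ϑ (0, β, 0) := imm _
theorem ω0 (b : Hm F) : ω 0 b = ϑ b := by simp [wd, up_0]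
theorem nadd {d : F → K F} (h1 : ∀ x y, d (x + y) = d x + d y) (h2 : ∀ x, x ≠ 0 → d x = nm x * d 1) (x : F) : d x = 0 := by
  obtain ⟨η, e⟩ := ex_tr (1 : K F)
  have n : ∀ c : K F, c + η ≠ 0 := fun c k => by rw [← add0.1 k, tr_c] at e; exact zero_ne_one e
  have := h1 1 η
  rw [h2 (1 + η) (n 1), h2 η (by simpa using n 0), nm_add, star_one, one_mul, e, nm_1] at this
  by_cases x0 : x = 0
  · simpa [x0] using h1 0 0
  · rw [h2 x x0, show d 1 = 0 by grind, mul_zero]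

namespace Dbl
variable (D : Dbl ι t ϑ)
include D
theorem ω0' (a : Hm F) : ω a 0 = ι (up 0 a) := by simp [wd, D.zero]
theorem e1 (b : Hm F) : ϑ b = ω 0 b := (ω0 b).symm
theorem ωm (a b a' b' : Hm F) : ω a b * ω a' b' = ω (a + a') (b + b') := by
  rw [wd, wd, wd, mul_assoc, ← mul_assoc (ϑ b), ← D.ca, D.add, ← iam]; group
theorem ω1 : ω 0 0 = 1 := by rw [ω0, D.zero]
theorem ω2 (a b : Hm F) : ω a b * ω a b = 1 := by rw [D.ωm, yy, yy, D.ω1]
theorem ωi (a b : Hm F) : (ω a b)⁻¹ = ω a b := inv_eq_of_mul_eq_one_right (D.ω2 a b)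
theorem ωc (a b a' b' : Hm F) : ω a b * ω a' b' * (ω a b)⁻¹ = ω a' b' := by
  rw [D.ωi, D.ωm, D.ωm, add_right_comm, yy, add_right_comm b, yy, zero_add, zero_add]
theorem uω (β : F) (a b : Hm F) : ι (up β 0) * ω a b * (ι (up β 0))⁻¹ = ω (act β a) (act β b) := by
  rw [wd, ← conj_mul, ι_cj, up_a, D.u, wd]
theorem hω (h : T F) (a b : Hm F) : ι (hh h) * ω a b * (ι (hh h))⁻¹ = ω (tact h a) (tact h b) := by
  rw [wd, ← conj_mul, ι_cj, hh_a, D.h, wd]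
theorem nω (a b : Hm F) : ι nn * ω a b * (ι nn)⁻¹ = ω (nact a) (nact b) := by rw [wd, ← conj_mul, ι_cj, nn_up, D.n, wd]
theorem ωu (β : F) (a b : Hm F) : ω a b * ι (up β 0) * (ω a b)⁻¹ = ι (up β 0) * ω (act β a + a) (act β b + b) := by
  rw [← D.ωm, ← D.uω, D.ωi, ← map_inv, u_inv, ← mul_assoc, ← mul_assoc, ← mul_assoc, ← map_mul, u_sq]; simp
theorem ωu' (β : F) (a b : Hm F) : ω a b * ι (up β 0) = ι (up β 0) * ω (act β a) (act β b) := by
  rw [← D.uω, ← map_inv, u_inv, ← mul_assoc, ← mul_assoc, ← map_mul, u_sq]; simp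
theorem iq (v : F × F) (α : K F) : ι (q v α) = ι (up v.1 0) * ω (α, v.2, 0) 0 := by rw [q, ← u_a, map_mul, D.ω0']
theorem Xω (hx : x ∈ X0 F) (c d : K F) : ι x * ω (c, 0, 0) (d, 0, 0) * (ι x)⁻¹ = ω (c, 0, 0) (d, 0, 0) := by
  rw [wd, ← conj_mul, ι_cj, X0_cj hx, mem_cent.1 (D.cen d) _ ⟨x, hx, rfl⟩, mul_inv_cancel_right]
theorem θa (β β' : F) : θ (β + β') = θ β * θ β' := by rw [tb, tb, tb, conj_mul, ← D.add]; simp
theorem θ0 : θ 0 = 1 := by simpa using D.θa 0 0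
theorem θ2 (β : F) : θ β * θ β = 1 := by rw [← D.θa, aa, D.θ0]
theorem θi (β : F) : (θ β)⁻¹ = θ β := inv_eq_of_mul_eq_one_right (D.θ2 β)
theorem θθ (β : F) (g : G) : θ β * (θ β * g * (θ β)⁻¹) * (θ β)⁻¹ = g := by rw [← cj2, D.θ2]; simp
theorem θu (β β' : F) : θ β * ι (up β' 0) * (θ β)⁻¹ = ι (up β' 0) := by
  rw [mul_inv_eq_iff_eq_mul, ← mm_b, ← ι_cj, tb, conj_mul, conj_mul, D.ca]
theorem θz (β : F) (c d : K F) : θ β * ω (c, 0, 0) (d, 0, 0) * (θ β)⁻¹ = ω (c, 0, 0) (d, 0, 0) := by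
  rw [mul_inv_eq_iff_eq_mul, ← D.Xω mX, tb, conj_mul, conj_mul, D.e1 (0, β, 0), D.ωm, D.ωm, add_comm 0, add_comm (d, 0, 0)]
theorem θb (β : F) (α : K F) (b : F) : θ β * ι (up 0 (α, b, 0)) * (θ β)⁻¹ = ω (α, b, 0) (tr (star β * b), 0, 0) := by
  have : θ β * ι (up 0 (0, b, 0)) * (θ β)⁻¹ = ω (0, b, 0) (tr (star β * b), 0, 0) := by
    rw [← mm_u, ← ι_cj, tb, cj3, D.e1 (0, β, 0), D.ωu, ← conj_mul, ι_cj, mm_u,
      show act b 0 + 0 = (0, 0, 0) by simp [z0], show act b (0, β, 0) + (0, β, 0) = (tr (star β * b), 0, 0) by hx, D.Xω mX, ← D.ω0', D.ωm]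
    simp
  rw [show ι (up 0 (α, b, 0)) = ω (α, 0, 0) (0, 0, 0) * ι (up 0 (0, b, 0)) by simp [← D.ω0', D.ωm, z0], ← conj_mul, D.θz, this, D.ωm]
  simp
theorem hθ (h : T F) (β : F) : ι (hh h) * θ β * (ι (hh h))⁻¹ = θ (ta h / td h * β) := by
  obtain ⟨k, e, e'⟩ := mm_hh h
  have p := hh_u h 1
  rw [← mm_b, ← mm_b, show hh h = mm * hh k * mm⁻¹ by rw [← e, mm_inv, ← mul_assoc, ← mul_assoc, mm2, one_mul, mul_assoc, mm2, mul_one],
    cj3, mul_left_inj, mul_right_inj, hh_a] at p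
  have := congrArg (·.2.1) (up_inj p).2
  simp only [tact, mul_one] at this
  rw [tb, ← cj2, ← map_mul, show hh h * mm = mm * hh k by rw [← e, ← mul_assoc, ← mul_assoc, mm2, one_mul], map_mul, cj2, D.h, tb]
  simp [tact, this]
theorem cG (hk : k ∈ C(ι.range)) (h : ∀ a, k * ϑ a = ϑ a * k) : k ∈ C(G0 ι ϑ) :=
  le_cent1_iff.1 (G0_le (fun x => mem_cent1.2 (mem_cent.1 hk _ ⟨x, rfl⟩)) fun a => mem_cent1.2 (h a).symm)
variable (H : Hyp ι t)
include H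
theorem tω (a b : Hm F) : t * ω a b * t⁻¹ = ω (a + b) b := by
  rw [wd, ← conj_mul, H.cen, mul_inv_cancel_right, D.tc H, ← D.ca, ← mul_assoc, iam, wd]
theorem tθ (β : F) : t * θ β * t⁻¹ = θ β * ι (up β 0) := by
  rw [tb, ← cj2, H.cen, cj2, D.tc H, ← conj_mul, ι_cj, mm_b]
theorem ωinj {a' b' : Hm F} (e : ω a b = ω a' b') : a = a' ∧ b = b' := by
  have := congrArg (fun x => t * x * t⁻¹ * x) e
  simp only [D.tω H, D.ωm, yy, D.ω0', add_right_comm _ _ a, add_right_comm _ _ a', zero_add] at this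
  obtain rfl := (up_inj (H.inj this)).2
  exact ⟨(up_inj (H.inj (mul_right_cancel e))).2, rfl⟩
theorem can (yy : y * y = 1) (yy' : y' * y' = 1) (hy : y' ∈ G0 ι ϑ) (hz : ∀ c, ι (z c) * y' = y' * ι (z c)) (v0 : v ≠ 0)
    (p : t * y * t⁻¹ = y * ι (q v α)) (p' : t * y' * t⁻¹ = y' * ι (q v α))
    (h1 : ∀ β, y * ι (up β 0) * y⁻¹ = y' * ι (up β 0) * y'⁻¹)
    (h2 : ∀ α b, y * ι (up 0 (α, b, 0)) * y⁻¹ = y' * ι (up 0 (α, b, 0)) * y'⁻¹) : ∃ d, y = y' * ι (z d) := by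
  have c : ∀ v α, ι (q v α) * (y'⁻¹ * y) = y'⁻¹ * y * ι (q v α) := fun v α => (mul_inv_eq_iff_eq_mul.1 (by
    rw [cj2, q, ← u_a, map_mul, ← conj_mul (a := ι _), h1, h2]; group)).symm
  obtain ⟨d, k, kK, e⟩ := H.cP (mem_cent1.2 (mul_inv_eq_iff_eq_mul.1 (by
    rw [← conj_mul, ← conj_inv, p, p', mul_inv_rev, mul_assoc, ← mul_assoc y'⁻¹, ← c, inv_mul_cancel_left])).symm) c
  have kt := H.Kt (x := z d) (k := k) (e ▸ mem_cent1.2 (mul_inv_eq_iff_eq_mul.1 (by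
    rw [← conj_mul, ← conj_inv, p, p', mul_inv_rev, mul_assoc, ← mul_assoc y'⁻¹, ← c, inv_mul_cancel_left])).symm)
  obtain rfl := inv_mul_eq_iff_eq_mul.1 e
  have f : ∀ k ∈ C(G0 ι ϑ), ∀ x ∈ G0 ι ϑ, Commute x k := fun k hk => mem_cent.1 hk
  rcases D.hk k kK kt with r | r <;> have r := D.cG (by first | exact kK | exact mul_mem H.tK kK) r
  · rw [← mul_assoc y' _ k, (f k r _ (mul_mem hy (LG _))).symm.mul_mul_mul_comm, (show Commute _ _ from hz d).mul_mul_mul_comm, yy', ia2,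
      one_mul, one_mul] at yy
    exact ⟨d, by rw [D.odd H r yy, mul_one]⟩
  · have ot : Commute t (t * k) := (Commute.refl t).mul_right kt.symm
    rw [show k = t * (t * k) by rw [← mul_assoc, H.tt, one_mul]] at yy
    have oK := mul_mem H.tK kK
    generalize t * k = o at r ot yy oK
    have e : y' * ι (z d) * t * (y' * ι (z d) * t) = ι (q v α) := by
      calc _ = y' * ι (z d) * (t * y' * t⁻¹) * (t * ι (z d) * t) := by group
        _ = y' * (ι (z d) * y') * (ι (q v α) * ι (z d)) := by rw [p', H.cen, mul_assoc _ t t, H.tt]; group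
        _ = _ := by
          rw [hz, ← mul_assoc y', yy', one_mul, ← map_mul, ← map_mul, q, up_z, ← mul_assoc, a_sq, one_mul]
    rw [← mul_assoc (ι _), ← mul_assoc y' _ o, ← mul_assoc y' _ t, ((f o r _ (mul_mem hy (LG _))).mul_left ot).symm.mul_mul_mul_comm, e] at yy
    exact absurd (q_inj (c := 0) ((LK H.inj ((eq_inv_of_mul_eq_one_left yy).symm ▸ inv_mem (mul_mem oK oK))).trans z_0.symm)).1 v0
theorem ex3 (β b : F) : ∃ d, θ β * ϑ (0, b, 0) * (θ β)⁻¹ = ω (d, 0, 0) (tr (star β * b), b, 0) := by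
  by_cases b0 : b = 0
  · exact ⟨0, by simp [b0, z0, D.zero, D.ω1]⟩
  have z : ∀ c, θ β * ϑ (c, 0, 0) * (θ β)⁻¹ = ϑ (c, 0, 0) := fun c => by simpa [z0, ω0] using D.θz β 0 c
  obtain ⟨d, e⟩ := D.can H (y := θ β * ϑ (0, b, 0) * (θ β)⁻¹) (y' := ϑ (tr (star β * b), b, 0)) (v := (0, b)) (α := tr (star β * b))
    (by rw [conj_mul, D.sq]; simp) (D.sq _) (ϑG _) (fun _ => D.ca ..) (by simp [b0]) (by
      rw [← conj_mul, ← conj_mul, ← conj_inv, D.tθ H, cj2, D.e1 (0, b, 0), D.tω H, D.uω, show ω (act β (0 + (0, b, 0))) (act β (0, b, 0)) =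
        ω 0 (0, b, 0) * (ι (up 0 (tr (star β * b), b, 0)) * ϑ (tr (star β * b), 0, 0)) by rw [← wd, D.ωm]; congr 1 <;> hx,
        ← conj_mul, ← conj_mul (a := ι _), D.θb, z, D.e1 (_, 0, 0), D.ωm, yy, add_zero, D.ω0', q]) (D.tc H _)
    (fun β' => by
      rw [cj4 (D.θ2 β), D.θu, D.e1 (0, b, 0), D.e1 (_, b, 0), D.ωu, D.ωu, ← conj_mul, D.θu, show act β' 0 + 0 = (0, 0, 0) by simp [z0],
        show ∀ α, act β' (α, b, 0) + (α, b, 0) = (tr (star β' * b), 0, 0) from fun _ => by hx,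
        show ∀ α, act β' (α, b, 0) + (α, b, 0) = (tr (star β' * b), 0, 0) from fun _ => by hx, D.θz])
    fun α b' => by rw [← D.ca, mul_inv_cancel_right, cj4 (D.θ2 β), D.θb, D.e1 (0, b, 0), D.ωc, ← D.θb, D.θθ]
  exact ⟨d, by rw [e, ← D.ca, wd]⟩
theorem d3 : ∃ ρ : K F, ∀ β b, θ β * ϑ (0, b, 0) * (θ β)⁻¹ = ω (ρ * tr (star β * b), 0, 0) (tr (star β * b), b, 0) := by
  choose d e using D.ex3 H
  have un : ∀ β b c, θ β * ϑ (0, b, 0) * (θ β)⁻¹ = ω (c, 0, 0) (tr (star β * b), b, 0) → d β b = c := fun β b c p =>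
    congrArg Prod.fst (D.ωinj H ((e β b).symm.trans p)).1
  have a : ∀ β b b', d β (b + b') = d β b + d β b' := fun β b b' => un _ _ _ (by
    rw [show ((0, b + b', 0) : Hm F) = (0, b, 0) + (0, b', 0) by simp, D.add, ← conj_mul, e, e, D.ωm, mul_add, tr_add]; simp)
  have s : ∀ β b, d b β = d β b := fun β b => un _ _ _ (by
    have f : ∀ c d b, ω (c, 0, 0) (d, b, 0) = ω (c, 0, 0) (d, 0, 0) * ϑ (0, b, 0) := fun c d b => by rw [D.e1, D.ωm]; simp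
    have : ϑ (0, β, 0) * θ b * (ϑ (0, β, 0))⁻¹ = ω (d β b, 0, 0) (tr (star β * b), 0, 0) * θ b := by
      rw [← mθ (ι := ι) (ϑ := ϑ) β, tb.eq_1 _ _ b, cj3, e, f, ← conj_mul, D.Xω mX]
    rw [f, ← tr_s, star_mul', star_star, mul_comm b, ← D.ωi, eq_mul_inv_iff_mul_eq.2 this.symm]; group)
  have h : ∀ x ≠ 0, ∀ l : K F, l ≠ 0 → ∀ β b, d (x / l * β) (x * l * b) = nm x * d β b := fun x x0 l l0 β b => un _ _ _ (by
    obtain ⟨h, e1, e2, e3, -⟩ := ex_tor x0 l0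
    have := congrArg (fun x => ι (hh h) * x * (ι (hh h))⁻¹) (e β b)
    simp only [← cj3, D.hθ, D.h, D.hω, tact, e1, e2, e3, mul_zero] at this
    rw [this]; congr 2
    have := kne l0
    exact kext (by simp; grind))
  obtain ⟨η, eη⟩ := ex_tr (1 : K F)
  have d0 : ∀ β, d β 0 = 0 := fun β => by simpa using a β 0 0
  have k : ∀ (c : K F) u, d 1 (c * u) = c * d 1 u := fun c u => by
    by_cases c0 : c = 0
    · simp [c0, d0]
    obtain ⟨l, rfl⟩ := ex_sqrt c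
    have l0 : l ≠ 0 := fun e => c0 (by simp [e])
    simpa [kne l0, nm_k, pow_two] using h l (kne l0) l l0 1 u
  have r : ∀ β ≠ 0, ∀ b, d β b = nm β * d 1 (b / β) := fun β b0 b => by simpa [mul_div_cancel₀ _ b0] using h β b0 1 one_ne_zero 1 (b / β)
  have e1 : d 1 1 = 0 := by
    have n : η ≠ 0 := fun e => by simp [e] at eη
    have := a 1 η (star η)
    rw [← tr_v, eη, s η 1, r η n, ← k] at this
    rwa [show (nm η : F) * (1 / η) = star η by simp [n, mul_right_comm], aa] at this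
  refine ⟨d 1 η, fun β b => (e β b).trans ?_⟩
  by_cases b0 : β = 0
  · simp [b0, ← s 0, d0]
  obtain ⟨c, p⟩ : ∃ c : K F, b / β = c * 1 + tr (b / β) * η := ⟨⟨b / β + tr (b / β) * η, by
    have := congrArg Subtype.val eη; simp [selfAdjoint.mem_iff] at this ⊢; grind⟩, by simp [add_assoc, aa]⟩
  rw [r β b0, p, a, k, k, e1, mul_zero, zero_add, ← mul_assoc, ← tr_k, mul_comm (d 1 η)]
  simp [mul_div_cancel₀, mul_comm β, mul_assoc, b0]
theorem dq (e : ∀ β b, θ β * ϑ (0, b, 0) * (θ β)⁻¹ = ω (ρ * tr (star β * b), 0, 0) (tr (star β * b), b, 0)) (β : F) (α α' : K F) (b b' : F) :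
    θ β * ω (α, b, 0) (α', b', 0) * (θ β)⁻¹ = ω (α + ρ * tr (star β * b'), b, 0) (α' + tr (star β * (b + b')), b', 0) := by
  rw [show ω (α, b, 0) (α', b', 0) = ι (up 0 (α, b, 0)) * ω (0, 0, 0) (α', 0, 0) * ϑ (0, b', 0) by rw [← D.ω0', D.e1, D.ωm, D.ωm]; simp,
    ← conj_mul, ← conj_mul, D.θb, D.θz, e, D.ωm, D.ωm]
  congr 1 <;> hx
theorem d4 (e : ∀ β b, θ β * ϑ (0, b, 0) * (θ β)⁻¹ = ω (ρ * tr (star β * b), 0, 0) (tr (star β * b), b, 0)) (c c' : K F)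
    (e' : ∀ β, ι (up 0 (0, 0, c')) * θ β * (ι (up 0 (0, 0, c')))⁻¹ = θ β * ω (ρ * nm β * c', 0, 0) (nm β * c', β * c', 0)) (β : F) :
    ω (0, 0, c) (0, 0, c') * θ β * (ω (0, 0, c) (0, 0, c'))⁻¹ =
      θ β * ω (ρ * nm β * (c + c'), ρ * β * c', 0) (nm β * (ρ * c' + c + c'), β * (c + c'), 0) := by
  have dq := D.dq H e
  have ex : ∀ β, ∃ d, ω (0, 0, c) (0, 0, c') * θ β * (ω (0, 0, c) (0, 0, c'))⁻¹ =
      θ β * ω (ρ * nm β * (c + c') + d, ρ * β * c', 0) (nm β * (ρ * c' + c + c'), β * (c + c'), 0) := fun β => by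
    by_cases b0 : β = 0
    · exact ⟨0, by simp [b0, D.θ0, z0, D.ω1]⟩
    have w : θ β * ω (ρ * nm β * (c + c'), ρ * β * c', 0) (nm β * (ρ * c' + c + c'), β * (c + c'), 0) * (θ β)⁻¹ =
      ω (ρ * nm β * (c + c'), ρ * β * c', 0) (nm β * (ρ * c' + c + c'), β * (c + c'), 0) := by rw [dq]; congr 1 <;> hx
    obtain ⟨d, p⟩ := D.can H (y := ω (0, 0, c) (0, 0, c') * θ β * (ω (0, 0, c) (0, 0, c'))⁻¹)
      (y' := θ β * ω (ρ * nm β * (c + c'), ρ * β * c', 0) (nm β * (ρ * c' + c + c'), β * (c + c'), 0)) (v := (β, β * (c + c')))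
      (α := nm β * (ρ * c' + c + c')) (by rw [conj_mul, D.θ2]; simp)
      (by rw [D.θi] at w; rw [← mul_assoc, w, D.ω2]) (mul_mem (θG _) (ωG _ _))
      (fun d => by
        rw [z, ← D.ω0', ← z0, ← mul_assoc, ← mul_inv_eq_iff_eq_mul.1 (D.θz β d 0), mul_assoc (θ β), mul_assoc (θ β), D.ωm, D.ωm,
          add_comm (d, 0, 0), add_comm (0, 0, 0)]) (by simp [b0])
      (by
        rw [← conj_mul, ← conj_mul, ← conj_inv, D.tω H, D.tθ H, show ω ((0, 0, c) + (0, 0, c')) (0, 0, c') =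
          ω (0, 0, c) (0, 0, c') * ω (0, 0, c') 0 by simp [D.ωm], cj2, ← conj_mul (a := θ β), D.ωu, D.ω0', e', mul_assoc (θ β), ← conj_mul,
          ← conj_mul, ← conj_mul, D.ωc, D.ωc, D.ωu, mul_right_inj, D.iq, mul_assoc (ι _), D.ωm, ← mul_assoc, D.ωu', mul_assoc, D.ωm]
        congr 2 <;> hx)
      (by
        rw [← conj_mul, D.tω H, D.tθ H, D.iq, mul_assoc (θ β), mul_assoc (θ β), ← mul_assoc (ω _ _), D.ωu', mul_assoc (ι _), D.ωm]
        congr 3 <;> hx)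
      (fun β' => by
        have a : ∀ α b δ : _, act β' (α, b, δ) + (α, b, δ) = (tr (star β' * b) + nm β' * δ, β' * δ, 0) := fun _ _ _ => by hx
        rw [cj4 (D.ω2 ..), cj2 (θ β), D.ωu, D.ωu, a, a, a, a, ← conj_mul (b := θ β), ← conj_mul (b := θ β), D.θu, dq, dq, ← conj_mul, D.ωu, D.ωc,
          mul_assoc, D.ωm, a, a]
        congr 2 <;> hx)
      fun α b => by rw [cj4 (D.ω2 ..), cj2 (θ β), ← D.ω0', D.ωc, D.ωc, D.ω0', D.θb, D.ωc]
    exact ⟨d, by rw [p, z, ← D.ω0', mul_assoc, D.ωm]; simp⟩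
  choose d p using ex
  have un : ∀ β x, ω (0, 0, c) (0, 0, c') * θ β * (ω (0, 0, c) (0, 0, c'))⁻¹ =
      θ β * ω (ρ * nm β * (c + c') + x, ρ * β * c', 0) (nm β * (ρ * c' + c + c'), β * (c + c'), 0) → d β = x := fun β x r =>
    add_left_cancel (congrArg Prod.fst (D.ωinj H (mul_left_cancel ((p β).symm.trans r))).1)
  suffices d β = 0 by rw [p, this, add_zero]
  refine nadd (fun x y => un _ _ ?_) (fun x x0 => un _ _ ?_) β
  · rw [D.θa, ← conj_mul, p, p, mul_assoc (θ x), mul_assoc (θ x), ← mul_assoc (ω _ _), ← D.θθ y (ω _ _), dq, inv_mul_cancel_right,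
      mul_assoc (θ y), D.ωm]
    congr 3 <;> hx
  · obtain ⟨h, e1, e2, e3, e4⟩ := ex_tor (l := 1) x0 one_ne_zero
    have := congrArg (fun x => ι (hh h) * x * (ι (hh h))⁻¹) (p 1)
    beta_reduce at this
    rw [← cj3, ← conj_mul (a := θ 1)] at this
    simp only [D.hθ, D.hω, tact, e1, e2, e3, e4, mul_zero, one_pow, one_mul, mul_one, selfAdjoint.val_one, div_one] at this
    rw [this]; congr 2 <;> hx
theorem dis : ∃ ρ, Dis ι ϑ ρ := by
  obtain ⟨ρ, e⟩ := D.d3 H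
  have e1 : ∀ c β, ι (up 0 (0, 0, c)) * θ β * (ι (up 0 (0, 0, c)))⁻¹ = θ β * ω (ρ * nm β * c, 0, 0) (nm β * c, β * c, 0) := fun c β => by
    simpa [z0, D.ω0'] using D.d4 H e c 0 (fun β => by simp [z0, D.ω1, up_0]) β
  refine ⟨ρ, fun β a b => ?_⟩
  have := D.d4 H e a.2.2 b.2.2 (e1 _) β
  rw [D.ωi, ← inv_mul_eq_iff_eq_mul, ← mul_assoc, ← mul_assoc, ← eq_mul_inv_iff_mul_eq, D.ωi, D.ωm, D.θi, ← D.θi β, D.θi] at this
  rw [show ω a b = ω (a.1, a.2.1, 0) (b.1, b.2.1, 0) * ω (0, 0, a.2.2) (0, 0, b.2.2) by simp [D.ωm], ← conj_mul, D.dq H e, D.θi, this, D.ωm]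
  congr 1 <;> refine hext ?_ ?_ ?_ <;> simp [sm, act, aa] <;> grind
end Dbl
end H18.U2
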