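/-
Standard subgroups of type `U₄(2ⁿ)`: the split case.
-/
import Cfsg.Agent.H18.GU5
import Cfsg.Agent.S2092
import Cfsg.Agent.S0822
import Cfsg.Agent.H23.Schur2

set_option autoImplicit false
set_option linter.unusedSectionVars false

namespace H18.U2
open Cfsg Subgroup H19 H28.CY Matrix

variable {G : Type*} [Group G] [Finite G] {F : Type} [Field F] [StarRing F] [Big F] {ι : Γ F →* G} {g t k y y' : G} {x : Γ F}
  {c c' ρ α r : K F} {a b : Hm F} {ϑ : Hm F → G} {β : F}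
local notation "θ" => tb ι ϑ
local notation "ω" => wd ι ϑ

theorem bru (g : Γ F) : ∃ x ∈ X0 F, ∃ w, (w = 1 ∨ w = nn ∨ w = nn * mm * nn) ∧ ∃ x' ∈ X0 F, ∃ h, x * g = w * (x' * hh h) := by
  have s : ∀ g : Γ F, mat g 1 0 = 0 → mat g 2 0 = 0 → mat g 3 0 = 0 → ∃ x' ∈ X0 F, ∃ h, g = x' * hh h := fun g h1 h2 h3 => by
    rcases stab h1 h2 h3 with ⟨β, y, h, rfl⟩ | ⟨c, β, y, h, rfl⟩
    exacts [⟨_, UX (upU ..), h, rfl⟩, ⟨_, mul_mem (mul_mem (UX (upU ..)) mX) (UX (upU ..)), h, (mul_assoc ..).symm⟩]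
  have e := fun g : Γ F => congrFun (congrFun (mt_u g) 0) 0
  simp [J, mul_apply, Fin.sum_univ_four, -Subtype.forall] at e
  have s1 : ∀ g : Γ F, mat g 3 0 = 0 → mat g 1 0 ≠ 0 → ∃ x ∈ X0 F, ∃ x' ∈ X0 F, ∃ h, x * g = nn * (x' * hh h) := fun g h3 h => by
    have := star_ne_zero.2 h
    have := e g
    let c : K F := ⟨mat g 2 0 / mat g 1 0, by simp [selfAdjoint.mem_iff, h3] at this ⊢; grind⟩
    refine ⟨up (mat g 0 0 / mat g 1 0) 0 * (mm * up 0 (0, 0, c) * mm),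
      mul_mem (UX (upU ..)) (mul_mem (mul_mem mX (UX (upU ..))) mX), ?_⟩
    simp only [← inv_mul_eq_iff_eq_mul (a := nn), nn_inv]
    refine s _ ?_ ?_ ?_ <;> simp [c, mt_mul, mm, nn, up, mt_mk, vecMul, dotProduct, Fin.sum_univ_four] <;> grind
  by_cases h3 : mat g 3 0 = 0
  · by_cases h1 : mat g 1 0 = 0
    · by_cases h2 : mat g 2 0 = 0
      · exact ⟨1, one_mem _, 1, .inl rfl, by simpa using s g h1 h2 h3⟩
      · obtain ⟨x, hx, e⟩ := s1 (mm * g) (by simpa [mt_mul, mm, mt_mk, mul_apply, Fin.sum_univ_four])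
          (by simpa [mt_mul, mm, mt_mk, mul_apply, Fin.sum_univ_four])
        exact ⟨x * mm, mul_mem hx mX, nn, .inr (.inl rfl), by simpa only [mul_assoc x] using e⟩
    · exact let ⟨x, hx, e⟩ := s1 g h3 h1; ⟨x, hx, nn, .inr (.inl rfl), e⟩
  · have := star_ne_zero.2 h3
    have := e g
    refine ⟨q (star (mat g 2 0 / mat g 3 0), star (mat g 1 0 / mat g 3 0))
      ⟨(mat g 0 0 + star (mat g 1 0 / mat g 3 0) * mat g 2 0) / mat g 3 0, by simp [selfAdjoint.mem_iff]; grind⟩,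
      UX (QU (qQ ..)), _, .inr (.inr rfl), ?_⟩
    simp only [← inv_mul_eq_iff_eq_mul (a := nn * mm * nn), _root_.mul_inv_rev, nn_inv, mm_inv]
    refine s _ ?_ ?_ ?_ <;> simp [q, mt_mul, mm, nn, up, mt_mk, vecMul, dotProduct, Fin.sum_univ_four] <;> grind
theorem braid : mm * (nn * mm * nn) = nn * mm * nn * (mm : Γ F) := mext (by mx [nn, mm])
/-- the Schur multiplier of `U₄(2)` -/
theorem schur (h4 : Nat.card F = 4) : HasCyclicSchurMultiplier (Γ F) 2 := by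
  have := Fintype.ofFinite F
  have hF : Fintype.card F = (2 ^ 1) ^ 2 := Nat.card_eq_fintype_card.symm.trans h4
  obtain ⟨e, -⟩ := ex_su hF
  obtain ⟨e', -⟩ := ex_psu hF
  obtain ⟨e''⟩ := Cfsg.Agent.S0822.result (F := F) (K := ZMod 3) hF rfl
  exact H23.schur_congr_left (Cfsg.Agent.S2092.result (F := ZMod 3) (q := 3) rfl 2 le_rfl (fun _ => le_rfl) (by omega))
    ((e.trans e').trans e'').symm
/-- a stem extension with kernel of order prime to the multiplier -/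
theorem stem {E Q A : Type*} [Group E] [Group Q] [CommGroup A] (h : HasSchurMultiplier Q A) {σ : E →* Q}
    (hs : IsStemExtension σ) (hc : (Nat.card σ.ker).Coprime (Nat.card A)) : Function.Injective σ :=
  (MonoidHom.ker_eq_bot_iff _).1 (card_eq_one.1 (Nat.Coprime.eq_one_of_dvd hc (H23.card_ker_dvd h hs)))
theorem Dbl.odd' (D : Dbl ι t ϑ) (H : Hyp ι t) : PiG {2}ᶜ C(G0 ι ϑ) := PiN.of_not_dvd fun h => by
  obtain ⟨k, hk, o⟩ := exists_orderOf_eq_prime Nat.prime_two h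
  rw [D.odd H hk (by rw [← pow_two, ← o, pow_orderOf_eq_one])] at o; simp at o
theorem ex_root (ρ : K F) : (∃ r : K F, r ^ 2 + r = ρ) ∨ ∃ τ : F, tr τ = 1 ∧ nm τ = ρ := by
  let f : K F →+ K F := AddMonoidHom.mk' (fun r => r ^ 2 + r) fun a b => by rw [CharTwo.add_sq]; ring
  have i : f.range.index = 2 := by
    rw [AddSubgroup.index_range, Nat.card_eq_two_iff' (0 : f.ker)]
    refine ⟨⟨1, by simp [f, aa]⟩, fun e => one_ne_zero (congrArg Subtype.val e), fun y hy => Subtype.ext ?_⟩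
    have : y.1 * (y.1 + 1) = 0 := by rw [← show y.1 ^ 2 + y.1 = 0 from y.2]; ring
    exact add0.1 ((mul_eq_zero.1 this).resolve_left fun e => hy (Subtype.ext e))
  obtain ⟨η, e⟩ := ex_tr (1 : K F)
  have k : ∀ c : K F, nm (c + η) = c ^ 2 + c + nm η := fun c => by rw [nm_add, nm_k, sk, tr_k, e]; ring
  refine or_iff_not_imp_left.2 fun h => ?_
  obtain ⟨c, p⟩ := (AddSubgroup.add_mem_iff_of_index_two i (a := ρ) (b := nm η)).2 (iff_of_false h fun ⟨c, p⟩ => nm_ne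
    (x := c + η) (fun k => by rw [← add0.1 k, tr_c] at e; exact zero_ne_one e) (by rw [k, ← p]; exact aa _))
  exact ⟨c + η, by rw [tr_add, tr_c, e, zero_add], by rw [k, show c ^ 2 + c = _ from p, add_assoc, aa, add_zero]⟩

theorem icj2 (a b : Γ F) (y : G) : ι a * (ι b * y * (ι b)⁻¹) * (ι a)⁻¹ = ι (a * b) * y * (ι (a * b))⁻¹ := by rw [map_mul, cj2]
theorem sm_add (c : K F) (a b : Hm F) : sm c (a + b) = sm c a + sm c b := by simp [sm, mul_add]
namespace Dbl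
variable (D : Dbl ι t ϑ)
include D
theorem shift (H : Hyp ι t) (r : K F) : Dbl ι t fun y => ω (sm r y) y where
  add a b := by rw [D.ωm, sm_add]
  ct a := by rw [wd, cj2, D.ct, ← conj_mul, H.tcj, ι_cj, a_comm, mul_inv_cancel_right]
  ca a b := by rw [← D.ω0', D.ωm, D.ωm, add_comm b, add_comm 0]
  u β a := by rw [D.uω, sm_act]
  h h a := by rw [D.hω, sm_tact]
  n a := by rw [D.nω, sm_nact]
  cen c := mul_mem (by simpa [sm] using zP (r * c)) (D.cen c)
  hk k hk kt := by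
    have f : ∀ k ∈ C(ι.range), (∀ a, k * ϑ a = ϑ a * k) → ∀ a, k * ω (sm r a) a = ω (sm r a) a * k := fun k hk h a => by
      rw [wd, ← mul_assoc, ← mem_cent.1 hk _ ⟨_, rfl⟩, mul_assoc, h, mul_assoc]
    exact (D.hk k hk kt).imp (f k hk) (f _ (mul_mem H.tK hk))
theorem mω (β β' : F) : ι mm * ω (0, β, 0) (0, β', 0) * (ι mm)⁻¹ = ι (up β 0) * θ β' := by rw [wd, ← conj_mul, ι_cj, mm_b, tb]
theorem shift' (h : Dis ι ϑ (r ^ 2 + r)) : Dis ι (fun y => ω (sm r y) y) 0 := fun β a b => by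
  have : ∀ a b, wd ι (fun y => ω (sm r y) y) a b = ω (a + sm r b) b := fun a b => by rw [wd, ← D.ω0', D.ωm, zero_add]
  rw [this, this, tb, show sm r (0, β, 0) = (0, r * β, 0) by simp [sm], D.mω, cj2, h, D.uω]
  congr 1 <;> refine hext ?_ ?_ ?_ <;> simp [sm, act, aa] <;> grind
theorem hx' (hx : x ∈ X0 F) (c : K F) : ι x * ϑ (c, 0, 0) * (ι x)⁻¹ = ϑ (c, 0, 0) := by simpa [z0, ω0] using D.Xω hx 0 c
theorem sc0 (h : Dis ι ϑ 0) (β : F) : θ 1 * ϑ (0, β, 0) * (θ 1)⁻¹ * (ϑ (0, β, 0))⁻¹ = ϑ (tr β, 0, 0) := by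
  rw [D.e1, h, D.ωi, D.ωm, D.e1]; congr 1 <;> refine hext ?_ ?_ ?_ <;> simp [sm, act, aa]
variable (H : Hyp ι t) (h : Dis ι ϑ 0)
include H h
theorem sc1 (g : Γ F) (c d : K F) : Commute (ϑ (c, 0, 0)) (t * (ι g * ϑ (d, 0, 0) * (ι g)⁻¹) * t⁻¹) := by
  have sy : ∀ {a b : G}, Commute a (t * b * t⁻¹) → Commute b (t * a * t⁻¹) := fun {a b} k => by
    simpa [mul_assoc, H.tinv, ← mul_assoc t t, H.tt] using (k.map (MulAut.conj t)).symm
  have cv : ∀ x {a b : G}, Commute a (t * b * t⁻¹) → Commute (ι x * a * (ι x)⁻¹) (t * (ι x * b * (ι x)⁻¹) * t⁻¹) := fun x a b k => by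
    rw [← cj2, H.cen, cj2]; exact k.map (MulAut.conj (ι x))
  have k0 : ∀ a b, Commute (ϑ a) (t * ϑ b * t⁻¹) := fun a b => by
    rw [D.e1 a, D.e1 b, D.tω H]; exact (mul_inv_eq_iff_eq_mul.1 (D.ωc ..))
  have k1 : ∀ β b, Commute (θ β) (t * ϑ b * t⁻¹) := fun β b => by
    rw [D.e1 b, D.tω H]; refine mul_inv_eq_iff_eq_mul.1 ((h ..).trans ?_); congr 1 <;> simp [sm, yy, z0]
  have k2 : ∀ c β, Commute (ϑ (0, β, 0)) (t * (ι (nn * mm * nn) * ϑ (c, 0, 0) * (ι (nn * mm * nn))⁻¹) * t⁻¹) := fun c β => by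
    have := cv nn (cv mm (k1 (star β) (nact (c, 0, 0))))
    rwa [mθ, D.n, ← D.n (c, 0, 0), icj2, icj2, nact, star_star] at this
  have k3 : ∀ c d, Commute (ϑ (d, 0, 0)) (t * (ι (nn * mm * nn) * ϑ (c, 0, 0) * (ι (nn * mm * nn))⁻¹) * t⁻¹) := fun c d => by
    obtain ⟨β, rfl⟩ := ex_tr d
    have := cv mm (k2 c 1)
    rw [icj2, braid, ← icj2, D.hx' mX] at this
    exact D.sc0 h β ▸ ((this.mul_left (k2 c β)).mul_left this.inv_left).mul_left (k2 c β).inv_left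
  obtain ⟨x, hx, w, hw, x', hx', k, e⟩ := bru g
  have := cv x⁻¹ (a := ϑ (c, 0, 0)) (b := ι w * ϑ (nm (ta k) * d, 0, 0) * (ι w)⁻¹) (by
    rcases hw with rfl | rfl | rfl
    exacts [by simpa using k0 .., D.n _ ▸ k0 .., k3 ..])
  rwa [D.hx' (inv_mem hx), ← D.hx' hx' (_ * _), show (nm (ta k) * d, 0, 0) = tact k (d, 0, 0) by simp [tact], ← D.h, icj2 x', icj2 w,
    ← e, icj2, inv_mul_cancel_left] at this
theorem sc (h4 : Nat.card F = 4) : ∃ e : Γ F →* G, Function.Injective e ∧ e.range ≤ C(cj t e.range) ∧ e.range ⊔ cj t e.range = G0 ι ϑ := by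
  let L1 := closure {x | ∃ g c, x = ι g * ϑ (c, 0, 0) * (ι g)⁻¹}
  have gen : ∀ g c, ι g * ϑ (c, 0, 0) * (ι g)⁻¹ ∈ L1 := fun g c => subset_closure ⟨g, c, rfl⟩
  have le : ∀ {M : Subgroup G}, (∀ g c, ι g * ϑ (c, 0, 0) * (ι g)⁻¹ ∈ M) → L1 ≤ M := fun k =>
    (closure_le _).2 (by rintro _ ⟨g, c, rfl⟩; exact k g c)
  have nL : ∀ x, ι x ∈ N(L1) := fun x => mem_norm_of_cj_le (cj_le_iff.2 (le fun g c => mem_cj_inv.2 (by
    rw [icj2]; exact gen _ _)))
  have m := D.ind nL (by simpa using gen 1 1)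
  have com : ∀ x ∈ L1, ∀ y ∈ L1, Commute x (t * y * t⁻¹) := fun x hx y hy =>
    mem_cent1.1 (le (fun g c => mem_cent1_symm.1 (le (M := C[ι g * ϑ (c, 0, 0) * (ι g)⁻¹].comap (MulAut.conj t).toMonoidHom)
      (fun g' d => mem_cent1.2 (by
        have := (D.sc1 H h (g⁻¹ * g') c d).map (MulAut.conj (ι g))
        rw [MulAut.conj_apply, MulAut.conj_apply, ← cj2 (ι g) t, ← H.cen, cj2, ← cj2 (ι g), ← map_mul, mul_inv_cancel_left] at this
        exact this.symm)) hy)) hx)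
  let π0 : L1 →* G := MonoidHom.mk' (fun x => x * (t * x * t⁻¹)) fun x y => by
    rw [coe_mul, ← conj_mul, (com y y.2 x x.2).mul_mul_mul_comm]
  have p0 : ∀ g c, π0 ⟨_, gen g c⟩ = ι (g * z c * g⁻¹) := fun g c => by
    show ι g * ϑ _ * (ι g)⁻¹ * (t * (ι g * ϑ _ * (ι g)⁻¹) * t⁻¹) = _
    rw [← cj2, H.cen, cj2, D.tc H, conj_mul, ← mul_assoc (ϑ _), D.sq, one_mul, ι_cj]
  have p1 : ∀ x, π0 x ∈ ι.range := fun x => by
    obtain ⟨y, hy, e⟩ := le (M := (ι.range.comap π0).map L1.subtype) (fun g c => ⟨⟨_, gen g c⟩, ⟨_, (p0 g c).symm⟩, rfl⟩) x.2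
    exact Subtype.ext e ▸ hy
  let π : L1 →* Γ F := (MonoidHom.ofInjective H.inj).symm.toMonoidHom.comp (π0.codRestrict _ p1)
  have p2 : ∀ x, ι (π x) = x * (t * x * t⁻¹) := fun x => MonoidHom.apply_ofInjective_symm H.inj _
  have su : Function.Surjective π := by
    rw [← MonoidHom.range_eq_top, eq_top_iff, ← (simple.eq_bot_or_eq_top_of_normal (normalClosure {z 1})
      inferInstance).resolve_left fun e => one_ne_zero (z_eq1 (mem_bot.1 (e.le (subset_normalClosure (Set.mem_singleton _)))))]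
    refine (closure_le _).2 fun x hx => ?_
    obtain ⟨_, rfl, k⟩ := Group.mem_conjugatesOfSet_iff.1 hx
    obtain ⟨g, rfl⟩ := isConj_iff.1 k
    exact ⟨⟨_, gen g 1⟩, H.inj ((p2 _).trans (p0 g 1))⟩
  have l : L1 ≤ G0 ι ϑ := le fun g c => mul_mem (mul_mem (LG _) (ϑG _)) (inv_mem (LG _))
  have kz : π.ker ≤ center L1 := fun x hx => mem_center_iff.2 fun y => Subtype.ext (by
    simpa [eq_inv_of_mul_eq_one_right ((p2 x).symm.trans (by rw [MonoidHom.mem_ker.1 hx, map_one]))] using (com y y.2 x x.2).inv_right.eq)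
  have inj := stem (schur h4) (σ := π) ⟨su, kz, fun x _ => by
    rw [← mem_map_iff_mem L1.subtype_injective, map_subtype_commutator]
    refine le (fun g c => conj_mem_of_norm (norms_comm (zpowers_le.2 (nL g)) (zpowers_le.2 (nL g)) (mem_zpowers _)) ?_) x.2
    obtain ⟨β, rfl⟩ := ex_tr c
    exact D.sc0 h β ▸ commutator_mem_commutator (conj_mem_of_norm (nL _) (m _)) (m _)⟩ (by
      rw [show Nat.card (Multiplicative (ZMod 2)) = 2 by simp]
      refine ((Nat.Prime.coprime_iff_not_dvd Nat.prime_two).2 fun d => ?_).symm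
      obtain ⟨k, hk, o⟩ := exists_orderOf_eq_prime Nat.prime_two d
      have k2 : (k : G) * k = 1 := by rw [← coe_mul, ← pow_two, ← o, pow_orderOf_eq_one, coe_one]
      have : (k : G) = 1 := D.odd H (mem_cent.2 fun g hg => (mem_cent1.1 (G0_le (M := C[(k : G)]) (fun x => by
        obtain ⟨x, rfl⟩ := su x
        rw [p2]
        exact mem_cent1.2 ((Commute.mul_left (congrArg Subtype.val (mem_center_iff.1 (kz hk) x)) (com k k.2 x x.2).symm).eq))
        (fun a => mem_cent1.2 (congrArg Subtype.val (mem_center_iff.1 (kz hk) ⟨_, m a⟩))) hg))) k2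
      rw [show k = 1 from Subtype.ext this] at o; simp at o)
  let ε := (MulEquiv.ofBijective π ⟨inj, su⟩).symm
  have r : (L1.subtype.comp ε.toMonoidHom).range = L1 := by
    rw [MonoidHom.range_comp, MonoidHom.range_eq_top.2 ε.surjective, ← MonoidHom.range_eq_map, range_subtype]
  refine ⟨L1.subtype.comp ε.toMonoidHom, L1.subtype_injective.comp ε.injective, ?_⟩
  rw [r]
  refine ⟨fun x hx => mem_cent.2 fun y hy => ?_, le_antisymm (sup_le l (cj_le_of_mem_norm (D.nor H (mem_cent1_self t)) l))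
    (G0_le (fun x => ?_) fun a => mem_sup_left (m a))⟩
  · obtain ⟨y, hy', rfl⟩ := mem_cj'.1 hy; exact (com x hx y hy').symm
  · obtain ⟨x, rfl⟩ := su x; exact p2 x ▸ mul_mem_sup x.2 (conj_mem_cj.2 x.2)
end Dbl
end H18.U2
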