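/-
Standard subgroups of type `U₄(2ⁿ)`: the field case.
-/
import Cfsg.Agent.H18.GU6
import Cfsg.Agent.H11.SLPres
import Cfsg.Agent.S1259

set_option autoImplicit false
set_option linter.unusedSectionVars false

namespace H18.U2
open Cfsg Subgroup H19 H28.CY Matrix

variable {G : Type*} [Group G] [Finite G] {F : Type} [Field F] [StarRing F] [Big F] {ι : Γ F →* G} {g t : G}
  {ϑ : Hm F → G} {τ : F} {M : Subgroup G}
local notation "θ" => tb ι ϑ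
local notation "ω" => wd ι ϑ
local notation "𝐧" => MulAut.conj (ι nn)
local notation "𝐦" => MulAut.conj (ι mm)

variable (ι ϑ τ) in
/-- the double of `A` in matrix coordinates -/
def mw (p q r u : F) : G := ω (tr (star τ * q), star τ * p + τ * star u, tr (star τ * r)) (tr q, p + star u, tr r)
local notation "μ" => mw ι ϑ τ
variable (ι) in
/-- the conjugates of two elements under the Weyl group -/
def xf (X Y : G) : Fin 4 → Fin 4 → G := ![![1, 𝐦 X, X, Y], ![𝐧 (𝐦 X), 1, 𝐧 Y, 𝐧 X], ![𝐦 (𝐧 (𝐦 X)), 𝐦 (𝐧 Y), 1, 𝐦 (𝐧 X)],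
  ![𝐧 (𝐦 (𝐧 Y)), 𝐧 (𝐦 (𝐧 (𝐦 X))), 𝐧 (𝐦 (𝐧 X)), 1]]
variable (ι ϑ τ) in
/-- the root elements -/
def xr (a b : Fin 4) (s : F) : G := xf ι (μ s 0 0 0) (μ 0 s 0 0) a b
local notation "ξ" => xr ι ϑ τ
/-- the action of the Weyl group -/
def ac : List Bool → Fin 4 → Fin 4
  | [], a => a
  | true :: l, a => ![1, 0, 3, 2] (ac l a)
  | false :: l, a => ![0, 2, 1, 3] (ac l a)
/-- the elements of the Weyl group -/
def ws : List (List Bool) := [[], [true], [false], [true, false], [false, true], [true, false, true], [false, true, false],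
  [true, false, true, false]]

theorem cnn (g : G) : 𝐧 (𝐧 g) = g := by rw [← MulAut.mul_apply, ← map_mul, ← map_mul, nn2]; simp
theorem cmm (g : G) : 𝐦 (𝐦 g) = g := imm g
theorem cbr (g : G) : 𝐦 (𝐧 (𝐦 (𝐧 g))) = 𝐧 (𝐦 (𝐧 (𝐦 g))) := by
  simp only [← MulAut.mul_apply, ← map_mul, ← mul_assoc, ← braid]
theorem gen2 {M : Subgroup (Γ F)} (h1 : ∀ y, up 0 y ∈ M) (h2 : ∀ y, mm * (nn * (mm * up 0 y * mm⁻¹) * nn⁻¹) * mm⁻¹ ∈ M) (g : Γ F) :
    g ∈ M := by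
  have m : mm ∈ M := by
    have := h2 (1, 0, 0)
    rwa [mm_z, mul_inv_cancel_right, nn_up, mm_inv, nact, star_zero, mm_x (kne one_ne_zero), mul_mem_cancel_right (h1 _),
      show tk 1 ((1 : K F) : F) _ _ _ = 1 from text rfl rfl, map_one, mul_one, mul_mem_cancel_left (h1 _)] at this
  have u : ∀ β, up β 0 ∈ M := fun β => mm_b β ▸ mul_mem (mul_mem m (h1 _)) (inv_mem m)
  refine gen (U_le u (fun _ => h1 _) fun _ => h1 _) m ?_ g
  have := h2 (0, 1, 0)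
  rwa [mul_mem_cancel_right (inv_mem m), mul_mem_cancel_left m, mm_b, nn_inv, nn_u one_ne_zero, mul_mem_cancel_right (u _),
    show tk _ _ _ _ _ = 1 from text rfl inv_one, map_one, mul_one, mul_mem_cancel_left (u _)] at this

theorem x01 (s : F) : ξ 0 1 s = 𝐦 (μ s 0 0 0) := rfl
theorem x02 (s : F) : ξ 0 2 s = μ s 0 0 0 := rfl
theorem cc {x y g : G} (h : x * (y * g * y⁻¹) * x⁻¹ = y * (x * g * x⁻¹) * y⁻¹) : g ∈ C[(y * x)⁻¹ * (x * y)] :=
  mem_cent1.2 (mul_inv_eq_iff_eq_mul.1 (by rw [cj2, cj2 x, h]; simp [mul_assoc])).symm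
theorem tvJ {a b : Fin 4} (p : a ≠ b) (s : F) : transvection b.rev a.rev (star s) * J * (transvection a b s)ᴴ = J := by
  have k : ∀ i j, (J : Mt F) i j = if i = j.rev then 1 else 0 := fun i j => by fin_cases i <;> fin_cases j <;> rfl
  have e1 : single b.rev a.rev (star s) * J = single b.rev a (star s) := by
    ext i j; simp [mul_apply, single_apply, k, ite_and, Fin.rev_eq_iff, eq_comm]
  have e2 : J * single b a (star s) = single b.rev a (star s) := by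
    ext i j; simp [mul_apply, single_apply, k, ite_and, Fin.rev_eq_iff, eq_comm]; split_ifs <;> rfl
  rw [transvection, transvection, add_mul, e1, conjTranspose_add, conjTranspose_single, conjTranspose_one, mul_add, Matrix.mul_one,
    add_mul, single_mul_single_of_ne _ _ _ _ p, Matrix.one_mul, e2, add_zero, add_assoc, ← single_add, aa, single_zero, add_zero]
/-- computation in coordinates -/
macro "hy" "[" h:term "]" : tactic => `(tactic| (congr 1 <;> refine hext ?_ ?_ ?_ <;> simp [act, nact, sm, aa, $h:term] <;> grind))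
namespace Dbl
variable (D : Dbl ι t ϑ) (e : star τ = τ + 1)
include D
theorem μm (p q r u p' q' r' u' : F) : μ p q r u * μ p' q' r' u' = μ (p + p') (q + q') (r + r') (u + u') := by
  rw [mw, mw, mw, D.ωm]; hy [aa]
theorem μn (p q r u : F) : 𝐧 (μ p q r u) = μ u r q p := (D.nω ..).trans (by rw [mw]; hy [aa])
theorem μz (q : F) : 𝐦 (μ 0 q 0 0) = μ 0 q 0 0 := by simpa [mw] using D.Xω mX _ _
include e
theorem μt (H : Hyp ι t) (p q r u : F) : t * μ p q r u * t⁻¹ = μ (star u) (star q) (star r) (star p) := by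
  rw [mw, D.tω H, mw]; hy [e]
theorem μs (a b : Hm F) : ω a b = μ (a.2.1 + τ * b.2.1) (a.1 + τ * b.1) (a.2.2 + τ * b.2.2) (star a.2.1 + τ * star b.2.1) := by
  rw [mw]; hy [e]
theorem μA (h : Dis ι ϑ (nm τ)) (s s' p q r u : F) : 𝐦 (μ s 0 0 s') * μ p q r u * (𝐦 (μ s 0 0 s'))⁻¹ =
    μ (p + s * r) (q + s * u + p * s' + s * r * s') r (u + r * s') := by
  rw [MulAut.conj_apply, mw, mul_zero, tr_0, D.mω, cj2, mw, h, D.uω, mw]; hy [e]
theorem G0_le2 (h1 : ∀ p q r u, μ p q r u ∈ M) (h2 : ∀ p q r u, 𝐦 (𝐧 (𝐦 (μ p q r u))) ∈ M) : G0 ι ϑ ≤ M :=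
  G0_le (gen2 (M := M.comap ι) (fun a => mem_comap.2 (by rw [← D.ω0', D.μs e]; exact h1 ..)) fun a => mem_comap.2 (by
    rw [← ι_cj, ← ι_cj, ← ι_cj, ← D.ω0', D.μs e]; exact h2 ..)) fun a => by rw [D.e1, D.μs e]; exact h1 ..
omit e
theorem xw (l : List Bool) : ∃ φ : MulAut G, ∀ a b s, φ (ξ a b s) = ξ (ac l a) (ac l b) s := by
  induction l with
  | nil => exact ⟨1, fun _ _ _ => rfl⟩
  | cons i l ih =>
    obtain ⟨φ, h⟩ := ih
    refine ⟨(if i then 𝐧 else 𝐦) * φ, fun a b s => ?_⟩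
    rw [MulAut.mul_apply, h]
    cases i <;> simp only [ac] <;> generalize ac l a = a <;> generalize ac l b = b <;> fin_cases a <;> fin_cases b <;>
      simp [xr, xf, cnn, cmm, cbr, D.μz, -MulAut.conj_apply]
theorem x12 (s : F) : ξ 1 2 s = μ 0 0 s 0 := D.μn ..
theorem x13 (s : F) : ξ 1 3 s = μ 0 0 0 s := D.μn ..
theorem x23 (s : F) : ξ 2 3 s = 𝐦 (μ 0 0 0 s) := congrArg 𝐦 (D.μn s 0 0 0)
theorem x0 (a b : Fin 4) (s u : F) : ξ a b (s + u) = ξ a b s * ξ a b u := by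
  have h1 := D.μm (τ := τ) s 0 0 0 u 0 0 0
  have h2 := D.μm (τ := τ) 0 s 0 0 0 u 0 0
  simp only [add_zero] at h1 h2
  fin_cases a <;> fin_cases b <;> simp [xr, xf, ← h1, ← h2, -MulAut.conj_apply]
theorem x2 (a b : Fin 4) (s : F) : ξ a b s * ξ a b s = 1 := by
  rw [← D.x0, aa]; simpa using D.x0 (τ := τ) a b 0 0
omit D in
theorem xG (a b : Fin 4) (s : F) : ξ a b s ∈ G0 ι ϑ := by
  have c : ∀ x, ∀ g ∈ G0 ι ϑ, MulAut.conj (ι x) g ∈ G0 ι ϑ := fun x g h => mul_mem (mul_mem (LG _) h) (inv_mem (LG _))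
  fin_cases a <;> fin_cases b <;> simp only [xr, xf] <;> repeat first | exact ωG _ _ | exact one_mem _ | apply c
include e
theorem xt (H : Hyp ι t) (a b : Fin 4) (s : F) : t * ξ a b s * t⁻¹ = ξ b.rev a.rev (star s) := by
  have c : ∀ x g, t * MulAut.conj (ι x) g * t⁻¹ = MulAut.conj (ι x) (t * g * t⁻¹) := fun x g => by
    rw [MulAut.conj_apply, ← cj2, H.cen, cj2, MulAut.conj_apply]
  have := D.μn (τ := τ) (star s) 0 0 0
  fin_cases a <;> fin_cases b <;> simp [xr, xf, c, D.μt e H, ← this, cnn, cbr, D.μz, Fin.rev, -MulAut.conj_apply]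
variable (H : Hyp ι t) (h : Dis ι ϑ (nm τ))
include h
theorem a01 (s p q r u : F) : ξ 0 1 s * μ p q r u * (ξ 0 1 s)⁻¹ = μ (p + s * r) (q + s * u) r u := by
  simpa only [mul_zero, add_zero, x01] using D.μA e h s 0 p q r u
theorem a23 (s p q r u : F) : ξ 2 3 s * μ p q r u * (ξ 2 3 s)⁻¹ = μ p (q + p * s) r (u + r * s) := by
  simpa only [zero_mul, add_zero, D.x23] using D.μA e h 0 s p q r u
theorem a10 (s p q r u : F) : ξ 1 0 s * μ p q r u * (ξ 1 0 s)⁻¹ = μ p q (r + s * p) (u + s * q) := by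
  rw [← D.μn, ← D.μn (u + _), ← D.a01 e h, map_mul, map_mul, map_inv]; rfl
theorem a32 (s p q r u : F) : ξ 3 2 s * μ p q r u * (ξ 3 2 s)⁻¹ = μ (p + q * s) q (r + u * s) u := by
  rw [← D.μn, ← D.μn u (r + _), ← D.a23 e h, map_mul, map_mul, map_inv]; rfl
include H
theorem sp (s u : F) : Commute (ξ 0 1 s) (ξ 3 2 u) := by
  have k := D.G0_le2 e (M := C[(ξ 3 2 u * ξ 0 1 s)⁻¹ * (ξ 0 1 s * ξ 3 2 u)])
    (fun p q r v => cc (by rw [D.a32 e h, D.a01 e h, D.a01 e h, D.a32 e h]; congr 1 <;> ring)) fun p q r v => cc (by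
      rw [show ξ 0 1 s = 𝐦 (𝐧 (𝐦 (ξ 2 3 s))) by simp [xr, xf, cmm, cnn, -MulAut.conj_apply],
        show ξ 3 2 u = 𝐦 (𝐧 (𝐦 (ξ 1 0 u))) by simp [xr, xf, cmm, cnn, cbr, -MulAut.conj_apply]]
      simp only [← map_mul (MulAut.conj _), ← map_inv (MulAut.conj _)]
      rw [D.a10 e h, D.a23 e h, D.a23 e h, D.a10 e h]; congr 4 <;> ring)
  refine (inv_mul_eq_one.1 (D.odd H (le_cent1_iff.1 k) ?_)).symm
  have x := D.x2 (τ := τ) 0 1 s
  have y := D.x2 (τ := τ) 3 2 u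
  have := mem_cent1.1 (k (xG (τ := τ) 0 1 s))
  generalize ξ 0 1 s = a, ξ 3 2 u = b at *
  rw [_root_.mul_inv_rev, inv_eq_of_mul_eq_one_right x, inv_eq_of_mul_eq_one_right y] at this ⊢
  calc _ = a * b * (a * b) * a * (b * a * b) := by group
    _ = a * a * b * (a * (b * b) * a) * b := by rw [← this]; group
    _ = 1 := by simp [x, y]
theorem x1 (a b c d : Fin 4) (h1 : a ≠ b) (h2 : c ≠ d) (h3 : a ≠ d) (h4 : b ≠ c) (s u : F) : Commute (ξ a b s) (ξ c d u) := by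
  obtain ⟨l, -, p⟩ := (by decide +kernel : ∀ a b c d : Fin 4, a ≠ b → c ≠ d → a ≠ d → b ≠ c → ∃ l ∈ ws,
    ac l a < 2 ∧ 2 ≤ ac l b ∧ ac l c < 2 ∧ 2 ≤ ac l d ∨ ac l a = 0 ∧ ac l b = 1 ∧ ac l c = 0 ∧ ac l d = 2 ∨
    ac l a = 2 ∧ ac l b = 3 ∧ ac l c = 1 ∧ ac l d = 3 ∨ ac l a = 0 ∧ ac l b = 1 ∧ ac l c = 3 ∧ ac l d = 2) a b c d h1 h2 h3 h4
  obtain ⟨φ, k⟩ := D.xw (τ := τ) l
  refine .of_map φ.injective ?_
  rw [k, k]
  have w : ∀ a b s, a < 2 → 2 ≤ b → ∃ p q r u, ξ a b s = μ p q r u := fun a b s h1 h2 => by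
    fin_cases a <;> fin_cases b <;> first | exact absurd h1 (by decide) | exact absurd h2 (by decide) | exact ⟨_, _, _, _, rfl⟩ | exact ⟨_, _, _, _, D.μn ..⟩
  rcases p with ⟨p1, p2, p3, p4⟩ | ⟨p1, p2, p3, p4⟩ | ⟨p1, p2, p3, p4⟩ | ⟨p1, p2, p3, p4⟩
  · obtain ⟨_, _, _, _, e1⟩ := w _ _ s p1 p2
    obtain ⟨_, _, _, _, e2⟩ := w _ _ u p3 p4
    rw [e1, e2]; exact mul_inv_eq_iff_eq_mul.1 (D.ωc ..)
  all_goals rw [p1, p2, p3, p4]
  · exact mul_inv_eq_iff_eq_mul.1 (by simpa only [mul_zero, add_zero, x02] using D.a01 e h s u 0 0 0)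
  · exact mul_inv_eq_iff_eq_mul.1 (by simpa only [zero_mul, add_zero, D.x13] using D.a23 e h s 0 0 0 u)
  · exact D.sp e H h s u
omit H in
theorem x3 (a b d : Fin 4) (h1 : a ≠ b) (h2 : b ≠ d) (h3 : a ≠ d) (s u : F) : ξ a b s * ξ b d u = ξ a d (s * u) * ξ b d u * ξ a b s := by
  obtain ⟨l, -, p⟩ := (by decide +kernel : ∀ a b d : Fin 4, a ≠ b → b ≠ d → a ≠ d → ∃ l ∈ ws,
    ac l a = 0 ∧ ac l b = 1 ∧ ac l d = 2 ∨ ac l a = 0 ∧ ac l b = 1 ∧ ac l d = 3 ∨ ac l a = 1 ∧ ac l b = 2 ∧ ac l d = 3) a b d h1 h2 h3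
  obtain ⟨φ, k⟩ := D.xw (τ := τ) l
  refine φ.injective ?_
  simp only [map_mul, k]
  rcases p with ⟨p1, p2, p3⟩ | ⟨p1, p2, p3⟩ | ⟨p1, p2, p3⟩ <;> rw [p1, p2, p3]
  · rw [← mul_inv_eq_iff_eq_mul, D.x12, D.a01 e h]; exact .trans (by simp) (D.μm ..).symm
  · rw [← mul_inv_eq_iff_eq_mul, D.x13, D.a01 e h]; exact .trans (by simp) (D.μm ..).symm
  · rw [mul_assoc, D.x12, mul_inv_eq_iff_eq_mul.1 (D.a23 e h ..), D.x13, ← mul_assoc, D.μm]; simp [aa]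
theorem fc : ∃ Ψ : SpecialLinearGroup (Fin 4) F →* G, Ψ.ker ≤ center _ ∧ Ψ.range = G0 ι ϑ ∧
    ∀ g g' : SpecialLinearGroup (Fin 4) F, g'.1 * J * g.1ᴴ = J → t * Ψ g * t⁻¹ = Ψ g' := by
  obtain ⟨Ψ, k⟩ := H11.exists_hom_sl (n := 3) (by omega) (fun a b _ => ξ a b) (fun a b _ => D.x0 a b)
    (fun a b h1 c d h2 => D.x1 e H h a b c d h1 h2) fun a b h1 d h2 h3 => D.x3 e h a b d h1 h2 h3
  have m : ∀ a b s, ξ a b s ∈ Ψ.range := fun a b s => by
    by_cases p : a = b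
    · subst p; fin_cases a <;> exact one_mem _
    · exact ⟨_, k a b p s⟩
  have w : ∀ p q r u, μ p q r u = ξ 0 2 p * ξ 0 3 q * ξ 1 2 r * ξ 1 3 u := fun p q r u => by
    rw [D.x12, D.x13]; exact .trans (by simp) (congrArg (· * _ * _) (D.μm ..) |>.trans (congrArg (· * _) (D.μm ..) |>.trans (D.μm ..))).symm
  have r : Ψ.range = G0 ι ϑ := le_antisymm (by
    rintro _ ⟨g, rfl⟩
    exact (H11.sl_subgroup_eq_top ((G0 ι ϑ).comap Ψ) fun a b p s => mem_comap.2 (k a b p s ▸ xG a b s)).ge (mem_top g))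
    (D.G0_le2 e (fun p q r u => w p q r u ▸ mul_mem (mul_mem (mul_mem (m ..) (m ..)) (m ..)) (m ..)) fun p q r u => by
      rw [w]; simp only [map_mul]
      refine mul_mem (mul_mem (mul_mem ?_ ?_) ?_) ?_
      exacts [m 2 0 _, by simpa [xr, xf, D.μz, -MulAut.conj_apply] using m 2 1 q,
        by simpa [xr, xf, cbr, D.μz, -MulAut.conj_apply] using m 3 0 r, by simpa [xr, xf, cbr, -MulAut.conj_apply] using m 3 1 u])
  refine ⟨Ψ, (Cfsg.Agent.S1259.result ⟨⟨H11.sl_commutator_eq_top (by simp)⟩, H11.psl_simple (by simp)⟩ _ Ψ.normal_ker.isSubnormal).resolve_left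
    fun p => ?_, r, fun g g' p => ?_⟩
  · obtain ⟨x, hx⟩ := r.ge (LG (z 1))
    exact one_ne_zero (z_eq1 (H.inj (by rw [← hx, MonoidHom.mem_ker.1 (p.ge (mem_top x)), map_one])))
  obtain ⟨g'', p', q⟩ : ∃ g' : SpecialLinearGroup (Fin 4) F, g'.1 * J * g.1ᴴ = J ∧ t * Ψ g * t⁻¹ = Ψ g' := by
    clear p
    induction g using H11.sl_transvection_induction with
    | h1 => exact ⟨1, by simp, by simp⟩
    | ht a b p s =>
      exact ⟨.transvection (Fin.rev_injective.ne p.symm) (star s), tvJ p s, by rw [k, k, D.xt e H]⟩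
    | hmul A B hA hB =>
      obtain ⟨A', a1, a2⟩ := hA
      obtain ⟨B', b1, b2⟩ := hB
      exact ⟨A' * B', show A'.1 * B'.1 * J * (A.1 * B.1)ᴴ = J by
        rw [conjTranspose_mul, ← Matrix.mul_assoc, Matrix.mul_assoc A'.1, Matrix.mul_assoc A'.1, b1, a1],
        by rw [map_mul, map_mul, ← a2, ← b2, conj_mul]⟩
  rw [q]; congr 1
  refine Subtype.ext (((isUnit_iff_isUnit_det (J * g.1ᴴ)).2 (by simp [det_J])).mul_right_cancel ?_)
  rw [← Matrix.mul_assoc, ← Matrix.mul_assoc, p, p']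
end Dbl
end H18.U2
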