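/-
Standard `U₄(2)` (S3138): the local data and the chunk statements (paper proofs in notes/G38.md).
-/
import Cfsg.Agent.H18.GU7
import Cfsg.Agent.H15.GC.M
import Cfsg.Prelude.Def_Local

set_option autoImplicit false
set_option linter.unusedSectionVars false

namespace H18.G38
open Cfsg Subgroup H19 H28.CY H18.U2 Matrix
open H15.GC (ω ν)
universe u v

/-- the field with four elements -/
abbrev 𝔽 : Type := H15.GC.F4
instance iStar : StarRing 𝔽 where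
  star a := a * a
  star_involutive := H15.GC.p4
  star_mul := by decide +kernel
  star_add := by decide +kernel
instance iBig : Big 𝔽 := ⟨1, le_rfl, H15.GC.F4.ncard, by decide +kernel⟩
/-- the group `SU₄(2)` -/
abbrev Γ4 : Type := Γ 𝔽
instance iDec : DecidableEq Γ4 := fun g k => @decidable_of_iff _ (∀ i j, mat g i j = mat k i j)
  ⟨fun h => mext (Matrix.ext h), fun h => h ▸ fun _ _ => rfl⟩
  (@Nat.decidableForallFin _ _ fun _ => @Nat.decidableForallFin _ _ fun _ => H15.GC.F4.iDec _ _)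

/-- the central involution `z = z₅` of `T` -/
abbrev zz : Γ4 := z 1
/-- `e = z₁ z₅` -/
def e0 : Γ4 := up 0 (1, 0, 1)
/-- `v = z₃ z₄ = k₁ k₂` -/
def v0 : Γ4 := up 0 (0, 1, 0)
/-- the long involutions `z₁, …, z₄` of `V`: `zb 0, zb 1, zb ω, zb ν` -/
def zb (β : 𝔽) : Γ4 := up 0 (nm β, β, 1)
/-- generator of `Q₁` -/
def i1 : Γ4 := up ω (0, ν, 0)
/-- generator of `Q₁` -/
def j1 : Γ4 := up ν (0, 1, 0)
/-- `i₁ j₁` -/
def k1 : Γ4 := up 1 (0, ω, 0)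
/-- generator of `Q₂` -/
def i2 : Γ4 := up ω (1, 1, 0)
/-- generator of `Q₂` -/
def j2 : Γ4 := up ν (1, ω, 0)
/-- `i₂ j₂` -/
def k2 : Γ4 := up 1 (1, ν, 0)
/-- an element of order three normalizing `T` -/
def θ0 : Γ4 := hh (tk ω ν (by decide) (by decide) (by decide))
/-- an element of order three of `C(z)` -/
def η0 : Γ4 := mm * zb 0
/-- the element `(1 2 5)` of order three of `N(V)` -/
def σ0 : Γ4 := nn * up 1 0

variable {G : Type u} [Group G] [Finite G]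

/-- the image of the Sylow 2-subgroup `T` -/
abbrev Tm (ι : Γ4 →* G) : Subgroup G := (U 𝔽).map ι
/-- the image of the extraspecial group `Q` -/
abbrev Qm (ι : Γ4 →* G) : Subgroup G := (Qs 𝔽).map ι
/-- the image of the elementary abelian group `V` of order 16 -/
abbrev Vm (ι : Γ4 →* G) : Subgroup G := (As 𝔽).map ι
/-- the odd part of `C(L) ∩ C(t)` -/
abbrev Oo (ι : Γ4 →* G) (t : G) : Subgroup G := Oc {2}ᶜ (C(ι.range) ⊓ C[t])

/-- the reduced situation: `G = X⟨t⟩` with `X` simple -/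
structure St (ι : Γ4 →* G) (t : G) (X : Subgroup G) : Prop extends Hyp ι t where
  nX : X.Normal
  sX : IsSimpleGroup X
  LX : ι.range ≤ X
  gen : ∀ g, g ∈ X ∨ g * t ∈ X
  ne : ι.range ≠ X
/-- moreover `⟨t⟩` is a Sylow 2-subgroup of `C(L) ∩ C(t)` -/
structure Sr (ι : Γ4 →* G) (t : G) (X : Subgroup G) : Prop extends St ι t X where
  r2 : ∀ k ∈ C(ι.range), k * t = t * k → k * k ≠ t
/-- `s` centralizes `t` and acts on `L` as the field automorphism -/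
structure Ou (ι : Γ4 →* G) (t s : G) : Prop where
  ct : s * t = t * s
  ac : ∀ x, s * ι x * s⁻¹ = ι (φ st x)
/-- an involution of this kind (type II) -/
structure Os (ι : Γ4 →* G) (t s : G) : Prop extends Ou ι t s where
  ss : s * s = 1
/-- `C(t)` induces only inner automorphisms (type I) -/
def In (ι : Γ4 →* G) (t : G) : Prop := ∀ g ∈ C[t], Ac ι g 1
/-- sectional 2-rank at most four -/
abbrev Rk (X : Subgroup G) : Prop := SectionalPRankLE 2 4 X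
/-- `d` acts on `Q = Q₁ * Q₂` trivially on `Q₂` and as an outer automorphism on `Q₁` -/
structure Ta (ι : Γ4 →* G) (d : G) : Prop where
  a1 : d * ι i1 * d⁻¹ = (ι j1)⁻¹
  b1 : d * ι j1 * d⁻¹ = (ι i1)⁻¹
  a2 : d * ι i2 * d⁻¹ = ι i2
  b2 : d * ι j2 * d⁻¹ = ι j2
/-- case A in type I -/
structure D1 (ι : Γ4 →* G) (t d : G) : Prop where
  inn : In ι t
  dt : d * t * d⁻¹ = t * ι zz
  dq : ∀ q ∈ Qs 𝔽, d * ι q * d⁻¹ = ι (φ st q)
  de : d * ι e0 * d⁻¹ = ι e0 ∨ d * ι e0 * d⁻¹ = ι e0 * ι zz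
  dd : d * d = 1
/-- case A in type II -/
structure D2 (ι : Γ4 →* G) (t s d : G) : Prop where
  os : Os ι t s
  dt : d * t * d⁻¹ = t * ι zz
  ta : Ta ι d
  de : d * ι e0 * d⁻¹ = s ∨ d * ι e0 * d⁻¹ = s * ι zz
  dd : d * d = 1
/-- case B -/
structure Bd (ι : Γ4 →* G) (t w : G) : Prop where
  ww : w * w = ι zz
  tw : t * w * t⁻¹ = w⁻¹
  wq : w ∈ C(Qm ι)
  ty : In ι t ∨ ∃ s, Os ι t s ∧ s * w = w * s
/-- case B1 -/
structure B1 (ι : Γ4 →* G) (t w : G) : Prop extends Bd ι t w where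
  cz : ∀ l : Γ4, l * zz = zz * l → ι l * w = w * ι l
  co : w ∈ C(Oo ι t)
/-- case B2 in type II -/
structure Bw (ι : Γ4 →* G) (t s w : G) : Prop where
  os : Os ι t s
  ww : w * w = ι zz
  tw : t * w * t⁻¹ = w⁻¹
  wq : w ∈ C(Qm ι)
  sw : s * w = w * s
  we : w * ι e0 * w⁻¹ = ι e0 * ι zz
/-- the next step of the tower in case A, type II -/
structure Ax (ι : Γ4 →* G) (t s d x : G) : Prop where
  nx : x ∈ N(Tm ι ⊔ zpowers t ⊔ zpowers s ⊔ zpowers d)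
  xx : x * x ∈ Tm ι ⊔ zpowers t ⊔ zpowers s ⊔ zpowers d
  xt : x * t * x⁻¹ = t * ι v0
  xv : x * ι v0 * x⁻¹ = ι v0
  xe : x * ι e0 * x⁻¹ = ι e0
/-- the next step of the tower in case B2 -/
structure Bx (ι : Γ4 →* G) (t s w x : G) : Prop where
  xt : x * t * x⁻¹ = t * w
  xw : x * w * x⁻¹ = w⁻¹
  ta : Ta ι x
  xr : x * (t * ι (zb 0)) * x⁻¹ = s
  xs : x * s * x⁻¹ = t * ι (zb 0)
  xx : x * x = 1 ∨ x * x = ι zz
/-- the conjugates of `w` with squares `z₁, …, z₄` -/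
def wb (ι : Γ4 →* G) (w : G) (β : 𝔽) : G := ι (up β 0 * nn) * w * (ι (up β 0 * nn))⁻¹
/-- the abelian case of B1 -/
structure Ca (ι : Γ4 →* G) (t s w x : G) : Prop extends B1 ι t w where
  os : Os ι t s
  sw : s * w = w * s
  c1 : w * wb ι w 0 = wb ι w 0 * w
  xt : x * t * x⁻¹ = t * w
  xw : x * w * x⁻¹ = w ∨ x * w * x⁻¹ = w⁻¹
  ta : Ta ι x
/-- the Sylow 2-subgroup of `X` in this case -/
abbrev Pc (ι : Γ4 →* G) (s w : G) : Subgroup G := closure (Set.range (wb ι w)) ⊔ Tm ι ⊔ zpowers s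
/-- the fourth alternative -/
def Fo (ι : Γ4 →* G) (X : Subgroup G) : Prop := ι zz ∈ ⁅X ⊓ C[ι zz], X ⊓ C[ι zz]⁆ ∧
  ∃ (E : Type) (_ : Field E) (_ : Fintype E), Fintype.card E = 9 ∧ Nonempty ((⁅X ⊓ C[ι zz], X ⊓ C[ι zz]⁆ : Subgroup G) ≃* SU 4 E 3)

/-! ### the chunks -/
/-- a statement about all configurations -/
abbrev AA (p : ∀ {G : Type u} [Group G] [Finite G], (Γ4 →* G) → G → Subgroup G → Prop) : Prop :=
  ∀ (G : Type u) [Group G] [Finite G] (ι : Γ4 →* G) (t : G) (X : Subgroup G), Sr ι t X → p ι t X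

def R2 : Prop := ∀ (G : Type u) [Group G] [Finite G] (ι : Γ4 →* G) (t : G) (X : Subgroup G), St ι t X → Sr ι t X
def AL : Prop := AA.{u} fun ι t X => ¬ IsConj t (t * ι zz) → Rk X
def BE : Prop := AA.{u} fun ι t _ => IsConj t (t * ι zz) → (∃ d, D1 ι t d) ∨ (∃ s d, D2 ι t s d) ∨
  ∃ w, Bd ι t w ∧ (w * ι e0 * w⁻¹ = ι e0 ∨ w * ι e0 * w⁻¹ = ι e0 * ι zz)
def A1 : Prop := AA.{u} fun ι t X => ∀ d, D1 ι t d → Rk X
def A2 : Prop := AA.{u} fun ι t X => ∀ s d, D2 ι t s d → Rk X ∨ ∃ x, Ax ι t s d x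
def A3 : Prop := AA.{u} fun ι t X => ∀ s d x, D2 ι t s d → Ax ι t s d x → Rk X
def BA : Prop := AA.{u} fun ι t _ => ∀ w, Bd ι t w → w * ι e0 * w⁻¹ = ι e0 * ι zz → ¬ In ι t
def BT : Prop := AA.{u} fun ι t _ => ∀ s w, Bw ι t s w → ¬ IsConj t (t * ι v0)
def QL : Prop := AA.{u} fun ι t _ => ∀ s, Os ι t s → IsConj t (t * ι zz) → ¬ IsConj t (t * ι v0) → ∀ u R A, IsConj t u → PG 2 R →
  #R = 256 → R ≤ C[u] → R ≤ C[ι zz] → A ≤ R → #A = 64 → (∀ a ∈ A, a * a ∈ zpowers (ι zz)) →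
  (∀ a ∈ A, ∀ b ∈ A, a * b * a⁻¹ * b⁻¹ ∈ zpowers (ι zz)) → ∀ a ∈ A, IsConj t a → a = u ∨ a = u * ι zz
def BV : Prop := QL.{u} → AA.{u} fun ι t _ => ∀ s w, Bw ι t s w → ¬ IsConj t (t * ι v0) → ¬ IsConj t (t * w * ι v0)
def BC : Prop := AA.{u} fun ι t _ => ∀ s w, Bw ι t s w → IsConj s (t * w)
def BX : Prop := AA.{u} fun ι t _ => ∀ s w, Bw ι t s w → ¬ IsConj t (t * ι v0) → ¬ IsConj t (t * w * ι v0) → IsConj s (t * w) →
  Syl 2 (Tm ι ⊔ zpowers t ⊔ zpowers s ⊔ zpowers w) ⊤ ∨ ∃ x, Bx ι t s w x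
def BS : Prop := AA.{u} fun ι t _ => ∀ s w, Bw ι t s w → ¬ IsConj t (t * ι v0) → ¬ IsConj t (t * w * ι v0) →
  ¬ Syl 2 (Tm ι ⊔ zpowers t ⊔ zpowers s ⊔ zpowers w) ⊤
def BY : Prop := QL.{u} → AA.{u} fun ι t X => ∀ s w x, Bw ι t s w → ¬ IsConj t (t * ι v0) → Bx ι t s w x →
  Syl 2 (Tm ι ⊔ zpowers t ⊔ zpowers s ⊔ zpowers w ⊔ zpowers x) ⊤ ∧ t ∉ X
def BP : Prop := AA.{u} fun ι t X => ∀ s w x, Bw ι t s w → ¬ IsConj t (t * ι v0) → Bx ι t s w x →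
  Syl 2 (Tm ι ⊔ zpowers t ⊔ zpowers s ⊔ zpowers w ⊔ zpowers x) ⊤ → t ∉ X → x * t ∉ X
def BQ : Prop := AA.{u} fun ι t X => ∀ s w x, Bw ι t s w → ¬ IsConj t (t * ι v0) → Bx ι t s w x →
  Syl 2 (Tm ι ⊔ zpowers t ⊔ zpowers s ⊔ zpowers w ⊔ zpowers x) ⊤ → t ∉ X → x ∉ X
def BO : Prop := AA.{u} fun ι t _ => ∀ w, Bd ι t w → w * ι e0 * w⁻¹ = ι e0 → B1 ι t w ∧
  (w * wb ι w 0 = wb ι w 0 * w ∨ w * wb ι w 0 = ι e0 * (wb ι w 0 * w))
def DL : Prop := AA.{u} fun ι t _ => ∀ w, B1 ι t w → w * wb ι w 0 = ι e0 * (wb ι w 0 * w) → ∃ ϑ, Dbl ι t ϑ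
def CX : Prop := AA.{u} fun ι t _ => ∀ w, B1 ι t w → w * wb ι w 0 = wb ι w 0 * w → ∃ s x, Ca ι t s w x
def CS : Prop := AA.{u} fun ι t _ => ∀ s w x, Ca ι t s w x → Syl 2 (Pc ι s w ⊔ zpowers t) ⊤
def CT : Prop := AA.{u} fun ι t X => ∀ s w x, Ca ι t s w x → Syl 2 (Pc ι s w ⊔ zpowers t) ⊤ → t ∉ X ∧ Syl 2 (Pc ι s w) X
def CW : Prop := AA.{u} fun ι t _ => ∀ s w x, Ca ι t s w x → Pc ι s w ≤ C[ι zz] ∧
  ∃ P : Sylow 2 (ProjectiveSpecialLinearGroup (Fin 5) (ZMod 5)), Nonempty (Pc ι s w ≃* P)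
def ID : Prop := AA.{u} fun ι t X => ∀ P, t ∉ X → Syl 2 P X → P ≤ C[ι zz] →
  (∃ R : Sylow 2 (ProjectiveSpecialLinearGroup (Fin 5) (ZMod 5)), Nonempty (P ≃* R)) → Fo ι X
/-- the field endgame -/
def EF : Prop := ∀ {G : Type u} [Group G] [Finite G] (X : Subgroup G) (_ : X.Normal) (_ : IsSimpleGroup X)
  (Ψ : SpecialLinearGroup (Fin 4) 𝔽 →* G) (t : G), t * t = 1 → Ψ.ker ≤ center _ → Ψ.range ≤ X →
  (∀ g g' : SpecialLinearGroup (Fin 4) 𝔽, g'.1 * U2.J * g.1ᴴ = U2.J → t * Ψ g * t⁻¹ = Ψ g') →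
  C[t] ≤ N(Ψ.range) → PiG {2}ᶜ C(Ψ.range) → Nonempty (X ≃* ProjectiveSpecialLinearGroup (Fin 4) 𝔽)
/-- no simple group has such a Sylow 2-subgroup -/
def PL : Prop := ∀ {G : Type u} [Group G] [Finite G] [IsSimpleGroup G] (a b : Γ4 →* G), Function.Injective a →
  Function.Injective b → a.range ≤ C(b.range) → ¬ Syl 2 (Tm a ⊔ Tm b) ⊤
/-- the product endgame -/
def ES : Prop := ∀ {G : Type u} [Group G] [Finite G] (X : Subgroup G) (_ : X.Normal) (_ : IsSimpleGroup X)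
  (e : Γ4 →* G) (t : G), t * t = 1 → Function.Injective e → e.range ≤ X → e.range ≤ C(cj t e.range) →
  C[t] ≤ N(e.range ⊔ cj t e.range) → PiG {2}ᶜ C(e.range ⊔ cj t e.range) → False
def ES1 : Prop := PL.{u} → ES.{u}
def DB : Prop := EF.{u} → ES.{u} → AA.{u} fun ι t X => ∀ ϑ, Dbl ι t ϑ → Nonempty (X ≃* ProjectiveSpecialLinearGroup (Fin 4) 𝔽)
/-- the main theorem in the reduced situation -/
def MT : Prop := ∀ (G : Type u) [Group G] [Finite G] (ι : Γ4 →* G) (t : G) (X : Subgroup G), St ι t X → Rk X ∨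
  (∃ d, d * t * d⁻¹ = t * ι zz ∧ d * ι zz = ι zz * d) ∧
    (Nonempty (X ≃* ProjectiveSpecialLinearGroup (Fin 4) 𝔽) ∨ (∃ s, Ou ι t s) ∧ Fo ι X)
/-- the reduction -/
def RED : Prop := MT.{u} → ∀ {G : Type u} [Group G] [Finite G] (L : Subgroup G) (_ : IsStandardSubgroup L)
    {F : Type v} [Field F] [Fintype F] (_ : Fintype.card F = 4) (_ : Nonempty (L ≃* PSU 4 F 2))
    (_ : ∀ R : Sylow 2 (centralizer (L : Set G)), IsCyclic (R : Subgroup (centralizer (L : Set G)))),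
    (IsSimpleGroup (normalClosure (L : Set G) ⧸ oddCore (normalClosure (L : Set G))) ∧
        ¬ IsMulCommutative (normalClosure (L : Set G) ⧸ oddCore (normalClosure (L : Set G))) ∧
        SectionalPRankLE 2 4 (normalClosure (L : Set G) ⧸ oddCore (normalClosure (L : Set G)))) ∨
      Nonempty (normalClosure (L : Set G) ≃* ProjectiveSpecialLinearGroup (Fin 4) F) ∨
      Nonempty (normalClosure (L : Set G) ≃* L × L) ∨
      ((L ⊔ centralizer (L : Set G)).relIndex (normalizer (L : Set G)) = 2 ∧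
        ∀ z : L, IsTwoCentralInvolution z → ∃ K : Subgroup G, K ≤ centralizer ({(z : G)} : Set G) ∧
          IsQuasisimple K ∧ (z : G) ∈ K ∧ IsCyclic (pCore 2 K) ∧ Nat.card (pCore 2 K) = 4 ∧
          ((∃ (E : Type) (_ : Field E) (_ : Fintype E), Fintype.card E = 9 ∧ Nonempty ((K ⧸ oddCore K) ≃* SU 4 E 3)) ∨
            (∃ (E : Type) (_ : Field E) (_ : Fintype E), Fintype.card E % 4 = 3 ∧
              ∃ (S : Sylow 2 (K ⧸ center K)) (T : Sylow 2 (ProjectiveSpecialLinearGroup (Fin 6) E)),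
                Nonempty ((S : Subgroup (K ⧸ center K)) ≃* (T : Subgroup (ProjectiveSpecialLinearGroup (Fin 6) E))))) ∧
          ⁅K, centralizerPPrimeCore 2 (z : G)⁆ = ⊥)

theorem Bd.wt {ι : Γ4 →* G} {t w : G} (H : Hyp ι t) (b : Bd ι t w) : w * t * w⁻¹ = t * ι zz := by
  have := b.tw
  rw [H.tinv] at this
  rw [← this, ← mul_assoc, ← mul_assoc, mul_assoc w, H.tt, mul_one, b.ww, H.cen]
theorem Bd.wz {ι : Γ4 →* G} {t w : G} (b : Bd ι t w) : w * ι zz = ι zz * w := by rw [← b.ww, mul_assoc]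

/-- assembly -/
theorem mt (r2 : R2.{u}) (al : AL.{u}) (be : BE.{u}) (a1 : A1.{u}) (a2 : A2.{u}) (a3 : A3.{u}) (ba : BA.{u}) (bt : BT.{u})
    (ql : QL.{u}) (bv : BV.{u}) (bc : BC.{u}) (bx : BX.{u}) (bs : BS.{u}) (bY : BY.{u}) (bp : BP.{u}) (bq : BQ.{u}) (bo : BO.{u}) (dl : DL.{u}) (cx : CX.{u}) (cs : CS.{u})
    (ct : CT.{u}) (cw : CW.{u}) (id' : ID.{u}) (ef : EF.{u}) (pl : PL.{u}) (es : ES1.{u}) (db : DB.{u}) : MT.{u} := by
  intro G _ _ ι t X h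
  have r := r2 G ι t X h
  by_cases c : IsConj t (t * ι zz)
  swap
  · exact .inl (al G ι t X r c)
  rcases be G ι t X r c with ⟨d, k⟩ | ⟨s, d, k⟩ | ⟨w, b, k | k⟩
  · exact .inl (a1 G ι t X r d k)
  · exact .inl ((a2 G ι t X r s d k).elim id fun ⟨x, p⟩ => a3 G ι t X r s d x k p)
  · refine .inr ⟨⟨w, b.wt h.toHyp, b.wz⟩, ?_⟩
    obtain ⟨b1, p | p⟩ := bo G ι t X r w b k
    · obtain ⟨s, x, q⟩ := cx G ι t X r w b1 p
      obtain ⟨p1, p2⟩ := ct G ι t X r s w x q (cs G ι t X r s w x q)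
      obtain ⟨p3, p4⟩ := cw G ι t X r s w x q
      exact .inr ⟨⟨s, q.os.toOu⟩, id' G ι t X r _ p1 p2 p3 p4⟩
    · obtain ⟨ϑ, D⟩ := dl G ι t X r w b1 p
      exact .inl (db ef (es pl) G ι t X r ϑ D)
  · obtain ⟨s, o, sw⟩ := b.ty.resolve_left (ba G ι t X r w b k)
    have q : Bw ι t s w := ⟨o, b.ww, b.tw, b.wq, sw, k⟩
    have n := bt G ι t X r s w q
    have n' := bv ql G ι t X r s w q n
    obtain ⟨x, p⟩ := (bx G ι t X r s w q n n' (bc G ι t X r s w q)).resolve_left (bs G ι t X r s w q n n')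
    obtain ⟨p1, p2⟩ := bY ql G ι t X r s w x q n p
    exact ((h.gen x).elim (bq G ι t X r s w x q n p p1 p2) (bp G ι t X r s w x q n p p1 p2)).elim
end H18.G38
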