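/-
Standard `U₄(2)` (S3138): general lemmas.
-/
import Cfsg.Agent.H18.G0
import Cfsg.Agent.H28.ExtTr
import Cfsg.Agent.H28.SF5
import Cfsg.Agent.H17.FX0
import Cfsg.Agent.S1233

set_option autoImplicit false
set_option linter.unusedSectionVars false

namespace H18.G38
open Cfsg Subgroup H19 H28.CY H18.U2 Matrix
open H15.GC (ω ν)
universe u
variable {G : Type u} [Group G] [Finite G] {ι : Γ4 →* G} {a b c d g h k o s t u w x y : G} {A B C K M P R S X Y : Subgroup G}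
  {l m : Γ4} {σ τ : 𝔽 ≃+* 𝔽}

/-! ### the group `Γ4` -/
theorem kc (c : U2.K 𝔽) : c = 0 ∨ c = 1 := by
  obtain ⟨c, h⟩ := c
  exact ((by decide +kernel : ∀ c : 𝔽, star c = c → c = 0 ∨ c = 1) c h).imp kext kext
instance iKAll (p : U2.K 𝔽 → Prop) [DecidablePred p] : Decidable (∀ c, p c) :=
  decidable_of_iff (p 0 ∧ p 1) ⟨fun h c => (kc c).elim (· ▸ h.1) (· ▸ h.2), fun h => ⟨h _, h _⟩⟩
instance iKEx (p : U2.K 𝔽 → Prop) [DecidablePred p] : Decidable (∃ c, p c) :=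
  decidable_of_iff (p 0 ∨ p 1) ⟨fun h => h.elim (⟨_, ·⟩) (⟨_, ·⟩), fun ⟨c, h⟩ => by rcases kc c with rfl | rfl; exacts [.inl h, .inr h]⟩
instance iKDec : DecidableEq (U2.K 𝔽) := fun a b => decidable_of_iff ((a : 𝔽) = b) ⟨kext, congrArg _⟩
instance iKFin : Fintype (U2.K 𝔽) := ⟨{0, 1}, fun c => by simpa using kc c⟩
theorem cardK4 : Nat.card (U2.K 𝔽) = 2 := Nat.pow_left_injective two_ne_zero (cardK.symm.trans H15.GC.F4.ncard)
theorem card_T : #(U 𝔽) = 64 := by rw [card_U, cardK4]; rfl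
theorem st2 : (st : 𝔽 ≃+* 𝔽) * st = 1 := RingEquiv.ext star_star
theorem st1 : (st : 𝔽 ≃+* 𝔽) ≠ 1 := fun e => absurd (DFunLike.congr_fun e ω) (by decide +kernel)
theorem aut2 (σ : 𝔽 ≃+* 𝔽) : σ = 1 ∨ σ = st := sq_one (fix_K fun c => by rcases kc c with rfl | rfl <;> simp)
theorem zz2 : zz * zz = 1 := a_sq _
theorem zz1 : zz ≠ 1 := by decide +kernel
theorem z_cases (c : U2.K 𝔽) : z c = 1 ∨ z c = zz := by rcases kc c with rfl | rfl; exacts [.inl z_0, .inr rfl]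
theorem i1Q : i1 ∈ Qs 𝔽 := qQ (ω, ν) 0
theorem j1Q : j1 ∈ Qs 𝔽 := qQ (ν, 1) 0
theorem k1Q : k1 ∈ Qs 𝔽 := qQ (1, ω) 0
theorem i2Q : i2 ∈ Qs 𝔽 := qQ (ω, 1) 1
theorem j2Q : j2 ∈ Qs 𝔽 := qQ (ν, ω) 1
theorem k2Q : k2 ∈ Qs 𝔽 := qQ (1, ν) 1
theorem zQ : zz ∈ Qs 𝔽 := qQ (0, 0) 1
theorem vQ : v0 ∈ Qs 𝔽 := qQ (0, 1) 0
theorem eT : e0 ∈ U 𝔽 := upU ..
theorem VT : As 𝔽 ≤ U 𝔽 := by rintro _ ⟨y, rfl⟩; exact upU ..
theorem Q_le {M : Subgroup Γ4} (h1 : i1 ∈ M) (h2 : j1 ∈ M) (h3 : i2 ∈ M) (h4 : j2 ∈ M) : Qs 𝔽 ≤ M := by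
  rintro _ ⟨⟨β, b⟩, α, rfl⟩
  obtain ⟨a, b, c, d, e⟩ := (by decide +kernel : ∀ (β b : 𝔽) (α : U2.K 𝔽), ∃ a : Fin 4, ∃ b' c d : Fin 2,
    q (β, b) α = i1 ^ a.1 * j1 ^ b'.1 * (i2 ^ c.1 * j2 ^ d.1)) β b α
  exact e ▸ mul_mem (mul_mem (pow_mem h1 _) (pow_mem h2 _)) (mul_mem (pow_mem h3 _) (pow_mem h4 _))
theorem T_le {M : Subgroup Γ4} (h : Qs 𝔽 ≤ M) (he : e0 ∈ M) : U 𝔽 ≤ M :=
  U_le (fun β => h (qQ (β, 0) 0)) (fun b => h (qQ (0, b) 0)) fun c => by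
    rcases kc c with rfl | rfl
    · exact up_0 (F := 𝔽) ▸ one_mem M
    · exact (by decide +kernel : e0 * zz = up 0 (0, 0, 1)) ▸ mul_mem he (h zQ)
theorem V_le {M : Subgroup Γ4} (h : ∀ β, zb β ∈ M) : As 𝔽 ≤ M := by
  rintro _ ⟨⟨α, b, c⟩, rfl⟩
  obtain ⟨a, b, c, d, e⟩ := (by decide +kernel : ∀ (α : U2.K 𝔽) (b : 𝔽) (c : U2.K 𝔽), ∃ a b' c' d : Fin 2,
    up 0 (α, b, c) = zb 0 ^ a.1 * zb 1 ^ b'.1 * (zb ω ^ c'.1 * zb ν ^ d.1)) α b c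
  exact e ▸ mul_mem (mul_mem (pow_mem (h _) _) (pow_mem (h _) _)) (mul_mem (pow_mem (h _) _) (pow_mem (h _) _))
theorem card_Q : #(Qs 𝔽) = 32 := by
  rw [Nat.card_congr (Equiv.ofBijective (fun p : (𝔽 × 𝔽) × U2.K 𝔽 => (⟨q p.1 p.2, qQ ..⟩ : Qs 𝔽))
    ⟨fun _ _ e => Prod.ext (q_inj (congrArg Subtype.val e)).1 (q_inj (congrArg Subtype.val e)).2,
      fun ⟨_, v, α, e⟩ => ⟨(v, α), Subtype.ext e.symm⟩⟩).symm]
  simp only [Nat.card_prod, cardK4, H15.GC.F4.ncard]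
theorem card_V : #(As 𝔽) = 16 := by
  rw [Nat.card_congr (Equiv.ofBijective (fun p : Hm 𝔽 => (⟨up 0 p, aA _⟩ : As 𝔽))
    ⟨fun _ _ e => (up_inj (congrArg Subtype.val e)).2, fun ⟨_, v, e⟩ => ⟨v, Subtype.ext e.symm⟩⟩).symm]
  simp only [Nat.card_prod, cardK4, H15.GC.F4.ncard]
/-- the long involutions of `T` -/
theorem long (hl : l ∈ U 𝔽) (h : IsConj zz l) : l = zz ∨ ∃ β, l = zb β := by
  obtain ⟨β, ⟨α, b, c⟩, rfl⟩ := hl
  obtain ⟨rfl, e⟩ := long_U h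
  exact (by decide +kernel : ∀ (α : U2.K 𝔽) (b : 𝔽) (c : U2.K 𝔽), α * c = nm b → up 0 (α, b, c) = 1 ∨ up 0 (α, b, c) = zz ∨
    ∃ β, up 0 (α, b, c) = zb β) α b c e |>.resolve_left fun e => zz1 (isConj_one_left.1 (e ▸ h))
theorem zb_cj (β : 𝔽) : up β 0 * nn * zz * (up β 0 * nn)⁻¹ = zb β :=
  mul_inv_eq_iff_eq_mul.2 (by revert β; decide +kernel)
theorem z_zb (β : 𝔽) : IsConj zz (zb β) := isConj_iff.2 ⟨_, zb_cj β⟩
theorem z_v : ¬ IsConj zz v0 := fun h => absurd (long (upU ..) h) (by decide +kernel)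
/-- an involution of `T` other than `z₁, …, z₅` is conjugate to `v` -/
theorem short (hl : l ∈ U 𝔽) (ll : l * l = 1) (l1 : l ≠ 1) (lz : l ≠ zz) (lb : ∀ β, l ≠ zb β) : IsConj v0 l :=
  (inv_cls ll l1).resolve_left fun h => (long hl h).elim lz fun ⟨β, e⟩ => lb β e
/-- `V` is the only elementary abelian subgroup of order 16 of `T` -/
theorem e16 {E : Subgroup Γ4} (h : E ≤ U 𝔽) (e : ∀ x ∈ E, x * x = 1) (c : 16 ≤ #E) : E = As 𝔽 := by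
  refine eq_of_le_of_card_ge (fun g hg => ?_) (card_V ▸ c)
  obtain ⟨β, y, rfl⟩ := h hg
  by_contra k
  have b0 : β ≠ 0 := fun b => k ⟨y, by rw [b]⟩
  have m := (by decide +kernel : ∀ (β : 𝔽) (y : Hm 𝔽), β ≠ 0 → up β y * up β y = 1 → (Finset.univ.filter fun p : 𝔽 × Hm 𝔽 =>
    up p.1 p.2 * up p.1 p.2 = 1 ∧ up p.1 p.2 * up β y = up β y * up p.1 p.2).card < 16) β y b0 (e _ hg)
  choose f p q using fun x : E => h x.2
  have := Nat.card_le_card_of_injective (β := Finset.univ.filter fun p : 𝔽 × Hm 𝔽 =>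
    up p.1 p.2 * up p.1 p.2 = 1 ∧ up p.1 p.2 * up β y = up β y * up p.1 p.2) (fun x : E => ⟨(f x, p x), by
      have c := (_root_.mul_inv_rev _ _).symm.trans (inv_eq_of_mul_eq_one_right (e _ (mul_mem hg x.2)))
      rw [inv_eq_of_mul_eq_one_right (e _ hg), inv_eq_of_mul_eq_one_right (e _ x.2)] at c
      simpa [← q x] using ⟨e _ x.2, c⟩⟩) fun x y e => Subtype.ext (by
    simp only [Subtype.mk.injEq, Prod.mk.injEq] at e
    rw [q x, q y, e.1, e.2])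
  rw [Nat.card_eq_finsetCard] at this
  omega

/-! ### action on `L` -/
theorem ac_uq (he : Function.Injective ι) (h : Ac ι g 1) (h' : Ac ι g st) : False := by
  obtain ⟨k, p⟩ := h.inv.mul h'
  exact st1 (cA (k := k) (σ := 1⁻¹ * st) fun y => he ((p _).symm.trans (by simp))).1
theorem ac_cj (h : Ac ι g σ) (h' : Ac ι k τ) : Ac ι (k * g * k⁻¹) σ := by
  have := (h'.mul h).mul h'.inv
  rwa [aut_comm τ σ, mul_inv_cancel_right] at this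
theorem Ou.act (o : Ou ι t s) : Ac ι s st := ⟨1, fun x => by simp [o.ac]⟩
theorem Ou.Ct (o : Ou ι t s) : s ∈ C[t] := mem_cent1.2 o.ct
/-- an element acting on `V` as the field automorphism composed with an element of `L` is not inner -/
theorem outV (he : Function.Injective ι) (h : ∀ y, g * ι (up 0 y) * g⁻¹ = ι (l * φ st (up 0 y) * l⁻¹)) : ¬ Ac ι g 1 := fun ⟨k, p⟩ =>
  st1 (cA (k := k⁻¹ * l) fun y => by rw [cj2, ← he ((p _).symm.trans (h y)), φ1]; group).1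
/-- the same for `Q` -/
theorem outQ (he : Function.Injective ι) (h : ∀ x ∈ Qs 𝔽, g * ι x * g⁻¹ = ι (l * φ st x * l⁻¹)) : ¬ Ac ι g 1 := fun ⟨k, p⟩ =>
  st1 (cQ (k := k⁻¹ * l) fun v α => by rw [cj2, ← he ((p _).symm.trans (h _ (qQ ..))), φ1]; group).1
theorem Os.mul_t (H : Hyp ι t) (o : Os ι t s) : Os ι t (s * t) :=
  ⟨⟨by rw [mul_assoc, ← mul_assoc t, ← o.ct, mul_assoc], fun x => by rw [cj2, H.cen, mul_inv_cancel_right, o.ac]⟩,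
    by rw [mul_assoc, ← mul_assoc t, ← o.ct, mul_assoc, H.tt, mul_one, o.ss]⟩
theorem ac2 (H : Hyp ι t) (hg : g ∈ C[t]) : Ac ι g 1 ∨ Ac ι g st :=
by
  obtain ⟨σ, h⟩ := exA H.inj (H.nor hg)
  rcases aut2 σ with rfl | rfl
  exacts [.inl h, .inr h]
theorem ac_sq (H : Hyp ι t) (hg : g ∈ C[t]) : Ac ι (g * g) 1 :=
  (ac2 H hg).elim (fun h => by simpa using h.mul h) fun h => st2 ▸ h.mul h
theorem ac_odd (H : Hyp ι t) (hg : g ∈ C[t]) (o : PiE {2}ᶜ g) : Ac ι g 1 := by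
  let D : Subgroup G :=
    { carrier := {g | Ac ι g 1}
      one_mem' := map_one ι ▸ Ac.self ι 1
      mul_mem' := fun a b => by simpa using a.mul b
      inv_mem' := fun a => by simpa using a.inv }
  exact mem_of_odd (H := D) o (ac_sq H hg)
theorem fam' {F : Type} [Field F] [StarRing F] [Big F] {k : Γ F} {σ : F ≃+* F} (e : k * z 1 * k⁻¹ = z 1)
    (h1 : k * φ σ (q (1, 0) 0) * k⁻¹ ∈ As F) (h2 : k * φ σ (q (0, 1) 0) * k⁻¹ ∈ As F) : False := by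
  obtain ⟨a, b, c, d, f⟩ := cq_lin e
  have m : ∀ v : F × F, k * φ σ (q v 0) * k⁻¹ ∈ As F → a * σ v.1 + b * σ v.2 = 0 := fun v ⟨y, h⟩ => by
    obtain ⟨_, r⟩ := f (σ v.1, σ v.2) (kσ σ 0)
    rw [φ_q, r] at h
    exact (up_inj h).1
  have ha : a = 0 := by simpa using m _ h1
  have hb : b = 0 := by simpa using m _ h2
  obtain ⟨_, r⟩ := f (d, c) 0
  obtain ⟨_, r'⟩ := f (1, 1) 0
  simp only [ha, hb, zero_mul, mul_comm c d, aa, add_zero] at r r'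
  rw [U2.aa] at r
  have z0 : ∀ {v : F × F} {α α'}, k * q v α * k⁻¹ = q (0, 0) α' → v = 0 := fun {v α α'} h => by
    rw [show q ((0 : F), (0 : F)) α' = z α' from q_0 _, ← zc e α', mul_left_inj, mul_right_inj, ← q_0] at h
    exact (q_inj h).1
  obtain ⟨rfl, rfl⟩ := Prod.ext_iff.1 (z0 r)
  simp only [Prod.fst_zero, Prod.snd_zero, zero_mul, add_zero] at r'
  exact one_ne_zero (congrArg Prod.fst (z0 r'))
/-- no element of `C(t) ∩ C(z)` maps the subfield line of `Q / Z` into `V` -/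
theorem fam (H : Hyp ι t) (hg : g ∈ C[t]) (hz : g * ι zz = ι zz * g) (h1 : g * ι (up 1 0) * g⁻¹ ∈ Vm ι)
    (h2 : g * ι v0 * g⁻¹ ∈ Vm ι) : False := by
  obtain ⟨σ, k, p⟩ := exA H.inj (H.nor hg)
  have e := H.inj ((p zz).symm.trans (mul_inv_eq_iff_eq_mul.2 hz))
  rw [φ_z, kσ_1] at e
  rw [p, mem_map_iff_mem H.inj] at h1 h2
  exact fam' e h1 h2

/-! ### towers, transfer -/
theorem tower (hS : PG 2 S) : Syl 2 S ⊤ ∨ ∃ x ∈ N(S), x ∉ S ∧ x * x ∈ S := by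
  refine or_iff_not_imp_left.2 fun h => ?_
  obtain ⟨Q, h1, h2, -, -⟩ := hS.exists_lt_norm le_top h
  obtain ⟨a, ha, k⟩ := H28.SF.ex_sq h2 h1
  exact ⟨a, ha.2, k⟩
theorem pg_sup (hS : PG 2 S) (hx : x ∈ N(S)) (xx : x * x ∈ S) : PG 2 (S ⊔ zpowers x) :=
  hS.sup (piG_zpowers.2 (two_of_sq_two (hS.elt xx))) (zpowers_le.2 hx)
theorem mem_ext (hx : x ∈ N(S)) (xx : x * x ∈ S) : g ∈ S ⊔ zpowers x ↔ g ∈ S ∨ g * x⁻¹ ∈ S := by
  refine ⟨fun h => ?_, fun h => h.elim mem_sup_left fun h => inv_mul_cancel_right g x ▸ mul_mem_sup h (mem_zpowers x)⟩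
  obtain ⟨a, ha, _, ⟨n, rfl⟩, rfl⟩ := (mem_sup_of_norm (zpowers_le.2 hx)).1 h
  rcases Int.even_or_odd' n with ⟨j, rfl | rfl⟩
  · exact .inl (mul_mem ha (by simpa [_root_.zpow_mul, pow_two] using zpow_mem xx j))
  · exact .inr (by simpa [_root_.zpow_add, _root_.zpow_mul, pow_two, mul_assoc] using mul_mem ha (zpow_mem xx j))
theorem card_ext (hx : x ∈ N(S)) (xx : x * x ∈ S) (x1 : x ∉ S) : #(S ⊔ zpowers x) = 2 * #S := by
  rw [← card_mul_relIndex (le_sup_left : S ≤ S ⊔ zpowers x), mul_comm]; congr 1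
  refine (relIndex_eq_two_iff.2 ⟨x⁻¹, inv_mem (mem_sup_right (mem_zpowers x)), fun b hb => ?_⟩)
  rcases (mem_ext hx xx).1 hb with h | h
  · exact .inr ⟨h, fun k => x1 (by simpa using (mul_mem_cancel_left h).1 k)⟩
  · exact .inl ⟨h, fun k => x1 (by simpa using (mul_mem_cancel_left k).1 h)⟩
/-- a 2-subgroup containing a Sylow 2-subgroup `R` of `C(t)` and transitive on the large conjugates of `t` is Sylow -/
theorem syl_of (hS : PG 2 S) (l : R ≤ S) (hR : Syl 2 R C[t]) (ht : t ∈ S)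
    (h : ∀ u ∈ S, IsConj t u → #R ≤ #(S ⊓ C[u]) → ∃ g ∈ S, g * t * g⁻¹ = u) : Syl 2 S ⊤ := by
  refine (tower hS).resolve_right fun ⟨x, hx, x1, xx⟩ => x1 ?_
  obtain ⟨g, hg, e⟩ := h _ (conj_mem_of_norm hx ht) (isConj_iff.2 ⟨x, rfl⟩) (by
    rw [← cj_cent1, ← congrArg (· ⊓ cj x C[t]) (cj_of_mem_norm hx), ← cj_inf, card_cj]; exact card_le (le_inf l hR.le))
  have := hR.max (K := (S ⊔ zpowers x) ⊓ C[t]) (le_inf (l.trans le_sup_left) hR.le) inf_le_right ((pg_sup hS hx xx).infl _)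
  refine (mul_mem_cancel_left (inv_mem hg)).1 (l (this ▸ mem_inf.2 ⟨mul_mem (inv_mem (mem_sup_left hg)) (mem_sup_right (mem_zpowers x)),
    mem_cent1.2 (mul_inv_eq_iff_eq_mul.1 (by rw [cj2, ← e]; group))⟩))
theorem sylIn (hS : Syl 2 S ⊤) : H28.IsSylowIn 2 S ⊤ :=
  ⟨le_top, hS.pi.isPGroup, fun _ hR h2 h3 => hS.max h2 h3 (PiN.of_isPGroup Nat.prime_two hR)⟩
/-- the dual form of the extremal transfer lemma -/
theorem dual_transfer (hS : Odd S.index) (ϕ : S →* ℤˣ) (hy : y ^ 2 = 1) (hV : MonoidHom.transfer ϕ y ≠ 1) (hC : IsPGroup 2 C)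
    (hCy : C ≤ C[y]) (hyC : y ∈ C) : ∃ g : G, cj g C ≤ S ∧ ∃ h : g * y * g⁻¹ ∈ S, ϕ ⟨_, h⟩ ≠ 1 := by
  classical
  set V := MonoidHom.transfer ϕ with e
  have : MonoidHom.transfer (ϕ * V.comp S.subtype) y = 1 := by
    have := Fintype.ofFinite (G ⧸ S)
    have k : MonoidHom.transfer (ϕ * V.comp S.subtype) y = V y * MonoidHom.transfer (V.comp S.subtype) y := by
      rw [e, MonoidHom.transfer_def _ default, MonoidHom.transfer_def _ default, MonoidHom.transfer_def _ default]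
      simp only [leftTransversals.diff, MonoidHom.mul_apply, Finset.prod_mul_distrib]
    rw [k, H3.transfer_eq_pow_of (V.comp S.subtype) y (V y) fun k g h => by simp [mul_comm (V g), mul_assoc], show ∀ a : ℤˣ, a ^ S.index = a from fun a => odd_pow (Int.units_mul_self a) hS]
    exact Int.units_mul_self _
  obtain ⟨g, h1, h2, h3⟩ := H28.extremal_transfer hS (ϕ * V.comp S.subtype) (fun a b _ _ ha hb =>
    ((Int.units_eq_one_or a).resolve_left ha).trans ((Int.units_eq_one_or b).resolve_left hb).symm) hy this hC hCy hyC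
  refine ⟨g, h1, h2, fun k => hV ?_⟩
  rw [MonoidHom.mul_apply, k] at h3
  simpa [mul_comm (V g), mul_assoc] using h3
theorem perf_hom {A : Type*} [CommGroup A] (h : X ≤ ⁅X, X⁆) (f : X →* A) (x : X) : f x = 1 := by
  refine Abelianization.commutator_subset_ker f ?_
  rw [← mem_map_iff_mem X.subtype_injective, map_subtype_commutator]
  exact h x.2
/-- extremal transfer inside a perfect subgroup -/
theorem thmX {A : Type*} [CommGroup A] (hX : X ≤ ⁅X, X⁆) (hP : Syl 2 P X) (ϕ : P →* A)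
    (hi : ∀ a b : A, a ^ 2 = 1 → b ^ 2 = 1 → a ≠ 1 → b ≠ 1 → a = b) (yy : y * y = 1) (hC : PG 2 C) (l : C ≤ X ⊓ C[y]) (yC : y ∈ C) :
    ∃ g ∈ X, cj g C ≤ P ∧ ∃ h : g * y * g⁻¹ ∈ P, ϕ ⟨_, h⟩ = 1 := by
  obtain ⟨g, h1, h2, h3⟩ := H28.extremal_transfer (S := P.subgroupOf X) (Nat.odd_iff.2 (Nat.two_dvd_ne_zero.1 (hP.not_dvd Nat.prime_two)))
    (ϕ.comp (subgroupOfEquivOfLe hP.le).toMonoidHom) hi (y := ⟨y, (l yC).1⟩) (Subtype.ext ((pow_two y).trans yy)) (perf_hom hX _ _)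
    (C := C.subgroupOf X) (hC.isPGroup.comap_subtype) (fun c hc => mem_cent1.2 (Subtype.ext (mem_cent1.1 (l hc).2))) yC
  refine ⟨g, g.2, fun x hx => ?_, h2, h3⟩
  obtain ⟨c, hc, rfl⟩ := mem_cj'.1 hx
  exact h1 (x := g * ⟨c, (l hc).1⟩ * g⁻¹) ⟨⟨c, (l hc).1⟩, hc, rfl⟩
theorem St.perf (h : St ι t X) : X ≤ ⁅X, X⁆ := by
  have := h.sX
  rcases (inferInstance : (_root_.commutator X).Normal).eq_bot_or_eq_top with e | e
  · have c : ⁅X, X⁆ = ⊥ := by rw [← map_subtype_commutator, e, Subgroup.map_bot]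
    exact absurd (h.inj ((map_mul ..).trans ((mem_cent.1 (commg_eq_bot.1 c (h.LX ⟨j1, rfl⟩)) _ (h.LX ⟨i1, rfl⟩)).trans (map_mul ..).symm)))
      (by decide +kernel)
  · rw [← map_subtype_commutator, e]; exact fun x hx => ⟨⟨x, hx⟩, mem_top _, rfl⟩
theorem St.top (h : St ι t X) (ht : t ∈ X) : X = ⊤ := eq_top_iff.2 fun g _ => (h.gen g).elim id fun k => (mul_mem_cancel_right ht).1 k
/-- the transfer lemma for `t` -/
theorem thom {A : Type*} [CommGroup A] (h : St ι t X) (hS : Syl 2 S ⊤) (ϕ : S →* A)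
    (hi : ∀ a b : A, a ^ 2 = 1 → b ^ 2 = 1 → a ≠ 1 → b ≠ 1 → a = b) (hC : PG 2 C) (l : C ≤ C[t]) (tC : t ∈ C)
    (k : ∀ g, cj g C ≤ S → ∀ h : g * t * g⁻¹ ∈ S, ϕ ⟨_, h⟩ ≠ 1) : t ∉ X := fun ht => by
  obtain ⟨g, -, h1, h2, h3⟩ := thmX h.perf (h.top ht ▸ hS) ϕ hi h.tt hC (le_inf (h.top ht ▸ le_top) l) tC
  exact k g h1 h2 h3
theorem hiZ (a b : ℤˣ) (_ : a ^ 2 = 1) (_ : b ^ 2 = 1) (ha : a ≠ 1) (hb : b ≠ 1) : a = b :=
  ((Int.units_eq_one_or a).resolve_left ha).trans ((Int.units_eq_one_or b).resolve_left hb).symm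
theorem hi4 : ∀ a b : Multiplicative (ZMod 4), a ^ 2 = 1 → b ^ 2 = 1 → a ≠ 1 → b ≠ 1 → a = b := by decide
theorem St.syl (h : St ι t X) (hS : Syl 2 S ⊤) : Syl 2 (S ⊓ X) X := have := h.nX; hS.inf_normal normalIn_top
theorem rk_of_syl (hP : Syl 2 P X) (h : Rk P) : Rk X := by
  refine H17.FX.sec_of_bk (S := P.subgroupOf X) (by simpa using hP.subgroupOf le_rfl) fun A B hA l s => ?_
  have := H17.FX.bk_of_sec h (A.map X.subtype) (B.map X.subtype) (map_le_iff_le_comap.2 hA) (map_mono l)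
    (by rintro _ ⟨x, hx, rfl⟩; exact ⟨_, s x hx, rfl⟩)
  rwa [card_map_of_injective X.subtype_injective, card_map_of_injective X.subtype_injective] at this
/-- the quaternion group generated by `i`, `j` -/
def qf (i j : Γ4) : QuaternionGroup 2 → Γ4
  | .a k => i ^ k.val
  | .xa k => j * i ^ k.val
theorem rkQ (he : Function.Injective ι) (hP : PG 2 P) (l : Qm ι ≤ P) (c : P ⊓ C(Qm ι) ≤ Qm ι) : Rk P := by
  have m : ∀ {i j}, i ∈ Qs 𝔽 → j ∈ Qs 𝔽 → ∀ x, qf i j x ∈ Qs 𝔽 := fun hi hj x => by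
    cases x
    exacts [pow_mem hi _, mul_mem hj (pow_mem hi _)]
  let f1 : QuaternionGroup 2 →* P := (ι.comp (MonoidHom.mk' (qf i1 j1) (by decide +kernel))).codRestrict P fun x => l ⟨_, m i1Q j1Q x, rfl⟩
  let f2 : QuaternionGroup 2 →* P := (ι.comp (MonoidHom.mk' (qf i2 j2) (by decide +kernel))).codRestrict P fun x => l ⟨_, m i2Q j2Q x, rfl⟩
  have e : f1.range ⊔ f2.range = (Qm ι).subgroupOf P := by
    refine le_antisymm (sup_le ?_ ?_) fun x ⟨y, hy, e⟩ => ?_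
    · rintro _ ⟨x, rfl⟩; exact ⟨_, m i1Q j1Q x, rfl⟩
    · rintro _ ⟨x, rfl⟩; exact ⟨_, m i2Q j2Q x, rfl⟩
    · obtain ⟨z, hz, e'⟩ := Q_le (M := ((f1.range ⊔ f2.range).map P.subtype).comap ι)
        ⟨_, mem_sup_left ⟨.a 1, rfl⟩, congrArg ι (pow_one _)⟩ ⟨_, mem_sup_left ⟨.xa 0, rfl⟩, congrArg ι (mul_one _)⟩
        ⟨_, mem_sup_right ⟨.a 1, rfl⟩, congrArg ι (pow_one _)⟩ ⟨_, mem_sup_right ⟨.xa 0, rfl⟩, congrArg ι (mul_one _)⟩ hy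
      exact (Subtype.ext (e'.trans e) : z = x) ▸ hz
  refine Cfsg.Agent.S1233.result hP.isPGroup _ f1.range f2.range (MonoidHom.ofInjective fun a b h =>
    (by decide +kernel : ∀ a b, qf i1 j1 a = qf i1 j1 b → a = b) a b (he (congrArg Subtype.val h))).symm (MonoidHom.ofInjective fun a b h =>
    (by decide +kernel : ∀ a b, qf i2 j2 a = qf i2 j2 b → a = b) a b (he (congrArg Subtype.val h))).symm ?_ e ?_ fun x hx => c ⟨x.2, ?_⟩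
  · rintro _ ⟨a, rfl⟩ _ ⟨b, rfl⟩
    exact Subtype.ext ((map_mul ι ..).symm.trans ((congrArg ι ((by decide +kernel : ∀ a b, qf i1 j1 a * qf i2 j2 b = qf i2 j2 b * qf i1 j1 a) a b)).trans
      (map_mul ι ..)))
  · rw [card_subgroupOf' l, card_map_of_injective he, card_Q]
  · exact fun y hy => congrArg Subtype.val (hx ⟨y, l hy⟩ hy)
/-- the first alternative -/
theorem rk (h : St ι t X) (hS : Syl 2 S ⊤) (ht : t ∉ X) (l : Qm ι ≤ S)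
    (c : ∀ g ∈ S, g ∈ C(Qm ι) → g = 1 ∨ g = t ∨ g = ι zz ∨ g = t * ι zz) : Rk X := by
  refine rk_of_syl (h.syl hS) (rkQ h.inj (hS.pi.infl _) (le_inf l ((map_le_range ..).trans h.LX)) fun g hg => ?_)
  rcases c g hg.1.1 hg.2 with rfl | rfl | rfl | rfl
  exacts [one_mem _, absurd hg.1.2 ht, ⟨_, zQ, rfl⟩, absurd ((mul_mem_cancel_right (h.LX ⟨_, rfl⟩)).1 hg.1.2) ht]

/-! ### the structure of `C(t)` -/
theorem St.conj (h : St ι t X) (g : G) : St (cjh g ι) (g * t * g⁻¹) X :=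
  ⟨h.toHyp.conj g, h.nX, h.sX, by rintro _ ⟨x, rfl⟩; exact h.nX.conj_mem _ (h.LX ⟨x, rfl⟩) g, fun k => (h.gen (g⁻¹ * k * g)).imp
    (fun e => by simpa [mul_assoc] using h.nX.conj_mem _ e g) fun e => by simpa [mul_assoc] using h.nX.conj_mem _ e g,
    fun e => h.ne (by rw [cjh_range, cj_eq_iff] at e; rw [e]; exact cj_of_mem_norm (by have := h.nX; simp [normalizer_eq_top]))⟩
theorem Sr.conj (h : Sr ι t X) (g : G) : Sr (cjh g ι) (g * t * g⁻¹) X :=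
  ⟨h.toSt.conj g, fun k hk e p => by
    rw [cjh_range, ← cj_cent, mem_cj] at hk
    refine h.r2 _ hk (by rw [← mul_left_inj g⁻¹, ← mul_right_inj g]; simpa [mul_assoc] using e) ?_
    rw [← mul_left_inj g⁻¹, ← mul_right_inj g, ← mul_assoc g t, ← p]; group⟩
theorem Oo_odd : PiG {2}ᶜ (Oo ι t) := Oc_pi _ _
theorem OL (h : o ∈ Oo ι t) : o ∈ C(ι.range) := (Oc_le _ _ h).1
theorem Ot (h : o ∈ Oo ι t) : o * t = t * o := mem_cent1.1 (Oc_le _ _ h).2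
theorem Oι (h : o ∈ Oo ι t) (x : Γ4) : ι x * o = o * ι x := mem_cent.1 (OL h) _ ⟨x, rfl⟩
theorem nO (H : Hyp ι t) : C[t] ≤ N(Oo ι t) := norms_Oc _ (norms_inf (norms_cent H.nor) le_normalizer)
/-- the 2-part of `ι l * k` -/
theorem two_K (H : Hyp ι t) (hk : k ∈ C(ι.range)) (p : PiE {2} (ι l * k)) : PiE {2} k := by
  obtain ⟨j, e⟩ := pow_of_two p
  exact two_of_pow (j := j) (by have := H.pw1 hk e; rwa [H.pw hk, this, map_one, one_mul] at e)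
theorem two_LO (H : Hyp ι t) (ho : o ∈ Oo ι t) (p : PiE {2} (ι l * o)) : o = 1 := (two_K H (OL ho) p).e_eq_one (Oo_odd.elt ho)
namespace Sr
variable (r : Sr ι t X)
include r
theorem H : Hyp ι t := r.toHyp
theorem two (hk : k ∈ C(ι.range)) (kt : k * t = t * k) (p : PiE {2} k) : k = 1 ∨ k = t := by
  obtain ⟨j, e⟩ := pow_of_two p
  induction j generalizing k with
  | zero => exact .inl (by simpa using e)
  | succ j ih =>
    exact r.rk k hk ((ih (mul_mem hk hk) (by rw [mul_assoc, kt, ← mul_assoc, kt, mul_assoc]) (p.e_mul p rfl)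
      (by rw [← pow_two, ← pow_mul, ← pow_succ', e])).resolve_right (r.r2 k hk kt)) kt
theorem sdO : Hall {2}ᶜ (Oo ι t) (C(ι.range) ⊓ C[t]) ∧ zpowers t ⊔ Oo ι t = C(ι.range) ⊓ C[t] := by
  have s : Syl 2 (zpowers t) (C(ι.range) ⊓ C[t]) := syl_of_max (zpowers_le.2 ⟨r.H.tK, mem_cent1_self t⟩) (piG_zpowers.2 (two_of_sq r.tt))
    fun Q h1 h2 h3 => le_antisymm (fun k hk => (mem_zp r.tt).2 (r.two (h1 hk).1 (mem_cent1.1 (h1 hk).2) (h2.elt hk))) h3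
  obtain ⟨D, d⟩ := s.exists_compl (inf_le_right.trans (cent1_le_norm_zpowers t))
  have := (d.hall_right s).Oc_hall (d.sup ▸ sup_le (norms_of_cents (cents_symm (cent_zpowers t ▸ d.right_le.trans inf_le_right))) le_normalizer)
  exact ⟨this, s.sup_compl this⟩
theorem mem_Oo (hk : k ∈ C(ι.range)) (kt : k * t = t * k) (p : PiE {2}ᶜ k) : k ∈ Oo ι t := r.sdO.1.mem_Oc ⟨hk, mem_cent1.2 kt⟩ p
theorem dec (hk : k ∈ C(ι.range)) (kt : k * t = t * k) : ∃ o ∈ Oo ι t, k = o ∨ k = t * o := by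
  obtain ⟨a, ha, o, ho, rfl⟩ := (mem_sup_of_norm' (zpowers_le.2 (nO r.H (mem_cent1_self t)))).1
    (r.sdO.2 ▸ mem_inf.2 ⟨hk, mem_cent1.2 kt⟩ : k ∈ zpowers t ⊔ Oo ι t)
  rcases (mem_zp r.tt).1 ha with rfl | rfl
  exacts [⟨o, ho, .inl (one_mul o)⟩, ⟨o, ho, .inr rfl⟩]
/-- inner elements of `C(t)` -/
theorem inn (hg : g ∈ C[t]) (h : Ac ι g 1) : ∃ l, ∃ o ∈ Oo ι t, g = ι l * o ∨ g = ι l * t * o := by
  obtain ⟨l, k, hk, rfl⟩ := h.one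
  obtain ⟨o, ho, rfl | rfl⟩ := r.dec hk (r.H.Kt hg)
  exacts [⟨l, k, ho, .inl rfl⟩, ⟨l, o, ho, .inr (mul_assoc ..).symm⟩]
theorem inn2 (hg : g ∈ C[t]) (h : Ac ι g 1) (p : PiE {2} g) : ∃ l, g = ι l ∨ g = ι l * t := by
  obtain ⟨l, k, hk, rfl⟩ := h.one
  rcases r.two hk (r.H.Kt hg) (two_K r.H hk p) with rfl | rfl
  exacts [⟨l, .inl (mul_one _)⟩, ⟨l, .inr rfl⟩]
/-- elements of odd order of `C(t)` -/
theorem odd (hg : g ∈ C[t]) (p : PiE {2}ᶜ g) : ∃ l, ∃ o ∈ Oo ι t, g = ι l * o := by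
  obtain ⟨l, o, ho, rfl | rfl⟩ := r.inn hg (ac_odd r.H hg p)
  · exact ⟨l, o, ho, rfl⟩
  · obtain ⟨a, ⟨l, rfl⟩, b, hb, e⟩ := (mem_sup_of_norm (norms_of_cents fun _ => OL)).1 (mem_of_odd (H := ι.range ⊔ Oo ι t) p (by
      rw [show ι l * t * o * (ι l * t * o) = ι l * ι l * (o * o) by
        rw [mul_assoc (ι l * t), ← mul_assoc o, ← mul_assoc o, ← Oι ho, mul_assoc _ o, Ot ho, mul_assoc, mul_assoc, mul_assoc, ← mul_assoc t, ← mul_assoc t,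
          r.cen, mul_assoc (ι l) t, mul_assoc t o, ← mul_assoc t t, r.tt, one_mul, mul_assoc]]
      exact mul_mem_sup (mul_mem ⟨l, rfl⟩ ⟨l, rfl⟩) (mul_mem ho ho)))
    exact ⟨l, b, hb, e⟩
/-- the three types -/
theorem ty : In ι t ∨ (∃ s, Os ι t s) ∨ ∃ s, Ou ι t s ∧ s * s = t := by
  refine or_iff_not_imp_left.2 fun h => ?_
  obtain ⟨g, hg, n⟩ : ∃ g ∈ C[t], ¬ Ac ι g 1 := by simpa [In] using h
  obtain ⟨k, p⟩ := (ac2 r.H hg).resolve_left n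
  have a : ∀ x, (ι k)⁻¹ * g * ι x * ((ι k)⁻¹ * g)⁻¹ = ι (φ st x) := fun x => by rw [cj2, p]; simp [mul_assoc]
  have hg' : (ι k)⁻¹ * g ∈ C[t] := mul_mem (inv_mem (r.H.LC k)) hg
  generalize (ι k)⁻¹ * g = g at a hg'
  have c : ∀ {g : G}, (∀ x, g * ι x * g⁻¹ = ι (φ st x)) → g * g ∈ C(ι.range) := fun a => by
    rintro _ ⟨x, rfl⟩
    exact (mul_inv_eq_iff_eq_mul.1 (by rw [cj2, a, a, φφ, st2, φ1])).symm
  obtain ⟨y, o, e, -, hy, ho, my, n, hn⟩ := parts g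
  have oL : o ∈ C(ι.range) := mem_of_odd ho (by rw [← hn, ← (Commute.refl g).mul_zpow]; exact zpow_mem (c a) n)
  have u : Ou ι t y := ⟨mem_cent1.1 (zpowers_le.2 hg' my), fun x => by
    rw [← a, e, cj2, ← mem_cent.1 oL _ ⟨x, rfl⟩, mul_inv_cancel_right]⟩
  exact (r.two (c u.ac) (mem_cent1.1 (mul_mem u.Ct u.Ct)) (hy.e_mul hy rfl)).imp (fun e => ⟨y, u, e⟩) fun e => ⟨y, u, e⟩
/-- `C(t) / L O` is abelian -/
theorem der (hg : g ∈ ⁅C[t], C[t]⁆) : ∃ l, ∃ o ∈ Oo ι t, g = ι l * o := by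
  have i : ∀ {g A}, t ∈ A → g ∈ C[t] → Ac ι g 1 → g ∈ ι.range ⊔ Oo ι t ⊔ A := fun tA hg h => by
    obtain ⟨l, o, ho, rfl | rfl⟩ := r.inn hg h
    · exact mem_sup_left (mul_mem_sup ⟨l, rfl⟩ ho)
    · exact mul_mem (mul_mem (mem_sup_left (mem_sup_left ⟨l, rfl⟩)) (mem_sup_right tA)) (mem_sup_left (mem_sup_right ho))
  obtain ⟨s, hs, k⟩ : ∃ s ∈ C[t], ∀ g ∈ C[t], Ac ι g 1 ∨ Ac ι (g * s⁻¹) 1 := by
    by_cases h : In ι t
    · exact ⟨1, one_mem _, fun g hg => .inl (h g hg)⟩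
    · obtain ⟨s, o⟩ : ∃ s, Ou ι t s := (r.ty.resolve_left h).elim (fun ⟨s, o⟩ => ⟨s, o.toOu⟩) fun ⟨s, o⟩ => ⟨s, o.1⟩
      exact ⟨s, o.Ct, fun g hg => (ac2 r.H hg).imp_right fun a => by simpa using a.mul o.act.inv⟩
  have l : C[t] ≤ ι.range ⊔ Oo ι t ⊔ (zpowers t ⊔ zpowers s) := fun g hg => (k g hg).elim (i (mem_sup_left (mem_zpowers t)) hg) fun a =>
    inv_mul_cancel_right g s ▸ mul_mem (i (mem_sup_left (mem_zpowers t)) (mul_mem hg (inv_mem hs)) a) (mem_sup_right (mem_sup_right (mem_zpowers s)))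
  have := der_sup_le ((sup_le (zpowers_le.2 (mem_cent1_self t)) (zpowers_le.2 hs)).trans (norms_sup r.nor (nO r.H))) (der_mono l hg)
  rw [comm_iff_der.1 (comm_sup (comm_zpowers t) (comm_zpowers s) (cents_symm (cent_zpowers t ▸ zpowers_le.2 hs))), sup_bot_eq] at this
  obtain ⟨_, ⟨l, rfl⟩, o, ho, e⟩ := (mem_sup_of_norm (norms_of_cents fun _ => OL)).1 this
  exact ⟨l, o, ho, e⟩
theorem der2 (hg : g ∈ ⁅C[t], C[t]⁆) (p : PiE {2} g) : g ∈ ι.range := by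
  obtain ⟨l, o, ho, rfl⟩ := r.der hg
  exact ⟨l, by rw [two_LO r.H ho p, mul_one]⟩
/-- `t` is not conjugate to an element of `L` -/
theorem NL (l : Γ4) : ¬ IsConj t (ι l) := fun h => by
  have k : ∀ l a b : Γ4, IsConj t (ι l) → a * l = l * a → b * l = l * b → a * b = l * b * a → False := fun l a b h ha hb e => by
    obtain ⟨g, p⟩ := isConj_iff.1 h
    have m : ι l ∈ ⁅C[ι l], C[ι l]⁆ := by
      have := commutator_mem_commutator (H₁ := C[ι l]) (H₂ := C[ι l]) (g₁ := ι a) (g₂ := ι b) (mem_cent1.2 (by rw [← map_mul, ha, map_mul]))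
        (mem_cent1.2 (by rw [← map_mul, hb, map_mul]))
      rwa [commutatorElement_def, ← map_mul, e, map_mul, map_mul, mul_inv_cancel_right, mul_inv_cancel_right] at this
    rw [← p, ← cj_cent1, ← cj_comm, conj_mem_cj] at m
    obtain ⟨x, e⟩ := r.der2 m (two_of_sq r.tt)
    exact r.H.tL x e
  obtain ⟨g, p⟩ := isConj_iff.1 h
  have ll : l * l = 1 := r.inj (by rw [map_mul, ← p, map_one, conj_mul, r.tt]; simp)
  rcases inv_cls ll (by rintro rfl; exact r.t1 (by simpa using h)) with c | c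
  · exact k zz i1 j1 (h.trans (ι.map_isConj c.symm)) (by decide +kernel) (by decide +kernel) (by decide +kernel)
  · exact k v0 (up 1 0) (up 0 (0, ω, 1)) (h.trans (ι.map_isConj c.symm)) (by decide +kernel) (by decide +kernel) (by decide +kernel)
theorem cQ (hg : g ∈ C[t]) (h : g ∈ C(Qm ι)) : ∃ a, (a = 1 ∨ a = t ∨ a = ι zz ∨ a = t * ι zz) ∧ ∃ o ∈ Oo ι t, g = a * o := by
  obtain ⟨d, k, hk, rfl⟩ := r.H.cP hg fun v α => mem_cent.1 h _ ⟨_, qQ v α, rfl⟩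
  obtain ⟨o, ho, rfl | rfl⟩ := r.dec hk (r.H.Kt hg) <;> rcases z_cases d with e | e <;> rw [e]
  exacts [⟨_, .inl (map_one ι), k, ho, rfl⟩, ⟨_, .inr (.inr (.inl rfl)), k, ho, rfl⟩, ⟨_, .inr (.inl rfl), o, ho, by simp⟩,
    ⟨_, .inr (.inr (.inr rfl)), o, ho, by rw [r.cen, mul_assoc]⟩]
theorem cQ2 (hg : g ∈ C[t]) (h : g ∈ C(Qm ι)) (p : PiE {2} g) : g = 1 ∨ g = t ∨ g = ι zz ∨ g = t * ι zz := by
  obtain ⟨d, k, hk, rfl⟩ := r.H.cP hg fun v α => mem_cent.1 h _ ⟨_, qQ v α, rfl⟩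
  rcases r.two hk (r.H.Kt hg) (two_K r.H hk p) with rfl | rfl <;> rcases z_cases d with e | e <;> simp [e, r.cen]
theorem cV (hg : g ∈ C[t]) (h : g ∈ C(Vm ι)) : ∃ y, ∃ o ∈ Oo ι t, g = ι (up 0 y) * o ∨ g = t * ι (up 0 y) * o := by
  obtain ⟨y, k, hk, rfl⟩ := r.H.cV (mem_cent1.1 hg) fun a => mem_cent.1 h _ ⟨_, aA a, rfl⟩
  obtain ⟨o, ho, rfl | rfl⟩ := r.dec hk (r.H.Kt hg)
  exacts [⟨y, k, ho, .inl rfl⟩, ⟨y, o, ho, .inr (by rw [r.cen, mul_assoc])⟩]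
theorem cV2 (hg : g ∈ C[t]) (h : g ∈ C(Vm ι)) (p : PiE {2} g) : ∃ y, g = ι (up 0 y) ∨ g = t * ι (up 0 y) := by
  obtain ⟨y, k, hk, rfl⟩ := r.H.cV (mem_cent1.1 hg) fun a => mem_cent.1 h _ ⟨_, aA a, rfl⟩
  rcases r.two hk (r.H.Kt hg) (two_K r.H hk p) with rfl | rfl
  exacts [⟨y, .inl (mul_one _)⟩, ⟨y, .inr (r.cen _).symm⟩]
end Sr
theorem pg_T : PG 2 (Tm ι) := (syl_L ι).pi
theorem T_L (hR : PG 2 R) (h : Tm ι ≤ R) (hl : ι l ∈ R) : ι l ∈ Tm ι :=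
  ((syl_L ι).max (K := R ⊓ ι.range) (le_inf h (map_le_range ..)) inf_le_right (hR.infl _)).le ⟨hl, l, rfl⟩
theorem T_Ct (H : Hyp ι t) : Tm ι ≤ C[t] := by rintro _ ⟨x, -, rfl⟩; exact H.LC x
theorem tN (H : Hyp ι t) : t ∈ N(Tm ι) := cent_le_norm _ (le_cent1_iff.1 (T_Ct H))
theorem pg_0 (H : Hyp ι t) : PG 2 (Tm ι ⊔ zpowers t) := pg_sup pg_T (tN H) (H.tt ▸ one_mem _)
theorem S0_Ct (H : Hyp ι t) : Tm ι ⊔ zpowers t ≤ C[t] := sup_le (T_Ct H) (zpowers_le.2 (mem_cent1_self t))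
theorem card_0 (H : Hyp ι t) : #(Tm ι ⊔ zpowers t) = 128 := by
  rw [card_ext (tN H) (H.tt ▸ one_mem _) fun ⟨x, _, e⟩ => H.tL x e, card_map_of_injective H.inj, card_T]
theorem mem_0 (H : Hyp ι t) : g ∈ Tm ι ⊔ zpowers t ↔ ∃ l ∈ U 𝔽, g = ι l ∨ g = ι l * t := by
  rw [mem_ext (tN H) (H.tt ▸ one_mem _)]
  exact ⟨fun h => h.elim (fun ⟨l, h, e⟩ => ⟨l, h, .inl e.symm⟩) fun ⟨l, h, e⟩ => ⟨l, h, .inr (mul_inv_eq_iff_eq_mul.1 e.symm)⟩,
    fun ⟨l, h, e⟩ => e.imp (fun e => ⟨l, h, e.symm⟩) fun e => ⟨l, h, by simp [e]⟩⟩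
theorem ac_0 (H : Hyp ι t) (hg : g ∈ Tm ι ⊔ zpowers t) : Ac ι g 1 := by
  obtain ⟨l, -, rfl | rfl⟩ := (mem_0 H).1 hg
  exacts [Ac.self ι l, by simpa using (Ac.self ι l).mul (Ac.cent H.tK)]
theorem Ou.nT (o : Ou ι t s) : s ∈ N(Tm ι) := mem_norm_of (by rintro _ ⟨x, h, rfl⟩; exact ⟨_, φU _ h, (o.ac x).symm⟩)
theorem Ou.n0 (o : Ou ι t s) : s ∈ N(Tm ι ⊔ zpowers t) :=
  norms_sup (zpowers_le.2 o.nT) (zpowers_le.2 (cent1_le_norm_zpowers t o.Ct)) (mem_zpowers s)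
theorem Ou.card (o : Ou ι t s) (H : Hyp ι t) (ss : s * s ∈ Tm ι ⊔ zpowers t) : #(Tm ι ⊔ zpowers t ⊔ zpowers s) = 256 := by
  rw [card_ext o.n0 ss fun h => ac_uq H.inj (ac_0 H h) o.act, card_0 H]
theorem Ou.le (o : Ou ι t s) (H : Hyp ι t) : Tm ι ⊔ zpowers t ⊔ zpowers s ≤ C[t] := sup_le (S0_Ct H) (zpowers_le.2 o.Ct)
theorem Sr.in0 (r : Sr ι t X) (hR : PG 2 R) (h : Tm ι ⊔ zpowers t ≤ R) (l : R ≤ C[t]) (hg : g ∈ R) (a : Ac ι g 1) : g ∈ Tm ι ⊔ zpowers t := by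
  obtain ⟨l, rfl | rfl⟩ := r.inn2 (l hg) a (hR.elt hg)
  · exact mem_sup_left (T_L hR (le_sup_left.trans h) hg)
  · exact mul_mem_sup (T_L hR (le_sup_left.trans h) ((mul_mem_cancel_right (h (mem_sup_right (mem_zpowers t)))).1 hg)) (mem_zpowers t)
/-- the Sylow 2-subgroup of `C(t)` in type I -/
theorem Sr.syl1 (r : Sr ι t X) (h : In ι t) : Syl 2 (Tm ι ⊔ zpowers t) C[t] :=
  syl_of_max (S0_Ct r.H) (pg_0 r.H) fun _ h1 h2 h3 => le_antisymm (fun g hg => r.in0 h2 h3 h1 hg (h g (h1 hg))) h3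
/-- the Sylow 2-subgroup of `C(t)` in types II, III -/
theorem Sr.syl2 (r : Sr ι t X) (o : Ou ι t s) (ss : s * s ∈ Tm ι ⊔ zpowers t) : Syl 2 (Tm ι ⊔ zpowers t ⊔ zpowers s) C[t] :=
  syl_of_max (o.le r.H) (pg_sup (pg_0 r.H) o.n0 ss) fun _ h1 h2 h3 => le_antisymm (fun g hg => (mem_ext o.n0 ss).2
    ((ac2 r.H (h1 hg)).imp (r.in0 h2 (le_sup_left.trans h3) h1 hg) fun a => r.in0 h2 (le_sup_left.trans h3) h1
      (mul_mem hg (inv_mem (h3 (mem_sup_right (mem_zpowers s))))) (by simpa using a.mul o.act.inv))) h3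
theorem Os.syl (o : Os ι t s) (r : Sr ι t X) : Syl 2 (Tm ι ⊔ zpowers t ⊔ zpowers s) C[t] := r.syl2 o.toOu (o.ss ▸ one_mem _)
theorem Os.card (o : Os ι t s) (H : Hyp ι t) : #(Tm ι ⊔ zpowers t ⊔ zpowers s) = 256 := o.toOu.card H (o.ss ▸ one_mem _)
end H18.G38
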