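/-
Standard `U₄(2)` (S3138): groups given by multiplication tables, towers of extensions of degree two.
-/
import Cfsg.Agent.H18.G1

set_option autoImplicit false
set_option linter.unusedSectionVars false

namespace H18.G38
open Cfsg Subgroup H19 H28.CY H18.U2 Matrix
open H15.GC (ω ν)
universe u
noncomputable section

/-- evaluate the argument first -/
def fc {α : Type} (x : ℕ) (f : ℕ → α) : α := Nat.rec (f 0) (fun n _ => f (Nat.succ n)) x
theorem fc_eq {α : Type} (x : ℕ) (f : ℕ → α) : fc x f = f x := by cases x <;> rfl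
/-- table lookup -/
def lk (T i : ℕ) : ℕ := Nat.land (Nat.shiftRight T (Nat.mul 12 i)) 4095
/-- bounded conjunction -/
def alB (n : ℕ) (p : ℕ → Bool) : Bool := Nat.rec true (fun k ih => Bool.rec false ih (p k)) n
theorem alB_iff {n : ℕ} {p : ℕ → Bool} : alB n p = true ↔ ∀ k < n, p k = true := by
  induction n with
  | zero => simp [alB]
  | succ n ih =>
    rw [Nat.forall_lt_succ_right, ← ih, show alB (n + 1) p = Bool.rec false (alB n p) (p n) from rfl]
    cases p n <;> simp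
/-- bounded count -/
def cnB (n : ℕ) (p : ℕ → ℕ) : ℕ → ℕ := Nat.rec (fun a => a) (fun k ih a => fc (Nat.add a (p k)) ih) n
theorem cnB_eq (n : ℕ) (p : ℕ → ℕ) (a : ℕ) : cnB n p a = a + ∑ k ∈ Finset.range n, p k := by
  induction n generalizing a with
  | zero => simp [cnB]
  | succ n ih =>
    rw [Finset.sum_range_succ, show cnB (n + 1) p a = fc (Nat.add a (p n)) (cnB n p) from rfl, fc_eq, ih, Nat.add_eq]; omega

/-- a multiplication table on `0, …, 64 m - 1` with a list of generators -/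
structure Md where
  m : ℕ
  mu : ℕ → ℕ → ℕ
  iv : ℕ → ℕ
  gs : List ℕ
/-- the order -/
def Md.n (M : Md) : ℕ := Nat.mul 64 M.m
/-- the group axioms -/
class Md.Ok (M : Md) : Prop where
  pos : 0 < M.n
  lt : ∀ a < M.n, ∀ b < M.n, M.mu a b < M.n
  li : ∀ a < M.n, M.iv a < M.n
  asc : ∀ a < M.n, ∀ b < M.n, ∀ c < M.n, M.mu (M.mu a b) c = M.mu a (M.mu b c)
  one : ∀ a < M.n, M.mu 0 a = a
  inv : ∀ a < M.n, M.mu (M.iv a) a = 0
  gl : ∀ g ∈ M.gs, g < M.n
  gen : ∀ p : ℕ → Prop, p 0 → (∀ g ∈ M.gs, ∀ a < M.n, p a → p (M.mu g a)) → ∀ a < M.n, p a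
/-- the group -/
@[ext] structure W (M : Md) : Type where
  c : ℕ
  lt : c < M.n
variable {M : Md}
instance iWG [h : M.Ok] : Group (W M) :=
  @Group.ofLeftAxioms _ ⟨fun a b => ⟨fc a.c fun x => fc b.c fun y => M.mu x y, by simpa only [fc_eq] using h.lt _ a.lt _ b.lt⟩⟩
    ⟨fun a => ⟨fc a.c M.iv, by simpa only [fc_eq] using h.li _ a.lt⟩⟩ ⟨⟨0, h.pos⟩⟩
    (fun a b c => W.ext (by simpa only [HMul.hMul, Mul.mul, fc_eq] using h.asc _ a.lt _ b.lt _ c.lt))
    (fun a => W.ext (by simp only [HMul.hMul, Mul.mul, fc_eq]; exact h.one _ a.lt))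
    (fun a => W.ext (by simp only [HMul.hMul, Mul.mul, Inv.inv, fc_eq]; exact h.inv _ a.lt))
instance iWE : DecidableEq (W M) := fun a b => decidable_of_iff (Nat.beq a.c b.c = true) (Nat.beq_eq.to_iff.trans W.ext_iff.symm)
theorem all64 {m : ℕ} {p : ℕ → Prop} : (∀ i < m, ∀ j < 64, p (Nat.add (Nat.mul 64 i) j)) ↔ ∀ c < Nat.mul 64 m, p c :=
  ⟨fun h c hc => by
    simpa [Nat.div_add_mod] using h (c / 64) (by simp only [Nat.mul_eq] at hc; omega) (c % 64) (by omega),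
    fun h i hi j hj => h _ (by simp only [Nat.mul_eq, Nat.add_eq]; omega)⟩
/-- bounded quantifier -/
def al2 (m : ℕ) (p : ℕ → Bool) : Bool := alB m fun i => alB 64 fun j => fc (Nat.add (Nat.mul 64 i) j) p
theorem al2_iff {m : ℕ} {p : ℕ → Bool} : al2 m p = true ↔ ∀ c < Nat.mul 64 m, p c = true := by
  simp only [al2, alB_iff, fc_eq]; exact all64 (p := fun c => p c = true)
instance iWA (p : W M → Prop) [DecidablePred p] : Decidable (∀ a, p a) :=
  decidable_of_iff (al2 M.m (fun c => if h : c < M.n then decide (p ⟨c, h⟩) else true) = true) (by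
    rw [al2_iff]
    exact ⟨fun h a => by simpa [a.lt] using h a.c a.lt, fun h c hc => by simp [h]⟩)
instance iWX (p : W M → Prop) [DecidablePred p] : Decidable (∃ a, p a) := decidable_of_iff (¬ ∀ a, ¬ p a) (by simp)
/-- `W M` as `Fin n` -/
def wEq (M : Md) : W M ≃ Fin M.n := ⟨fun a => ⟨a.c, a.lt⟩, fun a => ⟨a.1, a.2⟩, fun _ => rfl, fun _ => rfl⟩
instance iWF : Finite (W M) := .of_equiv _ (wEq M).symm
theorem card_W : Nat.card (W M) = M.n := by rw [Nat.card_congr (wEq M), Nat.card_fin]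
/-- the number of elements with property `p` -/
def cnt (p : W M → Prop) [DecidablePred p] : ℕ :=
  cnB M.m (fun i => cnB 64 (fun j => fc (Nat.add (Nat.mul 64 i) j) fun c => if h : c < M.n then if p ⟨c, h⟩ then 1 else 0 else 0) 0) 0
theorem cnt_eq (p : W M → Prop) [DecidablePred p] : {a | p a}.ncard = cnt p := by
  classical
  have := Fintype.ofFinite (W M)
  have k : ∀ (f : ℕ → ℕ) m, ∑ i ∈ Finset.range m, ∑ j ∈ Finset.range 64, f (64 * i + j) = ∑ c ∈ Finset.range (64 * m), f c := fun f m => by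
    induction m with
    | zero => simp
    | succ m ih => rw [Finset.sum_range_succ, ih, mul_add, mul_one, Finset.sum_range_add]
  simp only [cnt, cnB_eq, fc_eq, zero_add, Nat.add_eq, Nat.mul_eq]
  rw [k fun c => if h : c < M.n then if p ⟨c, h⟩ then 1 else 0 else 0, Finset.sum_range, ← Set.ncard_image_of_injective _ (wEq M).injective,
    Set.ncard_eq_toFinset_card', show 64 * M.m = M.n from rfl]
  simp only [Fin.is_lt, dite_true, Finset.sum_boole, Nat.cast_id]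
  congr 1; ext a
  simp only [Set.toFinset_image, Finset.mem_image, Set.mem_toFinset, Set.mem_setOf_eq, Finset.mem_filter, Finset.mem_univ, true_and]
  exact ⟨fun ⟨b, h, e⟩ => e ▸ h, fun h => ⟨_, h, rfl⟩⟩
variable [h : M.Ok] {G : Type u} [Group G] {a b : W M}
theorem mul_c (a b : W M) : (a * b).c = M.mu a.c b.c := (fc_eq a.c fun x => fc b.c fun y => M.mu x y).trans (fc_eq ..)
theorem inv_c (a : W M) : a⁻¹.c = M.iv a.c := fc_eq ..
theorem one_c : (1 : W M).c = 0 := rfl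
variable (M) in
/-- the element with code `c` -/
def el (c : ℕ) : W M := ⟨c % M.n, Nat.mod_lt _ h.pos⟩
theorem el_c (a : W M) : el M a.c = a := W.ext (Nat.mod_eq_of_lt a.lt)
theorem c_el {c : ℕ} (k : c < M.n) : (el M c).c = c := Nat.mod_eq_of_lt k
theorem el_0 : el M 0 = 1 := el_c 1
theorem el_mu {a b : ℕ} (ha : a < M.n) (hb : b < M.n) : el M (M.mu a b) = el M a * el M b :=
  W.ext (by rw [mul_c, c_el ha, c_el hb, c_el (h.lt _ ha _ hb)])
theorem W.ind {p : W M → Prop} (h1 : p 1) (k : ∀ g ∈ M.gs, ∀ a, p a → p (el M g * a)) (a : W M) : p a :=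
  el_c a ▸ h.gen (fun c => p (el M c)) (el_0 (M := M) ▸ h1) (fun g hg a ha e => el_mu (h.gl g hg) ha ▸ k g hg _ e) _ a.lt
theorem W.top {K : Subgroup (W M)} (k : ∀ g ∈ M.gs, el M g ∈ K) (a : W M) : a ∈ K := W.ind K.one_mem (fun g hg _ => mul_mem (k g hg)) a
theorem W.hext {f f' : W M →* G} (k : ∀ g ∈ M.gs, f (el M g) = f' (el M g)) (a : W M) : f a = f' a := W.top (K := f.eqLocus f') k a
/-- homomorphisms from a check on generators -/
def homOf (f : W M → G) (h1 : f 1 = 1) (k : ∀ g ∈ M.gs, ∀ a, f (el M g * a) = f (el M g) * f a) : W M →* G :=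
  MonoidHom.mk' f fun a b => W.ind (p := fun a => f (a * b) = f a * f b) (by rw [h1, one_mul, one_mul])
    (fun g hg a e => by rw [mul_assoc, k g hg, k g hg, e, mul_assoc]) a
/-- the sign character given by the parity of the bits in `m` -/
def sgn (m : ℕ) (a : W M) : ℤˣ := Nat.rec 1 (fun i ih => Bool.rec ih (-ih) (Nat.testBit (Nat.land m a.c) i)) 12
/-- the character, from a check on the generators -/
def chi (m : ℕ) (k : ∀ g ∈ M.gs, ∀ a, sgn m (el M g * a) = sgn m (el M g) * sgn m a) : W M →* ℤˣ :=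
  homOf (sgn m) (by simp [sgn, one_c]; rfl) k
theorem cl_le {L : List (W M)} {p : W M → Prop} (h1 : p 1) (k : ∀ g ∈ L, ∀ a, p a → p (g * a)) (ha : a ∈ closure {g | g ∈ L}) : p a := by
  rw [← mem_toSubmonoid, closure_toSubmonoid_of_finite] at ha
  exact Submonoid.closure_induction_left h1 (fun g hg a _ => k g hg a) ha
theorem le_cl {L : List (W M)} {K : Subgroup (W M)} {p : W M → Prop} (f : W M → ℕ) (l : ∀ g ∈ L, g ∈ K)
    (k : ∀ a, p a → a = 1 ∨ ∃ g ∈ L, f (g * a) < f a ∧ p (g * a)) (ha : p a) : a ∈ K := by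
  induction e : f a using Nat.strong_induction_on generalizing a with
  | _ n ih =>
    rcases k a ha with rfl | ⟨g, hg, h1, h2⟩
    exacts [one_mem K, (mul_mem_cancel_left (l g hg)).1 (ih _ (e ▸ h1) h2 rfl)]
theorem card_sub {K : Subgroup (W M)} {p : W M → Prop} [DecidablePred p] (k : ∀ a, a ∈ K ↔ p a) : #K = cnt p := by
  rw [← cnt_eq, ← Nat.card_coe_set_eq]; exact Nat.card_congr (Equiv.subtypeEquivRight k)
/-- the order of the centralizer -/
def cc (u : W M) : ℕ := cnt fun g => g * u = u * g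
theorem card_cc (u : W M) : #(C[u]) = cc u := card_sub fun _ => mem_cent1
/-- the number of different conjugates under the elements of `L` -/
def cls (L : List ℕ) (u : W M) : ℕ := (L.map fun g => (el M g * u * (el M g)⁻¹).c).dedup.length
theorem cls_le (L : List ℕ) (u : W M) : cls L u * cc u ≤ M.n := by
  classical
  rw [← card_cc, ← card_W, ← (C[u]).index_mul_card, cls, ← List.card_toFinset]
  refine Nat.mul_le_mul_right _ ?_
  have := Fintype.ofFinite (W M ⧸ C[u])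
  let f : W M ⧸ C[u] → ℕ := Quotient.lift (fun g => (g * u * g⁻¹).c) fun a b e => congrArg W.c (by
    have := mem_cent1.1 (QuotientGroup.leftRel_apply.1 e)
    rw [show a * u * a⁻¹ = a * (u * (a⁻¹ * b)) * b⁻¹ by group, ← this]; group)
  rw [index, Nat.card_eq_fintype_card]
  refine (Finset.card_le_card fun x hx => ?_).trans (Finset.card_image_le (f := f))
  obtain ⟨g, -, rfl⟩ := List.mem_map.1 (List.mem_toFinset.1 hx)
  exact Finset.mem_image.2 ⟨QuotientGroup.mk (el M g), Finset.mem_univ _, rfl⟩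
omit h in
theorem Md.ok_of (ℓ : ℕ → ℕ) (k1 : al2 M.m (fun a => al2 M.m fun b => Nat.blt (M.mu a b) M.n) = true) (pos : 0 < M.n) (gl : ∀ g ∈ M.gs, g < M.n)
    (k2 : al2 M.m (fun a => Nat.blt (M.iv a) M.n && Nat.beq (M.mu 0 a) a && Nat.beq (M.mu (M.iv a) a) 0 &&
      (Nat.beq a 0 || M.gs.any fun g => Nat.beq (M.mu g (M.mu (M.iv g) a)) a && Nat.blt (ℓ (M.mu (M.iv g) a)) (ℓ a))) = true)
    (k3 : M.gs.all (fun g => al2 M.m fun a => al2 M.m fun b => Nat.beq (M.mu (M.mu g a) b) (M.mu g (M.mu a b))) = true) : M.Ok := by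
  simp only [al2_iff, Nat.blt_eq, Bool.and_eq_true, Nat.beq_eq, Bool.or_eq_true, List.any_eq_true, List.all_eq_true] at k1 k2 k3
  have gen : ∀ p : ℕ → Prop, p 0 → (∀ g ∈ M.gs, ∀ a < M.n, p a → p (M.mu g a)) → ∀ a < M.n, p a := fun p p0 p1 a ha => by
    induction e : ℓ a using Nat.strong_induction_on generalizing a with
    | _ n ih =>
      rcases (k2 a ha).2 with rfl | ⟨g, hg, h1, h2⟩
      exacts [p0, h1 ▸ p1 g hg _ (k1 _ (k2 g (gl g hg)).1.1.1 _ ha) (ih _ (e ▸ h2) _ (k1 _ (k2 g (gl g hg)).1.1.1 _ ha) rfl)]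
  refine ⟨pos, k1, fun a ha => (k2 a ha).1.1.1, gen _ (fun b hb c hc => ?_) fun g hg a ha e b hb c hc => ?_,
    fun a ha => (k2 a ha).1.1.2, fun a ha => (k2 a ha).1.2, gl, gen⟩
  · rw [(k2 b hb).1.1.2, (k2 _ (k1 b hb c hc)).1.1.2]
  · rw [k3 g hg a ha b hb, k3 g hg _ (k1 a ha b hb) c hc, e b hb c hc, k3 g hg a ha _ (k1 b hb c hc)]

/-- multiplication in the extension -/
def xm (n : ℕ) (mu : ℕ → ℕ → ℕ) (δ a0 x y : ℕ) : ℕ :=
  Bool.rec (Bool.rec (mu x y) (Nat.add (mu x (Nat.sub y n)) n) (Nat.ble n y))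
    (Bool.rec (Nat.add (fc (lk δ y) (mu (Nat.sub x n))) n)
      (fc (fc (lk δ (Nat.sub y n)) (mu (Nat.sub x n))) fun z => Nat.rec z (fun _ _ => mu z a0) a0) (Nat.ble n y)) (Nat.ble n x)
variable (M) in
/-- the extension by `x` with `x g x⁻¹ = δ g`, `x² = a₀`; `g x` has code `g + n` -/
def Md.ext (δ a0 : ℕ) : Md :=
  ⟨Nat.mul 2 M.m, xm M.n M.mu δ a0, fun x => Bool.rec (M.iv x) (Nat.add (lk δ (fc (M.iv a0) fun a => fc (M.iv (Nat.sub x M.n)) (M.mu a))) M.n) (Nat.ble M.n x),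
    M.gs ++ [M.n]⟩
variable (M) in
/-- the conditions on `δ`, `a₀` -/
def Xc (δ a0 : ℕ) : Prop := a0 < M.n ∧ lk δ 0 = 0 ∧ lk δ a0 = a0 ∧ (∀ a : W M, lk δ a.c < M.n) ∧
  ∀ g ∈ M.gs, el M (lk δ (lk δ g)) * el M a0 = el M a0 * el M g ∧ ∀ a : W M, el M (lk δ (el M g * a).c) = el M (lk δ g) * el M (lk δ a.c)
instance iXc (δ a0 : ℕ) : Decidable (Xc M δ a0) := by unfold Xc; infer_instance
variable {δ a0 : ℕ}
omit h in
theorem n_ext : (M.ext δ a0).n = M.n + M.n := by simp only [Md.n, Md.ext, Nat.mul_eq]; omega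
/-- the automorphism -/
def Xc.D (k : Xc M δ a0) : W M →* W M :=
  homOf (fun a => el M (lk δ a.c)) (by rw [one_c, k.2.1, el_0]) fun g hg a => by rw [(k.2.2.2.2 g hg).2, c_el (h.gl g hg)]
theorem Xc.D_c (k : Xc M δ a0) (a : W M) : (k.D a).c = lk δ a.c := c_el (k.2.2.2.1 a)
theorem Xc.DA (k : Xc M δ a0) : k.D (el M a0) = el M a0 := W.ext (by rw [k.D_c, c_el k.1, k.2.2.1])
theorem Xc.DD (k : Xc M δ a0) (a : W M) : k.D (k.D a) = el M a0 * a * (el M a0)⁻¹ :=
  W.hext (f := k.D.comp k.D) (f' := (MulAut.conj (el M a0)).toMonoidHom) (fun g hg => eq_mul_inv_iff_mul_eq.2 (by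
    rw [← (k.2.2.2.2 g hg).1, ← el_c (k.D.comp k.D _), MonoidHom.comp_apply, k.D_c, k.D_c, c_el (h.gl g hg)])) a
theorem ble1 (a : W M) : Nat.ble M.n a.c = false := Bool.eq_false_iff.2 fun e => (Nat.ble_eq ▸ e : M.n ≤ a.c).not_gt a.lt
omit h in
theorem ble2 (a : ℕ) : Nat.ble M.n (a + M.n) = true := by simp
theorem mu00 (a b : W M) : (M.ext δ a0).mu a.c b.c = (a * b).c := by simp only [Md.ext, xm, ble1, mul_c]
theorem mu01 (a b : W M) : (M.ext δ a0).mu a.c (b.c + M.n) = (a * b).c + M.n := by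
  simp only [Md.ext, xm, ble1, ble2, mul_c, Nat.sub_eq, Nat.add_sub_cancel, Nat.add_eq]
theorem mu10 (k : Xc M δ a0) (a b : W M) : (M.ext δ a0).mu (a.c + M.n) b.c = (a * k.D b).c + M.n := by
  simp only [Md.ext, xm, ble1, ble2, mul_c, Nat.sub_eq, Nat.add_sub_cancel, Nat.add_eq, fc_eq, k.D_c]
theorem mu11 (k : Xc M δ a0) (a b : W M) : (M.ext δ a0).mu (a.c + M.n) (b.c + M.n) = (a * k.D b * el M a0).c := by
  simp only [Md.ext, xm, ble2, Nat.sub_eq, Nat.add_sub_cancel, fc_eq]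
  rcases a0 with _ | a0
  · rw [el_0, mul_one, mul_c, k.D_c]; rfl
  · rw [mul_c, mul_c, k.D_c, c_el k.1]
theorem iv0 (a : W M) : (M.ext δ a0).iv a.c = a⁻¹.c := by simp only [Md.ext, ble1, inv_c]
theorem iv1 (k : Xc M δ a0) (a : W M) : (M.ext δ a0).iv (a.c + M.n) = (k.D ((el M a0)⁻¹ * a⁻¹)).c + M.n := by
  simp only [Md.ext, ble2, Nat.sub_eq, Nat.add_sub_cancel, Nat.add_eq, fc_eq, k.D_c, mul_c, inv_c, c_el k.1]
omit h in
theorem xcase {c : ℕ} (k : c < (M.ext δ a0).n) : ∃ a : W M, c = a.c ∨ c = a.c + M.n := by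
  rw [n_ext] at k
  exact (lt_or_ge c M.n).elim (fun e => ⟨⟨c, e⟩, .inl rfl⟩) fun e => ⟨⟨c - M.n, by omega⟩, .inr (by simp only; omega)⟩
omit h in
theorem xl0 (a : W M) : a.c < (M.ext δ a0).n := by have := a.lt; rw [n_ext]; omega
omit h in
theorem xl1 (a : W M) : a.c + M.n < (M.ext δ a0).n := by have := a.lt; rw [n_ext]; omega
theorem Xc.ok (k : Xc M δ a0) : (M.ext δ a0).Ok := by
  refine ⟨xl0 (1 : W M), fun a ha b hb => ?_, fun a ha => ?_, fun a ha b hb c hc => ?_, fun a ha => ?_, fun a ha => ?_, fun g hg => ?_, fun p p0 p1 a ha => ?_⟩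
  · obtain ⟨a, rfl | rfl⟩ := xcase ha <;> obtain ⟨b, rfl | rfl⟩ := xcase hb <;> simp only [mu00, mu01, mu10 k, mu11 k, xl0, xl1]
  · obtain ⟨a, rfl | rfl⟩ := xcase ha <;> simp only [iv0, iv1 k, xl0, xl1]
  · obtain ⟨a, rfl | rfl⟩ := xcase ha <;> obtain ⟨b, rfl | rfl⟩ := xcase hb <;> obtain ⟨c, rfl | rfl⟩ := xcase hc <;>
      simp only [mu00, mu01, mu10 k, mu11 k, map_mul, k.DD, k.DA, mul_assoc, inv_mul_cancel, mul_one, inv_mul_cancel_left]
  · obtain ⟨a, rfl | rfl⟩ := xcase ha <;> rw [← one_c (M := M)] <;> simp only [mu00, mu01, one_mul]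
  · obtain ⟨a, rfl | rfl⟩ := xcase ha
    · rw [iv0, mu00, inv_mul_cancel, one_c]
    · rw [iv1 k, mu11 k, ← map_mul, inv_mul_cancel_right, map_inv, k.DA, inv_mul_cancel, one_c]
  · rcases List.mem_append.1 hg with e | e
    exacts [xl0 ⟨g, h.gl g e⟩, by simpa [List.mem_singleton.1 e, one_c] using xl1 (δ := δ) (a0 := a0) (1 : W M)]
  · have l : ∀ g ∈ M.gs, g ∈ (M.ext δ a0).gs := fun g hg => List.mem_append_left _ hg
    obtain ⟨a, rfl | rfl⟩ := xcase ha
    · exact W.ind (p := fun a => p a.c) p0 (fun g hg a e => by simpa [← mu00 (δ := δ) (a0 := a0), c_el (h.gl g hg)] using p1 g (l g hg) _ (xl0 a) e) a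
    · refine W.ind (p := fun a => p (a.c + M.n)) ?_ (fun g hg a e => by
        simpa [← mu01 (δ := δ) (a0 := a0), c_el (h.gl g hg)] using p1 g (l g hg) _ (xl1 a) e) a
      have := p1 M.n (List.mem_append_right _ (List.mem_singleton_self _)) _ (xl0 1) p0
      rwa [← zero_add M.n, ← one_c (M := M), mu10 k, map_one, one_mul] at this
variable [Finite G] {Ψ : W M →* G} {x g t : G} {ι : Γ4 →* G} {X R C : Subgroup G}
/-- realization of the extension -/
theorem Xc.lift (k : Xc M δ a0) [(M.ext δ a0).Ok] (hΨ : Function.Injective Ψ) (e : ∀ g ∈ M.gs, x * Ψ (el M g) * x⁻¹ = Ψ (el M (lk δ g)))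
    (xx : x * x = Ψ (el M a0)) (x1 : x ∉ Ψ.range) : ∃ Φ : W (M.ext δ a0) →* G, Function.Injective Φ ∧ (∀ c < M.n, Φ (el _ c) = Ψ (el M c)) ∧
      Φ (el _ M.n) = x ∧ Φ.range = Ψ.range ⊔ zpowers x := by
  have e' : ∀ a, x * Ψ a = Ψ (k.D a) * x := fun a => mul_inv_eq_iff_eq_mul.1 (W.hext (f := (MulAut.conj x).toMonoidHom.comp Ψ) (f' := Ψ.comp k.D)
    (fun g hg => (e g hg).trans (congrArg Ψ (W.ext (by rw [k.D_c, c_el (h.gl g hg), c_el (k.2.2.2.1 ⟨g, h.gl g hg⟩)])))) a)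
  let f : ℕ → G := fun c => if c < M.n then Ψ (el M c) else Ψ (el M (c - M.n)) * x
  have f0 : ∀ a : W M, f a.c = Ψ a := fun a => by simp only [f, a.lt, if_true, el_c]
  have f1 : ∀ a : W M, f (a.c + M.n) = Ψ a * x := fun a => by simp [f, el_c]
  let Φ : W (M.ext δ a0) →* G := MonoidHom.mk' (fun a => f a.c) fun ⟨a, ha⟩ ⟨b, hb⟩ => by
    rw [mul_c]
    obtain ⟨a, rfl | rfl⟩ := xcase ha <;> obtain ⟨b, rfl | rfl⟩ := xcase hb <;> simp only [mu00, mu01, mu10 k, mu11 k, f0, f1, map_mul, mul_assoc, e']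
    rw [← mul_assoc x, e', mul_assoc, xx]
  have p0 : ∀ c < M.n, Φ (el _ c) = Ψ (el M c) := fun c hc => by
    rw [← f0, c_el hc]; exact congrArg f (c_el (xl0 ⟨c, hc⟩))
  have p1 : Φ (el _ M.n) = x := by
    rw [← one_mul x, ← map_one Ψ, ← f1, one_c, zero_add]; exact congrArg f (c_el (by simpa [one_c] using xl1 (δ := δ) (a0 := a0) (1 : W M)))
  refine ⟨Φ, (injective_iff_map_eq_one Φ).2 fun ⟨a, ha⟩ p => ?_, p0, p1, le_antisymm ?_ (sup_le ?_ (zpowers_le.2 ⟨_, p1⟩))⟩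
  · obtain ⟨a, rfl | rfl⟩ := xcase ha
    · exact W.ext (congrArg (W.c (M := M)) ((injective_iff_map_eq_one Ψ).1 hΨ a ((f0 a).symm.trans p)))
    · exact absurd ⟨a⁻¹, by rw [map_inv, inv_eq_of_mul_eq_one_right ((f1 a).symm.trans p)]⟩ x1
  · rintro _ ⟨⟨a, ha⟩, rfl⟩
    obtain ⟨a, rfl | rfl⟩ := xcase ha
    exacts [mem_sup_left ⟨a, (f0 a).symm⟩, (f1 a).symm.subst (motive := (· ∈ Ψ.range ⊔ zpowers x)) (mul_mem_sup ⟨a, rfl⟩ (mem_zpowers x))]
  · rintro _ ⟨a, rfl⟩; exact ⟨_, (p0 _ a.lt).trans (by rw [el_c])⟩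
/-- the automorphism induced by an element of the normalizer -/
theorem autOf (hΨ : Function.Injective Ψ) (hx : x ∈ N(Ψ.range)) : ∃ α : W M ≃* W M, ∀ a, Ψ (α a) = x * Ψ a * x⁻¹ := by
  choose f hf using fun a => conj_mem_of_norm hx (MonoidHom.mem_range.2 ⟨a, rfl⟩)
  let f' : W M →* W M := MonoidHom.mk' f fun a b => hΨ (by rw [map_mul, hf, hf, hf, map_mul]; group)
  exact ⟨MulEquiv.ofBijective f' (Finite.injective_iff_bijective.1 fun a b e => hΨ (by
    have : Ψ (f a) = Ψ (f b) := congrArg Ψ e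
    rwa [hf, hf, mul_left_inj, mul_right_inj] at this)), hf⟩
theorem cc_aut (α : W M ≃* W M) (u : W M) : cc (α u) = cc u := by
  rw [← card_cc, ← card_cc]
  exact Nat.card_congr (α.toEquiv.subtypeEquiv fun a => by simp only [mem_cent1, MulEquiv.toEquiv_eq_coe, EquivLike.coe_coe, ← map_mul, α.injective.eq_iff]).symm
theorem nor_gen (e : ∀ g ∈ M.gs, x * Ψ (el M g) * x⁻¹ ∈ Ψ.range) : x ∈ N(Ψ.range) :=
  mem_norm_of (by rintro _ ⟨a, rfl⟩; exact W.top (K := Ψ.range.comap ((MulAut.conj x).toMonoidHom.comp Ψ)) e a)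
theorem card_rg (hΨ : Function.Injective Ψ) : #Ψ.range = M.n := by rw [← Nat.card_congr (MonoidHom.ofInjective hΨ).toEquiv, card_W]
theorem pg_rg (hΨ : Function.Injective Ψ) {j : ℕ} (e : M.n = 2 ^ j) : PG 2 Ψ.range := PiN.of_card_pow Nat.prime_two ((card_rg hΨ).trans e)
theorem map_cent (hΨ : Function.Injective Ψ) (u : W M) : Ψ.range ⊓ C[Ψ u] = C[u].map Ψ := by
  ext g
  refine ⟨fun ⟨⟨a, e⟩, k⟩ => ⟨a, mem_cent1.2 (hΨ ?_), e⟩, fun ⟨a, k, e⟩ => ⟨⟨a, e⟩, mem_cent1.2 ?_⟩⟩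
  · rw [map_mul, map_mul, e, mem_cent1.1 k]
  · rw [← e, ← map_mul, mem_cent1.1 k, map_mul]
theorem card_cent (hΨ : Function.Injective Ψ) (u : W M) : #(Ψ.range ⊓ C[Ψ u]) = cc u := by rw [map_cent hΨ, card_map_of_injective hΨ, card_cc]
theorem cj_W (hΨ : Function.Injective Ψ) {u : W M} (h1 : cj g C ≤ Ψ.range) (l : C ≤ C[t]) (e : Ψ u = g * t * g⁻¹) : #C ≤ cc u := by
  rw [← card_cent hΨ, ← card_cj g, e, ← cj_cent1]; exact card_le (le_inf h1 (cj_mono g l))
theorem sq_W (hΨ : Function.Injective Ψ) {u : W M} (tt : t * t = 1) (e : IsConj t (Ψ u)) : u * u = 1 := by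
  obtain ⟨g, e⟩ := isConj_iff.1 e
  exact hΨ (by rw [map_mul, ← e, conj_mul, tt, map_one]; simp)
/-- Sylow criterion in a model -/
theorem sylW (hΨ : Function.Injective Ψ) {j : ℕ} (e : M.n = 2 ^ j) (l : R ≤ Ψ.range) (hR : Syl 2 R C[t]) {τ : W M} (ht : Ψ τ = t)
    (k : ∀ u, IsConj t (Ψ u) → #R ≤ cc u → ∃ g, g * τ = u * g) : Syl 2 Ψ.range ⊤ :=
  syl_of (pg_rg hΨ e) l hR ⟨τ, ht⟩ (by
    rintro _ ⟨u, rfl⟩ c p
    obtain ⟨g, q⟩ := k u c (card_cent hΨ u ▸ p)
    exact ⟨_, ⟨g, rfl⟩, by rw [← ht, ← map_mul, q, map_mul, mul_inv_cancel_right]⟩)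
/-- transfer in a model -/
theorem thmW {A : Type*} [CommGroup A] (hΨ : Function.Injective Ψ) (hX : X ≤ ⁅X, X⁆) (hP : Syl 2 Ψ.range X) (χ : W M →* A)
    (hi : ∀ a b : A, a ^ 2 = 1 → b ^ 2 = 1 → a ≠ 1 → b ≠ 1 → a = b) (tt : t * t = 1) (hC : PG 2 C) (l : C ≤ X ⊓ C[t]) (tC : t ∈ C) :
    ∃ g ∈ X, cj g C ≤ Ψ.range ∧ ∃ u, Ψ u = g * t * g⁻¹ ∧ χ u = 1 := by
  obtain ⟨g, hg, h1, h2, h3⟩ := thmX hX hP (χ.comp (MonoidHom.ofInjective hΨ).symm.toMonoidHom) hi tt hC l tC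
  exact ⟨g, hg, h1, _, MonoidHom.apply_ofInjective_symm hΨ ⟨_, h2⟩, h3⟩
theorem thomW {A : Type*} [CommGroup A] (hΨ : Function.Injective Ψ) (r : St ι t X) (hS : Syl 2 Ψ.range ⊤) (χ : W M →* A)
    (hi : ∀ a b : A, a ^ 2 = 1 → b ^ 2 = 1 → a ≠ 1 → b ≠ 1 → a = b) (hC : PG 2 C) (l : C ≤ C[t]) (tC : t ∈ C)
    (k : ∀ u, χ u = 1 → IsConj t (Ψ u) → #C ≤ cc u → False) : t ∉ X := fun ht => by
  obtain ⟨g, -, h1, u, h2, h3⟩ := thmW hΨ r.perf (r.top ht ▸ hS) χ hi r.tt hC (le_inf (r.top ht ▸ le_top) l) tC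
  exact k u h3 (isConj_iff.2 ⟨g, h2.symm⟩) (cj_W hΨ h1 l h2)
omit h in
/-- transport of Sylow subgroups of centralizers -/
theorem syl_tr {u : G} {R' : Subgroup G} (hR : Syl 2 R C[t]) (e : IsConj t u) (p : PG 2 R') (l : R' ≤ C[u]) (c : #R ≤ #R') :
    ∃ g, g * t * g⁻¹ = u ∧ cj g R = R' := by
  obtain ⟨g, rfl⟩ := isConj_iff.1 e
  have s := hR.J g
  rw [cj_cent1] at s
  obtain ⟨k, hk, q⟩ := s.sconj (s.of_card_le l p (card_cj g R ▸ c))
  exact ⟨k * g, by rw [cj2, mem_cent1.1 hk, mul_inv_cancel_right], by rw [cj_mul, q]⟩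

/-! ### the models -/
/-- table -/
def tT : ℕ := 0x71128361538751908b41d18f30169320579710949b00d59ff31aa3e35ba7d398abc3d9afb21eb3a25fb7929cbb82ddbf7502c26543c65580ca45c1ce3406d22447d61484da04c5def70ae2e74be6d788eac7c9eeb60ef2a64ff6968cfa86cdfe79320169730559b00949f10d38361128771518b41908f51dfb3a21eb7b25dbb829cbf92dba3e31aa7f359abc398afd3d7d22406d63445da0484de14c3c26502c67541ca4580ce55cff2a60ef6b64dfa868cfe96cbe2e70ae6f749eac788eed7c61538771128341d18f51908b20579730169300d59f10949be35ba7f31aa3c3d9afd398aba25fb7b21eb382ddbf929cbb6543c67502c245c1ce5580ca2447d63406d204c5de1484dae74be6f70ae2c7c9eed788eaa64ff6b60ef286cdfe968cfa69730579320149f10d59b00928771538361108f51d18b419eb7b25fb3a21cbf92ddbb829aa7f35ba3e318afd3d9abc396d63447d22404de14c5da0482c67543c26500ce55c1ca458ef6b64ff2a60cfe96cdfa868ae6f74be2e708eed7c9eac7841d08b51918f61528371138700d49b10959f205693301797c3d8abd399afe35aa3f31ba782dcbb929dbfa25eb3b21fb745c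0ca5581ce6542c27503c604c4da1485de2446d23407d6c7c8ead789eee74ae2f70be686ccfa968dfea64ef2b60ff649f00959b10d69720179330508f41918b51d287611383715cbf829dbb92deb7a21fb3b258afc399abd3daa7e31ba3f354de0485da14c6d62407d23440ce4581ca55c2c66503c2754cfe868dfa96cef6a60ff2b648eec789ead7cae6e70be2f7451918f41d08b71138761528310959f00d49b301797205693d399afc3d8abf31ba7e35aa3929dbf82dcbbb21fb7a25eb35581ce45c0ca7503c66542c21485de04c4da3407d62446d2d789eec7c8eaf70be6e74ae2968dfe86ccfab60ff6a64ef259b10d49f00979330569720118b51d08f419383715287611dbb92dcbf829fb3b25eb7a219abd3d8afc39ba3f35aa7e315da14c4de0487d23446d62401ca55c0ce4583c27542c6650dfa96ccfe868ff2b64ef6a609ead7c8eec78be2f74ae6e7020179330569700959b10d49f61138371528741918b51d08fa21fb3b25eb7829dbb92dcbfe31ba3f35aa7c399abd3d8af2407d23446d60485da14c4de6503c27542c64581ca55c0cea60ff2b64ef6868dfa96ccfee70be2f74ae6c789ead7c8ee28371138761508b51918f41d69330179720549b10959f00daa3f31ba7e3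58abd399afc3deb3b21fb7a25cbb929dbf82d2c27503c66540ca5581ce45c6d23407d62444da1485de04cae2f70be6e748ead789eec7cef2b60ff6a64cfa968dfe86c30569720179310d49f00959b71528761138351d08f41918bb25eb7a21fb392dcbf829dbbf35aa7e31ba3d3d8afc399ab3446d62407d214c4de0485da7542c66503c255c0ce4581cab64ef6a60ff296ccfe868dfaf74ae6e70be2d7c8eec789ea38761528371118f41d08b51979720569330159f00d49b109ba7e35aa3f319afc3d8abd39fb7a25eb3b21dbf82dcbb9293c66542c27501ce45c0ca5587d62446d23405de04c4da148be6e74ae2f709eec7c8ead78ff6a64ef2b60dfe86ccfa96810d59b00949f30579320169751d18b41908f71538361128792ddbb829cbfb25fb3a21eb7d3d9abc398aff35ba3e31aa714c5da0484de3447d22406d655c1ca4580ce7543c26502c696cdfa868cfeb64ff2a60ef6d7c9eac788eef74be2e70ae618f51908b41d38771128361559f10949b00d7973016932059afd398abc3dba7f31aa3e35dbf929cbb82dfb7b21eb3a251ce5580ca45c3c67502c26545de1484da04c7d63406d22449eed788eac7cbe6f70ae2e74dfe968cfa86cff6b60ef2a6400949f10d59b2016973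0579341908f51d18b611287715383829cbf92ddbba21eb7b25fb3c398afd3d9abe31aa7f35ba30484de14c5da2406d63447d24580ce55c1ca6502c67543c2868cfe96cdfaa60ef6b64ff2c788eed7c9eae70ae6f74be208b41d18f51928361538771149b00d59f1096932057973018abc3d9afd39aa3e35ba7f31cbb82ddbf929eb3a25fb7b210ca45c1ce5582c26543c67504da04c5de1486d22447d63408eac7c9eed78ae2e74be6f70cfa86cdfe968ef2a64ff6b608259a39218a7a2dbabb29aafc35db3d31cb7e3dfbbf39ebf00518310108720d38b30928f41559351149761d79b71969f8649e29608e6a6cbeab68aeec74df2d70cf6e7cffaf78efe0441c21400c624c3ca3482ce4545d25504d665c7da7586de8a79219a3825aafb29baba2dcb7d31db3c35ebff39fbbe3d08710118300528f30938b20d49751159341569f71979b61d8e69609e2864aeeb68beaa6ccf6d70df2c74efef78ffae7c0c61401c20442ce3483ca24c4d65505d24546de7587da65c9218a78259a3b29aafa2dbabd31cb7c35db3f39ebfe3dfbb10108700518330928f20d38b51149741559371969f61d79b9608e68649e2b68aeea6cbead70cf6c74df2f78efee7cffa1400c60441c23482ce24c3ca550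4d64545d27586de65c7da9a38258a7921baba2daafb29db3c35cb7d31fbbe3debff3918300508710138b20d28f30959341549751179b61d69f7199e28648e6960beaa6caeeb68df2c74cf6d70ffae7cefef781c20440c61403ca24c2ce3485d24544d65507da65c6de758b29baba2daaf9219a38258a7f39fbbe3debfd31db3c35cb730938b20d28f10118300508771979b61d69f511593415497b68beaa6caee9609e28648e6f78ffae7cefed70df2c74cf63483ca24c2ce1401c20440c67587da65c6de5505d24544d6babb29aafa2d9a39218a7825fbbf39ebfe3ddb3d31cb7c3538b30928f20d18310108700579b71969f61d593511497415beab68aeea6c9e29608e6864ffaf78efee7cdf2d70cf6c743ca3482ce24c1c21400c60447da7586de65c5d25504d6454a2daafb29bab8258a79219a3e3debff39fbbc35cb7d31db320d28f30938b00508710118361d69f71979b415497511593a6caeeb68bea8648e69609e2e7cefef78ffac74cf6d70df224c2ce3483ca0440c61401c265c6de7587da4544d65505d2aafa2dbabb298a78259a3921ebfe3dfbbf39cb7c35db3d3128f20d38b30908700518310169f61d79b719497415593511aeea6cbeab688e68649e2960efee7cffaf7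8cf6c74df2d702ce24c3ca3480c60441c21406de65c7da7584d64545d2550d35cb3c31db7f3debbe39fbf9258a38219a7b2daaba29baf51549341159771d69b61979f10508300118730d28b20938fd74cf2c70df6f7cefae78ffe9648e28609e6b6caeaa68bee5544d24505d675c6da6587de1440c20401c634c2ca2483cedb7c31cb3d35fbfe39ebbf3d9a78218a3925bafa29aabb2d59741149351579f61969b71d18700108310538f20928b30ddf6c70cf2d74ffee78efaf7c9e68608e2964beea68aeab6c5d64504d25547de6586da75c1c60400c21443ce2482ca34cc31db7d35cb3e39fbff3debb8219a79258a3a29bafb2daab41159751549361979f71d69b00118710508320938f30d28bc70df6d74cf2e78ffef7cefa8609e69648e2a68beeb6caea4505d65544d26587de75c6da0401c61440c22483ce34c2cacb3d35db7c31ebbf3dfbfe398a39259a7821aabb2dbafa2949351559741169b71d79f61908310518700128b30d38f209cf2d74df6c70efaf7cffee788e29649e6860aeab6cbeea684d25545d64506da75c7de6580c21441c60402ca34c3ce248e39ebbf3dfbfc31cb3d35db7a29aabb2dbaf8218a39259a761969b71d79f41149351559720928b30d38f0010831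05187e78efaf7cffec70cf2d74df6a68aeab6cbee8608e29649e66586da75c7de4504d25545d62482ca34c3ce0400c21441c6ebbe39fbff3dcb3c31db7d35aaba29bafb2d8a38219a792569b61979f71d49341159751528b20938f30d083001187105efae78ffef7ccf2c70df6d74aeaa68beeb6c8e28609e69646da6587de75c4d24505d65542ca2483ce34c0c20401c6144f3dfbfe39ebbd35db7c31cb3b2dbafa29aab9259a78218a371d79f61969b51559741149330d38f20928b105187001083f7cffee78efad74df6c70cf2b6cbeea68aea9649e68608e275c7de6586da5545d64504d234c3ce2482ca1441c60400c2fbff3debbe39db7d35cb3c31bafb2daaba299a79258a382179f71d69b61959751549341138f30d28b209187105083001ffef7cefae78df6d74cf2c70beeb6caeaa689e69648e28607de75c6da6585d65544d24503ce34c2ca2481c61440c2040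
/-- table -/
def iT : ℕ := 0x2302e03503c02702a03103802f02203d03402b02603903003703e02102c03303a02502803b03202902403f03602d02001f01a01901c01b01e01d01801301601101401701201501000b00a00d00c00f00e009008007006005004003002001000
/-- table -/
def lT : ℕ := 0x4002003003004004003005004004003003002004003005002004005005004002003005004004003001004004005003003003002004003001002002001003002004003003002002003001002004001003004004003003004002003003002000
/-- table -/
def d0 : ℕ := 0x3f03e03d03c03b03a03903803703603503403303203103002f02e02d02c02b02a02902802702602502402302202102001f01e01d01c01b01a01901801701601501401301201101000f00e00d00c00b00a009008007006005004003002001000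
/-- table -/
def d2 : ℕ := 0x7607707507407207307107007e07f07d07c07a07b07907806e06f06d06c06a06b06906806606706506406206306106005605705505405205305105005e05f05d05c05a05b05905804e04f04d04c04a04b04904804604704504404204304104003603703503403203303103003e03f03d03c03a03b03903802e02f02d02c02a02b02902802602702502402202302102001601701501401201301101001e01f01d01c01a01b01901800e00f00d00c00a00b009008006007005004002003001000
/-- table -/
def dA0 : ℕ := 0x7207307107007607707507407a07b07907807e07f07d07c06a06b06906806e06f06d06c06206306106006606706506405205305105005605705505405a05b05905805e05f05d05c04a04b04904804e04f04d04c04204304104004604704504403603703503403203303103003e03f03d03c03a03b03903802e02f02d02c02a02b02902802602702502402202302102001601701501401201301101001e01f01d01c01a01b01901800e00f00d00c00a00b009008006007005004002003001000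
/-- table -/
def dA1 : ℕ := 0x7607707507407207307107007e07f07d07c07a07b07907806e06f06d06c06a06b06906806606706506406206306106005205305105005605705505405a05b05905805e05f05d05c04a04b04904804e04f04d04c04204304104004604704504403203303103003603703503403a03b03903803e03f03d03c02a02b02902802e02f02d02c02202302102002602702502401601701501401201301101001e01f01d01c01a01b01901800e00f00d00c00a00b009008006007005004002003001000
/-- table -/
def dB0 : ℕ := 0xff0ef0f90e90fb0eb0fd0ed0f30e30f50e50f70e70f10e10fe0ea0f80ec0fa0ee0fc0e80f20e60f40e00f60e20f00e407b06b07d06d07f06f07906907706707106107306307506507a06e07c06807e06a07806c0760620700640720660740600bb0ab0bd0ad0bf0af0b90a90b70a70b10a10b30a30b50a50ba0ae0bc0a80be0aa0b80ac0b60a20b00a40b20a60b40a003f02f03902903b02b03d02d03302303502503702703102103e02a03802c03a02e03c0280320260340200360220300240db0cb0dd0cd0df0cf0d90c90d70c70d10c10d30c30d50c50da0ce0dc0c80de0ca0d80cc0d60c20d00c40d20c60d40c005f04f05904905b04b05d04d05304305504505704705104105e04a05804c05a04e05c04805204605404005604205004409f08f09908909b08b09d08d09308309508509708709108109e08a09808c09a08e09c08809208609408009608209008401b00b01d00d01f00f01900901700701100101300301500501a00e01c00801e00a01800c016002010004012006014000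
/-- table -/
def dB1 : ℕ := 0xff0ef0f90e90fb0eb0fd0ed0f30e30f50e50f70e70f10e10fe0ea0f80ec0fa0ee0fc0e80f20e60f40e00f60e20f00e407f06f07906907b06b07d06d07306307506507706707106107e06a07806c07a06e07c0680720660740600760620700640bb0ab0bd0ad0bf0af0b90a90b70a70b10a10b30a30b50a50ba0ae0bc0a80be0aa0b80ac0b60a20b00a40b20a60b40a003b02b03d02d03f02f03902903702703102103302303502503a02e03c02803e02a03802c0360220300240320260340200df0cf0d90c90db0cb0dd0cd0d30c30d50c50d70c70d10c10de0ca0d80cc0da0ce0dc0c80d20c60d40c00d60c20d00c405f04f05904905b04b05d04d05304305504505704705104105e04a05804c05a04e05c04805204605404005604205004409b08b09d08d09f08f09908909708709108109308309508509a08e09c08809e08a09808c09608209008409208609408001b00b01d00d01f00f01900901700701100101300301500501a00e01c00801e00a01800c016002010004012006014000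
/-- table -/
def dW : ℕ := 0xff0fe0fd0fc0fb0fa0f90f80f70f60f50f40f30f20f10f00ef0ee0ed0ec0eb0ea0e90e80e70e60e50e40e30e20e10e00db0da0d90d80df0de0dd0dc0d30d20d10d00d70d60d50d40cb0ca0c90c80cf0ce0cd0cc0c30c20c10c00c70c60c50c40bb0ba0b90b80bf0be0bd0bc0b30b20b10b00b70b60b50b40ab0aa0a90a80af0ae0ad0ac0a30a20a10a00a70a60a50a409f09e09d09c09b09a09909809709609509409309209109008f08e08d08c08b08a08908808708608508408308208108007f07e07d07c07b07a07907807707607507407307207107006f06e06d06c06b06a06906806706606506406306206106005b05a05905805f05e05d05c05305205105005705605505404b04a04904804f04e04d04c04304204104004704604504403b03a03903803f03e03d03c03303203103003703603503402b02a02902802f02e02d02c02302202102002702602502401f01e01d01c01b01a01901801701601501401301201101000f00e00d00c00b00a009008007006005004003002001000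
/-- table -/
def dX0 : ℕ := 0x1ff1ef1f91e91fb1eb1fd1ed1f31e31f51e51f71e71f11e11fe1ea1f81ec1fa1ee1fc1e81f21e61f41e01f61e21f01e403b02b03d02d03f02f03902903702703102103302303502503a02e03c02803e02a03802c0360220300240320260340200bb0ab0bd0ad0bf0af0b90a90b70a70b10a10b30a30b50a50ba0ae0bc0a80be0aa0b80ac0b60a20b00a40b20a60b40a017f16f17916917b16b17d16d17316317516517716717116117e16a17816c17a16e17c16817216617416017616217016419f18f19918919b18b19d18d19318319518519718719118119e18a19818c19a18e19c18819218619418019618219018405b04b05d04d05f04f05904905704705104105304305504505a04e05c04805e04a05804c0560420500440520460540400db0cb0dd0cd0df0cf0d90c90d70c70d10c10d30c30d50c50da0ce0dc0c80de0ca0d80cc0d60c20d00c40d20c60d40c011f10f11910911b10b11d10d11310311510511710711110111e10a11810c11a10e11c1081121061141001161021101040fb0eb0fd0ed0ff0ef0f90e90f70e70f10e10f30e30f50e50fa0ee0fc0e80fe0ea0f80ec0f60e20f00e40f20e60f40e013b12b13d12d13f12f1391291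3712713112113312313512513a12e13c12813e12a13812c1361221301241321261341201bb1ab1bd1ad1bf1af1b91a91b71a71b11a11b31a31b51a51ba1ae1bc1a81be1aa1b81ac1b61a21b01a41b21a61b41a007b06b07d06d07f06f07906907706707106107306307506507a06e07c06807e06a07806c07606207006407206607406009b08b09d08d09f08f09908909708709108109308309508509a08e09c08809e08a09808c09608209008409208609408015b14b15d14d15f14f15914915714715114115314315514515a14e15c14815e14a15814c1561421501441521461541401db1cb1dd1cd1df1cf1d91c91d71c71d11c11d31c31d51c51da1ce1dc1c81de1ca1d81cc1d61c21d01c41d21c61d41c001b00b01d00d01f00f01900901700701100101300301500501a00e01c00801e00a01800c016002010004012006014000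
/-- table -/
def dX1 : ℕ := 0x1ff1ef1f91e91fb1eb1fd1ed1f31e31f51e51f71e71f11e11fe1ea1f81ec1fa1ee1fc1e81f21e61f41e01f61e21f01e403b02b03d02d03f02f03902903702703102103302303502503a02e03c02803e02a03802c0360220300240320260340200bb0ab0bd0ad0bf0af0b90a90b70a70b10a10b30a30b50a50ba0ae0bc0a80be0aa0b80ac0b60a20b00a40b20a60b40a017f16f17916917b16b17d16d17316317516517716717116117e16a17816c17a16e17c16817216617416017616217016419f18f19918919b18b19d18d19318319518519718719118119e18a19818c19a18e19c18819218619418019618219018405b04b05d04d05f04f05904905704705104105304305504505a04e05c04805e04a05804c0560420500440520460540400db0cb0dd0cd0df0cf0d90c90d70c70d10c10d30c30d50c50da0ce0dc0c80de0ca0d80cc0d60c20d00c40d20c60d40c011f10f11910911b10b11d10d11310311510511710711110111e10a11810c11a10e11c1081121061141001161021101040fb0eb0fd0ed0ff0ef0f90e90f70e70f10e10f30e30f50e50fa0ee0fc0e80fe0ea0f80ec0f60e20f00e40f20e60f40e013b12b13d12d13f12f1391291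3712713112113312313512513a12e13c12813e12a13812c1361221301241321261341201bb1ab1bd1ad1bf1af1b91a91b71a71b11a11b31a31b51a51ba1ae1bc1a81be1aa1b81ac1b61a21b01a41b21a61b41a007b06b07d06d07f06f07906907706707106107306307506507a06e07c06807e06a07806c07606207006407206607406009b08b09d08d09f08f09908909708709108109308309508509a08e09c08809e08a09808c09608209008409208609408015b14b15d14d15f14f15914915714715114115314315514515a14e15c14815e14a15814c1561421501441521461541401db1cb1dd1cd1df1cf1d91c91d71c71d11c11d31c31d51c51da1ce1dc1c81de1ca1d81cc1d61c21d01c41d21c61d41c001b00b01d00d01f00f01900901700701100101300301500501a00e01c00801e00a01800c016002010004012006014000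
/-- `T`; the code of `up β (a, x, c)` is `β + 4 a + 8 x + 32 c`; generators `i₁, j₁, i₂, j₂, e` -/
def T0 : Md := ⟨1, fun a b => Nat.land (Nat.shiftRight tT (Nat.mul 6 (Nat.add (Nat.mul 64 a) b))) 63, lk iT, [26, 11, 14, 23, 36]⟩
instance oT : T0.Ok := Md.ok_of (lk lT) (by decide +kernel) (by decide +kernel) (by decide +kernel) (by decide +kernel) (by decide +kernel)
theorem x0 : Xc T0 d0 0 := by decide +kernel
/-- `T ⟨t⟩`, `t = 64` -/
def M0 : Md := T0.ext d0 0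
instance o0 : M0.Ok := x0.ok
theorem x2 : Xc M0 d2 0 := by decide +kernel
/-- `T ⟨t, s⟩`, `s = 128` -/
def M2 : Md := M0.ext d2 0
instance o2 : M2.Ok := x2.ok
theorem xA : ∀ c, Xc M0 (cond c dA1 dA0) 0 := by decide +kernel
/-- `T ⟨t, d⟩` for `D1`, `d = 128` -/
def MA (c : Bool) : Md := M0.ext (cond c dA1 dA0) 0
instance oA (c : Bool) : (MA c).Ok := (xA c).ok
theorem xB : ∀ c, Xc M2 (cond c dB1 dB0) 0 := by decide +kernel
/-- `T ⟨t, s, d⟩` for `D2`, `d = 256` -/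
def MB (c : Bool) : Md := M2.ext (cond c dB1 dB0) 0
instance oB (c : Bool) : (MB c).Ok := (xB c).ok
theorem xW : Xc M2 dW 4 := by decide +kernel
/-- `T ⟨t, s, w⟩` for `Bw`, `w = 256` -/
def MW : Md := M2.ext dW 4
instance oW : MW.Ok := xW.ok
theorem xX : ∀ c, Xc MW (cond c dX1 dX0) (cond c 4 0) := by decide +kernel
/-- `T ⟨t, s, w, x⟩` for `Bx`, `x = 512` -/
def MX (c : Bool) : Md := MW.ext (cond c dX1 dX0) (cond c 4 0)
instance oX (c : Bool) : (MX c).Ok := (xX c).ok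
/-- bits as elements of the prime field -/
def kb (n : ℕ) : U2.K 𝔽 := if n % 2 = 1 then 1 else 0
/-- the element of `T` with code `c` -/
def tc (c : ℕ) : Γ4 := up (H15.GC.F4.e c) (kb (c / 4), H15.GC.F4.e (c / 8), kb (c / 32))
theorem tcU (c : ℕ) : tc c ∈ U 𝔽 := upU ..
theorem ex_tc {l : Γ4} (hl : l ∈ U 𝔽) : ∃ c < 64, l = tc c := by
  obtain ⟨β, y, rfl⟩ := hl
  exact (by decide +kernel : ∀ (β : 𝔽) (y : Hm 𝔽), ∃ c < 64, up β y = tc c) β y
theorem tcQ : ∀ c < 32, tc c ∈ Qs 𝔽 := fun c hc =>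
  (by decide +kernel : ∀ c < 32, q (H15.GC.F4.e c, H15.GC.F4.e (c / 8)) (kb (c / 4)) = tc c) c hc ▸ qQ ..
theorem ex_tcQ {l : Γ4} (hl : l ∈ Qs 𝔽) : ∃ c < 32, l = tc c := by
  obtain ⟨v, α, rfl⟩ := hl
  exact (by decide +kernel : ∀ (v : 𝔽 × 𝔽) α, ∃ c < 32, q v α = tc c) v α
theorem tcV (c : ℕ) (k : c % 4 = 0) : tc c ∈ As 𝔽 := ⟨_, by rw [tc, show H15.GC.F4.e c = 0 from Fin.ext k]⟩
theorem ex_tcV {l : Γ4} (hl : l ∈ As 𝔽) : ∃ c < 64, c % 4 = 0 ∧ l = tc c := by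
  obtain ⟨y, rfl⟩ := hl
  exact (by decide +kernel : ∀ y : Hm 𝔽, ∃ c < 64, c % 4 = 0 ∧ up 0 y = tc c) y
/-- the model of `T` inside `Γ4` -/
def ψT : W T0 →* Γ4 := homOf (fun a => tc a.c) (by decide +kernel) (by decide +kernel)
theorem ψT_inj : Function.Injective ψT := (injective_iff_map_eq_one _).2 (by decide +kernel : ∀ a : W T0, tc a.c = 1 → a = 1)
theorem ψT_el {c : ℕ} (k : c < 64) : ψT (el T0 c) = tc c := congrArg tc (c_el k)
theorem ψT_rg : ψT.range = U 𝔽 :=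
  le_antisymm (by rintro _ ⟨a, rfl⟩; exact tcU _) fun _ hl => let ⟨_, k, e⟩ := ex_tc hl; ⟨_, (ψT_el k).trans e.symm⟩
variable (ι Ψ) in
/-- a model extending `T` -/
structure Re : Prop where
  inj : Function.Injective Ψ
  T : ∀ c < 64, Ψ (el M c) = ι (tc c)
namespace Re
variable (r : Re Ψ ι)
include r
theorem cz : Ψ (el M 4) = ι zz := (r.T _ (by decide)).trans (congrArg ι (by decide +kernel))
theorem ce : Ψ (el M 36) = ι e0 := (r.T _ (by decide)).trans (congrArg ι (by decide +kernel))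
theorem cv : Ψ (el M 8) = ι v0 := (r.T _ (by decide)).trans (congrArg ι (by decide +kernel))
theorem ci1 : Ψ (el M 26) = ι i1 := (r.T _ (by decide)).trans (congrArg ι (by decide +kernel))
theorem cj1 : Ψ (el M 11) = ι j1 := (r.T _ (by decide)).trans (congrArg ι (by decide +kernel))
theorem ck1 : Ψ (el M 17) = ι k1 := (r.T _ (by decide)).trans (congrArg ι (by decide +kernel))
theorem ci2 : Ψ (el M 14) = ι i2 := (r.T _ (by decide)).trans (congrArg ι (by decide +kernel))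
theorem cj2 : Ψ (el M 23) = ι j2 := (r.T _ (by decide)).trans (congrArg ι (by decide +kernel))
theorem ck2 : Ψ (el M 29) = ι k2 := (r.T _ (by decide)).trans (congrArg ι (by decide +kernel))
theorem cz0 : Ψ (el M 32) = ι (zb 0) := (r.T _ (by decide)).trans (congrArg ι (by decide +kernel))
theorem cz1 : Ψ (el M 44) = ι (zb 1) := (r.T _ (by decide)).trans (congrArg ι (by decide +kernel))
theorem czω : Ψ (el M 52) = ι (zb ω) := (r.T _ (by decide)).trans (congrArg ι (by decide +kernel))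
theorem czν : Ψ (el M 60) = ι (zb ν) := (r.T _ (by decide)).trans (congrArg ι (by decide +kernel))
theorem lo (k : a.c < 64) : Ψ a = ι (tc a.c) := by rw [← r.T _ k, el_c]
theorem le : Tm ι ≤ Ψ.range := by rintro _ ⟨l, hl, rfl⟩; obtain ⟨c, k, rfl⟩ := ex_tc hl; exact ⟨_, r.T c k⟩
theorem memT (n : 64 ≤ M.n) : Ψ a ∈ Tm ι ↔ a.c < 64 := ⟨fun ⟨l, hl, e⟩ => by
  obtain ⟨c, k, rfl⟩ := ex_tc hl
  rwa [← r.inj ((r.T c k).trans e), c_el (k.trans_le n)], fun k => ⟨_, tcU _, (r.lo k).symm⟩⟩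
theorem memQ (n : 64 ≤ M.n) : Ψ a ∈ Qm ι ↔ a.c < 32 := ⟨fun ⟨l, hl, e⟩ => by
  obtain ⟨c, k, rfl⟩ := ex_tcQ hl
  rwa [← r.inj ((r.T c (by omega)).trans e), c_el (by omega)], fun k => ⟨_, tcQ _ k, (r.lo (by omega)).symm⟩⟩
theorem memV (n : 64 ≤ M.n) : Ψ a ∈ Vm ι ↔ a.c < 64 ∧ a.c % 4 = 0 := ⟨fun ⟨l, hl, e⟩ => by
  obtain ⟨c, k, k', rfl⟩ := ex_tcV hl
  rw [← r.inj ((r.T c k).trans e), c_el (k.trans_le n)]; exact ⟨k, k'⟩, fun k => ⟨_, tcV _ k.2, (r.lo k.1).symm⟩⟩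
/-- elements of `L` in a 2-group model -/
theorem memL {j : ℕ} (e : M.n = 2 ^ j) (n : 64 ≤ M.n) (k : Ψ a ∈ ι.range) : a.c < 64 := by
  obtain ⟨l, p⟩ := k
  exact (r.memT n).1 (p ▸ T_L (pg_rg r.inj e) r.le ⟨a, p.symm⟩)
theorem cQ (k : Ψ a ∈ C(Qm ι)) : a * el M 26 = el M 26 * a ∧ a * el M 11 = el M 11 * a ∧ a * el M 14 = el M 14 * a ∧ a * el M 23 = el M 23 * a := by
  refine ⟨r.inj ?_, r.inj ?_, r.inj ?_, r.inj ?_⟩ <;> rw [map_mul, map_mul]
  exacts [r.ci1 ▸ (k _ ⟨_, i1Q, rfl⟩).symm, r.cj1 ▸ (k _ ⟨_, j1Q, rfl⟩).symm, r.ci2 ▸ (k _ ⟨_, i2Q, rfl⟩).symm, r.cj2 ▸ (k _ ⟨_, j2Q, rfl⟩).symm]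
/-- the first alternative in a model -/
theorem rk (h : St ι t X) (hS : Syl 2 Ψ.range ⊤) (ht : t ∉ X) (p : Ψ (el M 64) = t)
    (k : ∀ a : W M, a * el M 26 = el M 26 * a ∧ a * el M 11 = el M 11 * a ∧ a * el M 14 = el M 14 * a ∧ a * el M 23 = el M 23 * a →
      a = 1 ∨ a = el M 64 ∨ a = el M 4 ∨ a = el M 64 * el M 4) : Rk X := by
  refine G38.rk h hS ht ((map_mono QU).trans r.le) ?_
  rintro _ ⟨a, rfl⟩ c
  rcases k a (r.cQ c) with rfl | rfl | rfl | rfl <;> simp [p, r.cz]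
theorem lift (k : Xc M δ a0) [(M.ext δ a0).Ok] (n : 64 ≤ M.n) (e : ∀ g ∈ M.gs, x * Ψ (el M g) * x⁻¹ = Ψ (el M (lk δ g)))
    (xx : x * x = Ψ (el M a0)) (x1 : x ∉ Ψ.range) : ∃ Φ : W (M.ext δ a0) →* G, Re Φ ι ∧ (∀ c < M.n, Φ (el _ c) = Ψ (el M c)) ∧
      Φ (el _ M.n) = x ∧ Φ.range = Ψ.range ⊔ zpowers x :=
  let ⟨Φ, p1, p2, p3⟩ := k.lift r.inj e xx x1; ⟨Φ, ⟨p1, fun c hc => (p2 c (hc.trans_le n)).trans (r.T c hc)⟩, p2, p3⟩
end Re
omit h
variable {s d w : G}
theorem reT (he : Function.Injective ι) : Re (ι.comp ψT) ι ∧ (ι.comp ψT).range = Tm ι :=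
  ⟨⟨he.comp ψT_inj, fun _ k => congrArg ι (ψT_el k)⟩, by rw [MonoidHom.range_comp, ψT_rg]⟩
theorem re0 (H : Hyp ι t) : ∃ Ψ : W M0 →* G, Re Ψ ι ∧ Ψ (el _ 64) = t ∧ Ψ.range = Tm ι ⊔ zpowers t := by
  obtain ⟨r, e⟩ := reT H.inj
  obtain ⟨Φ, h1, -, h3, h4⟩ := @Re.lift _ _ _ _ _ _ _ _ t _ r x0 o0 le_rfl (fun g hg => by
    rw [(by decide +kernel : ∀ g ∈ T0.gs, lk d0 g = g) g hg]; exact mul_inv_eq_iff_eq_mul.2 (H.cen _)) (by rw [H.tt, el_0, map_one])
    fun ⟨a, p⟩ => H.tL _ p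
  exact ⟨Φ, h1, h3, e ▸ h4⟩
theorem re2 (H : Hyp ι t) (o : Os ι t s) : ∃ Ψ : W M2 →* G, Re Ψ ι ∧ Ψ (el _ 64) = t ∧ Ψ (el _ 128) = s ∧ Ψ.range = Tm ι ⊔ zpowers t ⊔ zpowers s := by
  obtain ⟨Ψ, r, p, e⟩ := re0 H
  obtain ⟨Φ, h1, h2, h3, h4⟩ := @Re.lift _ _ _ _ _ _ _ _ s _ r x2 o2 (by decide) (fun g hg => by
    rcases (by decide +kernel : ∀ g ∈ M0.gs, g = 64 ∧ lk d2 g = 64 ∨ g < 64 ∧ lk d2 g < 64 ∧ φ st (tc g) = tc (lk d2 g)) g hg with ⟨rfl, k⟩ | ⟨k1, k2, k⟩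
    · rw [k, p, o.ct, mul_inv_cancel_right]
    · rw [r.T _ k1, r.T _ k2, o.ac, k]) (by rw [o.ss, el_0, map_one]) fun k => ac_uq H.inj (ac_0 H (e ▸ k)) o.act
  exact ⟨Φ, h1, (h2 _ (by decide)).trans p, h3, e ▸ h4⟩
theorem tz_ne (H : Hyp ι t) (k : d * t * d⁻¹ = t * ι zz) : d ∉ C[t] := fun c =>
  zz1 (H.inj (by rw [mem_cent1.1 c, mul_inv_cancel_right, left_eq_mul] at k; rw [k, map_one]))
theorem reA (H : Hyp ι t) (k : D1 ι t d) : ∃ c, ∃ Ψ : W (MA c) →* G, Re Ψ ι ∧ Ψ (el _ 64) = t ∧ Ψ (el _ 128) = d ∧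
    Ψ.range = Tm ι ⊔ zpowers t ⊔ zpowers d := by
  obtain ⟨Ψ, r, p, e⟩ := re0 H
  obtain ⟨c, q⟩ : ∃ c, d * ι e0 * d⁻¹ = Ψ (cond c (el _ 36 * el _ 4) (el _ 36)) :=
    k.de.elim (fun q => ⟨false, q.trans r.ce.symm⟩) fun q => ⟨true, by rw [q, cond_true, map_mul, r.ce, r.cz]⟩
  obtain ⟨Φ, h1, h2, h3, h4⟩ := @Re.lift _ _ _ _ _ _ _ _ d _ r (xA c) (oA c) (by decide) (fun g hg => by
    rcases (by decide +kernel : ∀ c, ∀ g ∈ M0.gs, g = 64 ∧ el M0 (lk (cond c dA1 dA0) g) = el _ 64 * el _ 4 ∨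
      g = 36 ∧ el M0 (lk (cond c dA1 dA0) g) = cond c (el _ 36 * el _ 4) (el _ 36) ∨
      g < 32 ∧ lk (cond c dA1 dA0) g < 64 ∧ φ st (tc g) = tc (lk (cond c dA1 dA0) g)) c g hg with ⟨rfl, j⟩ | ⟨rfl, j⟩ | ⟨k1, k2, j⟩
    · rw [j, map_mul, p, r.cz, k.dt]
    · rw [j, r.ce, q]
    · rw [r.T _ (by omega), r.T _ k2, k.dq _ (tcQ g k1), j]) (by rw [k.dd, el_0, map_one]) fun j => tz_ne H k.dt (S0_Ct H (e ▸ j))
  exact ⟨c, Φ, h1, (h2 _ (by decide)).trans p, h3, e ▸ h4⟩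
theorem Ta.z (k : Ta ι d) : d * ι zz * d⁻¹ = ι zz := by
  rw [(by decide +kernel : zz = i2 * i2), map_mul, ← conj_mul, k.a2]
theorem reB (H : Hyp ι t) (k : D2 ι t s d) : ∃ c, ∃ Ψ : W (MB c) →* G, Re Ψ ι ∧ Ψ (el _ 64) = t ∧ Ψ (el _ 128) = s ∧ Ψ (el _ 256) = d ∧
    Ψ.range = Tm ι ⊔ zpowers t ⊔ zpowers s ⊔ zpowers d := by
  obtain ⟨Ψ, r, p, p', e⟩ := re2 H k.os
  have di : d⁻¹ = d := inv_eq_of_mul_eq_one_right k.dd
  have zi : ι zz * ι zz = 1 := by rw [← map_mul, zz2, map_one]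
  obtain ⟨c, q, q'⟩ : ∃ c, d * ι e0 * d⁻¹ = Ψ (cond c (el _ 128 * el _ 4) (el _ 128)) ∧ d * s * d⁻¹ = Ψ (cond c (el _ 36 * el _ 4) (el _ 36)) := by
    rcases k.de with q | q
    · exact ⟨false, q.trans p'.symm, by rw [← q, ← cj2, k.dd, cond_false, r.ce]; simp⟩
    · refine ⟨true, by rw [q, cond_true, map_mul, p', r.cz], ?_⟩
      rw [← mul_one s, ← zi, ← mul_assoc s, ← q, ← conj_mul, ← cj2, k.dd, k.ta.z, cond_true, map_mul, r.ce, r.cz]; simp
  obtain ⟨Φ, h1, h2, h3, h4⟩ := @Re.lift _ _ _ _ _ _ _ _ d _ r (xB c) (oB c) (by decide) (by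
    have j := (by decide +kernel : ∀ c, M2.gs.map (fun g => el M2 (lk (cond c dB1 dB0) g)) = [(el _ 11)⁻¹, (el _ 26)⁻¹, el _ 14, el _ 23,
      cond c (el _ 128 * el _ 4) (el _ 128), el _ 64 * el _ 4, cond c (el _ 36 * el _ 4) (el _ 36)]) c
    simp only [show M2.gs = [26, 11, 14, 23, 36, 64, 128] from rfl, List.map, List.cons.injEq, List.forall_mem_cons] at j ⊢
    simp [j, r.ci1, r.cj1, r.ci2, r.cj2, r.ce, r.cz, p, p', q, q', k.ta.a1, k.ta.b1, k.ta.a2, k.ta.b2, k.dt])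
    (by rw [k.dd, el_0, map_one]) fun j => tz_ne H k.dt (k.os.le H (e ▸ j))
  exact ⟨c, Φ, h1, (h2 _ (by decide)).trans p, (h2 _ (by decide)).trans p', h3, e ▸ h4⟩
theorem Bw.wt (H : Hyp ι t) (k : Bw ι t s w) : w * t * w⁻¹ = t * ι zz := Bd.wt H ⟨k.ww, k.tw, k.wq, .inr ⟨s, k.os, k.sw⟩⟩
theorem cq_cj (k : w ∈ C(Qm ι)) {l : Γ4} (hl : l ∈ Qs 𝔽) : w * ι l * w⁻¹ = ι l := mul_inv_eq_iff_eq_mul.2 (k _ ⟨l, hl, rfl⟩).symm
theorem reW (H : Hyp ι t) (k : Bw ι t s w) : ∃ Ψ : W MW →* G, Re Ψ ι ∧ Ψ (el _ 64) = t ∧ Ψ (el _ 128) = s ∧ Ψ (el _ 256) = w ∧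
    Ψ.range = Tm ι ⊔ zpowers t ⊔ zpowers s ⊔ zpowers w := by
  obtain ⟨Ψ, r, p, p', e⟩ := re2 H k.os
  obtain ⟨Φ, h1, h2, h3, h4⟩ := @Re.lift _ _ _ _ _ _ _ _ w _ r xW oW (by decide) (by
    have j := (by decide +kernel : M2.gs.map (fun g => el M2 (lk dW g)) = [el _ 26, el _ 11, el _ 14, el _ 23, el _ 36 * el _ 4, el _ 64 * el _ 4, el _ 128])
    simp only [show M2.gs = [26, 11, 14, 23, 36, 64, 128] from rfl, List.map, List.cons.injEq, List.forall_mem_cons] at j ⊢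
    simp [j, r.ci1, r.cj1, r.ci2, r.cj2, r.ce, r.cz, p, p', cq_cj k.wq, i1Q, j1Q, i2Q, j2Q, k.we, k.wt H, ← k.sw])
    (by rw [k.ww, r.cz]) fun j => tz_ne H (k.wt H) (k.os.le H (e ▸ j))
  exact ⟨Φ, h1, (h2 _ (by decide)).trans p, (h2 _ (by decide)).trans p', h3, e ▸ h4⟩
theorem reX (H : Hyp ι t) (k : Bw ι t s w) (b : Bx ι t s w x) : ∃ c, ∃ Ψ : W (MX c) →* G, Re Ψ ι ∧ Ψ (el _ 64) = t ∧ Ψ (el _ 128) = s ∧
    Ψ (el _ 256) = w ∧ Ψ (el _ 512) = x ∧ Ψ.range = Tm ι ⊔ zpowers t ⊔ zpowers s ⊔ zpowers w ⊔ zpowers x := by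
  obtain ⟨Ψ, r, p, p', p'', e⟩ := reW H k
  obtain ⟨c, q⟩ : ∃ c, x * x = Ψ (el _ (cond c 4 0)) :=
    b.xx.elim (fun q => ⟨false, by rw [q, cond_false, el_0, map_one]⟩) fun q => ⟨true, q.trans r.cz.symm⟩
  have xe : x * ι e0 * x⁻¹ = t * w * s * ι zz := by
    rw [← b.xt, ← b.xr, ← b.ta.z, conj_mul, conj_mul, ← mul_assoc t, H.tt, one_mul, ← map_mul, (by decide +kernel : zb 0 * zz = e0)]
  obtain ⟨Φ, h1, h2, h3, h4⟩ := @Re.lift _ _ _ _ _ _ _ _ x _ r (xX c) (oX c) (by decide) (by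
    have j := (by decide +kernel : ∀ c, MW.gs.map (fun g => el MW (lk (cond c dX1 dX0) g)) = [(el _ 11)⁻¹, (el _ 26)⁻¹, el _ 14, el _ 23,
      el _ 64 * el _ 256 * el _ 128 * el _ 4, el _ 64 * el _ 256, el _ 64 * el _ 32, (el _ 256)⁻¹]) c
    simp only [show MW.gs = [26, 11, 14, 23, 36, 64, 128, 256] from rfl, List.map, List.cons.injEq, List.forall_mem_cons] at j ⊢
    simp [j, r.ci1, r.cj1, r.ci2, r.cj2, r.ce, r.cz, r.cz0, p, p', p'', b.ta.a1, b.ta.b1, b.ta.a2, b.ta.b2, xe, b.xt, b.xs, b.xw]) q fun ⟨g, j⟩ =>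
      (by decide +kernel : ∀ g : W MW, g * el _ 64 ≠ el _ 64 * el _ 256 * g) g (r.inj (by
        rw [map_mul, map_mul, map_mul, j, p, p'', ← b.xt, inv_mul_cancel_right]))
  exact ⟨c, Φ, h1, (h2 _ (by decide)).trans p, (h2 _ (by decide)).trans p', (h2 _ (by decide)).trans p'', h3, e ▸ h4⟩
end
end H18.G38
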