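import Mathlib
import Cfsg.Prelude.Def_FusionComponents
set_option autoImplicit false
/-! Interface for S5242 (central extensions of realizable fusion systems): cochains on lists, best offenders,
chunk statements. Paper proofs: notes/CL.md. -/
namespace H18.CL
open Subgroup Pointwise

universe u v

/-! ### Part BT: faithful modules, offenders, transvections -/
section bt
variable {G : Type*} [Group G] (D : Type*) [AddCommGroup D] [DistribMulAction G D]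

/-- fixed points of a subgroup -/
def fx (B : Subgroup G) : AddSubgroup D where
  carrier := {d | ∀ g ∈ B, g • d = d}
  zero_mem' := fun g _ => smul_zero g
  add_mem' := fun {a b} ha hb g hg => by rw [smul_add, ha g hg, hb g hg]
  neg_mem' := fun {a} ha g hg => by rw [smul_neg, ha g hg]

theorem mem_fx {B : Subgroup G} {d : D} : d ∈ fx D B ↔ ∀ g ∈ B, g • d = d := Iff.rfl

/-- nontrivial abelian best offender -/
def BO (A : Subgroup G) : Prop :=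
  A ≠ ⊥ ∧ (∀ a ∈ A, ∀ b ∈ A, a * b = b * a) ∧
    ∀ B ≤ A, Nat.card B * Nat.card (fx D B) ≤ Nat.card A * Nat.card (fx D A)

def Qf (P : Subgroup G) : Prop := ∃ A ≤ P, BO D A

/-- trivial norms from index `p` subgroups on the `p`-torsion -/
def NG (p : ℕ) (J : Subgroup G) : Prop :=
  ∀ J₁ ≤ J, J₁.relIndex J = p → ∃ a ∈ J, a ∉ J₁ ∧
    ∀ w ∈ fx D J₁, p • w = 0 → ∑ i ∈ Finset.range p, a ^ i • w = 0

def Good (p : ℕ) (J : Subgroup G) : Prop := IsPGroup p J ∧ Qf D J ∧ NG D p J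

variable {D}
/-- `c` is a transvection with centre `v` -/
def Tv (c : G) (v : D) : Prop := v ≠ 0 ∧ (∃ d : D, c • d ≠ d) ∧ ∀ d : D, c • d = d ∨ c • d = d + v

variable (D)
/-- subgroup generated by the transvections in `T` -/
def ET (T : Subgroup G) : Subgroup G := closure {c | c ∈ T ∧ ∃ v : D, Tv c v}

/-- cocycle on pairs of Sylow subgroups -/
def Cy {p : ℕ} (Q : Subgroup G → Prop) (τ : Sylow p G → Sylow p G → D) : Prop :=
  (∀ (g : G) x y, τ (g • x) (g • y) = g • τ x y) ∧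
    ∀ x y z : Sylow p G, Q ((x : Subgroup G) ⊓ y ⊓ z) → τ x y + τ y z = τ x z

def Cb {p : ℕ} (Q : Subgroup G → Prop) (τ : Sylow p G → Sylow p G → D) : Prop :=
  ∃ σ : Sylow p G → D, (∀ (g : G) x, σ (g • x) = g • σ x) ∧
    ∀ x y : Sylow p G, Q ((x : Subgroup G) ⊓ y) → τ x y = σ y - σ x

/-- the output of the well-placed argument (`N U` is the normalizer, `T = x ⊓ N U`) -/
structure Bad {p : ℕ} (Q : Subgroup G → Prop) (W : Subgroup G → Subgroup G) (U : Subgroup G) (x : Sylow p G)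
    (s : D) : Prop where
  q : Q U
  le : U ≤ x
  syl : ¬ p ∣ ((x : Subgroup G) ⊓ normalizer (U : Set G)).relIndex (normalizer (U : Set G))
  fixT : ∀ g ∈ (x : Subgroup G) ⊓ normalizer (U : Set G), g • s = s
  mv : ∃ g ∈ normalizer (U : Set G), g • s ≠ s
  fixW : ∀ g ∈ normalizer (U : Set G),
    g ∈ normalizer ((W ((x : Subgroup G) ⊓ normalizer (U : Set G)) : Subgroup G) : Set G) → g • s = s
  mx : ∀ U' : Subgroup G, U' ≤ (x : Subgroup G) ⊓ normalizer (U : Set G) → Q U' →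
    (x : Subgroup G) ⊓ normalizer (U : Set G) ≤ normalizer (U' : Set G) →
    (∃ g ∈ normalizer (U : Set G), g ∈ normalizer (U' : Set G) ∧ g • s ≠ s) →
    (x : Subgroup G) ⊓ normalizer (U' : Set G) ≤ normalizer (U : Set G)

/-- `b ∈ T` is a transvection, `b' ∈ N` a transvection not commuting with `b` and commuting with all other
transvections in `T` -/
def Sol (N T : Subgroup G) (b : G) : Prop :=
  b ∈ T ∧ ∃ (v : D) (b' : G) (v' : D), Tv b v ∧ b' ∈ N ∧ Tv b' v' ∧ b' • v ≠ v ∧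
    ∀ c ∈ T, ∀ w : D, Tv c w → c ≠ b → c * b' = b' * c
end bt

/-- basic facts on transvections -/
def TVF : Prop := ∀ (G : Type u) [Group G] (D : Type v) [AddCommGroup D] [DistribMulAction G D] [FaithfulSMul G D],
  (∀ (c : G) (v : D), Tv c v → v + v = 0 ∧ c • v = v ∧ c * c = 1) ∧
  (∀ (c : G) (v w : D), Tv c v → Tv c w → v = w) ∧
  (∀ (c : G) (v d d' : D), Tv c v → (c • (d + d') = d + d' ↔ (c • d = d ↔ c • d' = d'))) ∧
  (∀ (c g : G) (v : D), Tv c v → Tv (g * c * g⁻¹) (g • v)) ∧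
  (∀ (c c' : G) (v v' : D), Tv c v → Tv c' v' → (c * c' = c' * c ↔ c • v' = v' ∧ c' • v = v)) ∧
  (∀ (c c' : G) (v v' : D), Tv c v → Tv c' v' → c • v' ≠ v' → c' • v ≠ v → c * c' * c = c' * c * c') ∧
  (∀ (c c' : G) (v : D), Tv c v → Tv c' v → c ≠ c' → Tv (c * c') v) ∧
  (∀ (P : Subgroup G) (c c' : G) (v v' : D), IsPGroup 2 P → c ∈ P → c' ∈ P → Tv c v → Tv c' v' →
    c • v' = v' ∨ c' • v = v) ∧
  (Finite D → ∀ (c : G) (v : D), Tv c v → BO D (zpowers c)) ∧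
  (Finite D → ∀ (a b : G) (va vb : D), Tv a va → Tv b vb → a • vb ≠ vb → b • va = va →
    Good D 2 (closure {b, a * b * a * b}))

/-- local averaging -/
def B0 : Prop := ∀ (p : ℕ) [Fact p.Prime] (G : Type u) [Group G] [Finite G] (D : Type v) [AddCommGroup D]
  [DistribMulAction G D] (e : ℕ) (_ : ∀ d : D, p ^ e • d = 0) (D₁ : AddSubgroup D)
  (Q : Subgroup G → Prop) (_ : ∀ P P', P ≤ P' → Q P → Q P')
  (τ : Sylow p G → Sylow p G → D) (_ : ∀ x y, τ x y ∈ D₁) (_ : Cy D Q τ),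
  ∃ σ : Subgroup G → Sylow p G → D, (∀ R x, σ R x ∈ D₁) ∧
    (∀ (g : G) R x, σ (MulAut.conj g • R) (g • x) = g • σ R x) ∧
    ∀ (R : Subgroup G) (x y : Sylow p G), Q R → R ≤ x → R ≤ y → τ x y = σ R y - σ R x

/-- well-placed argument -/
def B1 : Prop := ∀ (p : ℕ) [Fact p.Prime] (G : Type u) [Group G] [Finite G] (D : Type v) [AddCommGroup D]
  [DistribMulAction G D] (e : ℕ) (_ : ∀ d : D, p ^ e • d = 0) (D₁ : AddSubgroup D)
  (Q : Subgroup G → Prop) (_ : ∀ P P', P ≤ P' → Q P → Q P') (_ : ∀ (g : G) P, Q P → Q (MulAut.conj g • P))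
  (W : Subgroup G → Subgroup G) (_ : ∀ T, W T ≤ T) (_ : ∀ (g : G) T, W (MulAut.conj g • T) = MulAut.conj g • W T)
  (_ : ∀ T : Subgroup G, IsPGroup p T → Q T → Q (W T))
  (τ : Sylow p G → Sylow p G → D) (_ : ∀ x y, τ x y ∈ D₁) (_ : Cy D Q τ),
  Cb D Q τ ∨ ∃ (U : Subgroup G) (x : Sylow p G) (s : D), s ∈ D₁ ∧ Bad D Q W U x s

/-- Glauberman's norm argument -/
def NA : Prop := ∀ (p : ℕ) [Fact p.Prime] (G : Type u) [Group G] [Finite G] (D : Type v) [AddCommGroup D]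
  [DistribMulAction G D] (e : ℕ) (_ : ∀ d : D, p ^ e • d = 0) (N T M J : Subgroup G),
  T ≤ M → M ≤ N → IsPGroup p T → ¬ p ∣ T.relIndex N → J ≤ T → NG D p J →
  (∀ g ∈ N, MulAut.conj g • J ≤ T → MulAut.conj g • J = J) → N ⊓ normalizer (J : Set G) ≤ M → fx D M ≤ fx D N

/-- minimal best offenders -/
def MO : Prop := ∀ (p : ℕ) [Fact p.Prime] (G : Type u) [Group G] [Finite G] (D : Type v) [AddCommGroup D] [Finite D]
  [DistribMulAction G D] [FaithfulSMul G D] (e : ℕ) (_ : ∀ d : D, p ^ e • d = 0) (P : Subgroup G),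
  IsPGroup p P → Qf D P → (∃ J ≤ P, Good D p J) ∨ (p = 2 ∧ ∃ c ∈ P, ∃ v : D, Tv c v)

/-- failure of the norm argument gives a solitary transvection -/
def EX : Prop := ∀ (G : Type u) [Group G] [Finite G] (D : Type v) [AddCommGroup D] [Finite D]
  [DistribMulAction G D] [FaithfulSMul G D] (e : ℕ) (_ : ∀ d : D, 2 ^ e • d = 0) (N T M : Subgroup G),
  T ≤ M → M ≤ N → IsPGroup 2 T → ¬ 2 ∣ T.relIndex N → (∀ J ≤ T, ¬ Good D 2 J) →
  N ⊓ normalizer ((ET D T : Subgroup G) : Set G) ≤ M → ¬ fx D M ≤ fx D N →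
  ∃ b, Sol D N T b ∧ ∃ g ∈ N, g * b * g⁻¹ ∉ M

/-- globalisation -/
def B3 : Prop := ∀ [Fact (Nat.Prime 2)] (G : Type u) [Group G] [Finite G] (D : Type v) [AddCommGroup D] [Finite D]
  [DistribMulAction G D] [FaithfulSMul G D] (e : ℕ) (_ : ∀ d : D, 2 ^ e • d = 0)
  (W : Subgroup G → Subgroup G) (U : Subgroup G) (x : Sylow 2 G) (s : D) (b : G),
  Bad D (Qf D) W U x s → (∀ J ≤ (x : Subgroup G) ⊓ normalizer (U : Set G), ¬ Good D 2 J) →
  Sol D (normalizer (U : Set G)) ((x : Subgroup G) ⊓ normalizer (U : Set G)) b →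
  (∃ g ∈ normalizer (U : Set G), (g * b * g⁻¹) • s ≠ s) →
  (∀ J : Subgroup G, ¬ Good D 2 J) ∧ Sol D ⊤ (x : Subgroup G) b

/-- the solitary case -/
def B4 : Prop := ∀ [Fact (Nat.Prime 2)] (G : Type u) [Group G] [Finite G] (D : Type v) [AddCommGroup D] [Finite D]
  [DistribMulAction G D] [FaithfulSMul G D] (e : ℕ) (_ : ∀ d : D, 2 ^ e • d = 0) (x : Sylow 2 G) (b : G),
  (∀ J : Subgroup G, ¬ Good D 2 J) → Sol D ⊤ (x : Subgroup G) b →
  ∀ τ : Sylow 2 G → Sylow 2 G → D, Cy D (Qf D) τ → Cb D (Qf D) τ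

/-- the base theorem -/
def BT : Prop := ∀ (p : ℕ) [Fact p.Prime] (G : Type u) [Group G] [Finite G] (D : Type v) [AddCommGroup D] [Finite D]
  [DistribMulAction G D] [FaithfulSMul G D] (e : ℕ) (_ : ∀ d : D, p ^ e • d = 0)
  (τ : Sylow p G → Sylow p G → D), Cy D (Qf D) τ → Cb D (Qf D) τ

/-- assembly of the base theorem -/
def BTA : Prop := TVF.{u, v} → B1.{u, v} → NA.{u, v} → MO.{u, v} → EX.{u, v} → B3.{u, v} → B4.{u, v} → BT.{u, v}

/-! ### Part CX: cochains on lists -/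
section cx
variable {X : Type*} {M : Type*} [AddCommGroup M]

/-- alternating sum of `f` over the faces of a list -/
def dd : List X → (List X → M) → M
  | [], _ => 0
  | x :: l, f => f l - dd l (fun l' => f (x :: l'))

variable {Γ : Type*} [Group Γ] [MulAction Γ X] [DistribMulAction Γ M]

structure Co (K : Subgroup Γ) (R : List X → Prop) (Φ₁ Φ₀ : List X → AddSubgroup M) (n : ℕ) (f : List X → M) :
    Prop where
  mem : ∀ l : List X, l.length = n → R l → f l ∈ Φ₁ l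
  off : ∀ l : List X, l.length = n → ¬ R l → f l = 0
  eqv : ∀ g ∈ K, ∀ l : List X, l.length = n → R l → f (l.map (g • ·)) - g • f l ∈ Φ₀ (l.map (g • ·))

/-- vanishing of the `K`-equivariant cohomology of `Φ₁/Φ₀` supported on `R`, on lists of length `n` -/
def Van (K : Subgroup Γ) (R : List X → Prop) (Φ₁ Φ₀ : List X → AddSubgroup M) (n : ℕ) : Prop :=
  ∀ f : List X → M, Co K R Φ₁ Φ₀ n f → (∀ l : List X, l.length = n + 1 → R l → dd l f ∈ Φ₀ l) →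
    ∃ h : List X → M, (∀ m, m + 1 = n → Co K R Φ₁ Φ₀ m h) ∧
      ∀ l : List X, l.length = n → R l → f l - dd l h ∈ Φ₀ l

/-- pointwise stabilizer in `K` -/
def Pst (K : Subgroup Γ) (l : List X) : Subgroup Γ where
  carrier := {g | g ∈ K ∧ ∀ x ∈ l, g • x = x}
  one_mem' := ⟨K.one_mem, fun x _ => one_smul _ x⟩
  mul_mem' := fun {a b} ha hb => ⟨K.mul_mem ha.1 hb.1, fun x hx => by rw [mul_smul, hb.2 x hx, ha.2 x hx]⟩
  inv_mem' := fun {a} ha => ⟨K.inv_mem ha.1, fun x hx => by rw [inv_smul_eq_iff, ha.2 x hx]⟩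

theorem mem_Pst {K : Subgroup Γ} {l : List X} {g : Γ} : g ∈ Pst K l ↔ g ∈ K ∧ ∀ x ∈ l, g • x = x := Iff.rfl

/-- a model: `K`-set with `p`-group stabilizers and size prime to `p` -/
structure Md (p : ℕ) (K : Subgroup Γ) (Y : Set X) : Prop where
  inv : ∀ g ∈ K, ∀ y ∈ Y, g • y ∈ Y
  pg : ∀ y ∈ Y, IsPGroup p (Pst K [y])
  nd : ¬ p ∣ Y.ncard

/-- lists in `Y` whose stabilizer lies in the family -/
def Rf (K : Subgroup Γ) (Y : Set X) (F : Subgroup Γ → Prop) (l : List X) : Prop := (∀ x ∈ l, x ∈ Y) ∧ F (Pst K l)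

/-- fixed points of `P` on `D₁ / D₀` -/
def Fx (D₁ D₀ : AddSubgroup M) (hD : ∀ m ∈ D₀, m ∈ D₁) (P : Subgroup Γ) : AddSubgroup M where
  carrier := {m | m ∈ D₁ ∧ ∀ g ∈ P, g • m - m ∈ D₀}
  zero_mem' := ⟨D₁.zero_mem, fun g _ => by simp⟩
  add_mem' := fun {a b} ha hb => ⟨D₁.add_mem ha.1 hb.1, fun g hg => by
    have := D₀.add_mem (ha.2 g hg) (hb.2 g hg)
    have e : g • (a + b) - (a + b) = g • a - a + (g • b - b) := by rw [smul_add]; abel
    rw [e]; exact this⟩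
  neg_mem' := fun {a} ha => ⟨D₁.neg_mem ha.1, fun g hg => by
    have := D₀.neg_mem (ha.2 g hg)
    have e : g • (-a) - (-a) = -(g • a - a) := by rw [smul_neg]; abel
    rw [e]; exact this⟩

variable (Γ) in
/-- pointwise fixer of `D` -/
def Cen (D : AddSubgroup M) : Subgroup Γ where
  carrier := {g | ∀ d ∈ D, g • d = d}
  one_mem' := fun d _ => one_smul _ d
  mul_mem' := fun {a b} ha hb d hd => by rw [mul_smul, hb d hd, ha d hd]
  inv_mem' := fun {a} ha d hd => by rw [inv_smul_eq_iff, ha d hd]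

theorem mem_Cen {D : AddSubgroup M} {g : Γ} : g ∈ Cen Γ D ↔ ∀ d ∈ D, g • d = d := Iff.rfl

/-- best offender on `D` modulo the kernel of the action (the trivial one included) -/
def Best (D : AddSubgroup M) (B : Subgroup Γ) : Prop :=
  (∀ a ∈ B, ∀ b ∈ B, ∀ d ∈ D, a • b • d = b • a • d) ∧
    ∀ B₀ : Subgroup Γ, B ⊓ Cen Γ D ≤ B₀ → B₀ ≤ B →
      Nat.card B₀ * Nat.card (D ⊓ fx M B₀ : AddSubgroup M) ≤ Nat.card B * Nat.card (D ⊓ fx M B : AddSubgroup M)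

def JD (D : AddSubgroup M) (P : Subgroup Γ) : Subgroup Γ := sSup {B | B ≤ P ∧ Best D B}

/-- `P ⊓ C` is not a Sylow `p`-subgroup of `C` -/
def NS (p : ℕ) (C P : Subgroup Γ) : Prop := ∃ T ≤ C, IsPGroup p T ∧ Nat.card (P ⊓ C : Subgroup Γ) < Nat.card T
end cx

/-- reduction of the degree one case to the base theorem -/
def RED : Prop := BT.{v, v} → ∀ (p : ℕ) [Fact p.Prime] (Γ : Type u) [Group Γ] [Finite Γ] (X : Type u) [Finite X]
  [MulAction Γ X] (M : Type v) [AddCommGroup M] [DistribMulAction Γ M] (K : Subgroup Γ) (Y : Set X)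
  (D : AddSubgroup M) [Finite D] (e : ℕ), (∀ d ∈ D, p ^ e • d = 0) → (∀ g ∈ K, ∀ d ∈ D, g • d ∈ D) → Md p K Y →
  Van K (Rf K Y fun P => ¬ NS p (K ⊓ Cen Γ D) P ∧ ¬ JD D P ≤ Cen Γ D) (fun l => D ⊓ fx M (Pst K l))
    (fun _ => ⊥) 2

/-! ### Part FA: the final assembly -/

/-- existence of the central extension (stable elements) -/
def EXT : Prop := ∀ (p : ℕ) [Fact p.Prime] (S : Type u) [Group S] [Finite S] (H : Type v) [Group H] [Finite H]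
  (π : S →* H), IsPGroup p S → ¬ p ∣ π.range.index → π.ker ≤ center S →
  (∀ g : H, ∃ φ : S → S,
    (∀ x y, g * π x * g⁻¹ ∈ π.range → g * π y * g⁻¹ ∈ π.range → φ (x * y) = φ x * φ y) ∧
    (∀ x, g * π x * g⁻¹ ∈ π.range → π (φ x) = g * π x * g⁻¹) ∧ ∀ a ∈ π.ker, φ a = a) →
  ∃ (G : Type (max u v)) (_ : Group G) (_ : Finite G) (q : G →* H) (j : S →* G),
    Function.Surjective q ∧ Function.Injective j ∧ (∀ s, q (j s) = π s) ∧ q.ker = π.ker.map j ∧ q.ker ≤ center G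

/-- abstract fusion data on `S ≤ G` agreeing with the fusion of `G` modulo `A` -/
structure Fz {G : Type*} [Group G] (S A : Subgroup G) (Fm : Subgroup G → (G → G) → Prop) : Prop where
  le : ∀ P φ, Fm P φ → P ≤ S
  mem : ∀ P φ, Fm P φ → ∀ x ∈ P, φ x ∈ S
  mul : ∀ P φ, Fm P φ → ∀ x ∈ P, ∀ y ∈ P, φ (x * y) = φ x * φ y
  cg : ∀ P φ ψ, Fm P φ → (∀ x ∈ P, ψ x = φ x) → Fm P ψ
  res : ∀ P P' φ, Fm P φ → P' ≤ P → Fm P' φ
  cj : ∀ s ∈ S, ∀ P, P ≤ S → Fm P fun x => s * x * s⁻¹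
  comp : ∀ P Q φ ψ, Fm P φ → Fm Q ψ → (∀ x ∈ P, φ x ∈ Q) → Fm P fun x => ψ (φ x)
  inv : ∀ P Q φ, Fm P φ → (∀ y, y ∈ Q ↔ ∃ x ∈ P, φ x = y) → ∃ ψ, Fm Q ψ ∧ ∀ x ∈ P, ψ (φ x) = x
  fixA : ∀ P φ, Fm P φ → ∀ a ∈ A, a ∈ P → φ a = a
  ext : ∀ P φ, Fm P φ → ∃ ψ, Fm (P ⊔ A) ψ ∧ ∀ x ∈ P, ψ x = φ x
  bar : ∀ P φ, Fm P φ → A ≤ P → ∃ g : G, ∀ x ∈ P, φ x * (g * x * g⁻¹)⁻¹ ∈ A
  lift : ∀ (g : G) P, A ≤ P → P ≤ S → (∀ x ∈ P, g * x * g⁻¹ ∈ S) →
    ∃ φ, Fm P φ ∧ ∀ x ∈ P, φ x * (g * x * g⁻¹)⁻¹ ∈ A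
  sat : ∀ P, A ≤ P → P ≤ S → ∃ φ Q, Fm P φ ∧ (∀ y, y ∈ Q ↔ ∃ x ∈ P, φ x = y) ∧
    ∀ α, Fm Q α → (∀ x ∈ Q, α x * x⁻¹ ∈ A) → ∃ s ∈ S, ∀ x ∈ Q, α x = s * x * s⁻¹

/-- `P / A` is `p`-centric in `G / A` -/
def Cc {G : Type*} [Group G] (p : ℕ) (A P : Subgroup G) : Prop :=
  IsPGroup p P ∧ A ≤ P ∧ ∀ z : G, (∃ k, z ^ p ^ k = 1) → (∀ x ∈ P, z * x * z⁻¹ * x⁻¹ ∈ A) → z ∈ P

/-- a homomorphism `S → A` trivial on `A` -/
def Ch {G : Type*} [Group G] (S A : Subgroup G) (χ : G → G) : Prop :=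
  (∀ s ∈ S, χ s ∈ A) ∧ (∀ s ∈ S, ∀ t ∈ S, χ (s * t) = χ s * χ t) ∧ ∀ a ∈ A, χ a = 1

/-- the cohomological step -/
def COH : Prop := ∀ (p : ℕ) [Fact p.Prime] (G : Type u) [Group G] [Finite G] (S : Sylow p G) (A : Subgroup G)
  (Fm : Subgroup G → (G → G) → Prop), A ≤ S → A ≤ center G → Fz S A Fm →
  ∃ χ, Ch S A χ ∧ ∀ (g : G) (P : Subgroup G), P ≤ S → (∀ x ∈ P, g * x * g⁻¹ ∈ (S : Subgroup G)) → Cc p A P →
    ∃ φ, Fm P φ ∧ ∀ x ∈ P, φ x * χ (φ x) = g * (x * χ x) * g⁻¹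

/-- the Alperin step -/
def ALP : Prop := ∀ (p : ℕ) [Fact p.Prime] (G : Type u) [Group G] [Finite G] (S : Sylow p G) (A : Subgroup G)
  (Fm : Subgroup G → (G → G) → Prop) (χ : G → G), A ≤ S → A ≤ center G → Fz S A Fm → Ch S A χ →
  (∀ (g : G) (P : Subgroup G), P ≤ S → (∀ x ∈ P, g * x * g⁻¹ ∈ (S : Subgroup G)) → Cc p A P →
    ∃ φ, Fm P φ ∧ ∀ x ∈ P, φ x * χ (φ x) = g * (x * χ x) * g⁻¹) →
  ∀ (P : Subgroup G) (φ : G → G), P ≤ S → (∀ x ∈ P, φ x ∈ (S : Subgroup G)) →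
    (Fm P φ ↔ ∃ g : G, ∀ x ∈ P, φ x * χ (φ x) = g * (x * χ x) * g⁻¹)

/-- translation to the statement -/
def GLUE : Prop := EXT.{u, v} → COH.{max u v} → ALP.{max u v} →
  ∀ {Ω : Type u} [Group Ω] {S : Subgroup Ω} [Finite S] (p : ℕ) [Fact p.Prime] (_ : IsPGroup p S)
    (F : Cfsg.FusionSystem S) (_ : F.IsSaturated p) (A : Subgroup Ω) (_ : F.IsCentral A) {Ω' : Type v} [Group Ω']
    {S' : Subgroup Ω'} [Finite S'] (θ : ↥S →* Ω') (E : Cfsg.FusionSystem S') (_ : F.IsFactorSystem A θ E),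
    F.IsExotic p ↔ E.IsExotic p

end H18.CL
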