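import Cfsg.Agent.H18.CL0
set_option autoImplicit false
set_option linter.unusedSectionVars false
set_option linter.unusedVariables false
/-! Cochains on lists: long exact sequence lemmas. -/
namespace H18.CL
open Subgroup Pointwise List

section
variable {X : Type*} {M : Type*} [AddCommGroup M]

@[simp] theorem dd_nil (f : List X → M) : dd [] f = 0 := rfl
theorem dd_cons (x : X) (l : List X) (f : List X → M) :
    dd (x :: l) f = f l - dd l (fun l' => f (x :: l')) := rfl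

theorem dd_hom {M' : Type*} [AddCommGroup M'] (ψ : M →+ M') (l : List X) (f : List X → M) :
    ψ (dd l f) = dd l (fun l' => ψ (f l')) := by
  induction l generalizing f with
  | nil => simp
  | cons x l ih => rw [dd_cons, dd_cons, map_sub, ih]

theorem dd_add (l : List X) (f g : List X → M) : dd l (fun l' => f l' + g l') = dd l f + dd l g := by
  induction l generalizing f g with
  | nil => simp
  | cons x l ih => rw [dd_cons, dd_cons, dd_cons, ih]; abel

theorem dd_sub (l : List X) (f g : List X → M) : dd l (fun l' => f l' - g l') = dd l f - dd l g := by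
  induction l generalizing f g with
  | nil => simp
  | cons x l ih => rw [dd_cons, dd_cons, dd_cons, ih]; abel

theorem dd_mem (B : AddSubgroup M) (l : List X) (f : List X → M)
    (h : ∀ l', l' <+ l → l'.length + 1 = l.length → f l' ∈ B) : dd l f ∈ B := by
  induction l generalizing f with
  | nil => simp
  | cons x l ih =>
    rw [dd_cons]
    refine B.sub_mem (h l (sublist_cons_self x l) rfl) (ih _ fun l' h1 h2 => h _ (h1.cons_cons x) ?_)
    simp [h2]

theorem dd_congr (l : List X) (f g : List X → M)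
    (h : ∀ l', l' <+ l → l'.length + 1 = l.length → f l' = g l') : dd l f = dd l g := by
  have := dd_mem ⊥ l (fun l' => f l' - g l') (fun l' h1 h2 => by simp [h l' h1 h2])
  rw [dd_sub] at this
  exact sub_eq_zero.1 (AddSubgroup.mem_bot.1 this)

theorem dd_zero (l : List X) : dd l (fun _ => (0 : M)) = 0 :=
  AddSubgroup.mem_bot.1 (dd_mem ⊥ l _ fun _ _ _ => AddSubgroup.zero_mem _)

theorem dd_dd (l : List X) (f : List X → M) : dd l (fun l' => dd l' f) = 0 := by
  induction l generalizing f with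
  | nil => simp
  | cons x l ih =>
    rw [dd_cons]
    simp only [dd_cons]
    rw [dd_sub, ih]; simp

theorem dd_map {X' : Type*} (φ : X → X') (l : List X) (f : List X' → M) :
    dd (l.map φ) f = dd l (fun l' => f (l'.map φ)) := by
  induction l generalizing f with
  | nil => simp
  | cons x l ih => rw [List.map_cons, dd_cons, dd_cons, ih]; rfl

theorem dd_sum {ι : Type*} (s : Finset ι) (l : List X) (f : ι → List X → M) :
    dd l (fun l' => ∑ i ∈ s, f i l') = ∑ i ∈ s, dd l (f i) := by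
  classical
  induction s using Finset.induction_on with
  | empty => simpa using dd_zero l
  | insert a s ha ih => simp only [Finset.sum_insert ha]; rw [dd_add, ih]

theorem dd_nsmul (k : ℕ) (l : List X) (f : List X → M) : dd l (fun l' => k • f l') = k • dd l f :=
  (dd_hom (nsmulAddMonoidHom k) l f).symm

variable {Γ : Type*} [Group Γ] [MulAction Γ X] [DistribMulAction Γ M]

theorem dd_smul (g : Γ) (l : List X) (f : List X → M) : g • dd l f = dd l (fun l' => g • f l') :=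
  dd_hom (DistribSMul.toAddMonoidHom M g) l f

/-- translate of a list -/
abbrev mp (g : Γ) (l : List X) : List X := l.map (g • ·)

theorem mp_mp (g h : Γ) (l : List X) : mp g (mp h l) = mp (g * h) l := by
  simp [mp, List.map_map, Function.comp_def, mul_smul]

theorem mp_one (l : List X) : mp (1 : Γ) l = l := by simp [mp]

theorem mp_inv (g : Γ) (l : List X) : mp g⁻¹ (mp g l) = l := by rw [mp_mp, inv_mul_cancel, mp_one]
theorem mp_inv' (g : Γ) (l : List X) : mp g (mp g⁻¹ l) = l := by rw [mp_mp, mul_inv_cancel, mp_one]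

theorem mp_len (g : Γ) (l : List X) : (mp g l).length = l.length := List.length_map _

/-- a coefficient system on the region `R` -/
structure Sy (K : Subgroup Γ) (R : List X → Prop) (Φ : List X → AddSubgroup M) : Prop where
  mono : ∀ l' l : List X, l' <+ l → R l' → R l → Φ l' ≤ Φ l
  act : ∀ g ∈ K, ∀ l, R l → ∀ m ∈ Φ l, g • m ∈ Φ (mp g l)

structure Rg (K : Subgroup Γ) (R : List X → Prop) : Prop where
  inv : ∀ g ∈ K, ∀ l, R l → R (mp g l)
  cvx : ∀ l₁ l₂ l₃ : List X, l₁ <+ l₂ → l₂ <+ l₃ → R l₁ → R l₃ → R l₂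

structure Sys (K : Subgroup Γ) (R : List X → Prop) (Φ₁ Φ₀ : List X → AddSubgroup M) : Prop where
  rg : Rg K R
  s1 : Sy K R Φ₁
  s0 : Sy K R Φ₀
  le : ∀ l, R l → Φ₀ l ≤ Φ₁ l
  tr : ∀ g ∈ K, ∀ l, R l → mp g l = l → ∀ m ∈ Φ₁ l, g • m - m ∈ Φ₀ l

variable {K : Subgroup Γ} {R : List X → Prop} {Φ₁ Φh Φ₀ : List X → AddSubgroup M}

theorem Rg.inv' (h : Rg K R) {g : Γ} (hg : g ∈ K) {l : List X} (hl : R (mp g l)) : R l := by
  have := h.inv _ (K.inv_mem hg) _ hl
  rwa [mp_inv] at this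

theorem Co.add {n : ℕ} {f g : List X → M} (hf : Co K R Φ₁ Φ₀ n f) (hg : Co K R Φ₁ Φ₀ n g) :
    Co K R Φ₁ Φ₀ n (fun l => f l + g l) where
  mem l h1 h2 := (Φ₁ l).add_mem (hf.mem l h1 h2) (hg.mem l h1 h2)
  off l h1 h2 := by simp [hf.off l h1 h2, hg.off l h1 h2]
  eqv k hk l h1 h2 := by
    have := AddSubgroup.add_mem _ (hf.eqv k hk l h1 h2) (hg.eqv k hk l h1 h2)
    convert this using 1
    rw [smul_add]; abel

theorem Co.sub {n : ℕ} {f g : List X → M} (hf : Co K R Φ₁ Φ₀ n f) (hg : Co K R Φ₁ Φ₀ n g) :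
    Co K R Φ₁ Φ₀ n (fun l => f l - g l) where
  mem l h1 h2 := (Φ₁ l).sub_mem (hf.mem l h1 h2) (hg.mem l h1 h2)
  off l h1 h2 := by simp [hf.off l h1 h2, hg.off l h1 h2]
  eqv k hk l h1 h2 := by
    have := AddSubgroup.sub_mem _ (hf.eqv k hk l h1 h2) (hg.eqv k hk l h1 h2)
    convert this using 1
    rw [smul_sub]; abel

theorem Co.weak {n : ℕ} {f : List X → M} {Ψ₁ Ψ₀ : List X → AddSubgroup M} (hR : Rg K R) (hf : Co K R Φ₁ Φ₀ n f)
    (h1 : ∀ l, l.length = n → R l → f l ∈ Ψ₁ l) (h0 : ∀ l, R l → Φ₀ l ≤ Ψ₀ l) : Co K R Ψ₁ Ψ₀ n f where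
  mem := h1
  off := hf.off
  eqv k hk l a b := h0 _ (hR.inv k hk l b) (hf.eqv k hk l a b)

/-- `dd` of a function with values in a system -/
theorem dd_sy {Φ : List X → AddSubgroup M} (hs : Sy K R Φ) {n : ℕ} {f : List X → M}
    (h1 : ∀ l, l.length = n → R l → f l ∈ Φ l) (h2 : ∀ l, l.length = n → ¬ R l → f l = 0)
    {l : List X} (hl : l.length = n + 1) (hr : R l) : dd l f ∈ Φ l := by
  refine dd_mem _ _ _ fun l' a b => ?_
  have c : l'.length = n := by omega
  by_cases r : R l'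
  · exact hs.mono _ _ a r hr (h1 l' c r)
  · rw [h2 l' c r]; exact AddSubgroup.zero_mem _

theorem dd_eqv (hR : Rg K R) (hs : Sy K R Φ₀) {n : ℕ} {f : List X → M} (hf : Co K R Φ₁ Φ₀ n f) {g : Γ}
    (hg : g ∈ K) {l : List X} (hl : l.length = n + 1) (hr : R l) :
    dd (mp g l) f - g • dd l f ∈ Φ₀ (mp g l) := by
  rw [dd_map, dd_smul, ← dd_sub]
  refine dd_mem _ _ _ fun l' a b => ?_
  have c : l'.length = n := by omega
  by_cases r : R l'
  · exact hs.mono _ _ (a.map _) (hR.inv g hg _ r) (hR.inv g hg _ hr) (hf.eqv g hg l' c r)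
  · have r' : ¬ R (mp g l') := fun h => r (hR.inv' hg h)
    rw [hf.off l' c r, hf.off _ (by rw [mp_len, c]) r']; simp

open Classical in
/-- coboundary cut off to the region -/
noncomputable def dR (R : List X → Prop) (f : List X → M) (l : List X) : M := if R l then dd l f else 0

theorem dR_pos {f : List X → M} {l : List X} (h : R l) : dR R f l = dd l f := if_pos h
theorem dR_neg {f : List X → M} {l : List X} (h : ¬ R l) : dR R f l = 0 := if_neg h

theorem dR_co (hR : Rg K R) (hs : Sy K R Φ₀) {n : ℕ} {f : List X → M} (hf : Co K R Φ₁ Φ₀ n f)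
    {Ψ : List X → AddSubgroup M} (hm : ∀ l, l.length = n + 1 → R l → dd l f ∈ Ψ l) :
    Co K R Ψ Φ₀ (n + 1) (dR R f) where
  mem l a b := by rw [dR_pos b]; exact hm l a b
  off l a b := dR_neg b
  eqv g hg l a b := by
    rw [dR_pos b, dR_pos (hR.inv g hg l b)]
    exact dd_eqv hR hs hf hg a b

theorem dR_dd (hR : Rg K R) {n : ℕ} {f : List X → M} (hf : ∀ l, l.length = n → ¬ R l → f l = 0)
    {l : List X} (hl : l.length = n + 2) (hr : R l) : dd l (dR R f) = 0 := by
  rw [← dd_dd l f]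
  refine dd_congr _ _ _ fun l' a b => ?_
  by_cases r : R l'
  · exact dR_pos r
  · rw [dR_neg r, ← dd_zero l']
    refine dd_congr _ _ _ fun l'' c d => (hf l'' (by omega) fun r' => r (hR.cvx _ _ _ c a r' hr)).symm

/-- equivariant lifting -/
theorem Co.lift (hS : Sys K R Φ₁ Φ₀) (hh : Sy K R Φh) {n : ℕ} {h : List X → M} (hc : Co K R Φ₁ Φh n h) :
    ∃ h', Co K R Φ₁ Φ₀ n h' ∧ ∀ l, l.length = n → R l → h' l - h l ∈ Φh l := by
  classical
  let s : Setoid (List X) := ⟨fun a b => ∃ g ∈ K, mp g a = b, ⟨fun a => ⟨1, K.one_mem, mp_one a⟩,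
    fun ⟨g, hg, e⟩ => ⟨g⁻¹, K.inv_mem hg, by rw [← e, mp_inv]⟩,
    fun ⟨g, hg, e⟩ ⟨g', hg', e'⟩ => ⟨g' * g, K.mul_mem hg' hg, by rw [← mp_mp, e, e']⟩⟩⟩
  have ex : ∀ l : List X, ∃ g ∈ K, mp g (Quotient.out (Quotient.mk s l)) = l := fun l => Quotient.mk_out (s := s) l
  choose k hk he using ex
  set r : List X → List X := fun l => Quotient.out (Quotient.mk s l) with hr
  have he' : ∀ l, mp (k l) (r l) = l := he
  have rr : ∀ g ∈ K, ∀ l, r (mp g l) = r l := fun g hg l => by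
    have : Quotient.mk s (mp g l) = Quotient.mk s l := Quotient.sound (s.symm ⟨g, hg, rfl⟩)
    simp only [hr, this]
  have rl : ∀ l, (r l).length = l.length := fun l => by rw [← mp_len (k l), he']
  have rR : ∀ l, R l → R (r l) := fun l h => hS.rg.inv' (hk l) (by rw [he']; exact h)
  refine ⟨fun l => if R l then k l • h (r l) else 0, ⟨fun l a b => ?_, fun l a b => if_neg b, fun g hg l a b => ?_⟩,
    fun l a b => ?_⟩
  · simp only [if_pos b]
    have := hS.s1.act _ (hk l) _ (rR l b) _ (hc.mem _ (by rw [rl, a]) (rR l b))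
    rwa [he'] at this
  · simp only [if_pos b, if_pos (hS.rg.inv g hg l b)]
    rw [rr g hg]
    have hu : (g * k l)⁻¹ * k (mp g l) ∈ K := K.mul_mem (K.inv_mem (K.mul_mem hg (hk l))) (hk _)
    have e1 : mp (k (mp g l)) (r l) = mp g l := by rw [← rr g hg l, he']
    have e2 : mp (g * k l) (r l) = mp g l := by rw [← mp_mp, he']
    have e3 : mp ((g * k l)⁻¹ * k (mp g l)) (r l) = r l := by rw [← mp_mp, e1, ← e2, mp_inv]
    have t := hS.tr _ hu _ (rR l b) e3 _ (hc.mem _ (by rw [rl, a]) (rR l b))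
    have t2 := hS.s0.act _ (K.mul_mem hg (hk l)) _ (rR l b) _ t
    rw [e2, smul_sub, ← mul_smul, mul_inv_cancel_left, mul_smul] at t2
    exact t2
  · simp only [if_pos b]
    have := hc.eqv _ (hk l) _ (by rw [rl, a]) (rR l b)
    change h (mp (k l) (r l)) - _ ∈ Φh (mp (k l) (r l)) at this
    rw [he'] at this
    have := AddSubgroup.neg_mem _ this
    rwa [neg_sub] at this

theorem L1 (hS : Sys K R Φ₁ Φ₀) (hh : Sy K R Φh) (h0 : ∀ l, R l → Φ₀ l ≤ Φh l) (h1 : ∀ l, R l → Φh l ≤ Φ₁ l)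
    {n : ℕ} (v1 : Van K R Φ₁ Φh n) (v2 : Van K R Φh Φ₀ n) : Van K R Φ₁ Φ₀ n := by
  intro f hf hc
  obtain ⟨h, ha, hb⟩ := v1 f (hf.weak hS.rg hf.mem h0) fun l a b => h0 l b (hc l a b)
  rcases n with _ | m
  · have : Co K R Φh Φ₀ 0 f := hf.weak hS.rg (fun l a b => by
      have := hb l a b
      rwa [List.length_eq_zero_iff.1 a, dd_nil, sub_zero, ← List.length_eq_zero_iff.1 a] at this)
      fun l _ => le_rfl
    obtain ⟨h2, -, hd⟩ := v2 f this hc
    exact ⟨h2, fun m hm => absurd hm (by omega), hd⟩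
  obtain ⟨h', hc', hd'⟩ := (ha m rfl).lift hS hh
  have c1 : Co K R Φ₁ Φ₀ (m + 1) (dR R h') :=
    dR_co hS.rg hS.s0 hc' fun l a b => dd_sy hS.s1 hc'.mem hc'.off a b
  have c2 : Co K R Φh Φ₀ (m + 1) (fun l => f l - dR R h' l) := by
    refine (hf.sub c1).weak hS.rg (fun l a b => ?_) fun l _ => le_rfl
    have t : dd l (fun l' => h' l' - h l') ∈ Φh l :=
      dd_sy hh hd' (fun l' a' b' => by simp [hc'.off l' a' b', (ha m rfl).off l' a' b']) a b
    rw [dd_sub] at t
    have := AddSubgroup.sub_mem _ (hb l a b) t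
    rw [dR_pos b]; convert this using 1; abel
  obtain ⟨h2, he, hg⟩ := v2 _ c2 fun l a b => by
    rw [dd_sub, dR_dd hS.rg hc'.off a b, sub_zero]; exact hc l a b
  refine ⟨fun l => h' l + h2 l, fun m' hm => ?_, fun l a b => ?_⟩
  · obtain rfl : m' = m := by omega
    exact hc'.add ((he m' rfl).weak hS.rg (fun l a b => h1 l b ((he m' rfl).mem l a b)) fun l _ => le_rfl)
  · have := hg l a b
    rw [dR_pos b] at this
    rw [dd_add]; convert this using 1; abel

theorem L2 (hS : Sys K R Φ₁ Φ₀) (hh : Sy K R Φh) (h0 : ∀ l, R l → Φ₀ l ≤ Φh l) (h1 : ∀ l, R l → Φh l ≤ Φ₁ l)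
    {n : ℕ} (v1 : Van K R Φ₁ Φ₀ n) (v2 : Van K R Φh Φ₀ (n + 1)) : Van K R Φ₁ Φh n := by
  intro f hf hc
  obtain ⟨f', hf', hd⟩ := hf.lift hS hh
  have c1 : Co K R Φh Φ₀ (n + 1) (dR R f') := dR_co hS.rg hS.s0 hf' fun l a b => by
    have t : dd l (fun l' => f' l' - f l') ∈ Φh l :=
      dd_sy hh hd (fun l' a' b' => by simp [hf'.off l' a' b', hf.off l' a' b']) a b
    rw [dd_sub] at t
    have := AddSubgroup.add_mem _ t (hc l a b)
    rwa [sub_add_cancel] at this
  obtain ⟨h₁, ha, hb⟩ := v2 _ c1 fun l a b => by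
    rw [dR_dd hS.rg hf'.off a b]; exact AddSubgroup.zero_mem _
  have ha' := ha n rfl
  obtain ⟨h₂, he, hg⟩ := v1 (fun l => f' l - h₁ l)
    (hf'.sub (ha'.weak hS.rg (fun l a b => h1 l b (ha'.mem l a b)) fun l _ => le_rfl)) fun l a b => by
      have := hb l a b
      rwa [dR_pos b, ← dd_sub] at this
  refine ⟨h₂, fun m hm => (he m hm).weak hS.rg (he m hm).mem h0, fun l a b => ?_⟩
  have := AddSubgroup.sub_mem _ (AddSubgroup.add_mem _ (h0 l b (hg l a b)) (ha'.mem l a b)) (hd l a b)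
  convert this using 1; abel

theorem L3 (hS : Sys K R Φ₁ Φ₀) (hh : Sy K R Φh) (h0 : ∀ l, R l → Φ₀ l ≤ Φh l) (h1 : ∀ l, R l → Φh l ≤ Φ₁ l)
    {n : ℕ} (v1 : Van K R Φ₁ Φh n) (v2 : Van K R Φ₁ Φ₀ (n + 1)) : Van K R Φh Φ₀ (n + 1) := by
  intro f hf hc
  obtain ⟨h, ha, hb⟩ := v2 f (hf.weak hS.rg (fun l a b => h1 l b (hf.mem l a b)) fun l _ => le_rfl) hc
  have ha' := ha n rfl
  obtain ⟨h₁, hd, he⟩ := v1 h (ha'.weak hS.rg ha'.mem h0) fun l a b => by
    have := AddSubgroup.sub_mem _ (hf.mem l a b) (h0 l b (hb l a b))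
    rwa [sub_sub_cancel] at this
  rcases n with _ | m
  · refine ⟨h, fun m hm => ?_, hb⟩
    obtain rfl : m = 0 := by omega
    refine ha'.weak hS.rg (fun l a b => ?_) fun l _ => le_rfl
    have := he l a b
    rwa [List.length_eq_zero_iff.1 a, dd_nil, sub_zero, ← List.length_eq_zero_iff.1 a] at this
  obtain ⟨h', hc', hd'⟩ := (hd m rfl).lift hS hh
  have c1 : Co K R Φ₁ Φ₀ (m + 1) (dR R h') :=
    dR_co hS.rg hS.s0 hc' fun l a b => dd_sy hS.s1 hc'.mem hc'.off a b
  refine ⟨fun l => h l - dR R h' l, fun m' hm => ?_, fun l a b => ?_⟩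
  · obtain rfl : m' = m + 1 := by omega
    refine (ha'.sub c1).weak hS.rg (fun l a b => ?_) fun l _ => le_rfl
    have t : dd l (fun l' => h' l' - h₁ l') ∈ Φh l :=
      dd_sy hh hd' (fun l' a' b' => by simp [hc'.off l' a' b', (hd m rfl).off l' a' b']) a b
    rw [dd_sub] at t
    have := AddSubgroup.sub_mem _ (he l a b) t
    rw [dR_pos b]; convert this using 1; abel
  · rw [dd_sub, dR_dd hS.rg hc'.off a b, sub_zero]; exact hb l a b

theorem L30 (hR : Rg K R) (h1 : ∀ l, R l → Φh l ≤ Φ₁ l) (v : Van K R Φ₁ Φ₀ 0) : Van K R Φh Φ₀ 0 := by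
  intro f hf hc
  obtain ⟨h, -, hb⟩ := v f (hf.weak hR (fun l a b => h1 l b (hf.mem l a b)) fun l _ => le_rfl) hc
  exact ⟨h, fun m hm => absurd hm (by omega), hb⟩

theorem Co.congr {R' : List X → Prop} {Ψ₁ Ψ₀ : List X → AddSubgroup M} {n : ℕ} {f : List X → M}
    (hf : Co K R Φ₁ Φ₀ n f) (hi : ∀ g ∈ K, ∀ l, l.length = n → R l → R (mp g l))
    (hR : ∀ l, l.length = n → (R l ↔ R' l)) (hΦ : ∀ l, l.length = n → R l → Φ₁ l = Ψ₁ l ∧ Φ₀ l = Ψ₀ l) :
    Co K R' Ψ₁ Ψ₀ n f where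
  mem l a b := by rw [← (hΦ l a ((hR l a).2 b)).1]; exact hf.mem l a ((hR l a).2 b)
  off l a b := hf.off l a fun h => b ((hR l a).1 h)
  eqv g hg l a b := by
    rw [← (hΦ _ (by rw [mp_len, a]) (hi g hg l a ((hR l a).2 b))).2]
    exact hf.eqv g hg l a ((hR l a).2 b)

theorem Van.congr {R' : List X → Prop} {Ψ₁ Ψ₀ : List X → AddSubgroup M} {n : ℕ} (v : Van K R Φ₁ Φ₀ n)
    (hi : ∀ g ∈ K, ∀ l, n ≤ l.length + 1 → R l → R (mp g l))
    (hR : ∀ l, n ≤ l.length + 1 → (R l ↔ R' l))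
    (hΦ : ∀ l, n ≤ l.length + 1 → R l → Φ₁ l = Ψ₁ l ∧ Φ₀ l = Ψ₀ l) : Van K R' Ψ₁ Ψ₀ n := by
  intro f hf hc
  have hi' : ∀ g ∈ K, ∀ l, n ≤ l.length + 1 → R' l → R' (mp g l) := fun g hg l a b =>
    (hR _ (by rw [mp_len]; exact a)).1 (hi g hg l a ((hR l a).2 b))
  obtain ⟨h, ha, hb⟩ := v f (hf.congr (fun g hg l a b => hi' g hg l (by omega) b)
    (fun l a => (hR l (by omega)).symm) fun l a b => by
      have := hΦ l (by omega) ((hR l (by omega)).2 b); exact ⟨this.1.symm, this.2.symm⟩) fun l a b => by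
    rw [(hΦ l (by omega) b).2]; exact hc l a ((hR l (by omega)).1 b)
  refine ⟨h, fun m hm => (ha m hm).congr (fun g hg l a b => hi g hg l (by omega) b) (fun l a => hR l (by omega))
    fun l a b => hΦ l (by omega) b, fun l a b => ?_⟩
  rw [← (hΦ l (by omega) ((hR l (by omega)).2 b)).2]
  exact hb l a ((hR l (by omega)).2 b)

end
end H18.CL
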