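import Cfsg.Agent.H18.CL1
set_option autoImplicit false
set_option linter.unusedSectionVars false
set_option linter.unusedVariables false
/-! Cochains on lists: change of region, transport, support reduction, acyclicity. -/
namespace H18.CL
open Subgroup Pointwise List

section
variable {X : Type*} {M : Type*} [AddCommGroup M]
variable {Γ : Type*} [Group Γ] [MulAction Γ X] [DistribMulAction Γ M]
variable {K : Subgroup Γ} {R R₀ : List X → Prop} {Φ₁ Φh Φ₀ : List X → AddSubgroup M}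

theorem Sy.sub {Φ : List X → AddSubgroup M} (h : Sy K R Φ) (hs : ∀ l, R₀ l → R l) : Sy K R₀ Φ :=
  ⟨fun l' l a b c => h.mono l' l a (hs _ b) (hs _ c), fun g hg l b => h.act g hg l (hs _ b)⟩

theorem Sys.sub (h : Sys K R Φ₁ Φ₀) (hs : ∀ l, R₀ l → R l) (hr : Rg K R₀) : Sys K R₀ Φ₁ Φ₀ :=
  ⟨hr, h.s1.sub hs, h.s0.sub hs, fun l b => h.le l (hs _ b), fun g hg l b => h.tr g hg l (hs _ b)⟩

theorem Sys.subg (h : Sys K R Φ₁ Φ₀) {N : Subgroup Γ} (hN : N ≤ K) (hs : ∀ l, R₀ l → R l) (hr : Rg N R₀) :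
    Sys N R₀ Φ₁ Φ₀ :=
  ⟨hr, ⟨fun l' l a b c => h.s1.mono l' l a (hs _ b) (hs _ c), fun g hg l b => h.s1.act g (hN hg) l (hs _ b)⟩,
    ⟨fun l' l a b c => h.s0.mono l' l a (hs _ b) (hs _ c), fun g hg l b => h.s0.act g (hN hg) l (hs _ b)⟩,
    fun l b => h.le l (hs _ b), fun g hg l b => h.tr g (hN hg) l (hs _ b)⟩

open Classical in
/-- cut off -/
noncomputable def cut (R : List X → Prop) (f : List X → M) (l : List X) : M := if R l then f l else 0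
theorem cut_pos {f : List X → M} {l : List X} (h : R l) : cut R f l = f l := if_pos h
theorem cut_neg {f : List X → M} {l : List X} (h : ¬ R l) : cut R f l = 0 := if_neg h

theorem Co.cut {n : ℕ} {f : List X → M} (hf : Co K R Φ₁ Φ₀ n f) (hs : ∀ l, R₀ l → R l)
    (hi : ∀ g ∈ K, ∀ l, R₀ l → R₀ (mp g l)) : Co K R₀ Φ₁ Φ₀ n (cut R₀ f) where
  mem l a b := by rw [cut_pos b]; exact hf.mem l a (hs l b)
  off l a b := cut_neg b
  eqv g hg l a b := by rw [cut_pos b, cut_pos (hi g hg l b)]; exact hf.eqv g hg l a (hs l b)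

theorem dd_cut (hS : Sys K R Φ₁ Φ₀) (hs : ∀ l, R₀ l → R l) (ht : ∀ l, R l → ¬ R₀ l → Φ₁ l ≤ Φ₀ l) {n : ℕ}
    {f : List X → M} (hf : Co K R Φ₁ Φ₀ n f) {l : List X} (a : l.length = n + 1) (b : R l) :
    dd l f - dd l (cut R₀ f) ∈ Φ₀ l := by
  rw [← dd_sub]
  refine dd_sy hS.s0 (fun l' a' b' => ?_) (fun l' a' b' => ?_) a b
  · by_cases r : R₀ l'
    · rw [cut_pos r, sub_self]; exact AddSubgroup.zero_mem _
    · rw [cut_neg r, sub_zero]; exact ht _ b' r (hf.mem _ a' b')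
  · rw [cut_neg fun r => b' (hs _ r), hf.off _ a' b', sub_zero]

theorem Co.big {n : ℕ} {f : List X → M} (hS : Sys K R Φ₁ Φ₀) (hf : Co K R₀ Φ₁ Φ₀ n f) (hs : ∀ l, R₀ l → R l)
    (hi : ∀ g ∈ K, ∀ l, R₀ l → R₀ (mp g l)) : Co K R Φ₁ Φ₀ n f where
  mem l a b := by
    by_cases r : R₀ l
    · exact hf.mem l a r
    · rw [hf.off l a r]; exact AddSubgroup.zero_mem _
  off l a b := hf.off l a fun r => b (hs _ r)
  eqv g hg l a b := by
    by_cases r : R₀ l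
    · exact hf.eqv g hg l a r
    · have r' : ¬ R₀ (mp g l) := fun h => r (by have := hi _ (K.inv_mem hg) _ h; rwa [mp_inv] at this)
      rw [hf.off l a r, hf.off _ (by rw [mp_len, a]) r']; simp

theorem RR1 (hS : Sys K R Φ₁ Φ₀) (hs : ∀ l, R₀ l → R l) (hi : ∀ g ∈ K, ∀ l, R₀ l → R₀ (mp g l))
    (ht : ∀ l, R l → ¬ R₀ l → Φ₁ l ≤ Φ₀ l) {n : ℕ} (v : Van K R₀ Φ₁ Φ₀ n) : Van K R Φ₁ Φ₀ n := by
  intro f hf hc
  obtain ⟨h, ha, hb⟩ := v _ (hf.cut hs hi) fun l a b => by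
    have := AddSubgroup.sub_mem _ (hc l a (hs l b)) (dd_cut hS hs ht hf a (hs l b))
    rwa [sub_sub_cancel] at this
  refine ⟨h, fun m hm => (ha m hm).big hS hs hi, fun l a b => ?_⟩
  by_cases r : R₀ l
  · have := hb l a r
    rwa [cut_pos r] at this
  · refine ht l b r (AddSubgroup.sub_mem _ (hf.mem l a b) ?_)
    rcases n with _ | m
    · rw [List.length_eq_zero_iff.1 a]; exact AddSubgroup.zero_mem _
    · have c := (ha m rfl).big hS hs hi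
      exact dd_sy hS.s1 c.mem c.off a b

theorem RR2 (hS : Sys K R Φ₁ Φ₀) (hs : ∀ l, R₀ l → R l) (hi : ∀ g ∈ K, ∀ l, R₀ l → R₀ (mp g l))
    (ht : ∀ l, R l → ¬ R₀ l → Φ₁ l ≤ Φ₀ l) {n : ℕ} (v : Van K R Φ₁ Φ₀ n) : Van K R₀ Φ₁ Φ₀ n := by
  intro f hf hc
  have c := hf.big hS hs hi
  obtain ⟨h, ha, hb⟩ := v _ c fun l a b => by
    by_cases r : R₀ l
    · exact hc l a r
    · exact ht l b r (dd_sy hS.s1 c.mem c.off a b)
  refine ⟨cut R₀ h, fun m hm => (ha m hm).cut hs hi, fun l a b => ?_⟩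
  rcases n with _ | m
  · have := hb l a (hs l b)
    rw [List.length_eq_zero_iff.1 a] at this ⊢
    exact this
  · have := AddSubgroup.add_mem _ (hb l a (hs l b)) (dd_cut hS hs ht (ha m rfl) a (hs l b))
    convert this using 1; abel

/-- a splitting of the region: `U` is the part closed under faces -/
structure Spl (K : Subgroup Γ) (R U L : List X → Prop) : Prop where
  iff : ∀ l, R l ↔ U l ∨ L l
  dis : ∀ l, U l → ¬ L l
  inv : ∀ g ∈ K, ∀ l, U l → U (mp g l)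
  up : ∀ l' l : List X, l' <+ l → U l → R l' → U l'

variable {U L : List X → Prop}

open Classical in
noncomputable def mid (U : List X → Prop) (Φ₁ Φ₀ : List X → AddSubgroup M) (l : List X) : AddSubgroup M :=
  if U l then Φ₀ l else Φ₁ l

theorem Spl.invL (hS : Sys K R Φ₁ Φ₀) (h : Spl K R U L) : ∀ g ∈ K, ∀ l, L l → L (mp g l) := fun g hg l b => by
  rcases (h.iff _).1 (hS.rg.inv g hg l ((h.iff l).2 (Or.inr b))) with c | c
  · have := h.inv _ (K.inv_mem hg) _ c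
    rw [mp_inv] at this; exact absurd b (h.dis l this)
  · exact c

theorem Spl.sy (hS : Sys K R Φ₁ Φ₀) (h : Spl K R U L) : Sy K R (mid U Φ₁ Φ₀) where
  mono l' l a b c := by
    unfold mid
    by_cases u : U l
    · rw [if_pos u, if_pos (h.up _ _ a u b)]; exact hS.s0.mono _ _ a b c
    · rw [if_neg u]
      split_ifs
      · exact (hS.le _ b).trans (hS.s1.mono _ _ a b c)
      · exact hS.s1.mono _ _ a b c
  act g hg l b m hm := by
    unfold mid at *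
    by_cases u : U l
    · rw [if_pos u] at hm; rw [if_pos (h.inv g hg l u)]; exact hS.s0.act g hg l b m hm
    · have u' : ¬ U (mp g l) := fun c => u (by have := h.inv _ (K.inv_mem hg) _ c; rwa [mp_inv] at this)
      rw [if_neg u] at hm; rw [if_neg u']; exact hS.s1.act g hg l b m hm

theorem Spl.le0 (hS : Sys K R Φ₁ Φ₀) : ∀ l, R l → Φ₀ l ≤ mid U Φ₁ Φ₀ l := fun l b => by
  unfold mid; split_ifs
  · exact le_rfl
  · exact hS.le l b

theorem Spl.le1 (hS : Sys K R Φ₁ Φ₀) : ∀ l, R l → mid U Φ₁ Φ₀ l ≤ Φ₁ l := fun l b => by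
  unfold mid; split_ifs
  · exact hS.le l b
  · exact le_rfl

theorem Spl.sysA (hS : Sys K R Φ₁ Φ₀) (h : Spl K R U L) : Sys K R Φ₁ (mid U Φ₁ Φ₀) :=
  ⟨hS.rg, hS.s1, h.sy hS, Spl.le1 hS, fun g hg l b e m hm => Spl.le0 hS l b (hS.tr g hg l b e m hm)⟩

theorem Spl.sysB (hS : Sys K R Φ₁ Φ₀) (h : Spl K R U L) : Sys K R (mid U Φ₁ Φ₀) Φ₀ :=
  ⟨hS.rg, h.sy hS, hS.s0, Spl.le0 hS, fun g hg l b e m hm => hS.tr g hg l b e m (Spl.le1 hS l b hm)⟩

theorem Spl.vU (hS : Sys K R Φ₁ Φ₀) (h : Spl K R U L) {n : ℕ} :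
    Van K U Φ₁ Φ₀ n ↔ Van K R Φ₁ (mid U Φ₁ Φ₀) n := by
  have hs : ∀ l, U l → R l := fun l u => (h.iff l).2 (Or.inl u)
  have ht : ∀ l, R l → ¬ U l → Φ₁ l ≤ mid U Φ₁ Φ₀ l := fun l b u => by unfold mid; rw [if_neg u]
  constructor
  · intro v
    exact RR1 (h.sysA hS) hs h.inv ht (v.congr (fun g hg l _ => h.inv g hg l) (fun _ _ => Iff.rfl)
      fun l _ u => ⟨rfl, by unfold mid; rw [if_pos u]⟩)
  · intro v
    exact (RR2 (h.sysA hS) hs h.inv ht v).congr (fun g hg l _ => h.inv g hg l) (fun _ _ => Iff.rfl)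
      fun l _ u => ⟨rfl, by unfold mid; rw [if_pos u]⟩

theorem Spl.vL (hS : Sys K R Φ₁ Φ₀) (h : Spl K R U L) {n : ℕ} :
    Van K L Φ₁ Φ₀ n ↔ Van K R (mid U Φ₁ Φ₀) Φ₀ n := by
  have hs : ∀ l, L l → R l := fun l u => (h.iff l).2 (Or.inr u)
  have ht : ∀ l, R l → ¬ L l → mid U Φ₁ Φ₀ l ≤ Φ₀ l := fun l b u => by
    unfold mid; rw [if_pos (((h.iff l).1 b).resolve_right u)]
  have e : ∀ l, L l → mid U Φ₁ Φ₀ l = Φ₁ l := fun l u => by unfold mid; rw [if_neg fun c => h.dis l c u]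
  constructor
  · intro v
    exact RR1 (h.sysB hS) hs (h.invL hS) ht (v.congr (fun g hg l _ => h.invL hS g hg l) (fun _ _ => Iff.rfl)
      fun l _ u => ⟨(e l u).symm, rfl⟩)
  · intro v
    exact (RR2 (h.sysB hS) hs (h.invL hS) ht v).congr (fun g hg l _ => h.invL hS g hg l) (fun _ _ => Iff.rfl)
      fun l _ u => ⟨e l u, rfl⟩

theorem S1 (hS : Sys K R Φ₁ Φ₀) (h : Spl K R U L) {n : ℕ} (v1 : Van K U Φ₁ Φ₀ n) (v2 : Van K L Φ₁ Φ₀ n) :
    Van K R Φ₁ Φ₀ n :=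
  L1 hS (h.sy hS) (Spl.le0 hS) (Spl.le1 hS) ((h.vU hS).1 v1) ((h.vL hS).1 v2)

theorem S2 (hS : Sys K R Φ₁ Φ₀) (h : Spl K R U L) {n : ℕ} (v1 : Van K R Φ₁ Φ₀ n) (v2 : Van K L Φ₁ Φ₀ (n + 1)) :
    Van K U Φ₁ Φ₀ n :=
  (h.vU hS).2 (L2 hS (h.sy hS) (Spl.le0 hS) (Spl.le1 hS) v1 ((h.vL hS).1 v2))

theorem S3 (hS : Sys K R Φ₁ Φ₀) (h : Spl K R U L) {n : ℕ} (v1 : Van K U Φ₁ Φ₀ n) (v2 : Van K R Φ₁ Φ₀ (n + 1)) :
    Van K L Φ₁ Φ₀ (n + 1) :=
  (h.vL hS).2 (L3 hS (h.sy hS) (Spl.le0 hS) (Spl.le1 hS) ((h.vU hS).1 v1) v2)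

theorem S30 (hS : Sys K R Φ₁ Φ₀) (h : Spl K R U L) (v : Van K R Φ₁ Φ₀ 0) : Van K L Φ₁ Φ₀ 0 :=
  (h.vL hS).2 (L30 hS.rg (Spl.le1 hS) v)

theorem S3' (hS : Sys K R Φ₁ Φ₀) (h : Spl K R U L) (v1 : ∀ n, Van K U Φ₁ Φ₀ n) (v2 : ∀ n, Van K R Φ₁ Φ₀ n) :
    ∀ n, Van K L Φ₁ Φ₀ n
  | 0 => S30 hS h (v2 0)
  | n + 1 => S3 hS h (v1 n) (v2 (n + 1))

/-- transport along a correspondence of coefficient systems -/
theorem rho {M' : Type*} [AddCommGroup M'] [DistribMulAction Γ M'] {Ψ₁ Ψ₀ : List X → AddSubgroup M'}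
    (hR : Rg K R) (ρ : List X → AddSubgroup (M × M')) (hρ : Sy K R ρ)
    (h1 : ∀ l, R l → ∀ m m', (m, m') ∈ ρ l → m ∈ Φ₁ l ∧ m' ∈ Ψ₁ l ∧ (m ∈ Φ₀ l ↔ m' ∈ Ψ₀ l))
    (h2 : ∀ l, R l → ∀ m ∈ Φ₁ l, ∃ m', (m, m') ∈ ρ l) (h3 : ∀ l, R l → ∀ m' ∈ Ψ₁ l, ∃ m, (m, m') ∈ ρ l)
    {n : ℕ} (v : Van K R Ψ₁ Ψ₀ n) : Van K R Φ₁ Φ₀ n := by
  classical
  have key : ∀ (k : ℕ) (f : List X → M) (f' : List X → M'), (∀ l, l.length = k → R l → (f l, f' l) ∈ ρ l) →
      (∀ l, l.length = k → ¬ R l → f l = 0) → (∀ l, l.length = k → ¬ R l → f' l = 0) →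
      ∀ l, l.length = k + 1 → R l → (dd l f, dd l f') ∈ ρ l := fun k f f' a b c l d e => by
    have := dd_sy (f := fun l => (f l, f' l)) hρ a (fun l x y => by rw [b l x y, c l x y]; rfl) d e
    have e1 := dd_hom (AddMonoidHom.fst M M') l (fun l => (f l, f' l))
    have e2 := dd_hom (AddMonoidHom.snd M M') l (fun l => (f l, f' l))
    have : dd l (fun l => (f l, f' l)) = (dd l f, dd l f') := Prod.ext e1 e2
    rwa [← this]
  have eq : ∀ (k : ℕ) (f : List X → M) (f' : List X → M'), (∀ l, l.length = k → R l → (f l, f' l) ∈ ρ l) →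
      ∀ g ∈ K, ∀ l, l.length = k → R l →
        (f (mp g l) - g • f l ∈ Φ₀ (mp g l) ↔ f' (mp g l) - g • f' l ∈ Ψ₀ (mp g l)) := fun k f f' a g hg l b c => by
    have := AddSubgroup.sub_mem _ (a (mp g l) (by rw [mp_len, b]) (hR.inv g hg l c)) (hρ.act g hg l c _ (a l b c))
    exact (h1 _ (hR.inv g hg l c) _ _ this).2.2
  intro f hf hc
  have ex : ∀ l, ∃ m', (l.length = n → R l → (f l, m') ∈ ρ l) ∧ (¬ R l → m' = 0) := fun l => by
    by_cases a : l.length = n ∧ R l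
    · obtain ⟨m', hm⟩ := h2 l a.2 _ (hf.mem l a.1 a.2)
      exact ⟨m', fun _ _ => hm, fun b => absurd a.2 b⟩
    · exact ⟨0, fun b c => absurd ⟨b, c⟩ a, fun _ => rfl⟩
  choose f' p1 p2 using ex
  obtain ⟨h', ha, hb⟩ := v f' ⟨fun l a b => (h1 l b _ _ (p1 l a b)).2.1, fun l _ b => p2 l b,
    fun g hg l a b => (eq n f f' p1 g hg l a b).1 (hf.eqv g hg l a b)⟩ fun l a b =>
      (h1 l b _ _ (key n f f' p1 hf.off (fun l _ b => p2 l b) l a b)).2.2.1 (hc l a b)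
  have ex : ∀ l, ∃ m, (l.length + 1 = n → R l → (m, h' l) ∈ ρ l) ∧ (¬ R l → m = 0) := fun l => by
    by_cases a : l.length + 1 = n ∧ R l
    · obtain ⟨m', hm⟩ := h3 l a.2 _ ((ha _ a.1).mem l rfl a.2)
      exact ⟨m', fun _ _ => hm, fun b => absurd a.2 b⟩
    · exact ⟨0, fun b c => absurd ⟨b, c⟩ a, fun _ => rfl⟩
  choose h q1 q2 using ex
  refine ⟨h, fun m hm => ⟨fun l a b => (h1 l b _ _ (q1 l (by omega) b)).1, fun l _ b => q2 l b,
    fun g hg l a b => (eq m h h' (fun l a b => q1 l (by omega) b) g hg l a b).2 ((ha m hm).eqv g hg l a b)⟩,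
    fun l a b => ?_⟩
  have t : (dd l h, dd l h') ∈ ρ l := by
    rcases n with _ | m
    · rw [List.length_eq_zero_iff.1 a]; exact AddSubgroup.zero_mem _
    · exact key m h h' (fun l a b => q1 l (by omega) b) (fun l _ b => q2 l b) (ha m rfl).off l a b
  exact (h1 l b _ _ (AddSubgroup.sub_mem _ (p1 l a b) t)).2.2.2 (hb l a b)

/-- change of the acting group -/
theorem Van.comp {Γ' : Type*} [Group Γ'] [MulAction Γ' X] [DistribMulAction Γ' M] {K' : Subgroup Γ'}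
    (h1 : ∀ g ∈ K, ∃ g' ∈ K', (∀ x : X, g' • x = g • x) ∧ ∀ m : M, g' • m = g • m)
    (h2 : ∀ g' ∈ K', ∃ g ∈ K, (∀ x : X, g' • x = g • x) ∧ ∀ m : M, g' • m = g • m) {n : ℕ}
    (v : Van K' R Φ₁ Φ₀ n) : Van K R Φ₁ Φ₀ n := by
  intro f hf hc
  obtain ⟨h, ha, hb⟩ := v f ⟨hf.mem, hf.off, fun g' hg' l a b => by
    obtain ⟨g, hg, e1, e2⟩ := h2 g' hg'
    simp only [e1, e2]; exact hf.eqv g hg l a b⟩ hc
  refine ⟨h, fun m hm => ⟨(ha m hm).mem, (ha m hm).off, fun g hg l a b => ?_⟩, hb⟩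
  obtain ⟨g', hg', e1, e2⟩ := h1 g hg
  simp only [← e1, ← e2]; exact (ha m hm).eqv g' hg' l a b

/-- support reduction -/
theorem L5 (hS : Sys K R Φ₁ Φ₀) {N : Subgroup Γ} (hN : N ≤ K) (S₀ : List X → Prop)
    (s1 : ∀ l' l : List X, l' <+ l → S₀ l → S₀ l') (s2 : ∀ g ∈ N, ∀ l, S₀ l → S₀ (mp g l)) {n : ℕ}
    (ex : ∀ l, n ≤ l.length + 1 → R l → ∃ g ∈ K, S₀ (mp g l))
    (un : ∀ l, n ≤ l.length + 1 → R l → S₀ l → ∀ g ∈ K, S₀ (mp g l) → ∃ u ∈ N, mp u l = mp g l)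
    (v : Van N (fun l => R l ∧ S₀ l) Φ₁ Φ₀ n) : Van K R Φ₁ Φ₀ n := by
  classical
  intro f hf hc
  have hi : ∀ g ∈ N, ∀ l, (R l ∧ S₀ l) → (R (mp g l) ∧ S₀ (mp g l)) := fun g hg l b =>
    ⟨hS.rg.inv g (hN hg) l b.1, s2 g hg l b.2⟩
  have hfN : Co N R Φ₁ Φ₀ n f := ⟨hf.mem, hf.off, fun g hg => hf.eqv g (hN hg)⟩
  obtain ⟨h₀, ha, hb⟩ := v _ (hfN.cut (fun l b => b.1) hi) fun l a b => by
    rw [dd_congr l _ f]
    · exact hc l a b.1
    · intro l' c d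
      by_cases r : R l'
      · exact cut_pos ⟨r, s1 _ _ c b.2⟩
      · rw [cut_neg fun x => r x.1, hf.off l' (by omega) r]
  rcases n with _ | m
  · refine ⟨h₀, fun m hm => absurd hm (by omega), fun l a b => ?_⟩
    obtain ⟨g, hg, hs⟩ := ex l (by omega) b
    obtain rfl := List.length_eq_zero_iff.1 a
    have := hb [] rfl ⟨b, hs⟩
    rwa [cut_pos (R := fun l => R l ∧ S₀ l) ⟨b, hs⟩] at this
  have hc0 := ha m rfl
  have ex' : ∀ l, ∃ g ∈ K, l.length = m → R l → S₀ (mp g l) := fun l => by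
    by_cases a : l.length = m ∧ R l
    · obtain ⟨g, hg, hs⟩ := ex l (by omega) a.2
      exact ⟨g, hg, fun _ _ => hs⟩
    · exact ⟨1, K.one_mem, fun b c => absurd ⟨b, c⟩ a⟩
  choose k hk he using ex'
  -- equivariance of `h₀` under elements of `K` preserving the support
  have eq0 : ∀ l, l.length = m → R l → S₀ l → ∀ g ∈ K, S₀ (mp g l) → h₀ (mp g l) - g • h₀ l ∈ Φ₀ (mp g l) := by
    intro l a b c g hg d
    obtain ⟨u, hu, e⟩ := un l (by omega) b c g hg d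
    have t1 := hc0.eqv u hu l a ⟨b, c⟩
    change h₀ (mp u l) - _ ∈ Φ₀ (mp u l) at t1
    have t2 := hS.tr (u⁻¹ * g) (K.mul_mem (K.inv_mem (hN hu)) hg) l b (by rw [← mp_mp, ← e, mp_inv]) _
      (hc0.mem l a ⟨b, c⟩)
    have t3 := hS.s0.act u (hN hu) l b _ t2
    rw [smul_sub, ← mul_smul, mul_inv_cancel_left] at t3
    rw [e] at t1 t3
    have := AddSubgroup.sub_mem _ t1 t3
    convert this using 1; abel
  set h : List X → M := fun l => if R l then (k l)⁻¹ • h₀ (mp (k l) l) else 0 with hh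
  have hp : ∀ l, R l → h l = (k l)⁻¹ • h₀ (mp (k l) l) := fun l b => if_pos b
  have co : Co K R Φ₁ Φ₀ m h := by
    refine ⟨fun l a b => ?_, fun l a b => if_neg b, fun g hg l a b => ?_⟩
    · have := hS.s1.act _ (K.inv_mem (hk l)) _ (hS.rg.inv _ (hk l) l b) _
        (hc0.mem _ (by rw [mp_len, a]) ⟨hS.rg.inv _ (hk l) l b, he l a b⟩)
      rwa [mp_inv, ← hp l b] at this
    · have b' := hS.rg.inv g hg l b
      change h (mp g l) - _ ∈ Φ₀ (mp g l)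
      rw [hp l b, hp _ b']
      have hu : k (mp g l) * g * (k l)⁻¹ ∈ K := K.mul_mem (K.mul_mem (hk _) hg) (K.inv_mem (hk l))
      have e : mp (k (mp g l) * g * (k l)⁻¹) (mp (k l) l) = mp (k (mp g l)) (mp g l) := by
        rw [mp_mp, mp_mp, inv_mul_cancel_right]
      have t := eq0 (mp (k l) l) (by rw [mp_len, a]) (hS.rg.inv _ (hk l) l b) (he l a b) _ hu
        (by rw [e]; exact he _ (by rw [mp_len, a]) b')
      rw [e] at t
      have t2 := hS.s0.act _ (K.inv_mem (hk (mp g l))) _ (hS.rg.inv _ (hk _) _ b') _ t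
      rw [mp_inv, smul_sub, ← mul_smul, mul_assoc, inv_mul_cancel_left, mul_smul] at t2
      exact t2
  refine ⟨h, fun m' hm => by obtain rfl : m' = m := by omega
                             exact co, fun l a b => ?_⟩
  obtain ⟨g, hg, hs⟩ := ex l (by omega) b
  have b' := hS.rg.inv g hg l b
  have a' : (mp g l).length = m + 1 := by rw [mp_len, a]
  have t1 := hb _ a' ⟨b', hs⟩
  rw [cut_pos (R := fun l => R l ∧ S₀ l) ⟨b', hs⟩] at t1
  have t2 : dd (mp g l) (fun l' => h₀ l' - h l') ∈ Φ₀ (mp g l) := by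
    refine dd_mem _ _ _ fun l' c d => ?_
    have d' : l'.length = m := by omega
    by_cases r : R l'
    · refine hS.s0.mono _ _ c r b' ?_
      have t := eq0 l' d' r (s1 _ _ c hs) _ (hk l') (he l' d' r)
      have t2 := hS.s0.act _ (K.inv_mem (hk l')) _ (hS.rg.inv _ (hk _) _ r) _ t
      rw [mp_inv, smul_sub, inv_smul_smul, ← hp l' r] at t2
      have := AddSubgroup.neg_mem _ t2
      rwa [neg_sub] at this
    · rw [hc0.off l' d' fun x => r x.1, co.off l' d' r, sub_zero]; exact AddSubgroup.zero_mem _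
  rw [dd_sub] at t2
  have t3 := dd_eqv hS.rg hS.s0 co hg a b
  have t4 := hf.eqv g hg l a b
  change f (mp g l) - _ ∈ Φ₀ (mp g l) at t4
  have t5 := AddSubgroup.sub_mem _ (AddSubgroup.add_mem _ (AddSubgroup.add_mem _ t1 t2) t3) t4
  have e : f (mp g l) - dd (mp g l) h₀ + (dd (mp g l) h₀ - dd (mp g l) h) + (dd (mp g l) h - g • dd l h) -
      (f (mp g l) - g • f l) = g • (f l - dd l h) := by rw [smul_sub]; abel
  rw [e] at t5
  have := hS.s0.act _ (K.inv_mem hg) _ b' _ t5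
  rwa [mp_inv, inv_smul_smul] at this

end
end H18.CL
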