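import Cfsg.Agent.H18.CL2
set_option autoImplicit false
set_option linter.unusedSectionVars false
set_option linter.unusedVariables false
/-! Families of subgroups, acyclicity, filtrations. -/
namespace H18.CL
open Subgroup Pointwise List

section grp
variable {Γ : Type*} [Group Γ]

/-- conjugate subgroup -/
abbrev cj (g : Γ) (P : Subgroup Γ) : Subgroup Γ := MulAut.conj g • P

theorem mem_cj {g x : Γ} {P : Subgroup Γ} : x ∈ cj g P ↔ g⁻¹ * x * g ∈ P := by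
  rw [Subgroup.mem_pointwise_smul_iff_inv_smul_mem]; simp

theorem mem_cj' {g x : Γ} {P : Subgroup Γ} (h : x ∈ P) : g * x * g⁻¹ ∈ cj g P := by
  rw [mem_cj]; simpa [mul_assoc] using h

theorem cj_cj (g h : Γ) (P : Subgroup Γ) : cj g (cj h P) = cj (g * h) P := by
  ext x; simp only [mem_cj]; simp [mul_assoc]

theorem cj_one (P : Subgroup Γ) : cj 1 P = P := by ext x; simp [mem_cj]
theorem cj_inv (g : Γ) (P : Subgroup Γ) : cj g⁻¹ (cj g P) = P := by rw [cj_cj, inv_mul_cancel, cj_one]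
theorem cj_inv' (g : Γ) (P : Subgroup Γ) : cj g (cj g⁻¹ P) = P := by rw [cj_cj, mul_inv_cancel, cj_one]

theorem cj_mono (g : Γ) {P Q : Subgroup Γ} (h : P ≤ Q) : cj g P ≤ cj g Q := fun x hx => mem_cj.2 (h (mem_cj.1 hx))

theorem cj_card (g : Γ) (P : Subgroup Γ) : Nat.card (cj g P) = Nat.card P :=
  (Nat.card_congr (Subgroup.equivSMul (MulAut.conj g) P).toEquiv).symm

theorem cj_pg {p : ℕ} (g : Γ) {P : Subgroup Γ} (h : IsPGroup p P) : IsPGroup p (cj g P) :=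
  h.of_equiv (Subgroup.equivSMul (MulAut.conj g) P)

theorem cj_inf (g : Γ) (P Q : Subgroup Γ) : cj g (P ⊓ Q) = cj g P ⊓ cj g Q := Subgroup.smul_inf _ _ _

theorem cj_eq_iff {g : Γ} {P : Subgroup Γ} : cj g P = P ↔ g ∈ normalizer (P : Set Γ) := by
  rw [Subgroup.mem_normalizer_iff'']
  constructor
  · intro h x; rw [← mem_cj, h]
  · intro h; ext x; rw [mem_cj, ← h]

theorem cj_self {g : Γ} {P : Subgroup Γ} (h : g ∈ P) : cj g P = P := cj_eq_iff.2 (le_normalizer h)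

theorem cj_le {g : Γ} {P K : Subgroup Γ} (hg : g ∈ K) (h : P ≤ K) : cj g P ≤ K := by
  have := cj_mono g h; rwa [cj_self hg] at this

variable [Finite Γ] {p : ℕ} [Fact p.Prime]

theorem grow {P Q : Subgroup Γ} (hQ : IsPGroup p Q) (h : P ≤ Q) (hne : ¬ Q ≤ P) :
    ∃ g ∈ Q, g ∉ P ∧ g ∈ normalizer (P : Set Γ) := by
  have := hQ.isNilpotent
  have h1 : P.subgroupOf Q < ⊤ := lt_top_iff_ne_top.2 fun e => hne (subgroupOf_eq_top.1 e)
  have h2 := Group.normalizerCondition_of_isNilpotent (G := Q) _ h1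
  obtain ⟨g, hg, hg'⟩ := SetLike.exists_of_lt h2
  rw [← subgroupOf_normalizer_eq h] at hg
  exact ⟨g, g.2, hg', hg⟩

/-- Sylow subgroups of a subgroup -/
theorem exSyl (C P₀ : Subgroup Γ) (h0 : P₀ ≤ C) (hp : IsPGroup p P₀) : ∃ T ≤ C, P₀ ≤ T ∧ IsPGroup p T ∧
    ∀ P ≤ C, IsPGroup p P → ∃ c ∈ C, cj c P ≤ T := by
  obtain ⟨S, hS⟩ := (hp.of_equiv (subgroupOfEquivOfLe h0).symm).exists_le_sylow
  refine ⟨(S : Subgroup C).map C.subtype, map_subtype_le _, ?_, S.2.map _, fun P h1 h2 => ?_⟩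
  · intro x hx; exact ⟨⟨x, h0 hx⟩, hS hx, rfl⟩
  · obtain ⟨S', hS'⟩ := (h2.of_equiv (subgroupOfEquivOfLe h1).symm).exists_le_sylow
    obtain ⟨c, hc⟩ := MulAction.exists_smul_eq C S' S
    refine ⟨c, c.2, fun x hx => ?_⟩
    have hx' := mem_cj.1 hx
    have : (⟨_, h1 hx'⟩ : C) ∈ (S' : Subgroup C) := hS' hx'
    have h3 : c * ⟨_, h1 hx'⟩ * c⁻¹ ∈ ((c • S' : Sylow p C) : Subgroup C) := by
      rw [Sylow.coe_subgroup_smul]; exact mem_cj' this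
    rw [hc] at h3
    exact ⟨_, h3, by simp [mul_assoc]⟩

theorem NS_cj {C P : Subgroup Γ} {g : Γ} (hg : cj g C = C) (h : NS p C P) : NS p C (cj g P) := by
  obtain ⟨T, a, b, c⟩ := h
  refine ⟨T, a, b, ?_⟩
  have : cj g P ⊓ C = cj g (P ⊓ C) := by rw [cj_inf, hg]
  rw [this, cj_card]; exact c

theorem NS_anti {C P P' : Subgroup Γ} (h : P ≤ P') (h' : NS p C P') : NS p C P := by
  obtain ⟨T, a, b, c⟩ := h'
  exact ⟨T, a, b, lt_of_le_of_lt (card_le_of_le (inf_le_inf_right _ h)) c⟩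

theorem not_NS {C P : Subgroup Γ} (h : C ≤ P) : ¬ NS p C P := by
  rintro ⟨T, a, b, c⟩
  rw [inf_eq_right.2 h] at c
  exact absurd (card_le_of_le a) (by omega)

/-- passing to the normalizer keeps the property of not being Sylow -/
theorem NS_norm {K C P : Subgroup Γ} (hC : C ≤ K) (hn : ∀ g ∈ K, cj g C = C) (hP : P ≤ K) (hp : IsPGroup p P)
    (h : NS p C P) : NS p (C ⊓ (K ⊓ normalizer (P : Set Γ))) P := by
  obtain ⟨T, a, b, c⟩ := h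
  obtain ⟨S, hS, hPS, hpS, hy⟩ := exSyl K P hP hp
  obtain ⟨k, hk, hT⟩ := hy T (a.trans hC) b
  have h1 : cj k T ≤ S ⊓ C := le_inf hT (by rw [← hn k hk]; exact cj_mono k a)
  have h2 : Nat.card (P ⊓ C : Subgroup Γ) < Nat.card (S ⊓ C : Subgroup Γ) :=
    lt_of_lt_of_le c (by rw [← cj_card k T]; exact card_le_of_le h1)
  have h3 : ¬ P ⊔ (S ⊓ C) ≤ P := fun e => by
    have : S ⊓ C ≤ P ⊓ C := le_inf (le_sup_right.trans e) inf_le_right
    exact absurd (card_le_of_le this) (by omega)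
  have h4 : P ⊔ (S ⊓ C) ≤ S := sup_le hPS inf_le_left
  obtain ⟨g, hg, hg1, hg2⟩ := grow (hpS.to_le h4) le_sup_left h3
  have nm : P ≤ normalizer ((S ⊓ C : Subgroup Γ) : Set Γ) := fun u hu => by
    rw [← cj_eq_iff, cj_inf, cj_self (hPS hu), hn u (hP hu)]
  have : (g : Γ) ∈ ((P : Set Γ) * ((S ⊓ C : Subgroup Γ) : Set Γ)) := by
    rw [← Subgroup.coe_mul_of_left_le_normalizer_right _ _ nm]; exact hg
  obtain ⟨u, hu, t, ht, rfl⟩ := this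
  have ht' : t ∈ normalizer (P : Set Γ) := by
    have := (normalizer (P : Set Γ)).mul_mem ((normalizer (P : Set Γ)).inv_mem (le_normalizer hu)) hg2
    simpa using this
  refine ⟨S ⊓ C ⊓ normalizer (P : Set Γ), fun x hx => ⟨hx.1.2, hC hx.1.2, hx.2⟩,
    hpS.to_le (inf_le_left.trans inf_le_left), ?_⟩
  have hle : P ⊓ (C ⊓ (K ⊓ normalizer (P : Set Γ))) ≤ S ⊓ C ⊓ normalizer (P : Set Γ) :=
    fun x hx => ⟨⟨hPS hx.1, hx.2.1⟩, hx.2.2.2⟩
  refine lt_of_le_of_ne (card_le_of_le hle) fun e => hg1 ?_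
  have := eq_of_le_of_card_ge hle e.ge
  have ht2 : t ∈ S ⊓ C ⊓ normalizer (P : Set Γ) := ⟨ht, ht'⟩
  rw [← this] at ht2
  exact P.mul_mem hu ht2.1
end grp

section
variable {X : Type*} {M : Type*} [AddCommGroup M]
variable {Γ : Type*} [Group Γ] [MulAction Γ X] [DistribMulAction Γ M]
variable {K : Subgroup Γ} {Y : Set X} {F : Subgroup Γ → Prop} {Φ₁ Φ₀ : List X → AddSubgroup M}

theorem Pst_le (K : Subgroup Γ) (l : List X) : Pst K l ≤ K := fun g hg => hg.1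

theorem Pst_anti {l' l : List X} (h : l' <+ l) : Pst K l ≤ Pst K l' := fun g hg =>
  ⟨hg.1, fun x hx => hg.2 x (h.subset hx)⟩

theorem Pst_mp {g : Γ} (hg : g ∈ K) (l : List X) : Pst K (mp g l) = cj g (Pst K l) := by
  ext u
  rw [mem_cj, mem_Pst, mem_Pst]
  simp only [mp, List.mem_map, forall_exists_index, and_imp, forall_apply_eq_imp_iff₂]
  refine and_congr ⟨fun h => K.mul_mem (K.mul_mem (K.inv_mem hg) h) hg, fun h => ?_⟩ (forall₂_congr fun x _ => ?_)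
  · have := K.mul_mem (K.mul_mem hg h) (K.inv_mem hg); simpa [mul_assoc] using this
  · rw [mul_smul, mul_smul, inv_smul_eq_iff]

theorem mem_Pst_mp {g : Γ} {l : List X} : g ∈ Pst K l ↔ g ∈ K ∧ mp g l = l := by
  rw [mem_Pst]
  refine and_congr_right fun _ => ⟨fun h => ?_, fun h => ?_⟩
  · conv_rhs => rw [← List.map_id l]
    exact List.map_congr_left h
  · have : l.map (g • ·) = l.map id := by rw [List.map_id]; exact h
    exact fun x hx => List.map_inj_left.1 this x hx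

theorem Pst_nil : Pst K ([] : List X) = K := by ext g; simp [mem_Pst]

theorem Pst_inf {N : Subgroup Γ} (hN : N ≤ K) (l : List X) : Pst N l = Pst K l ⊓ N := by
  ext g; simp only [mem_Pst, mem_inf]; exact ⟨fun h => ⟨⟨hN h.1, h.2⟩, h.1⟩, fun h => ⟨h.2, h.1.2⟩⟩

theorem Md.pgl {p : ℕ} (h : Md p K Y) {l : List X} (hl : ∀ x ∈ l, x ∈ Y) (hne : l ≠ []) : IsPGroup p (Pst K l) := by
  obtain ⟨x, hx⟩ := List.exists_mem_of_ne_nil l hne
  exact (h.pg x (hl x hx)).to_le (Pst_anti (List.singleton_sublist.2 hx))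

/-- an invariant convex family -/
structure Fam (K : Subgroup Γ) (F : Subgroup Γ → Prop) : Prop where
  inv : ∀ g ∈ K, ∀ P, F P → F (cj g P)
  cvx : ∀ P₁ P₂ P₃, P₁ ≤ P₂ → P₂ ≤ P₃ → F P₁ → F P₃ → F P₂

theorem Fam.inv' (h : Fam K F) {g : Γ} (hg : g ∈ K) {P : Subgroup Γ} (hP : F (cj g P)) : F P := by
  have := h.inv _ (K.inv_mem hg) _ hP; rwa [cj_inv] at this

theorem in_mp (hY : ∀ g ∈ K, ∀ y ∈ Y, g • y ∈ Y) {g : Γ} (hg : g ∈ K) {l : List X} (h : ∀ x ∈ l, x ∈ Y) :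
    ∀ x ∈ mp g l, x ∈ Y := by
  intro x hx
  obtain ⟨y, hy, rfl⟩ := List.mem_map.1 hx
  exact hY g hg y (h y hy)

theorem Rf_inv (hY : ∀ g ∈ K, ∀ y ∈ Y, g • y ∈ Y) (hF : ∀ g ∈ K, ∀ P, F P → F (cj g P)) :
    ∀ g ∈ K, ∀ l, Rf K Y F l → Rf K Y F (mp g l) := fun g hg l h =>
  ⟨in_mp hY hg h.1, by rw [Pst_mp hg]; exact hF g hg _ h.2⟩

theorem Rf_rg (hY : ∀ g ∈ K, ∀ y ∈ Y, g • y ∈ Y) (hF : Fam K F) : Rg K (Rf K Y F) where
  inv := Rf_inv hY hF.inv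
  cvx l₁ l₂ l₃ a b c d := ⟨fun x hx => d.1 x (b.subset hx), hF.cvx _ _ _ (Pst_anti b) (Pst_anti a) d.2 c.2⟩

theorem Sys.fam {F₀ : Subgroup Γ → Prop} (hS : Sys K (Rf K Y F₀) Φ₁ Φ₀) (hY : ∀ g ∈ K, ∀ y ∈ Y, g • y ∈ Y)
    (hF : Fam K F) (h : ∀ P, F P → F₀ P) : Sys K (Rf K Y F) Φ₁ Φ₀ :=
  hS.sub (fun l b => ⟨b.1, h _ b.2⟩) (Rf_rg hY hF)

theorem spl_fam (hY : ∀ g ∈ K, ∀ y ∈ Y, g • y ∈ Y) {U L : Subgroup Γ → Prop} (h1 : ∀ P, F P ↔ U P ∨ L P)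
    (h2 : ∀ P, U P → ¬ L P) (h3 : ∀ g ∈ K, ∀ P, U P → U (cj g P)) (h4 : ∀ P P', P ≤ P' → U P → F P' → U P') :
    Spl K (Rf K Y F) (Rf K Y U) (Rf K Y L) where
  iff l := by simp only [Rf, h1]; tauto
  dis l a b := h2 _ a.2 b.2
  inv := Rf_inv hY h3
  up l' l a b c := ⟨c.1, h4 _ _ (Pst_anti a) b.2 c.2⟩

theorem Van_empty {R : List X → Prop} {n : ℕ} (h : ∀ l, l.length = n → ¬ R l) : Van K R Φ₁ Φ₀ n := by
  intro f hf hc
  refine ⟨fun _ => 0, fun m hm => ⟨fun l _ _ => AddSubgroup.zero_mem _, fun _ _ _ => rfl, fun g _ l _ _ => ?_⟩,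
    fun l a b => absurd b (h l a)⟩
  simp

/-- filtration by layers -/
theorem LF [Finite Γ] {α : Type*} [LinearOrder α] (hY : ∀ g ∈ K, ∀ y ∈ Y, g • y ∈ Y) (hF : Fam K F)
    (hS : Sys K (Rf K Y F) Φ₁ Φ₀) (E : Subgroup Γ → Subgroup Γ → Prop) (μ : Subgroup Γ → α)
    (e1 : ∀ P, E P P) (e2 : ∀ P Q, E P Q → E Q P) (e3 : ∀ P Q R, E P Q → E Q R → E P R)
    (e4 : ∀ g ∈ K, ∀ P, E P (cj g P)) (m1 : ∀ P Q, F P → F Q → P ≤ Q → μ P ≤ μ Q)
    (m2 : ∀ P Q, F P → F Q → P ≤ Q → μ P = μ Q → E P Q) (m3 : ∀ P Q, F P → F Q → E P Q → μ P = μ Q) {n : ℕ}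
    (v : ∀ P₀, F P₀ → Van K (Rf K Y fun P => F P ∧ E P₀ P) Φ₁ Φ₀ n) : Van K (Rf K Y F) Φ₁ Φ₀ n := by
  classical
  induction' hn : Set.ncard {P | F P} using Nat.strong_induction_on with t ih generalizing F
  by_cases h0 : ∃ P, F P
  swap
  · exact Van_empty fun l _ b => h0 ⟨_, b.2⟩
  obtain ⟨P₀, hP₀, hmax⟩ := Set.exists_max_image {P | F P} μ (Set.toFinite _) h0
  have up : ∀ P P', P ≤ P' → (F P ∧ E P₀ P) → F P' → (F P' ∧ E P₀ P') := fun P P' a b c =>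
    ⟨c, e3 _ _ _ b.2 (m2 _ _ b.1 c a (le_antisymm (m1 _ _ b.1 c a)
      ((hmax _ c).trans (m3 _ _ hP₀ b.1 b.2).le)))⟩
  have sp := spl_fam (K := K) (F := F) (U := fun P => F P ∧ E P₀ P) (L := fun P => F P ∧ ¬ E P₀ P) hY
    (fun P => by tauto) (fun P a b => b.2 a.2) (fun g hg P a => ⟨hF.inv g hg P a.1, e3 _ _ _ a.2 (e4 g hg P)⟩) up
  have hF' : Fam K fun P => F P ∧ ¬ E P₀ P :=
    ⟨fun g hg P a => ⟨hF.inv g hg P a.1, fun b => a.2 (e3 _ _ _ b (e2 _ _ (e4 g hg P)))⟩,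
      fun P₁ P₂ P₃ a b c d => ⟨hF.cvx _ _ _ a b c.1 d.1, fun e =>
        d.2 (up _ _ b ⟨hF.cvx _ _ _ a b c.1 d.1, e⟩ d.1).2⟩⟩
  refine S1 hS sp (v P₀ hP₀) (ih _ ?_ hF' (hS.fam hY hF' fun P a => a.1) (fun P Q a b => m1 P Q a.1 b.1)
    (fun P Q a b => m2 P Q a.1 b.1) (fun P Q a b => m3 P Q a.1 b.1) (fun P₁ h₁ => ?_) rfl)
  · rw [← hn]
    refine Set.ncard_lt_ncard ⟨fun P a => a.1, fun h => ?_⟩ (Set.toFinite _)
    exact (h hP₀).2 (e1 _)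
  · refine (v P₁ h₁.1).congr (fun g hg l _ => Rf_inv hY
      (fun g hg P a => ⟨hF.inv g hg P a.1, e3 _ _ _ a.2 (e4 g hg P)⟩) g hg l) (fun l _ => ?_) fun _ _ _ => ⟨rfl, rfl⟩
    simp only [Rf]
    refine and_congr_right fun _ => ⟨fun a => ⟨⟨a.1, fun b => h₁.2 (e3 _ _ _ b (e2 _ _ a.2))⟩, a.2⟩,
      fun a => ⟨a.1.1, a.2⟩⟩

/-- points of `Y` fixed by `P` -/
def fixS (Y : Set X) (P : Subgroup Γ) : Set X := {y | y ∈ Y ∧ ∀ g ∈ P, g • y = y}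

theorem in_fixS {P : Subgroup Γ} (hP : P ≤ K) {l : List X} (hne : l ≠ []) :
    (∀ x ∈ l, x ∈ fixS Y P) ↔ (∀ x ∈ l, x ∈ Y) ∧ P ≤ Pst K l :=
  ⟨fun h => ⟨fun x hx => (h x hx).1, fun g hg => ⟨hP hg, fun x hx => (h x hx).2 g hg⟩⟩,
    fun h x hx => ⟨h.1 x hx, fun g hg => (h.2 hg).2 x hx⟩⟩

theorem Md.fix [Finite X] {p : ℕ} [Fact p.Prime] (h : Md p K Y) {P : Subgroup Γ} (hP : P ≤ K) (hp : IsPGroup p P) :
    Md p (K ⊓ normalizer (P : Set Γ)) (fixS Y P) where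
  inv g hg y hy := ⟨h.inv g hg.1 y hy.1, fun u hu => by
    have := hy.2 _ ((Subgroup.mem_normalizer_iff''.1 hg.2 u).1 hu)
    rw [mul_smul, mul_smul, inv_smul_eq_iff] at this; exact this⟩
  pg y hy := (h.pg y hy.1).to_le (by rw [Pst_inf inf_le_left]; exact inf_le_left)
  nd := by
    let Z : SubMulAction P X := ⟨Y, fun g y hy => h.inv g (hP g.2) y hy⟩
    have h1 := hp.card_modEq_card_fixedPoints Z
    have h2 : Nat.card (MulAction.fixedPoints P Z) = (fixS Y P).ncard := by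
      rw [← Nat.card_coe_set_eq]
      refine Nat.card_congr ⟨fun z => ⟨z.1.1, z.1.2, fun g hg => congrArg Subtype.val (z.2 ⟨g, hg⟩)⟩,
        fun y => ⟨⟨y.1, y.2.1⟩, fun g => Subtype.ext (y.2.2 g g.2)⟩, fun _ => rfl, fun _ => rfl⟩
    have h3 : Nat.card Z = Y.ncard := Nat.card_coe_set_eq Y
    rw [h2, h3] at h1
    intro hd
    exact h.nd ((h1.dvd_iff dvd_rfl).2 hd)

theorem mem_Fx {D₁ D₀ : AddSubgroup M} {hD : ∀ m ∈ D₀, m ∈ D₁} {P : Subgroup Γ} {m : M} :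
    m ∈ Fx D₁ D₀ hD P ↔ m ∈ D₁ ∧ ∀ g ∈ P, g • m - m ∈ D₀ := Iff.rfl

/-- an invariant pair -/
structure Pr (p : ℕ) (K : Subgroup Γ) (D₁ D₀ : AddSubgroup M) : Prop where
  le : ∀ m ∈ D₀, m ∈ D₁
  i1 : ∀ g ∈ K, ∀ m ∈ D₁, g • m ∈ D₁
  i0 : ∀ g ∈ K, ∀ m ∈ D₀, g • m ∈ D₀
  tor : ∃ e, ∀ m ∈ D₁, p ^ e • m ∈ D₀

theorem Pr.sub {p : ℕ} {D₁ D₀ : AddSubgroup M} (h : Pr p K D₁ D₀) {N : Subgroup Γ} (hN : N ≤ K) : Pr p N D₁ D₀ :=
  ⟨h.le, fun g hg => h.i1 g (hN hg), fun g hg => h.i0 g (hN hg), h.tor⟩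

theorem Pr.sys {p : ℕ} {D₁ D₀ : AddSubgroup M} (h : Pr p K D₁ D₀) {R : List X → Prop} (hR : Rg K R) :
    Sys K R (fun l => Fx D₁ D₀ h.le (Pst K l)) (fun _ => D₀) where
  rg := hR
  s1 := ⟨fun l' l a _ _ m hm => ⟨hm.1, fun g hg => hm.2 g (Pst_anti a hg)⟩, fun g hg l _ m hm =>
    ⟨h.i1 g hg m hm.1, fun u hu => by
      rw [Pst_mp hg, mem_cj] at hu
      have := h.i0 g hg _ (hm.2 _ hu)
      rwa [smul_sub, ← mul_smul, ← mul_assoc, ← mul_assoc, mul_inv_cancel, one_mul, mul_smul] at this⟩⟩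
  s0 := ⟨fun _ _ _ _ _ => le_rfl, fun g hg l _ m hm => h.i0 g hg m hm⟩
  le l _ m hm := ⟨h.le m hm, fun g hg => D₀.sub_mem (h.i0 g hg.1 m hm) hm⟩
  tr g hg l _ e m hm := hm.2 g (mem_Pst_mp.2 ⟨hg, e⟩)

theorem ex_inv {p : ℕ} [hp : Fact p.Prime] (e t : ℕ) (h : ¬ p ∣ t) : ∃ u k : ℕ, u * t = 1 + k * p ^ e := by
  have hc : t.Coprime (p ^ e) := ((Nat.Prime.coprime_iff_not_dvd hp.out).2 h).symm.pow_right e
  have h1 := Nat.ModEq.pow_totient hc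
  have hpos : 0 < (p ^ e).totient := Nat.totient_pos.2 (pow_pos hp.out.pos e)
  have ht : 0 < t := Nat.pos_of_ne_zero fun h0 => h (h0 ▸ dvd_zero p)
  obtain ⟨k, hk⟩ := (Nat.modEq_iff_dvd' (Nat.one_le_pow _ _ ht)).1 h1.symm
  refine ⟨t ^ ((p ^ e).totient - 1), k, ?_⟩
  rw [← pow_succ, Nat.sub_add_cancel hpos, mul_comm k, ← hk, Nat.add_sub_cancel' (Nat.one_le_pow _ _ ht)]

/-- acyclicity of the full complex -/
theorem L6 [Finite X] {p : ℕ} [Fact p.Prime] (hM : Md p K Y) {D₁ D₀ : AddSubgroup M} (h : Pr p K D₁ D₀) (n : ℕ) :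
    Van K (Rf K Y fun _ => True) (fun l => Fx D₁ D₀ h.le (Pst K l)) (fun _ => D₀) n := by
  classical
  intro f hf hc
  obtain ⟨e, he⟩ := h.tor
  obtain ⟨u, k, hu⟩ := ex_inv e _ hM.nd
  set s := (Set.toFinite Y).toFinset with hs
  have hsc : s.card = Y.ncard := (Set.ncard_eq_toFinset_card Y _).symm
  have ms : ∀ y, y ∈ s ↔ y ∈ Y := fun y => Set.Finite.mem_toFinset _
  have cons : ∀ y ∈ s, ∀ l, Rf K Y (fun _ => True) l → Rf K Y (fun _ => True) (y :: l) := fun y hy l b =>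
    ⟨fun x hx => by
      rcases List.mem_cons.1 hx with rfl | hx
      · exact (ms _).1 hy
      · exact b.1 x hx, trivial⟩
  have fin : ∀ l, l.length = n → Rf K Y (fun _ => True) l →
      f l - u • ∑ y ∈ s, dd l (fun l' => f (y :: l')) ∈ D₀ := fun l a b => by
    have t : ∑ y ∈ s, dd (y :: l) f ∈ D₀ := D₀.sum_mem fun y hy => hc _ (by simp [a]) (cons y hy l b)
    simp only [dd_cons, Finset.sum_sub_distrib, Finset.sum_const] at t
    have t2 := D₀.nsmul_mem t u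
    rw [smul_sub, ← mul_smul, hsc, hu, add_smul, one_smul, mul_smul] at t2
    have t3 := D₀.sub_mem t2 (D₀.nsmul_mem (he _ (hf.mem l a b).1) k)
    convert t3 using 1; abel
  set h' : List X → M := cut (Rf K Y fun _ => True) fun l => u • ∑ y ∈ s, f (y :: l) with hh
  have hI := Rf_inv (F := fun _ => True) hM.inv fun _ _ _ _ => trivial
  refine ⟨h', fun m hm => ?_, fun l a b => ?_⟩
  · have eq : ∀ g ∈ K, ∀ l, l.length = m → Rf K Y (fun _ => True) l → h' (mp g l) - g • h' l ∈ D₀ := by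
      intro g hg l a b
      rw [hh, cut_pos b, cut_pos (hI g hg l b), smul_comm g u, ← smul_sub, Finset.smul_sum]
      refine D₀.nsmul_mem ?_ u
      rw [← Finset.sum_bij (s := s) (t := s) (f := fun y => f (g • y :: mp g l)) (g := fun y => f (y :: mp g l))
        (fun y _ => g • y) (fun y hy => (ms _).2 (hM.inv g hg y ((ms _).1 hy)))
        (fun a _ b _ e => MulAction.injective g e)
        (fun b hb => ⟨g⁻¹ • b, (ms _).2 (hM.inv _ (K.inv_mem hg) b ((ms _).1 hb)), smul_inv_smul g b⟩)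
        (fun _ _ => rfl), ← Finset.sum_sub_distrib]
      exact D₀.sum_mem fun y hy => hf.eqv g hg (y :: l) (by simp [a, hm]) (cons y hy l b)
    refine ⟨fun l a b => ⟨?_, fun g hg => ?_⟩, fun l a b => cut_neg b, eq⟩
    · rw [hh, cut_pos b]
      exact D₁.nsmul_mem (D₁.sum_mem fun y hy => (hf.mem _ (by simp [a, hm]) (cons y hy l b)).1) u
    · have := eq g hg.1 l a b
      rw [(mem_Pst_mp.1 hg).2] at this
      have := D₀.neg_mem this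
      rwa [neg_sub] at this
  · rw [dd_congr l h' fun l => u • ∑ y ∈ s, f (y :: l), dd_nsmul, dd_sum]
    · exact fin l a b
    · intro l' c d
      exact cut_pos ⟨fun x hx => b.1 x (c.subset hx), trivial⟩

end
end H18.CL
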