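import Cfsg.Agent.H18.CL3
set_option autoImplicit false
set_option linter.unusedSectionVars false
set_option linter.unusedVariables false
/-! Reduction to normalizers; vanishing when a `p`-element acts trivially. -/
namespace H18.CL
open Subgroup Pointwise List

section
variable {X : Type*} {M : Type*} [AddCommGroup M]
variable {Γ : Type*} [Group Γ] [MulAction Γ X] [DistribMulAction Γ M] [Finite Γ] [Finite X] {p : ℕ} [Fact p.Prime]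
variable {K : Subgroup Γ} {Y : Set X} {F : Subgroup Γ → Prop} {Φ₁ Φ₀ : List X → AddSubgroup M}

theorem ne_nil {n : ℕ} {l : List X} (h : 2 ≤ n) (a : n ≤ l.length + 1) : l ≠ [] := by
  rintro rfl; simp at a; omega

theorem fixS_mp {P : Subgroup Γ} {N : Subgroup Γ} (hN : N ≤ K ⊓ normalizer (P : Set Γ))
    (hY : ∀ g ∈ K, ∀ y ∈ Y, g • y ∈ Y) : ∀ g ∈ N, ∀ y ∈ fixS Y P, g • y ∈ fixS Y P := fun g hg y hy =>
  ⟨hY g (hN hg).1 y hy.1, fun u hu => by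
    have := hy.2 _ ((Subgroup.mem_normalizer_iff''.1 (hN hg).2 u).1 hu)
    rw [mul_smul, mul_smul, inv_smul_eq_iff] at this; exact this⟩

theorem red (hM : Md p K Y) (Jf : Subgroup Γ → Subgroup Γ) {J₀ : Subgroup Γ} (h0 : J₀ ≤ K)
    (j1 : ∀ P, Jf P ≤ P) (j2 : ∀ g ∈ K, ∀ P, Jf (cj g P) = cj g (Jf P)) 
    (j3 : ∀ P, J₀ ≤ P → (∃ g ∈ K, Jf P = cj g J₀) → J₀ ≤ Jf P)
    {Ψ₁ Ψ₀ : Subgroup Γ → AddSubgroup M}
    (hS : Sys K (Rf K Y fun P => ∃ g ∈ K, Jf P = cj g J₀) (fun l => Ψ₁ (Pst K l)) (fun l => Ψ₀ (Pst K l))) {n : ℕ}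
    (hn : 2 ≤ n ∨ Jf (K ⊓ normalizer (J₀ : Set Γ)) ≠ J₀ ∧ ¬ ∃ g ∈ K, Jf K = cj g J₀)
    (v : Van (K ⊓ normalizer (J₀ : Set Γ)) (Rf (K ⊓ normalizer (J₀ : Set Γ)) (fixS Y J₀) fun P => Jf P = J₀)
      (fun l => Ψ₁ (Pst (K ⊓ normalizer (J₀ : Set Γ)) l)) (fun l => Ψ₀ (Pst (K ⊓ normalizer (J₀ : Set Γ)) l)) n) :
    Van K (Rf K Y fun P => ∃ g ∈ K, Jf P = cj g J₀) (fun l => Ψ₁ (Pst K l)) (fun l => Ψ₀ (Pst K l)) n := by
  set N := K ⊓ normalizer (J₀ : Set Γ) with hN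
  have k1 : ∀ P, J₀ ≤ P → (∃ g ∈ K, Jf P = cj g J₀) → Jf P = J₀ := fun P a ⟨g, hg, e⟩ =>
    (eq_of_le_of_card_ge (j3 P a ⟨g, hg, e⟩) (by rw [e, cj_card])).symm
  have k2 : ∀ P, P ≤ K → Jf P = J₀ → P ≤ N := fun P a e g hg =>
    ⟨a hg, cj_eq_iff.1 (by rw [← e, ← j2 g (a hg), cj_self hg])⟩
  have ne1 : ∀ l, n ≤ l.length + 1 → Rf K Y (fun P => ∃ g ∈ K, Jf P = cj g J₀) l → l ≠ [] := fun l a b => by
    rcases hn with h | h
    · exact ne_nil h a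
    · rintro rfl; exact h.2 (by have := b.2; rwa [Pst_nil] at this)
  have ne2 : ∀ l, n ≤ l.length + 1 → Rf N (fixS Y J₀) (fun P => Jf P = J₀) l → l ≠ [] := fun l a b => by
    rcases hn with h | h
    · exact ne_nil h a
    · rintro rfl; exact h.1 (by have := b.2; rwa [Pst_nil] at this)
  have k3 : ∀ l, l ≠ [] → Rf N (fixS Y J₀) (fun P => Jf P = J₀) l → Pst N l = Pst K l := fun l a b => by
    rw [Pst_inf (inf_le_left : N ≤ K)]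
    refine le_antisymm inf_le_left ?_
    by_contra hc
    obtain ⟨g, hg, hg1, hg2⟩ := grow (hM.pgl (fun x hx => (b.1 x hx).1) a) inf_le_left hc
    have e : Jf (Pst K l ⊓ N) = J₀ := by rw [← Pst_inf (inf_le_left : N ≤ K)]; exact b.2
    exact hg1 ⟨hg, hg.1, cj_eq_iff.1 (by rw [← e, ← j2 g hg.1, cj_eq_iff.2 hg2])⟩
  refine L5 hS (inf_le_left : N ≤ K) (fun l => ∀ x ∈ l, x ∈ fixS Y J₀) (fun l' l a b x hx => b x (a.subset hx))
    (fun g hg l b => in_mp (fixS_mp le_rfl hM.inv) hg b) (fun l a b => ?_) (fun l a b c g hg d => ?_) ?_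
  · obtain ⟨g, hg, e⟩ := b.2
    refine ⟨g⁻¹, K.inv_mem hg, (in_fixS h0 (by simpa using ne1 l a b)).2 ⟨in_mp hM.inv (K.inv_mem hg) b.1, ?_⟩⟩
    rw [Pst_mp (K.inv_mem hg), ← cj_inv g J₀, ← e]
    exact cj_mono _ (j1 _)
  · have e1 := k1 _ ((in_fixS h0 (ne1 l a b)).1 c).2 b.2
    have b' := hS.rg.inv g hg l b
    have e2 := k1 _ ((in_fixS h0 (by simpa using ne1 l a b)).1 d).2 b'.2
    rw [Pst_mp hg, j2 g hg, e1] at e2
    exact ⟨g, ⟨hg, cj_eq_iff.1 e2⟩, rfl⟩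
  · refine v.congr (fun g hg l _ => Rf_inv (fixS_mp le_rfl hM.inv)
      (fun g hg P e => by rw [j2 g hg.1, e, cj_eq_iff.2 hg.2]) g hg l) (fun l a => ⟨fun b => ?_, fun b => ?_⟩)
      fun l a b => by simp only [k3 l (ne2 l a b) b, and_self]
    · refine ⟨⟨fun x hx => (b.1 x hx).1, 1, K.one_mem, ?_⟩, b.1⟩
      rw [cj_one, ← k3 l (ne2 l a b) b]; exact b.2
    · have e1 := k1 _ ((in_fixS h0 (ne1 l a b.1)).1 b.2).2 b.1.2
      refine ⟨b.2, ?_⟩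
      rw [Pst_inf (inf_le_left : N ≤ K), inf_eq_left.2 (k2 _ (Pst_le K l) e1)]; exact e1

/-- filtration by conjugacy classes -/
theorem AF (hM : Md p K Y) (hF : Fam K F) (hS : Sys K (Rf K Y F) Φ₁ Φ₀) {n : ℕ} (hn : 2 ≤ n ∨ ¬ F K)
    (v : ∀ P₀, F P₀ → P₀ ≤ K → IsPGroup p P₀ → Van K (Rf K Y fun P => ∃ g ∈ K, P = cj g P₀) Φ₁ Φ₀ n) :
    Van K (Rf K Y F) Φ₁ Φ₀ n := by
  have hF' : Fam K fun P => F P ∧ P ≤ K ∧ IsPGroup p P :=
    ⟨fun g hg P a => ⟨hF.inv g hg P a.1, cj_le hg a.2.1, cj_pg g a.2.2⟩,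
      fun P₁ P₂ P₃ a b c d => ⟨hF.cvx _ _ _ a b c.1 d.1, b.trans d.2.1, d.2.2.to_le b⟩⟩
  refine (LF hM.inv hF' (hS.fam hM.inv hF' fun P a => a.1) (fun P Q => ∃ g ∈ K, Q = cj g P)
    (fun P => Nat.card P) (fun P => ⟨1, K.one_mem, (cj_one P).symm⟩)
    (fun P Q ⟨g, hg, e⟩ => ⟨g⁻¹, K.inv_mem hg, by rw [e, cj_inv]⟩)
    (fun P Q R ⟨g, hg, e⟩ ⟨g', hg', e'⟩ => ⟨g' * g, K.mul_mem hg' hg, by rw [e', e, cj_cj]⟩)
    (fun g hg P => ⟨g, hg, rfl⟩) (fun P Q _ _ a => card_le_of_le a)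
    (fun P Q _ _ a e => ⟨1, K.one_mem, by rw [cj_one, eq_of_le_of_card_ge a e.ge]⟩)
    (fun P Q _ _ ⟨g, _, e⟩ => by rw [e, cj_card]) fun P₀ h => ?_).congr
    (fun g hg l _ => Rf_inv hM.inv hF'.inv g hg l) (fun l a => ⟨fun b => ⟨b.1, b.2.1⟩, fun b => ⟨b.1, b.2,
      Pst_le K l, hM.pgl b.1 ?_⟩⟩) fun _ _ _ => ⟨rfl, rfl⟩
  · refine (v P₀ h.1 h.2.1 h.2.2).congr (fun g hg l _ => Rf_inv hM.inv
      (fun g hg P ⟨g', hg', e⟩ => ⟨g * g', K.mul_mem hg hg', by rw [e, cj_cj]⟩) g hg l)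
      (fun l _ => ⟨fun b => ⟨b.1, ?_, b.2⟩, fun b => ⟨b.1, b.2.2⟩⟩) fun _ _ _ => ⟨rfl, rfl⟩
    obtain ⟨g, hg, e⟩ := b.2
    rw [e]; exact hF'.inv g hg _ h
  · rcases hn with h | h
    · exact ne_nil h a
    · rintro rfl; exact h (by have := b.2; rwa [Pst_nil] at this)

variable {D₁ D₀ : AddSubgroup M} {C : Subgroup Γ}

theorem fam_NS (hn : ∀ g ∈ K, cj g C = C) : Fam K (NS p C) :=
  ⟨fun g hg P a => NS_cj (hn g hg) a, fun _ _ _ _ b _ d => NS_anti b d⟩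

theorem fam_nNS (hn : ∀ g ∈ K, cj g C = C) : Fam K fun P => ¬ NS p C P :=
  ⟨fun g hg P a b => a ((fam_NS hn).inv' hg b), fun _ _ _ a _ c _ e => c (NS_anti a e)⟩

theorem fam_true : Fam K fun _ => True := ⟨fun _ _ _ _ => trivial, fun _ _ _ _ _ _ _ => trivial⟩

theorem QA (hM : Md p K Y) (h : Pr p K D₁ D₀) (hC : C ≤ K) (hn : ∀ g ∈ K, cj g C = C)
    (ht : ∀ c ∈ C, ∀ m ∈ D₁, c • m - m ∈ D₀) (n : ℕ) :
    Van K (Rf K Y fun P => ¬ NS p C P) (fun l => Fx D₁ D₀ h.le (Pst K l)) (fun _ => D₀) n := by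
  obtain ⟨T, hT, -, hp, hy⟩ := exSyl C ⊥ bot_le (IsPGroup.of_bot (p := p))
  set N := K ⊓ normalizer (T : Set Γ) with hN
  have hTK : T ≤ K := hT.trans hC
  have k1 : ∀ l : List X, l ≠ [] → (∀ x ∈ l, x ∈ fixS Y T) → Pst K l ⊓ C = T := fun l a b => by
    have c := (in_fixS hTK a).1 b
    obtain ⟨c', -, e⟩ := hy (Pst K l ⊓ C) inf_le_right ((hM.pgl c.1 a).to_le inf_le_left)
    exact (eq_of_le_of_card_ge (le_inf c.2 hT) (by rw [← cj_card c']; exact card_le_of_le e)).symm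
  refine L5 (h.sys (Rf_rg hM.inv (fam_nNS hn))) (inf_le_left : N ≤ K) (fun l => ∀ x ∈ l, x ∈ fixS Y T)
    (fun l' l a b x hx => b x (a.subset hx)) (fun g hg l b => in_mp (fixS_mp le_rfl hM.inv) hg b)
    (fun l a b => ?_) (fun l a b c g hg d => ?_) ?_
  · by_cases e : l = []
    · exact ⟨1, K.one_mem, by simp [e]⟩
    obtain ⟨c', hc', e'⟩ := hy (Pst K l ⊓ C) inf_le_right ((hM.pgl b.1 e).to_le inf_le_left)
    have e2 : cj c' (Pst K l ⊓ C) = T := eq_of_le_of_card_ge e' (by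
      rw [cj_card]; exact not_lt.1 fun x => b.2 ⟨T, hT, hp, x⟩)
    refine ⟨c', hC hc', (in_fixS hTK (by simpa using e)).2 ⟨in_mp hM.inv (hC hc') b.1, ?_⟩⟩
    rw [Pst_mp (hC hc'), ← e2]; exact cj_mono _ inf_le_left
  · by_cases e : l = []
    · exact ⟨1, N.one_mem, by simp [e]⟩
    have e1 := k1 l e c
    have e2 := k1 _ (by simpa using e) d
    rw [Pst_mp hg, ← hn g hg, ← cj_inf, e1] at e2
    exact ⟨g, ⟨hg, cj_eq_iff.1 e2⟩, rfl⟩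
  · refine (L6 (hM.fix hTK hp) (h.sub inf_le_left) n).congr
      (fun g hg l _ => Rf_inv (fixS_mp le_rfl hM.inv) (fun _ _ _ _ => trivial) g hg l)
      (fun l a => ⟨fun b => ⟨⟨fun x hx => (b.1 x hx).1, ?_⟩, b.1⟩, fun b => ⟨b.2, trivial⟩⟩) fun l a b => ⟨?_, rfl⟩
    · by_cases e : l = []
      · rw [e, Pst_nil]; exact not_NS hC
      · rintro ⟨T', a1, a2, a3⟩
        obtain ⟨c', -, e'⟩ := hy T' a1 a2
        rw [k1 l e b.1] at a3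
        have := card_le_of_le e'
        rw [cj_card] at this; omega
    · by_cases e : l = []
      · subst e
        simp only [Pst_nil]
        ext m
        refine ⟨fun hm => ⟨hm.1, fun g hg => ?_⟩, fun hm => ⟨hm.1, fun g hg => hm.2 g hg.1⟩⟩
        obtain ⟨c', hc', e'⟩ := hy (cj g T) (by rw [← hn g hg]; exact cj_mono g hT) (cj_pg g hp)
        have e2 := eq_of_le_of_card_ge e' (by rw [cj_card, cj_card])
        rw [cj_cj] at e2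
        have hu : c' * g ∈ N := ⟨K.mul_mem (hC hc') hg, cj_eq_iff.1 e2⟩
        have t1 := ht _ (C.inv_mem hc') _ (h.i1 _ hu.1 m hm.1)
        have t2 := D₀.add_mem t1 (hm.2 _ hu)
        rwa [← mul_smul, inv_mul_cancel_left, sub_add_sub_cancel] at t2
      · have : Pst K l ≤ N := fun g hg => ⟨hg.1, cj_eq_iff.1 (by
          rw [← k1 l e b.1, cj_inf, cj_self hg, hn g hg.1])⟩
        have e2 : Pst N l = Pst K l := by rw [Pst_inf (inf_le_left : N ≤ K), inf_eq_left.2 this]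
        show Fx _ _ _ (Pst N l) = Fx _ _ _ (Pst K l)
        rw [e2]

theorem RA (hM : Md p K Y) (h : Pr p K D₁ D₀) (hC : C ≤ K) (hn : ∀ g ∈ K, cj g C = C)
    (ht : ∀ c ∈ C, ∀ m ∈ D₁, c • m - m ∈ D₀) (n : ℕ) :
    Van K (Rf K Y (NS p C)) (fun l => Fx D₁ D₀ h.le (Pst K l)) (fun _ => D₀) n :=
  S3' (h.sys (Rf_rg hM.inv fam_true)) (spl_fam hM.inv (fun P => by tauto) (fun P a => a) (fam_nNS hn).inv
    fun P P' a b _ c => b (NS_anti a c)) (QA hM h hC hn ht) (L6 hM h) n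

theorem fam_cl (P₀ : Subgroup Γ) : Fam K fun P => ∃ g ∈ K, P = cj g P₀ :=
  ⟨fun g hg P ⟨g', hg', e⟩ => ⟨g * g', K.mul_mem hg hg', by rw [e, cj_cj]⟩,
    fun P₁ P₂ P₃ a b ⟨g, hg, e⟩ ⟨g', hg', e'⟩ => ⟨g', hg', by
      rw [← e']; exact eq_of_le_of_card_ge b (by
        have := card_le_of_le a
        rw [e', cj_card]; rwa [e, cj_card] at this)⟩⟩

theorem At (t : ℕ) : ∀ {K : Subgroup Γ} {Y : Set X} {C : Subgroup Γ} (hM : Md p K Y) (h : Pr p K D₁ D₀) (hC : C ≤ K)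
    (hn : ∀ g ∈ K, cj g C = C) (ht : ∀ c ∈ C, ∀ m ∈ D₁, c • m - m ∈ D₀) (P₀ : Subgroup Γ),
    Nat.card Γ - Nat.card P₀ = t → P₀ ≤ K → IsPGroup p P₀ → NS p C P₀ → ∀ n,
    Van K (Rf K Y fun P => ∃ g ∈ K, P = cj g P₀) (fun l => Fx D₁ D₀ h.le (Pst K l)) (fun _ => D₀) n := by
  induction t using Nat.strong_induction_on with
  | _ t ih =>
  intro K Y C hM h hC hn ht P₀ e0 h0 hp hs n
  set N := K ⊓ normalizer (P₀ : Set Γ) with hN
  have hs' : NS p (C ⊓ N) P₀ := NS_norm hC hn h0 hp hs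
  have hn' : ∀ g ∈ N, cj g (C ⊓ N) = C ⊓ N := fun g hg => by rw [cj_inf, hn g hg.1, cj_self hg]
  have hM' := hM.fix h0 hp
  have h' : Pr p N D₁ D₀ := h.sub inf_le_left
  have hPN : P₀ ≤ N := le_inf h0 le_normalizer
  refine red hM id h0 (fun _ => le_rfl) (fun _ _ _ => rfl) (fun _ a _ => a) (Ψ₁ := Fx D₁ D₀ h.le) (Ψ₀ := fun _ => D₀)
    (h.sys (Rf_rg hM.inv (fam_cl P₀))) (Or.inr ⟨fun e => ?_, fun ⟨g, hg, e⟩ => ?_⟩) ?_
  · exact not_NS (by rw [← show N = P₀ from e]; exact inf_le_right) hs'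
  · have := NS_cj (hn g hg) hs
    exact not_NS hC (by rwa [← show K = cj g P₀ from e] at this)
  have hle : ∀ l : List X, (∀ x ∈ l, x ∈ fixS Y P₀) → P₀ ≤ Pst N l := fun l b g hg =>
    ⟨hPN hg, fun x hx => (b x hx).2 g hg⟩
  have fam2 : Fam N fun P => NS p (C ⊓ N) P ∧ P₀ < P :=
    ⟨fun g hg P a => ⟨NS_cj (hn' g hg) a.1, by
      refine lt_of_le_of_ne (by rw [← cj_eq_iff.2 hg.2]; exact cj_mono g a.2.le) fun e => a.2.ne ?_
      rw [← cj_inv g P, ← e, cj_eq_iff.2 (inv_mem hg.2)]⟩,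
      fun P₁ P₂ P₃ a b c d => ⟨NS_anti b d.1, lt_of_lt_of_le c.2 a⟩⟩
  refine S3' (U := Rf N (fixS Y P₀) fun P => NS p (C ⊓ N) P ∧ P₀ < P) (h'.sys (Rf_rg hM'.inv (fam_NS hn')))
    ⟨fun l => ⟨fun b => ?_, fun b => ?_⟩, fun l a b => a.2.2.ne b.2.symm, Rf_inv hM'.inv fam2.inv,
      fun l' l a b c => ⟨c.1, c.2, lt_of_lt_of_le b.2.2 (Pst_anti a)⟩⟩ (fun n => ?_)
    (RA hM' h' inf_le_right hn' fun c hc => ht c hc.1) n
  · rcases (hle l b.1).eq_or_lt with e | e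
    · exact Or.inr ⟨b.1, e.symm⟩
    · exact Or.inl ⟨b.1, b.2, e⟩
  · rcases b with b | b
    · exact ⟨b.1, b.2.1⟩
    · exact ⟨b.1, by rw [show Pst N l = P₀ from b.2]; exact hs'⟩
  · refine AF hM' fam2 (h'.sys (Rf_rg hM'.inv fam2)) (Or.inr fun a => not_NS inf_le_right a.1)
      fun P₁ a b c => ih _ ?_ hM' h' inf_le_right hn' (fun c hc => ht c hc.1) P₁ rfl b c a.1 n
    have h1 : Nat.card P₀ < Nat.card P₁ :=
      lt_of_le_of_ne (card_le_of_le a.2.le) fun e => a.2.ne (eq_of_le_of_card_ge a.2.le e.ge)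
    have h2 : Nat.card P₁ ≤ Nat.card Γ := Subgroup.card_le_card_group P₁
    omega

/-- vanishing on families of subgroups not containing a Sylow subgroup of the kernel -/
theorem LK (hM : Md p K Y) (h : Pr p K D₁ D₀) (hC : C ≤ K) (hn : ∀ g ∈ K, cj g C = C)
    (ht : ∀ c ∈ C, ∀ m ∈ D₁, c • m - m ∈ D₀) (hF : Fam K F) (hs : ∀ P, F P → NS p C P) (n : ℕ) :
    Van K (Rf K Y F) (fun l => Fx D₁ D₀ h.le (Pst K l)) (fun _ => D₀) n :=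
  AF hM hF (h.sys (Rf_rg hM.inv hF)) (Or.inr fun a => not_NS hC (hs _ a))
    fun P₀ a b c => At _ hM h hC hn ht P₀ rfl b c (hs _ a) n

/-- vanishing for arbitrary systems whose atoms have a `p`-element acting trivially -/
theorem LA (hM : Md p K Y) (hF : Fam K F) {Ψ₁ Ψ₀ : Subgroup Γ → AddSubgroup M}
    (hS : Sys K (Rf K Y F) (fun l => Ψ₁ (Pst K l)) (fun l => Ψ₀ (Pst K l))) {n : ℕ} (hn : 2 ≤ n)
    (ha : ∀ P, F P → P ≤ K → IsPGroup p P → Pr p (K ⊓ normalizer (P : Set Γ)) (Ψ₁ P) (Ψ₀ P) ∧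
      (∀ g ∈ P, ∀ m ∈ Ψ₁ P, g • m - m ∈ Ψ₀ P) ∧
      ∃ C ≤ K ⊓ normalizer (P : Set Γ), (∀ g ∈ K ⊓ normalizer (P : Set Γ), cj g C = C) ∧
        (∀ c ∈ C, ∀ m ∈ Ψ₁ P, c • m - m ∈ Ψ₀ P) ∧ NS p C P) :
    Van K (Rf K Y F) (fun l => Ψ₁ (Pst K l)) (fun l => Ψ₀ (Pst K l)) n := by
  refine AF hM hF hS (Or.inl hn) fun P a b c => ?_
  obtain ⟨h, h1, C, hC, h2, h3, h4⟩ := ha P a b c
  have hM' := hM.fix b c
  have fam2 : Fam (K ⊓ normalizer (P : Set Γ)) fun Q => Q = P :=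
    ⟨fun g hg Q e => by rw [e, cj_eq_iff.2 hg.2], fun P₁ P₂ P₃ a b c d => le_antisymm (d ▸ b) (c ▸ a)⟩
  refine red hM id b (fun _ => le_rfl) (fun _ _ _ => rfl) (fun _ a _ => a)
    (hS.fam hM.inv (fam_cl P) fun Q ⟨g, hg, e⟩ => by rw [show Q = cj g P from e]; exact hF.inv g hg P a) (Or.inl hn)
    ((LK hM' h hC h2 h3 fam2 (fun Q e => e ▸ h4) n).congr (fun g hg l _ => Rf_inv hM'.inv fam2.inv g hg l)
      (fun _ _ => Iff.rfl) fun l _ b => ?_)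
  have e : Pst (K ⊓ normalizer (P : Set Γ)) l = P := b.2
  simp only [e, and_true]
  ext m
  exact ⟨fun hm => hm.1, fun hm => ⟨hm, fun g hg => h1 g hg m hm⟩⟩

end
end H18.CL
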