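import Cfsg.Agent.H18.CL4
set_option autoImplicit false
set_option linter.unusedSectionVars false
set_option linter.unusedVariables false
/-! Oliver's induction on best offenders. -/
namespace H18.CL
open Subgroup Pointwise List

universe u v
section
variable {M : Type*} [AddCommGroup M] {Γ : Type*} [Group Γ] [DistribMulAction Γ M]
variable {K : Subgroup Γ} {D : AddSubgroup M}

theorem fxb (h : ∀ m ∈ (⊥ : AddSubgroup M), m ∈ D) (P : Subgroup Γ) : Fx D ⊥ h P = D ⊓ fx M P := by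
  ext m; simp [mem_Fx, mem_fx, sub_eq_zero]

theorem JD_le (P : Subgroup Γ) : JD D P ≤ P := sSup_le fun B h => h.1
theorem le_JD {P B : Subgroup Γ} (h : B ≤ P) (hb : Best D B) : B ≤ JD D P := le_sSup ⟨h, hb⟩
theorem JD_mono {P Q : Subgroup Γ} (h : P ≤ Q) : JD D P ≤ JD D Q := sSup_le fun B a => le_JD (a.1.trans h) a.2
theorem JD_JD (P : Subgroup Γ) : JD D (JD D P) = JD D P :=
  le_antisymm (JD_le _) (sSup_le fun B a => le_JD (le_JD a.1 a.2) a.2)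

theorem JD_cen (P : Subgroup Γ) : P ⊓ Cen Γ D ≤ JD D P := by
  refine le_JD inf_le_left ⟨fun a ha b hb d hd => by rw [hb.2 d hd, ha.2 d hd, hb.2 d hd], fun B₀ h1 h2 => ?_⟩
  rw [le_antisymm h2 (le_trans (le_inf le_rfl inf_le_right) h1)]

theorem cj_Cen (hD : ∀ g ∈ K, ∀ d ∈ D, g • d ∈ D) {g : Γ} (hg : g ∈ K) : cj g (Cen Γ D) = Cen Γ D := by
  ext c
  rw [mem_cj, mem_Cen, mem_Cen]
  constructor
  · intro h d hd
    have := h _ (hD _ (K.inv_mem hg) d hd)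
    rwa [mul_smul, mul_smul, smul_inv_smul, smul_left_cancel_iff] at this
  · intro h d hd
    rw [mul_smul, mul_smul, h _ (hD g hg d hd), inv_smul_smul]

theorem card_fx_cj (hD : ∀ g ∈ K, ∀ d ∈ D, g • d ∈ D) {g : Γ} (hg : g ∈ K) (B : Subgroup Γ) :
    Nat.card (D ⊓ fx M (cj g B) : AddSubgroup M) = Nat.card (D ⊓ fx M B : AddSubgroup M) := by
  refine Nat.card_congr ⟨fun m => ⟨g⁻¹ • m.1, hD _ (K.inv_mem hg) _ m.2.1, fun b hb => ?_⟩,
    fun m => ⟨g • m.1, hD _ hg _ m.2.1, fun b hb => ?_⟩, fun m => by simp, fun m => by simp⟩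
  · have := m.2.2 _ (mem_cj' (g := g) hb)
    rw [mul_smul, mul_smul] at this
    rw [eq_inv_smul_iff]; exact this
  · have := m.2.2 _ (mem_cj.1 hb)
    rw [mul_smul, mul_smul, inv_smul_eq_iff] at this; exact this

theorem Best.cj (hD : ∀ g ∈ K, ∀ d ∈ D, g • d ∈ D) {g : Γ} (hg : g ∈ K) {B : Subgroup Γ} (h : Best D B) :
    Best D (cj g B) := by
  refine ⟨fun a ha b hb d hd => ?_, fun B₀ h1 h2 => ?_⟩
  · have := h.1 _ (mem_cj.1 ha) _ (mem_cj.1 hb) _ (hD _ (K.inv_mem hg) d hd)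
    simpa [mul_smul] using this
  · have := h.2 (CL.cj g⁻¹ B₀) (by
      rw [← cj_Cen hD (K.inv_mem hg), ← cj_inv g B, ← cj_inf]; exact cj_mono _ h1)
      (by rw [← cj_inv g B]; exact cj_mono _ h2)
    rwa [cj_card, card_fx_cj hD (K.inv_mem hg), ← cj_card g B, ← card_fx_cj hD hg B] at this

theorem JD_cj (hD : ∀ g ∈ K, ∀ d ∈ D, g • d ∈ D) {g : Γ} (hg : g ∈ K) (P : Subgroup Γ) :
    JD D (cj g P) = cj g (JD D P) := by
  have key : ∀ g ∈ K, ∀ P : Subgroup Γ, JD D P ≤ cj g⁻¹ (JD D (cj g P)) := fun g hg P => sSup_le fun B a => by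
    rw [← cj_inv g B]; exact cj_mono _ (le_JD (cj_mono g a.1) (a.2.cj hD hg))
  refine le_antisymm ?_ ?_
  · have := key _ (K.inv_mem hg) (cj g P); rwa [inv_inv, cj_inv] at this
  · have := cj_mono g (key g hg P); rwa [cj_inv'] at this

theorem card_sup_inf (A B : AddSubgroup M) :
    Nat.card A * Nat.card B = Nat.card (A ⊔ B : AddSubgroup M) * Nat.card (A ⊓ B : AddSubgroup M) := by
  have h1 : Nat.card (A ⊓ B : AddSubgroup M) * (A ⊓ B).relIndex A = Nat.card A := by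
    rw [AddSubgroup.relIndex, ← AddSubgroup.card_mul_index ((A ⊓ B).addSubgroupOf A)]
    rw [Nat.card_congr (AddSubgroup.addSubgroupOfEquivOfLe (inf_le_left : A ⊓ B ≤ A)).toEquiv]
  have h2 : Nat.card B * B.relIndex (A ⊔ B) = Nat.card (A ⊔ B : AddSubgroup M) := by
    rw [AddSubgroup.relIndex, ← AddSubgroup.card_mul_index (B.addSubgroupOf (A ⊔ B))]
    rw [Nat.card_congr (AddSubgroup.addSubgroupOfEquivOfLe (le_sup_right : B ≤ A ⊔ B)).toEquiv]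
  rw [AddSubgroup.relIndex_sup_right] at h2
  rw [AddSubgroup.inf_relIndex_left] at h1
  rw [← h1, ← h2]; ring

theorem Best.sub [Finite D] {D' : AddSubgroup M} (hD : D' ≤ D) {B : Subgroup Γ} (h : Best D B) : Best D' B := by
  refine ⟨fun a ha b hb d hd => h.1 a ha b hb d (hD hd), fun B₀ h1 h2 => ?_⟩
  have h3 := h.2 B₀ (le_trans (inf_le_inf_left _
    (show Cen Γ D ≤ Cen Γ D' from fun g hg d hd => hg d (hD hd))) h1) h2
  have fin : ∀ E : AddSubgroup M, E ≤ D → Finite E := fun E a =>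
    Finite.of_injective _ (AddSubgroup.inclusion_injective a)
  have h4 := card_sup_inf (D' ⊓ fx M B₀) (D ⊓ fx M B)
  have h5 : D' ⊓ fx M B₀ ⊓ (D ⊓ fx M B) = D' ⊓ fx M B :=
    le_antisymm (fun m a => ⟨a.1.1, a.2.2⟩) fun m a => ⟨⟨a.1, fun g hg => a.2 g (h2 hg)⟩, hD a.1, a.2⟩
  have := fin (D ⊓ fx M B₀) inf_le_left
  have h6 : Nat.card (D' ⊓ fx M B₀ ⊔ D ⊓ fx M B : AddSubgroup M) ≤ Nat.card (D ⊓ fx M B₀ : AddSubgroup M) :=
    AddSubgroup.card_le_of_le (sup_le (inf_le_inf_right _ hD) (inf_le_inf_left _ fun m a g hg => a g (h2 hg)))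
  have := fin (D ⊓ fx M B) inf_le_left
  have h7 : 0 < Nat.card (D ⊓ fx M B : AddSubgroup M) := Nat.card_pos
  rw [h5] at h4
  refine Nat.le_of_mul_le_mul_right ?_ h7
  calc _ = Nat.card B₀ * (Nat.card (D' ⊓ fx M B₀ ⊔ D ⊓ fx M B : AddSubgroup M) *
        Nat.card (D' ⊓ fx M B : AddSubgroup M)) := by rw [← h4]; ring
    _ ≤ Nat.card B₀ * Nat.card (D ⊓ fx M B₀ : AddSubgroup M) * Nat.card (D' ⊓ fx M B : AddSubgroup M) := by
      rw [mul_assoc]; gcongr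
    _ ≤ Nat.card B * Nat.card (D ⊓ fx M B : AddSubgroup M) * Nat.card (D' ⊓ fx M B : AddSubgroup M) := by gcongr
    _ = _ := by ring

theorem JD_sub [Finite D] {D' : AddSubgroup M} (hD : D' ≤ D) (P : Subgroup Γ) : JD D (JD D' P) = JD D P :=
  le_antisymm (JD_mono (JD_le _)) (sSup_le fun B a => le_JD (le_JD a.1 (a.2.sub hD)) a.2)

theorem fam_Q (hD : ∀ g ∈ K, ∀ d ∈ D, g • d ∈ D) : Fam K fun P => ¬ JD D P ≤ Cen Γ D :=
  ⟨fun g hg P a b => a (by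
    rw [JD_cj hD hg, ← cj_Cen hD hg] at b
    have := cj_mono g⁻¹ b; rwa [cj_inv, cj_inv] at this),
    fun _ _ _ a _ c _ e => c ((JD_mono a).trans e)⟩

theorem fam_R (hD : ∀ g ∈ K, ∀ d ∈ D, g • d ∈ D) : Fam K fun P => JD D P ≤ Cen Γ D :=
  ⟨fun g hg P a => by rw [JD_cj hD hg, ← cj_Cen hD hg]; exact cj_mono g a,
    fun _ _ _ _ b _ d => (JD_mono b).trans d⟩

theorem Fam.and {F F' : Subgroup Γ → Prop} (h : Fam K F) (h' : Fam K F') : Fam K fun P => F P ∧ F' P :=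
  ⟨fun g hg P a => ⟨h.inv g hg P a.1, h'.inv g hg P a.2⟩,
    fun _ _ _ a b c d => ⟨h.cvx _ _ _ a b c.1 d.1, h'.cvx _ _ _ a b c.2 d.2⟩⟩

theorem fam_pg (p : ℕ) : Fam K fun P => P ≤ K ∧ IsPGroup p P :=
  ⟨fun g hg P a => ⟨cj_le hg a.1, cj_pg g a.2⟩, fun _ _ _ _ b _ d => ⟨b.trans d.1, d.2.to_le b⟩⟩

theorem cn_C (hD : ∀ g ∈ K, ∀ d ∈ D, g • d ∈ D) : ∀ g ∈ K, cj g (K ⊓ Cen Γ D) = K ⊓ Cen Γ D := fun g hg => by
  rw [cj_inf, cj_Cen hD hg, cj_self hg]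

theorem ct_C : ∀ c ∈ K ⊓ Cen Γ D, ∀ m ∈ D, c • m - m ∈ (⊥ : AddSubgroup M) := fun c hc m hm => by
  rw [hc.2 m hm, sub_self]; exact AddSubgroup.zero_mem _
end

section
variable (p : ℕ) [Fact p.Prime] (Γ : Type u) [Group Γ] [Finite Γ] (X : Type u) [Finite X]
  [MulAction Γ X] (M : Type v) [AddCommGroup M] [DistribMulAction Γ M]

def PQ (n : ℕ) : Prop := ∀ (K : Subgroup Γ) (Y : Set X) (D : AddSubgroup M) [Finite D] (h : Pr p K D ⊥), Md p K Y →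
  Van K (Rf K Y fun P => ¬ JD D P ≤ Cen Γ D) (fun l => Fx D ⊥ h.le (Pst K l)) (fun _ => ⊥) n

variable {p Γ X M}

theorem PQ2 (hr : RED.{u, v}) (hb : BT.{v, v}) : PQ p Γ X M 2 := by
  intro K Y D _ h hM
  obtain ⟨e, he⟩ := h.tor
  have v := hr hb p Γ X M K Y D e (fun d hd => AddSubgroup.mem_bot.1 (he d hd)) h.i1 hM
  simp only [← fxb h.le] at v
  refine S1 (h.sys (Rf_rg hM.inv (fam_Q h.i1))) (spl_fam hM.inv (fun P => ?_) (fun P a b => a.1 b.1)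
    ((fam_nNS (cn_C h.i1)).and (fam_Q h.i1)).inv fun P P' a b c => ⟨fun d => b.1 (NS_anti a d), c⟩) v
    (LK hM h inf_le_left (cn_C h.i1) ct_C ((fam_NS (cn_C h.i1)).and (fam_Q h.i1)) (fun P a => a.1) 2)
  tauto

theorem PO_step {m : ℕ} (hm : 2 ≤ m) (hq : PQ p Γ X M m) (t : ℕ) : ∀ (K : Subgroup Γ) (Y : Set X)
    (D : AddSubgroup M) [Finite D] (h : Pr p K D ⊥) (F : Subgroup Γ → Prop), Nat.card D = t → Md p K Y → Fam K F →
    (∀ P, P ≤ K → IsPGroup p P → (F P ↔ F (JD D P))) →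
    Van K (Rf K Y F) (fun l => Fx D ⊥ h.le (Pst K l)) (fun _ => ⊥) (m + 1) := by
  induction t using Nat.strong_induction_on with
  | _ t ih =>
  intro K Y D _ h F ht hM hF hJ
  have hF' := hF.and (fam_pg (K := K) p)
  have nn : ∀ l : List X, m + 1 ≤ l.length + 1 → l ≠ [] := fun l a => ne_nil (by omega) a
  refine (LF hM.inv hF' (h.sys (Rf_rg hM.inv hF')) (fun P Q => ∃ g ∈ K, JD D Q = cj g (JD D P))
    (fun P => Nat.card (JD D P)) (fun P => ⟨1, K.one_mem, (cj_one _).symm⟩)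
    (fun P Q ⟨g, hg, e⟩ => ⟨g⁻¹, K.inv_mem hg, by rw [e, cj_inv]⟩)
    (fun P Q R ⟨g, hg, e⟩ ⟨g', hg', e'⟩ => ⟨g' * g, K.mul_mem hg' hg, by rw [e', e, cj_cj]⟩)
    (fun g hg P => ⟨g, hg, JD_cj h.i1 hg P⟩) (fun P Q _ _ a => card_le_of_le (JD_mono a))
    (fun P Q _ _ a e => ⟨1, K.one_mem, by rw [cj_one, eq_of_le_of_card_ge (JD_mono a) e.ge]⟩)
    (fun P Q _ _ ⟨g, _, e⟩ => by rw [e, cj_card]) fun P₀ h0 => ?_).congr
    (fun g hg l _ => Rf_inv hM.inv hF'.inv g hg l) (fun l a => ⟨fun b => ⟨b.1, b.2.1⟩, fun b => ⟨b.1, b.2,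
      Pst_le K l, hM.pgl b.1 (nn l a)⟩⟩) fun _ _ _ => ⟨rfl, rfl⟩
  set J₀ := JD D P₀ with hJ0
  have hJK : J₀ ≤ K := (JD_le _).trans h0.2.1
  have hJp : IsPGroup p J₀ := h0.2.2.to_le (JD_le _)
  have famE : Fam K fun P => ∃ g ∈ K, JD D P = cj g J₀ :=
    ⟨fun g hg P ⟨g', hg', e⟩ => ⟨g * g', K.mul_mem hg hg', by rw [JD_cj h.i1 hg, e, cj_cj]⟩,
      fun P₁ P₂ P₃ a b ⟨g, hg, e⟩ ⟨g', hg', e'⟩ => ⟨g', hg', by
        rw [← e']; exact eq_of_le_of_card_ge (JD_mono b) (by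
          have := card_le_of_le (JD_mono (D := D) a)
          rw [e', cj_card]; rwa [e, cj_card] at this)⟩⟩
  have hE : ∀ P, P ≤ K → IsPGroup p P → (∃ g ∈ K, JD D P = cj g J₀) → F P := fun P a b ⟨g, hg, e⟩ => by
    rw [hJ P a b, e]; exact hF.inv g hg _ ((hJ P₀ h0.2.1 h0.2.2).1 h0.1)
  by_cases hc : J₀ ≤ Cen Γ D
  swap
  · refine Van.congr (R := Rf K Y fun P => ∃ g ∈ K, JD D P = cj g J₀) ?_ (fun g hg l _ => Rf_inv hM.inv famE.inv g hg l)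
      (fun l a => ⟨fun b => ⟨b.1, ⟨hE _ (Pst_le K l) (hM.pgl b.1 (nn l a)) b.2, Pst_le K l, hM.pgl b.1 (nn l a)⟩,
        b.2⟩, fun b => ⟨b.1, b.2.2⟩⟩) fun _ _ _ => ⟨rfl, rfl⟩
    refine red hM (JD D) hJK JD_le (fun g hg => JD_cj h.i1 hg) (fun P a _ => by rw [hJ0, ← JD_JD]; exact JD_mono a)
      (Ψ₁ := Fx D ⊥ h.le) (Ψ₀ := fun _ => ⊥) (h.sys (Rf_rg hM.inv famE)) (Or.inl (by omega)) ?_
    set N := K ⊓ normalizer (J₀ : Set Γ) with hN
    have hle : D ⊓ fx M J₀ ≤ D := inf_le_left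
    have : Finite (D ⊓ fx M J₀ : AddSubgroup M) := Finite.of_injective _ (AddSubgroup.inclusion_injective hle)
    have h' : Pr p N (D ⊓ fx M J₀) ⊥ := ⟨fun m a => by rw [AddSubgroup.mem_bot.1 a]; exact AddSubgroup.zero_mem _,
      fun g hg m a => ⟨h.i1 g hg.1 m a.1, fun u hu => by
        have := a.2 _ ((Subgroup.mem_normalizer_iff''.1 hg.2 u).1 hu)
        rw [mul_smul, mul_smul, inv_smul_eq_iff] at this; exact this⟩,
      fun g hg => h.i0 g hg.1, h.tor.imp fun e he m a => he m a.1⟩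
    have hM' := hM.fix hJK hJp
    have fam2 : Fam N fun P => JD D P = J₀ := ⟨fun g hg P e => by rw [JD_cj h.i1 hg.1, e, cj_eq_iff.2 hg.2],
      fun P₁ P₂ P₃ a b c d => le_antisymm (d ▸ JD_mono b) (c ▸ JD_mono a)⟩
    refine (ih _ ?_ N _ _ h' _ rfl hM' fam2 fun P _ _ => by rw [JD_sub hle]).congr
      (fun g hg l _ => Rf_inv hM'.inv fam2.inv g hg l) (fun _ _ => Iff.rfl) fun l _ b => ⟨?_, rfl⟩
    · rw [← ht]
      refine lt_of_le_of_ne (AddSubgroup.card_le_of_le hle) fun e => hc fun g hg d hd => ?_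
      rw [← AddSubgroup.eq_of_le_of_card_ge hle e.ge] at hd
      exact hd.2 g hg
    · have : J₀ ≤ Pst N l := by rw [← show JD D (Pst N l) = J₀ from b.2]; exact JD_le _
      ext m
      exact ⟨fun a => ⟨a.1.1, a.2⟩, fun a => ⟨⟨a.1, fun g hg => sub_eq_zero.1 (AddSubgroup.mem_bot.1
        (a.2 g (this hg)))⟩, a.2⟩⟩
  set C := K ⊓ Cen Γ D with hC
  have k1 : ∀ P, P ≤ K → JD D P ≤ Cen Γ D → P ⊓ C = JD D P := fun P a b =>
    le_antisymm ((inf_le_inf_left _ inf_le_right).trans (JD_cen P)) (le_inf (JD_le _) (le_inf ((JD_le _).trans a) b))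
  have k2 : ∀ P, (∃ g ∈ K, JD D P = cj g J₀) → JD D P ≤ Cen Γ D := fun P ⟨g, hg, e⟩ => by
    rw [e, ← cj_Cen h.i1 hg]; exact cj_mono g hc
  by_cases hn : ∃ T ≤ C, IsPGroup p T ∧ Nat.card J₀ < Nat.card T
  · refine LK hM h inf_le_left (cn_C h.i1) ct_C (hF'.and famE) (fun P a => ?_) _
    obtain ⟨T, a1, a2, a3⟩ := hn
    refine ⟨T, a1, a2, ?_⟩
    obtain ⟨g, hg, e⟩ := a.2
    rwa [k1 P a.1.2.1 (k2 P a.2), e, cj_card]
  have famU := (fam_nNS (p := p) (cn_C h.i1)).and (fam_R h.i1)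
  refine Van.congr (R := Rf K Y fun P => ¬ NS p C P ∧ JD D P ≤ Cen Γ D) ?_
    (fun g hg l _ => Rf_inv hM.inv famU.inv g hg l) (fun l a => ⟨fun b => ?_, fun b => ⟨b.1, ?_, k2 _ b.2.2⟩⟩)
    fun _ _ _ => ⟨rfl, rfl⟩
  · refine S2 (h.sys (Rf_rg hM.inv (fam_R h.i1))) (spl_fam hM.inv (fun P => ?_) (fun P a b => a.1 b.1) famU.inv
      fun P P' a b c => ⟨fun d => b.1 (NS_anti a d), c⟩) ?_
      (LK hM h inf_le_left (cn_C h.i1) ct_C ((fam_NS (cn_C h.i1)).and (fam_R h.i1)) (fun P a => a.1) _)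
    · tauto
    · exact S3 (h.sys (Rf_rg hM.inv fam_true)) (spl_fam hM.inv (fun P => by tauto) (fun P a => a) (fam_Q h.i1).inv
        fun P P' a b _ c => b ((JD_mono a).trans c)) (hq K Y D h hM) (L6 hM h _)
  · have hp := hM.pgl b.1 (nn l a)
    have : ∃ g ∈ K, JD D (Pst K l) = cj g J₀ := by
      obtain ⟨T, a1, a2, a3, a4⟩ := exSyl C (JD D (Pst K l)) (by rw [← k1 _ (Pst_le K l) b.2.2]; exact inf_le_right)
        (hp.to_le (JD_le _))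
      obtain ⟨c, hc1, hc2⟩ := a4 J₀ (le_inf hJK hc) hJp
      have e1 : JD D (Pst K l) = T := eq_of_le_of_card_ge a2 (not_lt.1 fun x => b.2.1 ⟨T, a1, a3, by
        rwa [k1 _ (Pst_le K l) b.2.2]⟩)
      exact ⟨c, hc1.1, by
        rw [e1]; exact (eq_of_le_of_card_ge hc2 (by rw [cj_card]; exact not_lt.1 fun x => hn ⟨T, a1, a3, x⟩)).symm⟩
    exact ⟨b.1, ⟨hE _ (Pst_le K l) hp this, Pst_le K l, hp⟩, this⟩
  · rintro ⟨T, a1, a2, a3⟩
    obtain ⟨g, hg, e⟩ := b.2.2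
    rw [k1 _ (Pst_le K l) (k2 _ b.2.2), e, cj_card] at a3
    exact hn ⟨T, a1, a2, a3⟩

theorem PQn (hr : RED.{u, v}) (hb : BT.{v, v}) (m : ℕ) (hm : 2 ≤ m) : PQ p Γ X M m := by
  induction m, hm using Nat.le_induction with
  | base => exact PQ2 hr hb
  | succ m hm ih => exact fun K Y D _ h hM => PO_step hm ih _ K Y D h _ rfl hM (fam_Q h.i1) fun P _ _ => by rw [JD_JD]

/-- Oliver's vanishing theorem -/
theorem PO (hr : RED.{u, v}) (hb : BT.{v, v}) {n : ℕ} (hn : 3 ≤ n) {K : Subgroup Γ} {Y : Set X}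
    {D : AddSubgroup M} [Finite D] (h : Pr p K D ⊥) {F : Subgroup Γ → Prop} (hM : Md p K Y) (hF : Fam K F)
    (hJ : ∀ P, P ≤ K → IsPGroup p P → (F P ↔ F (JD D P))) :
    Van K (Rf K Y F) (fun l => Fx D ⊥ h.le (Pst K l)) (fun _ => ⊥) n := by
  obtain ⟨m, rfl⟩ : ∃ m, n = m + 1 := ⟨n - 1, by omega⟩
  exact PO_step (by omega) (PQn hr hb m (by omega)) _ K Y D h F rfl hM hF hJ
end
end H18.CL
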