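import Cfsg.Agent.H18.CL5
set_option autoImplicit false
set_option linter.unusedSectionVars false
set_option linter.unusedVariables false
/-! Abelian sections of a group as subquotients of one module. -/
namespace H18.CL
open Subgroup Pointwise List

universe u v

/-- free abelian group on `G` with the conjugation action -/
def ZG (G : Type u) : Type u := FreeAbelianGroup G

/-- functions on `G` with the translation action -/
def Fn (G : Type u) (B : Type u) : Type u := G → B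

section
variable {G : Type u} [Group G]

instance : AddCommGroup (ZG G) := inferInstanceAs (AddCommGroup (FreeAbelianGroup G))

def zo (z : G) : ZG G := FreeAbelianGroup.of z

def zl {B : Type*} [AddCommGroup B] (f : G → B) : ZG G →+ B := FreeAbelianGroup.lift f

theorem zl_zo {B : Type*} [AddCommGroup B] (f : G → B) (z : G) : zl f (zo z) = f z := FreeAbelianGroup.lift_apply_of f z

theorem zg_ext {B : Type*} [AddCommGroup B] {f g : ZG G →+ B} (h : ∀ z, f (zo z) = g (zo z)) : f = g :=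
  FreeAbelianGroup.lift_ext f g h

instance : DistribMulAction G (ZG G) where
  smul g m := zl (fun z => zo (g * z * g⁻¹)) m
  one_smul m := by
    have : zl (fun z : G => zo (1 * z * 1⁻¹)) = AddMonoidHom.id _ := zg_ext fun z => by simp [zl_zo]
    exact DFunLike.congr_fun this m
  mul_smul g h m := by
    have : zl (fun z : G => zo (g * h * z * (g * h)⁻¹)) =
        (zl (fun z : G => zo (g * z * g⁻¹))).comp (zl (fun z : G => zo (h * z * h⁻¹))) :=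
      zg_ext fun z => by simp [zl_zo, mul_assoc]
    exact DFunLike.congr_fun this m
  smul_zero g := map_zero _
  smul_add g := map_add _

theorem smul_zo (g z : G) : g • zo z = zo (g * z * g⁻¹) := zl_zo _ _

instance {B : Type u} [AddCommGroup B] : AddCommGroup (Fn G B) := inferInstanceAs (AddCommGroup (G → B))

instance {B : Type u} [AddCommGroup B] : DistribMulAction G (Fn G B) where
  smul g f := fun t => f (g⁻¹ * t)
  one_smul f := funext fun t => congrArg f (by simp)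
  mul_smul g h f := funext fun t => congrArg f (by simp [mul_assoc])
  smul_zero g := rfl
  smul_add g _ _ := rfl

theorem fn_smul {B : Type u} [AddCommGroup B] (g : G) (f : Fn G B) (t : G) : (g • f) t = f (g⁻¹ * t) := rfl
theorem fn_add {B : Type u} [AddCommGroup B] (f f' : Fn G B) (t : G) : (f + f') t = f t + f' t := rfl
theorem fn_sub {B : Type u} [AddCommGroup B] (f f' : Fn G B) (t : G) : (f - f') t = f t - f' t := rfl
theorem fn_neg {B : Type u} [AddCommGroup B] (f : Fn G B) (t : G) : (-f) t = -f t := rfl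
theorem fn_zero {B : Type u} [AddCommGroup B] (t : G) : (0 : Fn G B) t = 0 := rfl
theorem fn_nsmul {B : Type u} [AddCommGroup B] (k : ℕ) (f : Fn G B) (t : G) : (k • f) t = k • f t := rfl

/-- `Kr B B / Kr B B'` is the abelianization of `B` modulo `B'` -/
def Kr (B B' : Subgroup G) : AddSubgroup (ZG G) :=
  AddSubgroup.closure ({m | ∃ z ∈ B, ∃ w ∈ B, m = zo (z * w) - zo z - zo w} ∪ {m | ∃ z ∈ B', m = zo z})

theorem Kr_rel {B B' : Subgroup G} {z w : G} (hz : z ∈ B) (hw : w ∈ B) : zo (z * w) - zo z - zo w ∈ Kr B B' :=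
  AddSubgroup.subset_closure (Or.inl ⟨z, hz, w, hw, rfl⟩)

theorem Kr_zo {B B' : Subgroup G} {z : G} (hz : z ∈ B') : zo z ∈ Kr B B' :=
  AddSubgroup.subset_closure (Or.inr ⟨z, hz, rfl⟩)

theorem Kr_mono {B B' C C' : Subgroup G} (h : B ≤ C) (h' : B' ≤ C') : Kr B B' ≤ Kr C C' := by
  refine (AddSubgroup.closure_le _).2 ?_
  rintro m (⟨z, hz, w, hw, rfl⟩ | ⟨z, hz, rfl⟩)
  · exact Kr_rel (h hz) (h hw)
  · exact Kr_zo (h' hz)

theorem Kr_act (g : G) {B B' : Subgroup G} {m : ZG G} (hm : m ∈ Kr B B') : g • m ∈ Kr (cj g B) (cj g B') := by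
  have : Kr B B' ≤ (Kr (cj g B) (cj g B')).comap (DistribSMul.toAddMonoidHom _ g) := by
    refine (AddSubgroup.closure_le _).2 ?_
    rintro m (⟨z, hz, w, hw, rfl⟩ | ⟨z, hz, rfl⟩)
    · have := Kr_rel (B' := cj g B') (mem_cj' (g := g) hz) (mem_cj' (g := g) hw)
      simp only [SetLike.mem_coe, AddSubgroup.mem_comap, DistribSMul.toAddMonoidHom_apply, smul_sub, smul_zo]
      convert this using 4; group
    · simp only [SetLike.mem_coe, AddSubgroup.mem_comap, DistribSMul.toAddMonoidHom_apply, smul_zo]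
      exact Kr_zo (mem_cj' hz)
  exact this hm

theorem cj_bot (g : G) : cj g (⊥ : Subgroup G) = ⊥ := Subgroup.smul_bot _

theorem Kr_add {B : Subgroup G} {z w : G} {m m' : ZG G} (hz : z ∈ B) (hw : w ∈ B) (h : m - zo z ∈ Kr B ⊥)
    (h' : m' - zo w ∈ Kr B ⊥) : m + m' - zo (z * w) ∈ Kr B ⊥ := by
  have := AddSubgroup.sub_mem _ (AddSubgroup.add_mem _ h h') (Kr_rel (B' := ⊥) hz hw)
  convert this using 1; abel

theorem Kr_neg {B : Subgroup G} {z : G} {m : ZG G} (hz : z ∈ B) (h : m - zo z ∈ Kr B ⊥) :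
    -m - zo z⁻¹ ∈ Kr B ⊥ := by
  have := AddSubgroup.sub_mem _ (AddSubgroup.sub_mem _ (Kr_rel (B' := ⊥) hz (B.inv_mem hz)) h)
    (Kr_zo (B := B) (Subgroup.one_mem ⊥))
  rw [mul_inv_cancel] at this
  convert this using 1; abel

theorem Kr_one {B : Subgroup G} : (0 : ZG G) - zo 1 ∈ Kr B ⊥ :=
  AddSubgroup.sub_mem _ (AddSubgroup.zero_mem _) (Kr_zo (Subgroup.one_mem ⊥))

theorem Kr_rep {B B' : Subgroup G} (h : B' ≤ B) {m : ZG G} (hm : m ∈ Kr B B') : ∃ z ∈ B', m - zo z ∈ Kr B ⊥ := by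
  induction hm using AddSubgroup.closure_induction with
  | mem m hm =>
    rcases hm with ⟨z, hz, w, hw, rfl⟩ | ⟨z, hz, rfl⟩
    · exact ⟨1, B'.one_mem, AddSubgroup.sub_mem _ (Kr_rel hz hw) (Kr_zo (Subgroup.one_mem ⊥))⟩
    · exact ⟨z, hz, by rw [sub_self]; exact AddSubgroup.zero_mem _⟩
  | zero => exact ⟨1, B'.one_mem, Kr_one⟩
  | add a b _ _ ha hb =>
    obtain ⟨z, hz, e⟩ := ha
    obtain ⟨w, hw, e'⟩ := hb
    exact ⟨z * w, B'.mul_mem hz hw, Kr_add (h hz) (h hw) e e'⟩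
  | neg a _ ha =>
    obtain ⟨z, hz, e⟩ := ha
    exact ⟨z⁻¹, B'.inv_mem hz, Kr_neg (h hz) e⟩

theorem Kr_of {B B' : Subgroup G} {m : ZG G} {z : G} (hz : z ∈ B') (h : m - zo z ∈ Kr B ⊥) : m ∈ Kr B B' := by
  have := AddSubgroup.add_mem _ (Kr_mono le_rfl bot_le h) (Kr_zo (B := B) hz)
  rwa [sub_add_cancel] at this

/-- an abelian section as an additive group -/
theorem exB (V A : Subgroup G) (h : A ≤ V) (hc : ∀ a ∈ V, ∀ b ∈ V, a * b * a⁻¹ * b⁻¹ ∈ A) :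
    ∃ (B : Type u) (_ : AddCommGroup B) (ev : G → B), (∀ a ∈ V, ∀ b ∈ V, ev (a * b) = ev a + ev b) ∧
      (∀ a ∈ V, ev a = 0 ↔ a ∈ A) ∧ ∀ b, ∃ a ∈ V, ev a = b := by
  classical
  have hn : (A.subgroupOf V).Normal := ⟨fun a ha g => by
    have := A.mul_mem (hc _ g.2 _ a.2) ha
    rw [mem_subgroupOf]; simpa [mul_assoc] using this⟩
  let _ : CommGroup (V ⧸ A.subgroupOf V) := { (inferInstance : Group (V ⧸ A.subgroupOf V)) with
    mul_comm := fun a b => by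
      obtain ⟨a, rfl⟩ := QuotientGroup.mk_surjective a
      obtain ⟨b, rfl⟩ := QuotientGroup.mk_surjective b
      rw [← QuotientGroup.mk_mul, ← QuotientGroup.mk_mul, QuotientGroup.eq, mem_subgroupOf]
      have := hc _ (V.inv_mem b.2) _ (V.inv_mem a.2)
      simpa [mul_assoc] using this }
  refine ⟨Additive (V ⧸ A.subgroupOf V), inferInstance,
    fun g => if h : g ∈ V then Additive.ofMul (QuotientGroup.mk ⟨g, h⟩) else 0, fun a ha b hb => ?_,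
    fun a ha => ?_, fun b => ?_⟩
  · simp only [dif_pos ha, dif_pos hb, dif_pos (V.mul_mem ha hb)]; rfl
  · simp only [dif_pos ha]
    rw [ofMul_eq_zero, QuotientGroup.eq_one_iff, mem_subgroupOf]
  · obtain ⟨a, e⟩ := QuotientGroup.mk_surjective (Additive.toMul b)
    exact ⟨a, a.2, by simp only [dif_pos a.2]; exact congrArg Additive.ofMul e⟩

theorem Kr_ev {B B' : Subgroup G} (h : B' ≤ B) (hc : ∀ a ∈ B, ∀ b ∈ B, a * b * a⁻¹ * b⁻¹ ∈ B') {z : G} (hz : z ∈ B)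
    (hm : zo z ∈ Kr B B') : z ∈ B' := by
  obtain ⟨C, _, ev, e1, e2, -⟩ := exB B B' h hc
  have : Kr B B' ≤ (zl ev).ker := by
    refine (AddSubgroup.closure_le _).2 ?_
    rintro m (⟨z, hz, w, hw, rfl⟩ | ⟨z, hz, rfl⟩)
    · simp [zl_zo, e1 z hz w hw]
    · simp [zl_zo, (e2 z (h hz)).2 hz]
  have := this hm
  rwa [AddMonoidHom.mem_ker, zl_zo, e2 z hz] at this

theorem Kr_tr {B B₁ B₀ : Subgroup G} {g : G} (hg : cj g B ≤ B) (h1 : B₁ ≤ B) (h0 : B₀ ≤ B)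
    (h : ∀ z ∈ B₁, g * z * g⁻¹ * z⁻¹ ∈ B₀) {m : ZG G} (hm : m ∈ Kr B B₁) : g • m - m ∈ Kr B B₀ := by
  obtain ⟨z, hz, e⟩ := Kr_rep h1 hm
  have e1 := Kr_mono hg (bot_le : ⊥ ≤ B₀) (cj_bot g ▸ Kr_act g e : _ ∈ Kr (cj g B) ⊥)
  have e2 := Kr_rel (B' := B₀) (h0 (h z hz)) (h1 hz)
  rw [inv_mul_cancel_right, ← smul_zo] at e2
  have := AddSubgroup.add_mem _ (AddSubgroup.add_mem _ (AddSubgroup.sub_mem _ e1 (Kr_mono le_rfl bot_le e)) e2)
    (Kr_zo (B := B) (h z hz))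
  convert this using 1; rw [smul_sub]; abel

theorem Kr_tor {B B₁ B₀ : Subgroup G} (h1 : B₁ ≤ B) {k : ℕ} (h : ∀ z ∈ B₁, z ^ k = 1) {m : ZG G}
    (hm : m ∈ Kr B B₁) : k • m ∈ Kr B B₀ := by
  obtain ⟨z, hz, e⟩ := Kr_rep h1 hm
  have : ∀ j : ℕ, j • m - zo (z ^ j) ∈ Kr B ⊥ := fun j => by
    induction j with
    | zero => simpa using Kr_one
    | succ j ih => rw [succ_nsmul, pow_succ]; exact Kr_add (B.pow_mem (h1 hz) j) (h1 hz) ih e
  exact Kr_of (by rw [h z hz]; exact B₀.one_mem) (this k)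

variable {X : Type*} [MulAction G X] {K : Subgroup G} {R : List X → Prop}

theorem rhoI {M M' : Type*} [AddCommGroup M] [DistribMulAction G M] [AddCommGroup M'] [DistribMulAction G M']
    {Φ₁ Φ₀ : List X → AddSubgroup M} {Ψ₁ Ψ₀ : List X → AddSubgroup M'}
    (hR : Rg K R) (ρ : List X → AddSubgroup (M × M')) (hρ : Sy K R ρ)
    (h1 : ∀ l, R l → ∀ m m', (m, m') ∈ ρ l → m ∈ Φ₁ l ∧ m' ∈ Ψ₁ l ∧ (m ∈ Φ₀ l ↔ m' ∈ Ψ₀ l))
    (h2 : ∀ l, R l → ∀ m ∈ Φ₁ l, ∃ m', (m, m') ∈ ρ l) (h3 : ∀ l, R l → ∀ m' ∈ Ψ₁ l, ∃ m, (m, m') ∈ ρ l)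
    {n : ℕ} : Van K R Ψ₁ Ψ₀ n ↔ Van K R Φ₁ Φ₀ n :=
  ⟨rho hR ρ hρ h1 h2 h3, rho hR (fun l => (ρ l).comap (AddEquiv.prodComm : M' × M ≃+ M × M').toAddMonoidHom)
    ⟨fun l' l a b c m hm => hρ.mono l' l a b c hm, fun g hg l b m hm => hρ.act g hg l b _ hm⟩
    (fun l b m m' hm => ⟨(h1 l b _ _ hm).2.1, (h1 l b _ _ hm).1, (h1 l b _ _ hm).2.2.symm⟩) h3 h2⟩

theorem rhoK {M : Type*} [AddCommGroup M] [DistribMulAction G M] {Ψ₁ Ψ₀ : List X → AddSubgroup M}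
    (hR : Rg K R) {B B₁ B₀ : List X → Subgroup G}
    (b1 : ∀ l' l : List X, l' <+ l → R l' → R l → B l' ≤ B l) (b2 : ∀ g ∈ K, ∀ l, R l → cj g (B l) ≤ B (mp g l))
    (b3 : ∀ l, R l → B₁ l ≤ B l) (b4 : ∀ l, R l → B₀ l ≤ B l)
    (b5 : ∀ l, R l → ∀ a ∈ B l, ∀ b ∈ B l, a * b * a⁻¹ * b⁻¹ ∈ B₀ l) (r : List X → G → M → Prop)
    (r0 : ∀ l, r l 1 0) (ra : ∀ l z w m m', r l z m → r l w m' → r l (z * w) (m + m'))
    (rn : ∀ l z m, r l z m → r l z⁻¹ (-m))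
    (r1 : ∀ l, R l → ∀ z m, r l z m → z ∈ B₁ l ∧ m ∈ Ψ₁ l ∧ (z ∈ B₀ l ↔ m ∈ Ψ₀ l))
    (r2 : ∀ l, R l → ∀ z ∈ B₁ l, ∃ m, r l z m) (r3 : ∀ l, R l → ∀ m ∈ Ψ₁ l, ∃ z, r l z m)
    (r4 : ∀ l' l : List X, l' <+ l → R l' → R l → ∀ z m, r l' z m → r l z m)
    (r5 : ∀ g ∈ K, ∀ l, R l → ∀ z m, r l z m → r (mp g l) (g * z * g⁻¹) (g • m)) {n : ℕ} :
    Van K R Ψ₁ Ψ₀ n ↔ Van K R (fun l => Kr (B l) (B₁ l)) (fun l => Kr (B l) (B₀ l)) n := by
  let ρ : List X → AddSubgroup (ZG G × M) := fun l =>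
    { carrier := {x | ∃ z ∈ B l, x.1 - zo z ∈ Kr (B l) ⊥ ∧ r l z x.2}
      zero_mem' := ⟨1, one_mem _, Kr_one, r0 l⟩
      add_mem' := fun ⟨z, hz, a, b⟩ ⟨w, hw, c, d⟩ => ⟨z * w, mul_mem hz hw, Kr_add hz hw a c, ra l _ _ _ _ b d⟩
      neg_mem' := fun ⟨z, hz, a, b⟩ => ⟨z⁻¹, inv_mem hz, Kr_neg hz a, rn l _ _ b⟩ }
  refine rhoI hR ρ ⟨fun l' l a b c x ⟨z, hz, d, e⟩ => ⟨z, b1 _ _ a b c hz, Kr_mono (b1 _ _ a b c) le_rfl d,
    r4 _ _ a b c _ _ e⟩, fun g hg l b x ⟨z, hz, d, e⟩ => ⟨_, b2 g hg l b (mem_cj' hz), ?_, r5 g hg l b _ _ e⟩⟩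
    (fun l b m m' ⟨z, hz, d, e⟩ => ?_) (fun l b m hm => ?_) fun l b m' hm => ?_
  · have := Kr_mono (b2 g hg l b) le_rfl (cj_bot g ▸ Kr_act g d : _ ∈ Kr (cj g (B l)) ⊥)
    rwa [smul_sub, smul_zo] at this
  · obtain ⟨e1, e2, e3⟩ := r1 l b _ _ e
    refine ⟨Kr_of e1 d, e2, Iff.trans ⟨fun a => Kr_ev (b4 l b) (b5 l b) hz ?_, fun a => Kr_of a d⟩ e3⟩
    have := AddSubgroup.sub_mem _ a (Kr_mono le_rfl bot_le d)
    rwa [sub_sub_cancel] at this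
  · obtain ⟨z, hz, e⟩ := Kr_rep (b3 l b) hm
    obtain ⟨m', hm'⟩ := r2 l b z hz
    exact ⟨m', z, b3 l b hz, e, hm'⟩
  · obtain ⟨z, hz⟩ := r3 l b m' hm
    exact ⟨zo z, z, b3 l b (r1 l b _ _ hz).1, by simp, hz⟩

variable {Y : Set X} {F : Subgroup G → Prop}

/-- a natural assignment of subgroups -/
structure Nt (K : Subgroup G) (F : Subgroup G → Prop) (B : Subgroup G → Subgroup G) : Prop where
  anti : ∀ P Q, P ≤ Q → F P → F Q → B Q ≤ B P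
  act : ∀ g ∈ K, ∀ P, cj g (B P) ≤ B (cj g P)

theorem Nt.sub {B : Subgroup G → Subgroup G} (h : Nt K F B) {F' : Subgroup G → Prop} (h' : ∀ P, F' P → F P) :
    Nt K F' B := ⟨fun P Q a b c => h.anti P Q a (h' _ b) (h' _ c), h.act⟩

theorem Nt.const {A : Subgroup G} (h : ∀ g, cj g A = A) : Nt K F fun _ => A :=
  ⟨fun _ _ _ _ _ => le_rfl, fun g _ _ => (h g).le⟩

theorem Kr_sy {B B₁ : Subgroup G → Subgroup G} (h : Nt K F B) (h1 : Nt K F B₁) :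
    Sy K (Rf K Y F) fun l => Kr (B (Pst K l)) (B₁ (Pst K l)) :=
  ⟨fun l' l a b c => Kr_mono (h.anti _ _ (Pst_anti a) c.2 b.2) (h1.anti _ _ (Pst_anti a) c.2 b.2),
    fun g hg l b m hm => by rw [Pst_mp hg]; exact Kr_mono (h.act g hg _) (h1.act g hg _) (Kr_act g hm)⟩

theorem Kr_sys (hY : ∀ g ∈ K, ∀ y ∈ Y, g • y ∈ Y) (hF : Fam K F) {B B₁ B₀ : Subgroup G → Subgroup G}
    (h : Nt K F B) (h1 : Nt K F B₁) (h0 : Nt K F B₀) (a1 : ∀ P, F P → B₁ P ≤ B P) (a0 : ∀ P, F P → B₀ P ≤ B₁ P)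
    (t : ∀ P, F P → ∀ g ∈ P, ∀ z ∈ B₁ P, g * z * g⁻¹ * z⁻¹ ∈ B₀ P) :
    Sys K (Rf K Y F) (fun l => Kr (B (Pst K l)) (B₁ (Pst K l))) fun l => Kr (B (Pst K l)) (B₀ (Pst K l)) :=
  ⟨Rf_rg hY hF, Kr_sy h h1, Kr_sy h h0, fun l b => Kr_mono le_rfl (a0 _ b.2), fun g hg l b e m hm => by
    have hp := mem_Pst_mp.2 ⟨hg, e⟩
    exact Kr_tr (by have := h.act g hg (Pst K l); rwa [cj_self hp] at this) (a1 _ b.2)
      ((a0 _ b.2).trans (a1 _ b.2)) (t _ b.2 g hp) hm⟩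

theorem Kr_mid (hY : ∀ g ∈ K, ∀ y ∈ Y, g • y ∈ Y) (hF : Fam K F) {B B₁ B₀ : Subgroup G → Subgroup G}
    (h : Nt K F B) (h1 : Nt K F B₁) (a1 : ∀ P, F P → B₁ P ≤ B P) (a0 : ∀ P, F P → B₀ P ≤ B₁ P)
    (c : ∀ P, F P → ∀ a ∈ B P, ∀ b ∈ B P, a * b * a⁻¹ * b⁻¹ ∈ B₀ P) {n : ℕ}
    (v : Van K (Rf K Y F) (fun l => Kr (B₁ (Pst K l)) (B₁ (Pst K l))) (fun l => Kr (B₁ (Pst K l)) (B₀ (Pst K l))) n) :
    Van K (Rf K Y F) (fun l => Kr (B (Pst K l)) (B₁ (Pst K l))) (fun l => Kr (B (Pst K l)) (B₀ (Pst K l))) n := by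
  refine (rhoK (Rf_rg hY hF) (fun l' l a b c => h.anti _ _ (Pst_anti a) c.2 b.2)
    (fun g hg l b => by rw [Pst_mp hg]; exact h.act g hg _) (fun l b => a1 _ b.2)
    (fun l b => (a0 _ b.2).trans (a1 _ b.2)) (fun l b => c _ b.2)
    (fun l z m => z ∈ B₁ (Pst K l) ∧ m - zo z ∈ Kr (B₁ (Pst K l)) ⊥) (fun l => ⟨one_mem _, Kr_one⟩)
    (fun l z w m m' a b => ⟨mul_mem a.1 b.1, Kr_add a.1 b.1 a.2 b.2⟩) (fun l z m a => ⟨inv_mem a.1, Kr_neg a.1 a.2⟩)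
    (fun l b z m a => ⟨a.1, Kr_of a.1 a.2, fun x => Kr_of x a.2, fun x => ?_⟩)
    (fun l b z hz => ⟨zo z, hz, by simp⟩) (fun l b m hm => Kr_rep le_rfl hm)
    (fun l' l a b c z m d => ⟨h1.anti _ _ (Pst_anti a) c.2 b.2 d.1,
      Kr_mono (h1.anti _ _ (Pst_anti a) c.2 b.2) le_rfl d.2⟩) fun g hg l b z m d => ?_).1 v
  · refine Kr_ev (a0 _ b.2) (fun u hu w hw => c _ b.2 u (a1 _ b.2 hu) w (a1 _ b.2 hw)) a.1 ?_
    have := AddSubgroup.sub_mem _ x (Kr_mono le_rfl bot_le a.2)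
    rwa [sub_sub_cancel] at this
  · rw [Pst_mp hg]
    refine ⟨h1.act g hg _ (mem_cj' d.1), ?_⟩
    have := Kr_mono (h1.act g hg _) le_rfl (cj_bot g ▸ Kr_act g d.2 : _ ∈ Kr (cj g (B₁ _)) ⊥)
    rwa [smul_sub, smul_zo] at this

theorem Kr_pr [Finite G] {p : ℕ} [Fact p.Prime] {B B₀ : Subgroup G} (hp : IsPGroup p B) (h0 : B₀ ≤ B)
    (h : ∀ g ∈ K, cj g B ≤ B) (h' : ∀ g ∈ K, cj g B₀ ≤ B₀) : Pr p K (Kr B B) (Kr B B₀) := by
  refine ⟨fun m hm => Kr_mono le_rfl h0 hm, fun g hg m hm => Kr_mono (h g hg) (h g hg) (Kr_act g hm),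
    fun g hg m hm => Kr_mono (h g hg) (h' g hg) (Kr_act g hm), ?_⟩
  obtain ⟨e, he⟩ := hp.exists_card_eq
  refine ⟨e, fun m hm => Kr_tor le_rfl (fun z hz => ?_) hm⟩
  have := pow_card_eq_one' (x := (⟨z, hz⟩ : B))
  rw [he] at this
  exact congrArg Subtype.val this

theorem NS_of [Finite G] {p : ℕ} [Fact p.Prime] {C P : Subgroup G} (hp : IsPGroup p P) {z : G} (hz : z ∈ C)
    (hz' : z ∉ P) (hk : ∃ k, z ^ p ^ k = 1) (hn : z ∈ normalizer ((P ⊓ C : Subgroup G) : Set G)) : NS p C P := by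
  have h1 : IsPGroup p (zpowers z) := by
    obtain ⟨k, hk⟩ := hk
    rintro ⟨_, j, rfl⟩
    refine ⟨k, Subtype.ext ?_⟩
    show (z ^ j) ^ p ^ k = 1
    rw [← zpow_natCast, ← zpow_mul, mul_comm, zpow_mul, zpow_natCast, hk, one_zpow]
  refine ⟨zpowers z ⊔ (P ⊓ C), sup_le (zpowers_le.2 hz) inf_le_right,
    IsPGroup.to_sup_of_normal_right' h1 (hp.to_le inf_le_left) (zpowers_le.2 hn), ?_⟩
  refine lt_of_le_of_ne (card_le_of_le le_sup_right) fun e => hz' ?_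
  have := eq_of_le_of_card_ge (le_sup_right : P ⊓ C ≤ zpowers z ⊔ (P ⊓ C)) e.ge
  have h2 : z ∈ zpowers z ⊔ (P ⊓ C) := mem_sup_left (mem_zpowers z)
  rw [← this] at h2; exact h2.1

end
end H18.CL
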