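import Cfsg.Agent.H18.CL6
set_option autoImplicit false
set_option linter.unusedSectionVars false
set_option linter.unusedVariables false
/-! Vanishing of the higher limits of the centre functor of a finite group. -/
namespace H18.CL
open Subgroup Pointwise List

universe u v

section
variable {G : Type u} [Group G] {H : Type*} [Group H] (π : G →* H)

/-- centralizer modulo the kernel -/
def Cz (P : Subgroup G) : Subgroup G where
  carrier := {c | ∀ x ∈ P, Commute (π c) (π x)}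
  one_mem' := fun x _ => by simp
  mul_mem' := fun {a b} ha hb x hx => by rw [map_mul]; exact (ha x hx).mul_left (hb x hx)
  inv_mem' := fun {a} ha x hx => by rw [map_inv]; exact (ha x hx).inv_left

def Zt (P : Subgroup G) : Subgroup G := P ⊓ Cz π P
noncomputable def dT (P : Subgroup G) : ℕ := sSup {n | ∃ B ≤ P, B ≤ Cz π B ∧ Nat.card B = n}
def JT (P : Subgroup G) : Subgroup G := sSup {B | B ≤ P ∧ B ≤ Cz π B ∧ Nat.card B = dT π P}
def Ce (p : ℕ) (P : Subgroup G) : Prop := IsPGroup p P ∧ ∀ z : G, (∃ k, z ^ p ^ k = 1) → z ∈ Cz π P → z ∈ P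

variable {π}
theorem cm_iff {a b : G} : a * b * a⁻¹ * b⁻¹ ∈ π.ker ↔ Commute (π a) (π b) := by
  rw [MonoidHom.mem_ker, ← commutatorElement_def, map_commutatorElement, commutatorElement_eq_one_iff_commute]

theorem Cz_anti {P Q : Subgroup G} (h : P ≤ Q) : Cz π Q ≤ Cz π P := fun c hc x hx => hc x (h hx)
theorem Cz_comm {P Q : Subgroup G} (h : P ≤ Cz π Q) : Q ≤ Cz π P := fun c hc x hx => (h hx c hc).symm
theorem Cz_sup {T A B : Subgroup G} (h : T ≤ Cz π A) (h' : T ≤ Cz π B) : T ≤ Cz π (A ⊔ B) :=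
  Cz_comm (sup_le (Cz_comm h) (Cz_comm h'))
theorem ker_Cz (P : Subgroup G) : π.ker ≤ Cz π P := fun c hc x _ => by rw [MonoidHom.mem_ker.1 hc]; simp

theorem cj_ker (g : G) : cj g π.ker = π.ker := cj_eq_iff.2 (by rw [normalizer_eq_top]; trivial)

theorem Cz_cj (g : G) (P : Subgroup G) : Cz π (cj g P) = cj g (Cz π P) := by
  ext c
  rw [mem_cj]
  constructor
  · intro h x hx
    have := (h _ (mem_cj' hx)).map (MulAut.conj (π g)⁻¹)
    simpa [mul_assoc] using this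
  · intro h x hx
    have := (h _ (mem_cj.1 hx)).map (MulAut.conj (π g))
    simpa [mul_assoc] using this

theorem Zt_cj (g : G) (P : Subgroup G) : Zt π (cj g P) = cj g (Zt π P) := by rw [Zt, Zt, cj_inf, Cz_cj]

theorem ab_sup {A B : Subgroup G} (a : A ≤ Cz π A) (b : B ≤ Cz π B) (c : A ≤ Cz π B) : A ⊔ B ≤ Cz π (A ⊔ B) :=
  sup_le (Cz_sup a c) (Cz_sup (Cz_comm c) b)

theorem Ce.cj {p : ℕ} {P : Subgroup G} (h : Ce π p P) (g : G) : Ce π p (cj g P) :=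
  ⟨cj_pg g h.1, fun z ⟨k, hk⟩ hz => mem_cj.2 (h.2 _ ⟨k, by
    have : g⁻¹ * z * g = g⁻¹ * z * g⁻¹⁻¹ := by simp
    rw [this, conj_pow, hk]; simp⟩ (by rw [Cz_cj] at hz; exact mem_cj.1 hz))⟩

theorem Ce.up {p : ℕ} {P Q : Subgroup G} (h : Ce π p P) (hQ : IsPGroup p Q) (a : P ≤ Q) : Ce π p Q :=
  ⟨hQ, fun z hz b => a (h.2 z hz (Cz_anti a b))⟩

theorem fam_Ce (p : ℕ) (K : Subgroup G) : Fam K (Ce π p) :=
  ⟨fun g _ P a => a.cj g, fun _ _ _ a b c d => c.up (d.1.to_le b) a⟩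

theorem pel {p : ℕ} {P : Subgroup G} (h : IsPGroup p P) {z : G} (hz : z ∈ P) : ∃ k, z ^ p ^ k = 1 :=
  (h ⟨z, hz⟩).imp fun k e => congrArg Subtype.val e

theorem Ce.ker {p : ℕ} {P : Subgroup G} (h : Ce π p P) (hk : IsPGroup p π.ker) : π.ker ≤ Zt π P :=
  le_inf (fun z hz => h.2 z (pel hk hz) (ker_Cz P hz)) (ker_Cz P)

theorem nt_Zt (p : ℕ) (K : Subgroup G) : Nt K (Ce π p) (Zt π) :=
  ⟨fun P Q a b c z hz => ⟨b.2 z (pel c.1 hz.1) (Cz_anti a hz.2), Cz_anti a hz.2⟩, fun g _ P => (Zt_cj g P).ge⟩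

theorem card_mul_le [Finite G] (A B : Subgroup G) :
    Nat.card A * Nat.card B ≤ Nat.card (A ⊔ B : Subgroup G) * Nat.card (A ⊓ B : Subgroup G) := by
  have h1 : Nat.card (A ⊓ B : Subgroup G) * (A ⊓ B).relIndex A = Nat.card A := by
    rw [relIndex, ← card_mul_index ((A ⊓ B).subgroupOf A)]
    rw [Nat.card_congr (subgroupOfEquivOfLe (inf_le_left : A ⊓ B ≤ A)).toEquiv]
  have h2 : Nat.card B * B.relIndex (A ⊔ B) = Nat.card (A ⊔ B : Subgroup G) := by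
    rw [relIndex, ← card_mul_index (B.subgroupOf (A ⊔ B))]
    rw [Nat.card_congr (subgroupOfEquivOfLe (le_sup_right : B ≤ A ⊔ B)).toEquiv]
  rw [inf_relIndex_left] at h1
  have h3 : B.relIndex A ≤ B.relIndex (A ⊔ B) := relIndex_le_of_le_right le_sup_left index_ne_zero_of_finite
  rw [← h1, ← h2]
  calc _ = Nat.card B * B.relIndex A * Nat.card (A ⊓ B : Subgroup G) := by ring
    _ ≤ _ := by gcongr

variable [Finite G]
theorem dT_bdd (P : Subgroup G) : BddAbove {n | ∃ B ≤ P, B ≤ Cz π B ∧ Nat.card B = n} :=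
  ⟨Nat.card G, fun n ⟨B, _, _, e⟩ => e ▸ Subgroup.card_le_card_group B⟩

theorem le_dT {P B : Subgroup G} (h : B ≤ P) (a : B ≤ Cz π B) : Nat.card B ≤ dT π P := le_csSup (dT_bdd P) ⟨B, h, a, rfl⟩

theorem ex_dT (P : Subgroup G) : ∃ B ≤ P, B ≤ Cz π B ∧ Nat.card B = dT π P :=
  Nat.sSup_mem (s := {n | ∃ B ≤ P, B ≤ Cz π B ∧ Nat.card B = n}) ⟨_, ⊥, bot_le, bot_le, rfl⟩ (dT_bdd P)

theorem dT_mono {P Q : Subgroup G} (h : P ≤ Q) : dT π P ≤ dT π Q := by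
  obtain ⟨B, a, b, c⟩ := ex_dT (π := π) P
  rw [← c]; exact le_dT (a.trans h) b

theorem JT_le (P : Subgroup G) : JT π P ≤ P := sSup_le fun B a => a.1
theorem le_JT {P B : Subgroup G} (h : B ≤ P) (a : B ≤ Cz π B) (b : Nat.card B = dT π P) : B ≤ JT π P :=
  le_sSup ⟨h, a, b⟩
theorem JT_mono {P Q : Subgroup G} (h : P ≤ Q) (e : dT π P = dT π Q) : JT π P ≤ JT π Q :=
  sSup_le fun B a => le_JT (a.1.trans h) a.2.1 (a.2.2.trans e)

theorem dT_of {P Q : Subgroup G} (h : JT π P ≤ Q) (h' : Q ≤ P) : dT π Q = dT π P := by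
  refine le_antisymm (dT_mono h') ?_
  obtain ⟨B, a, b, c⟩ := ex_dT (π := π) P
  rw [← c]; exact le_dT ((le_JT a b c).trans h) b

theorem JT_of {P Q : Subgroup G} (h : JT π P ≤ Q) (h' : Q ≤ P) : JT π Q = JT π P :=
  le_antisymm (JT_mono h' (dT_of h h')) (sSup_le fun B a =>
    le_JT ((le_JT a.1 a.2.1 a.2.2).trans h) a.2.1 (a.2.2.trans (dT_of h h').symm))

theorem dT_cj (g : G) (P : Subgroup G) : dT π (cj g P) = dT π P := by
  have : ∀ (g : G) P, dT π P ≤ dT π (cj g P) := fun g P => by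
    obtain ⟨B, a, b, c⟩ := ex_dT (π := π) P
    rw [← c, ← cj_card g]; exact le_dT (cj_mono g a) (by rw [Cz_cj]; exact cj_mono g b)
  exact le_antisymm (by have := this g⁻¹ (cj g P); rwa [cj_inv] at this) (this g P)

theorem JT_cj (g : G) (P : Subgroup G) : JT π (cj g P) = cj g (JT π P) := by
  have key : ∀ (g : G) (P : Subgroup G), JT π P ≤ cj g⁻¹ (JT π (cj g P)) := fun g P => sSup_le fun B a => by
    rw [← cj_inv g B]
    exact cj_mono _ (le_JT (cj_mono g a.1) (by rw [Cz_cj]; exact cj_mono g a.2.1) (by rw [cj_card, dT_cj, a.2.2]))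
  refine le_antisymm ?_ ?_
  · have := key g⁻¹ (cj g P); rwa [inv_inv, cj_inv] at this
  · have := cj_mono g (key g P); rwa [cj_inv'] at this

theorem Cz_JT (P : Subgroup G) : P ⊓ Cz π (JT π P) ≤ JT π P := fun c hc => by
  obtain ⟨B, a, b, e⟩ := ex_dT (π := π) P
  have h1 : zpowers c ≤ Cz π B := zpowers_le.2 (Cz_anti (le_JT a b e) hc.2)
  have h2 : zpowers c ≤ Cz π (zpowers c) := Cz_comm (zpowers_le.2 (Cz_comm (P := zpowers c) (Q := zpowers c)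
    (zpowers_le.2 ?_) (mem_zpowers c)))
  · have h3 := le_dT (sup_le (zpowers_le.2 hc.1) a) (ab_sup h2 b h1)
    have h4 := eq_of_le_of_card_ge (le_sup_right : B ≤ zpowers c ⊔ B) (by rw [e]; exact h3)
    exact le_JT a b e (by rw [h4]; exact mem_sup_left (mem_zpowers c))
  · rintro _ ⟨j, rfl⟩; rw [map_zpow]; exact Commute.self_zpow _ _

theorem Zt_JT (P : Subgroup G) : Zt π P ≤ JT π P := fun c hc => Cz_JT P ⟨hc.1, Cz_anti (JT_le P) hc.2⟩

theorem dT_E {P Q : Subgroup G} {g : G} (e : JT π Q = cj g (JT π P)) : dT π Q = dT π P := by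
  rw [← dT_of le_rfl (JT_le Q), e, dT_cj, dT_of le_rfl (JT_le P)]

variable {p : ℕ} [Fact p.Prime] {X : Type u} [Finite X] [MulAction G X] {Y : Set X}

/-- the layer of a centric Thompson subgroup -/
theorem GZc (hr : RED.{u, u}) (hb : BT.{u, u}) {n : ℕ} (hn : 3 ≤ n) {N X₀ : Subgroup G} (hM : Md p N Y)
    (hN : ∀ g ∈ N, cj g X₀ = X₀) (hp : IsPGroup p X₀) (hk : π.ker ≤ X₀) (hX : JT π X₀ = X₀) :
    Van N (Rf N Y fun P => JT π P = X₀) (fun l => Kr (Zt π (Pst N l)) (Zt π (Pst N l)))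
      (fun l => Kr (Zt π (Pst N l)) π.ker) n := by
  classical
  set V := Zt π X₀ with hV
  have hkV : π.ker ≤ V := le_inf hk (ker_Cz _)
  obtain ⟨B, _, ev, e1, e2, -⟩ := exB V π.ker hkV fun a ha b hb => cm_iff.2 (ha.2 b hb.1)
  have cV : ∀ g ∈ N, ∀ z ∈ V, g * z * g⁻¹ ∈ V := fun g hg z hz => by
    have := mem_cj' (g := g) hz
    rwa [hV, ← Zt_cj, hN g hg] at this
  have cV' : ∀ g ∈ N, ∀ z ∈ V, g⁻¹ * z * g ∈ V := fun g hg z hz => by simpa using cV _ (N.inv_mem hg) z hz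
  let φ : G → Fn G B := fun z t => if t ∈ N then ev (t⁻¹ * z * t) else 0
  have f1 : ∀ z ∈ V, ∀ w ∈ V, φ (z * w) = φ z + φ w := fun z hz w hw => funext fun t => by
    rw [fn_add]; simp only [φ]; split_ifs with h
    · rw [← e1 _ (cV' t h z hz) _ (cV' t h w hw)]; congr 1; group
    · simp
  have f2 : ∀ z ∈ V, φ z = 0 ↔ z ∈ π.ker := fun z hz => ⟨fun h => by
    have := congrFun h 1
    simp only [φ, if_pos N.one_mem, inv_one, one_mul, mul_one] at this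
    exact (e2 z hz).1 this, fun h => funext fun t => by
    simp only [φ]; split_ifs with ht
    · exact (e2 _ (cV' t ht z hz)).2 (by rw [← mem_cj, cj_ker]; exact h)
    · rfl⟩
  have f3 : ∀ g ∈ N, ∀ z, g • φ z = φ (g * z * g⁻¹) := fun g hg z => funext fun t => by
    rw [fn_smul]; simp only [φ, N.mul_mem_cancel_left (N.inv_mem hg)]
    congr 2; group
  have f0 : φ 1 = 0 := (f2 1 V.one_mem).2 (one_mem _)
  have f4 : ∀ z ∈ V, φ z⁻¹ = -φ z := fun z hz => by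
    rw [eq_neg_iff_add_eq_zero, ← f1 _ (V.inv_mem hz) _ hz, inv_mul_cancel, f0]
  have f5 : ∀ z ∈ V, ∀ w ∈ V, φ z = φ w ↔ π z = π w := fun z hz w hw => by
    rw [← sub_eq_zero, sub_eq_add_neg, ← f4 w hw, ← f1 _ hz _ (V.inv_mem hw), f2 _ (V.mul_mem hz (V.inv_mem hw)),
      MonoidHom.mem_ker, map_mul, map_inv, mul_inv_eq_one]
  have f6 : ∀ g ∈ N, ∀ z ∈ V, g • φ z = φ z ↔ Commute (π z) (π g) := fun g hg z hz => by
    rw [f3 g hg, f5 _ (cV g hg z hz) _ hz, map_mul, map_mul, map_inv, mul_inv_eq_iff_eq_mul, eq_comm]; rfl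
  let D : AddSubgroup (Fn G B) :=
    { carrier := φ '' V
      zero_mem' := ⟨1, V.one_mem, f0⟩
      add_mem' := by rintro _ _ ⟨z, hz, rfl⟩ ⟨w, hw, rfl⟩; exact ⟨z * w, V.mul_mem hz hw, f1 z hz w hw⟩
      neg_mem' := by rintro _ ⟨z, hz, rfl⟩; exact ⟨z⁻¹, V.inv_mem hz, f4 z hz⟩ }
  have : Finite D := Set.Finite.image φ (Set.toFinite _)
  have h : Pr p N D ⊥ := by
    refine ⟨fun m a => by rw [AddSubgroup.mem_bot.1 a]; exact D.zero_mem, ?_,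
      fun g _ m a => by rw [AddSubgroup.mem_bot.1 a, smul_zero]; exact AddSubgroup.zero_mem _, ?_⟩
    · rintro g hg _ ⟨z, hz, rfl⟩; exact ⟨_, cV g hg z hz, (f3 g hg z).symm⟩
    · obtain ⟨e, he⟩ := hp.exists_card_eq
      refine ⟨e, ?_⟩
      rintro _ ⟨z, hz, rfl⟩
      have h1 : ∀ j : ℕ, j • φ z = φ (z ^ j) := fun j => by
        induction j with
        | zero => simp [f0]
        | succ j ih => rw [succ_nsmul, pow_succ, f1 _ (V.pow_mem hz j) _ hz, ih]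
      have := pow_card_eq_one' (x := (⟨z, hz.1⟩ : X₀))
      rw [he] at this
      rw [h1, show z ^ p ^ e = 1 from congrArg Subtype.val this, f0]; exact AddSubgroup.zero_mem _
  have cd : ∀ B₀ ≤ N, Nat.card π.ker * Nat.card (D ⊓ fx (Fn G B) B₀ : AddSubgroup _) =
      Nat.card (V ⊓ Cz π B₀ : Subgroup G) := fun B₀ h0 => by
    let f : (V ⊓ Cz π B₀ : Subgroup G) →* Multiplicative (Fn G B) :=
      MonoidHom.mk' (fun z => Multiplicative.ofAdd (φ z)) fun z w => f1 _ z.2.1 _ w.2.1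
    have a1 : f.ker = π.ker.subgroupOf _ := by
      ext z; rw [mem_subgroupOf, ← f2 _ z.2.1]; rfl
    rw [← card_mul_index f.ker, index_ker, a1,
      Nat.card_congr (subgroupOfEquivOfLe (le_inf hkV (ker_Cz _))).toEquiv]
    congr 1
    refine Nat.card_congr (Equiv.subtypeEquiv Multiplicative.ofAdd fun m => ⟨?_, ?_⟩)
    · rintro ⟨⟨z, hz, rfl⟩, a⟩
      exact ⟨⟨z, hz, fun x hx => (f6 x (h0 hx) z hz).1 (a x hx)⟩, rfl⟩
    · rintro ⟨z, e⟩
      obtain rfl : φ z = m := e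
      exact ⟨⟨z, z.2.1, rfl⟩, fun x hx => (f6 x (h0 hx) z z.2.1).2 (z.2.2 x hx)⟩
  have best : ∀ P ≤ N, X₀ ≤ P → JT π P ≤ JD D P := fun P a b => sSup_le fun A ⟨a1, a2, a3⟩ => le_JD a1 ⟨?_, ?_⟩
  rotate_left
  · rintro x hx y hy _ ⟨z, hz, rfl⟩
    have hx' := a (a1 hx)
    have hy' := a (a1 hy)
    rw [← mul_smul, ← mul_smul, f3 _ (N.mul_mem hx' hy'), f3 _ (N.mul_mem hy' hx'),
      f5 _ (cV _ (N.mul_mem hx' hy') z hz) _ (cV _ (N.mul_mem hy' hx') z hz)]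
    simp only [map_mul, map_inv]
    rw [(a2 hx y hy).eq]
  · intro B₀ _ b0
    refine Nat.le_of_mul_le_mul_left ?_ (Nat.card_pos (α := π.ker))
    rw [mul_left_comm, cd B₀ (b0.trans (a1.trans a)), mul_left_comm, cd A (a1.trans a)]
    refine (card_mul_le _ _).trans (Nat.mul_le_mul ?_ (card_le_of_le fun x hx => ⟨hx.2.1, a2 (b0 hx.1)⟩))
    rw [a3]
    exact le_dT (sup_le (b0.trans a1) (inf_le_left.trans (inf_le_left.trans b)))
      (ab_sup (b0.trans (a2.trans (Cz_anti b0))) (fun x hx y hy => hx.1.2 y hy.1.1) (Cz_comm inf_le_right))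
  have fam : Fam N fun P => JT π P = X₀ := ⟨fun g hg P e => by rw [JT_cj, e, hN g hg], fun P₁ P₂ P₃ a b c d => by
    rw [JT_of (by rw [d, ← c]; exact (JT_le _).trans a) b, d]⟩
  have le0 : ∀ l, Rf N Y (fun P => JT π P = X₀) l → X₀ ≤ Pst N l := fun l b => by
    rw [← show JT π (Pst N l) = X₀ from b.2]; exact JT_le _
  have zv : ∀ l, Rf N Y (fun P => JT π P = X₀) l → Zt π (Pst N l) ≤ V := fun l b z hz =>
    ⟨by rw [← show JT π (Pst N l) = X₀ from b.2]; exact Zt_JT _ hz, Cz_anti (le0 l b) hz.2⟩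
  refine (rhoK (Ψ₁ := fun l => Fx D ⊥ h.le (Pst N l)) (Ψ₀ := fun _ => ⊥) (B := fun l => Zt π (Pst N l))
    (B₁ := fun l => Zt π (Pst N l)) (B₀ := fun _ => π.ker)
    (Rf_rg hM.inv fam) (fun l' l a b c z hz => ⟨le0 l c (zv l' b hz).1, Cz_anti (Pst_anti a) hz.2⟩)
    (fun g hg l b => by rw [Pst_mp hg, Zt_cj]) (fun l b => le_rfl)
    (fun l b => le_inf (hk.trans (le0 l b)) (ker_Cz _)) (fun l b x hx y hy => cm_iff.2 (hx.2 y hy.1))
    (fun l z m => z ∈ V ∧ z ∈ Cz π (Pst N l) ∧ m = φ z) (fun l => ⟨one_mem _, one_mem _, f0.symm⟩)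
    (fun l z w m m' a b => ⟨mul_mem a.1 b.1, mul_mem a.2.1 b.2.1, by rw [a.2.2, b.2.2, f1 z a.1 w b.1]⟩)
    (fun l z m a => ⟨inv_mem a.1, inv_mem a.2.1, by rw [a.2.2, f4 z a.1]⟩)
    (fun l b z m a => ⟨⟨le0 l b a.1.1, a.2.1⟩, ⟨⟨z, a.1, a.2.2.symm⟩, fun g hg => ?_⟩, ?_⟩)
    (fun l b z hz => ⟨_, zv l b hz, hz.2, rfl⟩) (fun l b m hm => ?_)
    (fun l' l a b c z m d => ⟨d.1, Cz_anti (Pst_anti a) d.2.1, d.2.2⟩)
    (fun g hg l b z m d => ⟨cV g hg z d.1, by rw [Pst_mp hg, Cz_cj]; exact mem_cj' d.2.1, by rw [d.2.2, f3 g hg]⟩)).1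
    (PO hr hb hn h hM fam fun P a _ => ?_)
  · rw [a.2.2, (f6 g hg.1 z a.1).2 (a.2.1 g hg), sub_self]; exact AddSubgroup.zero_mem _
  · rw [a.2.2, AddSubgroup.mem_bot, f2 z a.1]
  · obtain ⟨⟨z, hz, rfl⟩, a⟩ := hm
    exact ⟨z, hz, fun g hg => (f6 g hg.1 z hz).1 (sub_eq_zero.1 (AddSubgroup.mem_bot.1 (a g hg))), rfl⟩
  · by_cases b : X₀ ≤ P
    · rw [JT_of (best P a b) (JD_le P)]
    · exact ⟨fun e => absurd (e ▸ JT_le P) b, fun e => absurd (e ▸ (JT_le _).trans (JD_le P)) b⟩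

theorem GZ (hr : RED.{u, u}) (hb : BT.{u, u}) {n : ℕ} (hn : 3 ≤ n) (hM : Md p (⊤ : Subgroup G) Y)
    (hk : IsPGroup p π.ker) :
    Van (⊤ : Subgroup G) (Rf ⊤ Y (Ce π p)) (fun l => Kr (Zt π (Pst ⊤ l)) (Zt π (Pst ⊤ l)))
      (fun l => Kr (Zt π (Pst ⊤ l)) π.ker) n := by
  have tr : ∀ P : Subgroup G, ∀ g ∈ P, ∀ z ∈ Zt π P, g * z * g⁻¹ * z⁻¹ ∈ π.ker := fun P g hg z hz =>
    cm_iff.2 (hz.2 g hg).symm
  have hS := Kr_sys hM.inv (fam_Ce (π := π) p ⊤) (nt_Zt p ⊤) (nt_Zt p ⊤) (Nt.const cj_ker) (fun _ _ => le_rfl)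
    (fun P a => a.ker hk) fun P _ => tr P
  refine LF hM.inv (fam_Ce p ⊤) hS (fun P Q => ∃ g ∈ (⊤ : Subgroup G), JT π Q = cj g (JT π P))
    (fun P => toLex (dT π P, Nat.card (JT π P))) (fun P => ⟨1, trivial, (cj_one _).symm⟩)
    (fun P Q ⟨g, hg, e⟩ => ⟨g⁻¹, trivial, by rw [e, cj_inv]⟩)
    (fun P Q R ⟨g, hg, e⟩ ⟨g', hg', e'⟩ => ⟨g' * g, trivial, by rw [e', e, cj_cj]⟩)
    (fun g hg P => ⟨g, hg, JT_cj g P⟩) (fun P Q _ _ a => ?_) (fun P Q _ _ a e => ⟨1, trivial, ?_⟩)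
    (fun P Q _ _ ⟨g, _, e⟩ => by rw [dT_E e, e, cj_card]) fun P₀ h0 => ?_
  · rw [Prod.Lex.toLex_le_toLex]
    exact (dT_mono a).lt_or_eq.imp id fun e => ⟨e, card_le_of_le (JT_mono a e)⟩
  · obtain ⟨e1, e2⟩ := Prod.mk.inj (toLex.injective e)
    rw [cj_one, eq_of_le_of_card_ge (JT_mono a e1) e2.ge]
  set X₀ := JT π P₀ with hX
  have hXX : JT π X₀ = X₀ := JT_of le_rfl (JT_le _)
  have hp : IsPGroup p X₀ := h0.1.to_le (JT_le _)
  have dE : ∀ P, (∃ g ∈ (⊤ : Subgroup G), JT π P = cj g X₀) → dT π P = dT π P₀ := fun P ⟨g, _, e⟩ => dT_E e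
  have jE : ∀ P Q, P ≤ Q → (∃ g ∈ (⊤ : Subgroup G), JT π P = cj g X₀) →
      (∃ g ∈ (⊤ : Subgroup G), JT π Q = cj g X₀) → JT π P = JT π Q := fun P Q a b c =>
    eq_of_le_of_card_ge (JT_mono a ((dE P b).trans (dE Q c).symm)) (by
      obtain ⟨g, _, e⟩ := b; obtain ⟨g', _, e'⟩ := c; rw [e, e', cj_card, cj_card])
  have famE : Fam ⊤ fun P => ∃ g ∈ (⊤ : Subgroup G), JT π P = cj g X₀ :=
    ⟨fun g hg P ⟨g', hg', e⟩ => ⟨g * g', trivial, by rw [JT_cj, e, cj_cj]⟩, fun P₁ P₂ P₃ a b c d => by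
      rw [JT_of (by rw [← jE _ _ (a.trans b) c d]; exact (JT_le _).trans a) b]; exact d⟩
  have kX : π.ker ≤ X₀ := (h0.ker hk).trans (Zt_JT _)
  by_cases hc : Ce π p X₀
  · have nn : ∀ l : List X, n ≤ l.length + 1 → l ≠ [] := fun l a => ne_nil (by omega) a
    have nt : Nt ⊤ (fun P => ∃ g ∈ (⊤ : Subgroup G), JT π P = cj g X₀) (Zt π) :=
      ⟨fun P Q a b c z hz => ⟨JT_le P (by rw [jE P Q a b c]; exact Zt_JT _ hz), Cz_anti a hz.2⟩,
        fun g _ P => (Zt_cj g P).ge⟩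
    refine Van.congr (R := Rf ⊤ Y fun P => ∃ g ∈ (⊤ : Subgroup G), JT π P = cj g X₀) ?_
      (fun g hg l _ => Rf_inv hM.inv famE.inv g hg l) (fun l a => ⟨fun b => ⟨b.1, ?_, b.2⟩, fun b => ⟨b.1, b.2.2⟩⟩)
      fun _ _ _ => ⟨rfl, rfl⟩
    · have hS' := Kr_sys hM.inv famE nt nt (Nt.const (A := π.ker) cj_ker) (fun _ _ => le_rfl)
        (fun P ⟨g, _, e⟩ => le_inf (by rw [← cj_ker g]; exact (cj_mono g kX).trans (e ▸ JT_le P)) (ker_Cz _))
        fun P _ => tr P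
      exact red hM (JT π) le_top JT_le (fun g _ => JT_cj g)
        (fun P a b => by rw [← jE X₀ P a ⟨1, trivial, by rw [cj_one, hXX]⟩ b, hXX])
        (Ψ₁ := fun P => Kr (Zt π P) (Zt π P)) (Ψ₀ := fun P => Kr (Zt π P) π.ker) hS' (Or.inl (by omega))
        (GZc hr hb hn (hM.fix le_top hp) (fun g hg => cj_eq_iff.2 hg.2) hp kX hXX)
    · obtain ⟨g, _, e⟩ := b.2
      exact (hc.cj g).up (hM.pgl b.1 (nn l a)) (e ▸ JT_le _)
  have fam := (fam_Ce (π := π) p ⊤).and famE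
  refine LA hM fam (Ψ₁ := fun P => Kr (Zt π P) (Zt π P)) (Ψ₀ := fun P => Kr (Zt π P) π.ker)
    (hS.fam hM.inv fam fun P a => a.1) (by omega) fun P a _ b => ?_
  have cz : ∀ g ∈ ⊤ ⊓ normalizer (P : Set G), cj g (Zt π P) = Zt π P := fun g hg => by
    rw [← Zt_cj, cj_eq_iff.2 hg.2]
  have nJ : ∀ g ∈ normalizer (P : Set G), cj g (JT π P) = JT π P := fun g hg => by rw [← JT_cj, cj_eq_iff.2 hg]
  refine ⟨Kr_pr (b.to_le inf_le_left) (a.1.ker hk) (fun g hg => (cz g hg).le) fun g _ => (cj_ker g).le,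
    fun g hg m hm => Kr_tr (cz g ⟨trivial, le_normalizer hg⟩).le le_rfl (a.1.ker hk) (tr P g hg) hm,
    Cz π (JT π P) ⊓ (⊤ ⊓ normalizer (P : Set G)), inf_le_right, fun g hg => ?_, fun c hc m hm =>
      Kr_tr (cz c hc.2).le le_rfl (a.1.ker hk) (fun z hz => cm_iff.2 (hc.1 z (Zt_JT _ hz))) hm, ?_⟩
  · rw [cj_inf, ← Cz_cj, nJ g hg.2, cj_self hg]
  obtain ⟨g, -, e⟩ := a.2
  have hc' : ¬ Ce π p (JT π P) := fun x => hc (by have := x.cj g⁻¹; rwa [e, cj_inv] at this)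
  simp only [Ce, b.to_le (JT_le P), true_and, not_forall] at hc'
  obtain ⟨z, z1, z2, z3⟩ := hc'
  have kJ : π.ker ≤ JT π P := (a.1.ker hk).trans (Zt_JT _)
  have nz : ∀ T : Subgroup G, π.ker ≤ T → Cz π T ≤ normalizer (T : Set G) := fun T a c hc => by
    rw [← cj_eq_iff]
    refine eq_of_le_of_card_ge (fun x hx => ?_) (cj_card _ _).ge
    have := T.mul_mem (a (cm_iff.2 (hc _ (mem_cj.1 hx)))) (mem_cj.1 hx)
    simpa [mul_assoc] using this
  have h1 : NS p (Cz π (JT π P)) P := NS_of b z2 (fun x => z3 (Cz_JT P ⟨x, z2⟩)) z1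
    (nz _ (le_inf (kJ.trans (JT_le P)) (ker_Cz _)) (Cz_anti (Cz_JT P) z2))
  have h2 := NS_norm (K := normalizer ((JT π P : Subgroup G) : Set G)) (nz _ kJ)
    (fun g hg => by rw [← Cz_cj, cj_eq_iff.2 hg]) (fun g hg => cj_eq_iff.1 (nJ g (le_normalizer hg))) b h1
  rwa [inf_eq_right.2 (show normalizer (P : Set G) ≤ normalizer ((JT π P : Subgroup G) : Set G) from
    fun g hg => cj_eq_iff.1 (nJ g hg)), ← top_inf_eq (normalizer (P : Set G))] at h2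

end
end H18.CL
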