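import Cfsg.Agent.H18.CL7
set_option autoImplicit false
set_option linter.unusedSectionVars false
set_option linter.unusedVariables false
/-! The obstruction group for central extensions vanishes. -/
namespace H18.CL
open Subgroup Pointwise List

universe u v

section
variable {G : Type u} [Group G] [Finite G] {H : Type*} [Group H] {π : G →* H}
variable {p : ℕ} [Fact p.Prime] {X : Type u} [Finite X] [MulAction G X] {Y : Set X}

theorem L6F {M : Type*} [AddCommGroup M] [DistribMulAction G M] {K : Subgroup G} (hM : Md p K Y)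
    {D₁ D₀ : AddSubgroup M} (h : Pr p K D₁ D₀) {F : Subgroup G → Prop}
    (hF : ∀ l : List X, l ≠ [] → (∀ x ∈ l, x ∈ Y) → F (Pst K l)) {n : ℕ} (hn : 2 ≤ n) :
    Van K (Rf K Y F) (fun l => Fx D₁ D₀ h.le (Pst K l)) (fun _ => D₀) n :=
  (L6 hM h n).congr (fun g hg l _ => Rf_inv (F := fun _ => True) hM.inv (fun _ _ _ _ => trivial) g hg l)
    (fun l a => ⟨fun b => ⟨b.1, hF l (ne_nil hn a) b.1⟩, fun b => ⟨b.1, trivial⟩⟩) fun _ _ _ => ⟨rfl, rfl⟩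

theorem fam_nCe (K : Subgroup G) : Fam K fun P => IsPGroup p P ∧ ¬ Ce π p P :=
  ⟨fun g hg P a => ⟨cj_pg g a.1, fun b => a.2 ((fam_Ce p K).inv' hg b)⟩,
    fun _ _ _ _ b _ d => ⟨d.1.to_le b, fun e => d.2 (e.up d.1 b)⟩⟩

theorem fam_pA (K : Subgroup G) : Fam K fun P => IsPGroup p P ∧ π.ker ≤ P :=
  ⟨fun g hg P a => ⟨cj_pg g a.1, by rw [← cj_ker g]; exact cj_mono g a.2⟩,
    fun _ _ _ a b c d => ⟨d.1.to_le b, c.2.trans a⟩⟩

theorem Cz_norm {T : Subgroup G} (a : π.ker ≤ T) : Cz π T ≤ normalizer (T : Set G) := fun c hc => by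
  rw [← cj_eq_iff]
  refine eq_of_le_of_card_ge (fun x hx => ?_) (cj_card _ _).ge
  have := T.mul_mem (a (cm_iff.2 (hc _ (mem_cj.1 hx)))) (mem_cj.1 hx)
  simpa [mul_assoc] using this

theorem nCe_ex {P : Subgroup G} (hp : IsPGroup p P) (h : ¬ Ce π p P) :
    ∃ z : G, (∃ k, z ^ p ^ k = 1) ∧ z ∈ Cz π P ∧ z ∉ P := by
  simp only [Ce, hp, true_and, not_forall] at h
  obtain ⟨z, z1, z2, z3⟩ := h
  exact ⟨z, z1, z2, z3⟩

theorem NS_nCe {P : Subgroup G} (hp : IsPGroup p P) (a : π.ker ≤ P) (h : ¬ Ce π p P) :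
    NS p (Cz π P ⊓ (⊤ ⊓ normalizer (P : Set G))) P := by
  obtain ⟨z, z1, z2, z3⟩ := nCe_ex hp h
  exact NS_of hp ⟨z2, trivial, Cz_norm a z2⟩ z3 z1
    (Cz_norm (le_inf a (le_inf (ker_Cz _) (le_inf le_top (a.trans le_normalizer)))) (Cz_anti inf_le_left z2))

theorem Cz_cn {P : Subgroup G} : ∀ g ∈ ⊤ ⊓ normalizer (P : Set G),
    cj g (Cz π P ⊓ (⊤ ⊓ normalizer (P : Set G))) = Cz π P ⊓ (⊤ ⊓ normalizer (P : Set G)) := fun g hg => by
  rw [cj_inf, ← Cz_cj, cj_eq_iff.2 hg.2, cj_self hg]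

theorem Cz_id (P : Subgroup G) : Cz (MonoidHom.id G) P ≤ Cz π P := fun c hc x hx => (hc x hx).map π

theorem cm_id {a b : G} (h : Commute (MonoidHom.id G a) (MonoidHom.id G b)) : a * b * a⁻¹ * b⁻¹ ∈ (⊥ : Subgroup G) := by
  rw [← MonoidHom.ker_id]; exact cm_iff.2 h

theorem VZ (hr : RED.{u, u}) (hb : BT.{u, u}) (hM : Md p (⊤ : Subgroup G) Y) (hk : IsPGroup p π.ker)
    (hz : π.ker ≤ center G) (hY : ∀ a ∈ π.ker, ∀ y ∈ Y, a • y = y) :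
    Van (⊤ : Subgroup G) (Rf ⊤ Y (Ce π p)) (fun l => Kr (Zt π (Pst ⊤ l)) (Zt π (Pst ⊤ l)))
      (fun l => Kr (Zt π (Pst ⊤ l)) (Zt (MonoidHom.id G) (Pst ⊤ l))) 3 := by
  set ι := MonoidHom.id G with hι
  have c1 : ∀ P, Ce π p P → Ce ι p P := fun P a => ⟨a.1, fun z b c => a.2 z b (Cz_id P c)⟩
  have cA : ∀ P, π.ker ≤ Cz ι P := fun P a ha x _ => (mem_center_iff.1 (hz ha) x).symm
  have c2 : ∀ P, Ce ι p P → π.ker ≤ Zt ι P := fun P a => le_inf (fun z b => a.2 z (pel hk b) (cA P b)) (cA P)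
  have c3 : ∀ P, Zt ι P ≤ Zt π P := fun P => inf_le_inf_left _ (Cz_id P)
  have fC := fam_Ce (π := π) p ⊤
  have fC' := fam_Ce (π := ι) p ⊤
  have f0 := fam_pA (π := π) (p := p) ⊤
  have nA : ∀ F, Nt ⊤ F fun _ => π.ker := fun F => Nt.const cj_ker
  have nB : ∀ F, Nt ⊤ F fun _ => (⊥ : Subgroup G) := fun F => Nt.const cj_bot
  have nZ := nt_Zt (π := ι) p ⊤
  have nT := nt_Zt (π := π) p ⊤
  have tZ : ∀ P : Subgroup G, ∀ g ∈ P, ∀ z ∈ Zt ι P, g * z * g⁻¹ * z⁻¹ ∈ (⊥ : Subgroup G) := fun P g hg z hz =>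
    cm_id (hz.2 g hg).symm
  -- the constant system
  have h : Pr p (⊤ : Subgroup G) (Kr π.ker π.ker) (Kr π.ker ⊥) :=
    Kr_pr hk bot_le (fun g _ => (cj_ker g).le) fun g _ => (cj_bot g).le
  have ht : ∀ c ∈ (⊤ : Subgroup G), ∀ m ∈ Kr π.ker π.ker, c • m - m ∈ Kr π.ker ⊥ := fun c _ m hm =>
    Kr_tr (cj_ker c).le le_rfl bot_le (fun z hz' => cm_id (mem_center_iff.1 (hz hz') c)) hm
  have v1 : Van (⊤ : Subgroup G) (Rf ⊤ Y (Ce ι p)) (fun l => Fx _ _ h.le (Pst (⊤ : Subgroup G) l))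
      (fun _ => Kr π.ker ⊥) 5 := by
    refine S2 (h.sys (Rf_rg hM.inv f0)) (spl_fam hM.inv (fun P => ⟨fun a => ?_, fun a => ?_⟩) (fun P a b => b.2.2 a)
      fC'.inv fun P P' a b c => b.up c.1 a) (L6F hM h (fun l a b => ⟨hM.pgl b a, fun g hg =>
        ⟨trivial, fun x hx => hY g hg x (b x hx)⟩⟩) (by omega))
      (LK hM h le_rfl (fun g hg => cj_self hg) ht (f0.and (fam_nCe (π := ι) ⊤)) (fun P a => ?_) 6)
    · by_cases c : Ce ι p P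
      · exact Or.inl c
      · exact Or.inr ⟨a, a.1, c⟩
    · exact a.elim (fun a => ⟨a.1, (c2 P a).trans inf_le_left⟩) fun a => a.1
    · obtain ⟨z, z1, z2, z3⟩ := nCe_ex a.1.1 a.2.2
      exact NS_of a.1.1 trivial z3 z1 (by rw [inf_top_eq]; exact Cz_norm a.1.2 (Cz_id P z2))
  have v2 := Kr_mid hM.inv fC' nZ (nA _) c2 (fun _ _ => bot_le) (fun P _ a ha b hb => cm_id (ha.2 b hb.1))
    (v1.congr (fun g hg l _ => Rf_inv hM.inv fC'.inv g hg l) (fun _ _ => Iff.rfl) fun l _ _ =>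
      ⟨AddSubgroup.ext fun m => ⟨fun a => a.1, fun a => ⟨a, fun g _ => ht g trivial m a⟩⟩, rfl⟩)
  have g4 := GZ (π := ι) hr hb (by omega : 3 ≤ 4) hM (by rw [hι, MonoidHom.ker_id]; exact IsPGroup.of_bot)
  rw [hι, MonoidHom.ker_id, ← hι] at g4
  have v3 := L2 (Kr_sys hM.inv fC' nZ nZ (nB _) (fun _ _ => le_rfl) (fun _ _ => bot_le) fun P _ => tZ P)
    (Kr_sy nZ (nA _)) (fun l _ => Kr_mono le_rfl bot_le) (fun l b => Kr_mono le_rfl (c2 _ b.2)) g4 v2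
  have hS := Kr_sys hM.inv fC' nZ nZ (nA _) (fun _ _ => le_rfl) c2 fun P _ g hg z hz => bot_le (α := Subgroup G)
    (tZ P g hg z hz)
  have fL := fC'.and (fam_nCe (π := π) (p := p) ⊤)
  have v4 : Van (⊤ : Subgroup G) (Rf ⊤ Y (Ce π p)) (fun l => Kr (Zt ι (Pst ⊤ l)) (Zt ι (Pst ⊤ l)))
      (fun l => Kr (Zt ι (Pst ⊤ l)) π.ker) 4 := by
    refine S2 hS (spl_fam hM.inv (fun P => ⟨fun a => ?_, fun a => ?_⟩) (fun P a b => b.2.2 a)
      fC.inv fun P P' a b c => b.up c.1 a) v3 (LA hM fL (Ψ₁ := fun P => Kr (Zt ι P) (Zt ι P))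
        (Ψ₀ := fun P => Kr (Zt ι P) π.ker) (hS.fam hM.inv fL fun P a => a.1) (by omega) fun P a _ b => ?_)
    · by_cases c : Ce π p P
      · exact Or.inl c
      · exact Or.inr ⟨a, a.1, c⟩
    · exact a.elim (c1 P) fun a => a.1
    have cz : ∀ g ∈ ⊤ ⊓ normalizer (P : Set G), cj g (Zt ι P) = Zt ι P := fun g hg => by
      rw [← Zt_cj, cj_eq_iff.2 hg.2]
    exact ⟨Kr_pr (b.to_le inf_le_left) (c2 P a.1) (fun g hg => (cz g hg).le) fun g _ => (cj_ker g).le,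
      fun g hg m hm => Kr_tr (cz g ⟨trivial, le_normalizer hg⟩).le le_rfl (c2 P a.1)
        (fun z hz => bot_le (α := Subgroup G) (tZ P g hg z hz)) hm, _, inf_le_right, Cz_cn, fun c hc m hm =>
      Kr_tr (cz c hc.2).le le_rfl (c2 P a.1) (fun z hz => cm_iff.2 (hc.1 z hz.1)) hm,
      NS_nCe b ((c2 P a.1).trans inf_le_left) a.2.2⟩
  have v5 := Kr_mid hM.inv fC nT (nZ.sub c1) (fun P _ => c3 P) (fun P a => c2 P (c1 P a))
    (fun P _ a ha b hb => cm_iff.2 (ha.2 b hb.1)) v4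
  exact L2 (Kr_sys hM.inv fC nT nT (nA _) (fun _ _ => le_rfl) (fun P a => a.ker hk)
    fun P _ g hg z hz => cm_iff.2 (hz.2 g hg).symm) (Kr_sy nT (nZ.sub c1))
    (fun l b => Kr_mono le_rfl (c2 _ (c1 _ b.2))) (fun l b => Kr_mono le_rfl (c3 _)) (GZ hr hb le_rfl hM hk) v5

variable {B : Type u} [AddCommGroup B]

def cst (b : B) : Fn G B := fun _ => b

variable (G B) in
def Cs : AddSubgroup (Fn G B) where
  carrier := {u | ∃ b, u = cst b}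
  zero_mem' := ⟨0, rfl⟩
  add_mem' := by rintro _ _ ⟨a, rfl⟩ ⟨b, rfl⟩; exact ⟨a + b, rfl⟩
  neg_mem' := by rintro _ ⟨a, rfl⟩; exact ⟨-a, rfl⟩

theorem smul_cst (g : G) (b : B) : g • (cst b : Fn G B) = cst b := rfl
theorem cst_add (a b : B) : (cst (a + b) : Fn G B) = cst a + cst b := rfl
theorem cst_neg (a : B) : (cst (-a) : Fn G B) = -cst a := rfl
theorem cst_zero : (cst (0 : B) : Fn G B) = 0 := rfl
theorem cst_inj {a b : B} (h : (cst a : Fn G B) = cst b) : a = b := congrFun h 1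

/-- `u` represents the homomorphism `χ` on `P` -/
def Rp (π : G →* H) (P : Subgroup G) (u : Fn G B) (χ : G → B) : Prop :=
  u ∈ fx (Fn G B) π.ker ∧ ∀ g ∈ P, g • u - u = cst (χ g)

theorem Rp.add {P : Subgroup G} {u u' : Fn G B} {χ χ' : G → B} (h : Rp π P u χ) (h' : Rp π P u' χ') :
    Rp π P (u + u') fun g => χ g + χ' g :=
  ⟨AddSubgroup.add_mem _ h.1 h'.1, fun g hg => by rw [cst_add, ← h.2 g hg, ← h'.2 g hg, smul_add]; abel⟩

theorem Rp.neg {P : Subgroup G} {u : Fn G B} {χ : G → B} (h : Rp π P u χ) : Rp π P (-u) fun g => -χ g :=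
  ⟨AddSubgroup.neg_mem _ h.1, fun g hg => by rw [cst_neg, ← h.2 g hg, smul_neg]; abel⟩

theorem Rp.cg {P : Subgroup G} {u : Fn G B} {χ χ' : G → B} (h : Rp π P u χ) (e : ∀ g ∈ P, χ g = χ' g) :
    Rp π P u χ' := ⟨h.1, fun g hg => by rw [← e g hg]; exact h.2 g hg⟩

theorem Rp.res {P Q : Subgroup G} {u : Fn G B} {χ : G → B} (h : Rp π P u χ) (e : Q ≤ P) : Rp π Q u χ :=
  ⟨h.1, fun g hg => h.2 g (e hg)⟩

theorem fxA (g : G) {u : Fn G B} (h : u ∈ fx (Fn G B) π.ker) : g • u ∈ fx (Fn G B) π.ker := fun a ha => by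
  have := h (g⁻¹ * a * g) (by rw [← mem_cj, cj_ker]; exact ha)
  rwa [mul_smul, mul_smul, inv_smul_eq_iff] at this

theorem Rp.act {P : Subgroup G} {u : Fn G B} {χ : G → B} (h : Rp π P u χ) (g : G) :
    Rp π (cj g P) (g • u) fun x => χ (g⁻¹ * x * g) := ⟨fxA g h.1, fun x hx => by
  have := congrArg (g • ·) (h.2 _ (mem_cj.1 hx))
  simp only [smul_cst, smul_sub, mul_smul, smul_inv_smul] at this
  exact this⟩

theorem exRp {P : Subgroup G} (hP : π.ker ≤ P) (χ : G → B) (h1 : ∀ a ∈ P, ∀ b ∈ P, χ (a * b) = χ a + χ b)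
    (h2 : ∀ a ∈ π.ker, χ a = 0) : ∃ u, Rp π P u χ := by
  let r : G → G := fun t => (Quotient.mk (QuotientGroup.rightRel P) t).out
  have r1 : ∀ t, t * (r t)⁻¹ ∈ P := fun t => QuotientGroup.rightRel_apply.1 (Quotient.mk_out t)
  have r2 : ∀ g ∈ P, ∀ t, r (g⁻¹ * t) = r t := fun g hg t => congrArg Quotient.out
    (Quotient.sound (QuotientGroup.rightRel_apply.2 (by simpa using hg)))
  let u : Fn G B := fun t => -χ (t * (r t)⁻¹)
  have key : ∀ g ∈ P, g • u - u = cst (χ g) :=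
    fun g hg => funext fun t => by
      rw [fn_sub, fn_smul]
      simp only [u]
      rw [r2 g hg]
      have := h1 g hg _ (P.mul_mem (P.inv_mem hg) (r1 t))
      rw [mul_inv_cancel_left] at this
      rw [this, mul_assoc]; show _ = χ g; abel
  exact ⟨_, fun a ha => by have := key a (hP ha); rwa [h2 a ha, cst_zero, sub_eq_zero] at this, key⟩

theorem cmul (hz : π.ker ≤ center G) {z w g : G} (h : Commute (π w) (π g)) :
    z * w * g * (z * w)⁻¹ * g⁻¹ = z * g * z⁻¹ * g⁻¹ * (w * g * w⁻¹ * g⁻¹) := by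
  have := mem_center_iff.1 (hz (cm_iff.2 h))
  calc _ = z * (w * g * w⁻¹ * g⁻¹) * (g * z⁻¹ * g⁻¹) := by group
    _ = _ := by rw [mul_assoc z, ← this]; group

theorem cmul' (hz : π.ker ≤ center G) {z g w : G} (h : Commute (π z) (π w)) :
    z * (g * w) * z⁻¹ * (g * w)⁻¹ = z * g * z⁻¹ * g⁻¹ * (z * w * z⁻¹ * w⁻¹) := by
  have := mem_center_iff.1 (hz (cm_iff.2 h))
  calc _ = z * g * z⁻¹ * (z * w * z⁻¹ * w⁻¹) * g⁻¹ := by group
    _ = _ := by rw [mul_assoc _ _ g⁻¹, ← this]; group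

variable (π) in
/-- the representatives of inner homomorphisms -/
def PK (ev : G → B) (hz : π.ker ≤ center G) (e1 : ∀ a ∈ π.ker, ∀ b ∈ π.ker, ev (a * b) = ev a + ev b)
    (P : Subgroup G) : AddSubgroup (Fn G B) where
  carrier := {u | ∃ z ∈ Zt π P, Rp π P u fun g => ev (z * g * z⁻¹ * g⁻¹)}
  zero_mem' := ⟨1, one_mem _, AddSubgroup.zero_mem _, fun g _ => by
    have := e1 1 (one_mem _) 1 (one_mem _)
    rw [one_mul, left_eq_add] at this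
    simp [this, cst_zero]⟩
  add_mem' := fun ⟨z, hz', a⟩ ⟨w, hw, b⟩ => ⟨z * w, mul_mem hz' hw, (a.add b).cg fun g hg => by
    rw [cmul hz (hw.2 g hg), e1 _ (cm_iff.2 (hz'.2 g hg)) _ (cm_iff.2 (hw.2 g hg))]⟩
  neg_mem' := fun ⟨z, hz', a⟩ => ⟨z⁻¹, inv_mem hz', a.neg.cg fun g hg => by
    have h0 := e1 1 (one_mem _) 1 (one_mem _)
    rw [one_mul, left_eq_add] at h0
    rw [neg_eq_iff_add_eq_zero, ← e1 _ (cm_iff.2 (hz'.2 g hg)) _ (cm_iff.2 ((inv_mem hz').2 g hg)),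
      ← cmul hz ((inv_mem hz').2 g hg)]
    simp [h0]⟩

theorem prC {K : Subgroup G} (ht : ∃ e, ∀ b : B, p ^ e • b = 0) :
    Pr p K (fx (Fn G B) π.ker) (Cs G B) ∧ Pr p K (fx (Fn G B) π.ker) ⊥ ∧ Pr p K (Cs G B) ⊥ := by
  obtain ⟨e, he⟩ := ht
  have t : ∀ u : Fn G B, p ^ e • u = 0 := fun u => funext fun t => he _
  have i : ∀ g ∈ K, ∀ m ∈ Cs G B, g • m ∈ Cs G B := by rintro g _ _ ⟨b, rfl⟩; exact ⟨b, rfl⟩
  have i0 : ∀ g ∈ K, ∀ m ∈ (⊥ : AddSubgroup (Fn G B)), g • m ∈ (⊥ : AddSubgroup (Fn G B)) := fun g _ m a => by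
    rw [AddSubgroup.mem_bot.1 a, smul_zero]; exact AddSubgroup.zero_mem _
  exact ⟨⟨by rintro _ ⟨b, rfl⟩ g _; rfl, fun g _ m => fxA g, i, e, fun m _ => t m ▸ AddSubgroup.zero_mem _⟩,
    ⟨fun m a => bot_le (α := AddSubgroup _) a, fun g _ m => fxA g, i0, e, fun m _ => t m ▸ AddSubgroup.zero_mem _⟩,
    ⟨fun m a => bot_le (α := AddSubgroup _) a, i, i0, e, fun m _ => t m ▸ AddSubgroup.zero_mem _⟩⟩

theorem PK_sy {ev : G → B} (hz : π.ker ≤ center G) (e1 : ∀ a ∈ π.ker, ∀ b ∈ π.ker, ev (a * b) = ev a + ev b) :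
    Sy (⊤ : Subgroup G) (Rf ⊤ Y (Ce π p)) fun l => PK π ev hz e1 (Pst ⊤ l) :=
  ⟨fun l' l a b c u ⟨z, h1, h2⟩ => ⟨z, (nt_Zt p ⊤).anti _ _ (Pst_anti a) c.2 b.2 h1, h2.res (Pst_anti a)⟩,
    fun g hg l b u ⟨z, h1, h2⟩ => by
      rw [Pst_mp hg]
      refine ⟨g * z * g⁻¹, by rw [Zt_cj]; exact mem_cj' h1, (h2.act g).cg fun x hx => ?_⟩
      have := mem_center_iff.1 (hz (cm_iff.2 (h1.2 _ (mem_cj.1 hx)))) g
      congr 1
      rw [← mul_left_inj g, ← this]; group⟩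

theorem VK (hr : RED.{u, u}) (hb : BT.{u, u}) (hM : Md p (⊤ : Subgroup G) Y) (hk : IsPGroup p π.ker)
    (hz : π.ker ≤ center G) (hY : ∀ a ∈ π.ker, ∀ y ∈ Y, a • y = y) {ev : G → B}
    (e1 : ∀ a ∈ π.ker, ∀ b ∈ π.ker, ev (a * b) = ev a + ev b) (e2 : ∀ a ∈ π.ker, ev a = 0 ↔ a ∈ (⊥ : Subgroup G))
    (ht : ∃ e, ∀ b : B, p ^ e • b = 0) :
    Van (⊤ : Subgroup G) (Rf ⊤ Y (Ce π p)) 
      (fun l => Fx _ _ (prC (π := π) (K := ⊤) ht).1.le (Pst (⊤ : Subgroup G) l))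
      (fun l => PK π ev hz e1 (Pst ⊤ l)) 2 := by
  obtain ⟨h1, h2, h3⟩ := prC (π := π) (K := (⊤ : Subgroup G)) ht
  have fC := fam_Ce (π := π) p ⊤
  have f0 := fam_pA (π := π) (p := p) ⊤
  have a0 : ∀ l : List X, l ≠ [] → (∀ x ∈ l, x ∈ Y) → IsPGroup p (Pst (⊤ : Subgroup G) l) ∧ π.ker ≤ Pst ⊤ l :=
    fun l a b => ⟨hM.pgl b a, fun g hg => ⟨trivial, fun x hx => hY g hg x (b x hx)⟩⟩
  have cH : ∀ P : Subgroup G, Cs G B ≤ Fx _ _ h2.le P := by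
    rintro P _ ⟨b, rfl⟩; exact ⟨h1.le _ ⟨b, rfl⟩, fun g _ => by rw [smul_cst, sub_self]; rfl⟩
  have HP : ∀ P : Subgroup G, Fx _ _ h2.le P ≤ Fx _ _ h1.le P := fun P u a =>
    ⟨a.1, fun g hg => bot_le (α := AddSubgroup _) (a.2 g hg)⟩
  have sys : ∀ F, Fam ⊤ F → Sys (⊤ : Subgroup G) (Rf ⊤ Y F) (fun l => Fx _ _ h1.le (Pst (⊤ : Subgroup G) l))
      fun l => Fx _ _ h2.le (Pst (⊤ : Subgroup G) l) := fun F hF =>
    ⟨Rf_rg hM.inv hF, (h1.sys (Rf_rg hM.inv hF)).s1, (h2.sys (Rf_rg hM.inv hF)).s1, fun l _ => HP _,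
      fun g hg l _ e m hm => cH _ (hm.2 g (mem_Pst_mp.2 ⟨hg, e⟩))⟩
  have R0 := Rf_rg hM.inv f0
  have v1 := L2 (h2.sys R0) (h1.sys R0).s0 (fun _ _ => bot_le) (fun _ _ => cH _) (L6F hM h2 a0 (by omega : 2 ≤ 3))
    ((L6F hM h3 a0 (by omega)).congr (fun g hg l _ => R0.inv g hg l) (fun _ _ => Iff.rfl) fun l _ _ =>
      ⟨AddSubgroup.ext fun m => ⟨fun a => a.1, by
        rintro ⟨b, rfl⟩; exact ⟨⟨b, rfl⟩, fun g _ => by rw [smul_cst, sub_self]; rfl⟩⟩, rfl⟩)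
  have v2 := L2 (h1.sys R0) (h2.sys R0).s1 (fun _ _ => cH _) (fun _ _ => HP _) (L6F hM h1 a0 le_rfl) v1
  have fL := f0.and (fam_nCe (π := π) (p := p) ⊤)
  have v3 : Van (⊤ : Subgroup G) (Rf ⊤ Y (Ce π p)) (fun l => Fx _ _ h1.le (Pst (⊤ : Subgroup G) l))
      (fun l => Fx _ _ h2.le (Pst (⊤ : Subgroup G) l)) 2 := by
    refine S2 (sys _ f0) (spl_fam hM.inv (fun P => ⟨fun a => ?_, fun a => ?_⟩) (fun P a b => b.2.2 a)
      fC.inv fun P P' a b c => b.up c.1 a) v2 (LA hM fL (Ψ₁ := Fx _ _ h1.le) (Ψ₀ := Fx _ _ h2.le) (sys _ fL)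
        (by omega) fun P a _ b => ⟨⟨HP P, fun g hg u hu => ?_, fun g hg u hu => ?_, ?_⟩,
          fun g hg u hu => cH _ (hu.2 g hg), _, inf_le_right, Cz_cn, fun c hc u hu => ?_, NS_nCe b a.1.2 a.2.2⟩)
    · by_cases c : Ce π p P
      · exact Or.inl c
      · exact Or.inr ⟨a, a.1, c⟩
    · exact a.elim (fun a => ⟨a.1, (a.ker hk).trans inf_le_left⟩) fun a => a.1
    · refine ⟨fxA g hu.1, fun x hx => ?_⟩
      have := h1.i0 g trivial _ (hu.2 _ ((mem_normalizer_iff''.1 hg.2 x).1 hx))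
      rwa [smul_sub, mul_smul, mul_smul, smul_inv_smul] at this
    · refine ⟨fxA g hu.1, fun x hx => ?_⟩
      have := h2.i0 g trivial _ (hu.2 _ ((mem_normalizer_iff''.1 hg.2 x).1 hx))
      rwa [smul_sub, mul_smul, mul_smul, smul_inv_smul] at this
    · exact h2.tor.imp fun e he u hu => bot_le (α := AddSubgroup _) (he u hu.1)
    · refine ⟨AddSubgroup.sub_mem _ (fxA c hu.1) hu.1, fun x hx => ?_⟩
      obtain ⟨b, hb⟩ := hu.2 x hx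
      have e1 := hu.1 _ ((cm_iff (a := x⁻¹) (b := c⁻¹)).2 (by
        rw [map_inv, map_inv]; exact (hc.1 x hx).inv_inv.symm))
      have e2 : x • c • u = c • x • u := by
        conv_rhs => rw [← e1]
        simp only [← mul_smul]; congr 1; group
      rw [smul_sub, e2, sub_sub_sub_comm, ← smul_sub, hb, smul_cst, sub_self]; rfl
  have sK := PK_sy (Y := Y) (p := p) hz e1
  have ev1 : ev 1 = 0 := (e2 1 (one_mem _)).2 (one_mem _)
  refine L2 (sys _ fC) sK (fun l b u hu => ⟨1, one_mem _, hu.1, fun g hg => ?_⟩)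
    (fun l b u ⟨z, _, hu⟩ => ⟨hu.1, fun g hg => ⟨_, hu.2 g hg⟩⟩) v3 ?_
  · rw [AddSubgroup.mem_bot.1 (hu.2 g hg)]; simp [ev1, cst_zero]
  refine (rhoK (Ψ₁ := fun l => PK π ev hz e1 (Pst ⊤ l)) (Ψ₀ := fun l => Fx _ _ h2.le (Pst (⊤ : Subgroup G) l))
    (B := fun l => Zt π (Pst ⊤ l)) (B₁ := fun l => Zt π (Pst ⊤ l)) (B₀ := fun l => Zt (MonoidHom.id G) (Pst ⊤ l))
    (Rf_rg hM.inv fC) (fun l' l a b c => (nt_Zt p ⊤).anti _ _ (Pst_anti a) c.2 b.2)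
    (fun g hg l b => by rw [Pst_mp hg, Zt_cj]) (fun l b => le_rfl) (fun l b => inf_le_inf_left _ (Cz_id _))
    (fun l b x hx y hy => ?_)
    (fun l z u => z ∈ Zt π (Pst ⊤ l) ∧ Rp π (Pst ⊤ l) u fun g => ev (z * g * z⁻¹ * g⁻¹))
    (fun l => ⟨one_mem _, AddSubgroup.zero_mem _, fun g _ => by simp [ev1, cst_zero]⟩)
    (fun l z w m m' a b => ⟨mul_mem a.1 b.1, (a.2.add b.2).cg fun g hg => by
      rw [cmul hz (b.1.2 g hg), e1 _ (cm_iff.2 (a.1.2 g hg)) _ (cm_iff.2 (b.1.2 g hg))]⟩)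
    (fun l z m a => ⟨inv_mem a.1, a.2.neg.cg fun g hg => by
      rw [neg_eq_iff_add_eq_zero, ← e1 _ (cm_iff.2 (a.1.2 g hg)) _ (cm_iff.2 ((inv_mem a.1).2 g hg)),
        ← cmul hz ((inv_mem a.1).2 g hg)]
      simp [ev1]⟩)
    (fun l b z m a => ⟨a.1, ⟨z, a⟩, fun c => ⟨a.2.1, fun g hg => ?_⟩, fun c => ⟨a.1.1, fun g hg => ?_⟩⟩)
    (fun l b z hz' => ?_) (fun l b m hm => hm)
    (fun l' l a b c z m d => ⟨(nt_Zt p ⊤).anti _ _ (Pst_anti a) c.2 b.2 d.1, d.2.res (Pst_anti a)⟩)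
    (fun g hg l b z m d => ?_)).2 (VZ hr hb hM hk hz hY)
  · have := cm_iff.2 (hx.2 y hy.1)
    exact ⟨(b.2.ker hk this).1, fun x _ => (mem_center_iff.1 (hz this) x).symm⟩
  · rw [a.2.2 g hg]; beta_reduce; rw [mem_bot.1 (cm_id (c.2 g hg)), ev1]; rfl
  · have := c.2 g hg
    rw [a.2.2 g hg, AddSubgroup.mem_bot, ← cst_zero] at this
    rw [← cm_iff, MonoidHom.ker_id]
    exact (e2 _ (cm_iff.2 (a.1.2 g hg))).1 (cst_inj this)
  · obtain ⟨u, hu⟩ := exRp ((b.2.ker hk).trans inf_le_left) (fun g => ev (z * g * z⁻¹ * g⁻¹)) (fun x hx y hy => by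
      rw [cmul' hz (hz'.2 y hy), e1 _ (cm_iff.2 (hz'.2 x hx)) _ (cm_iff.2 (hz'.2 y hy))]) fun a ha => by
      rw [mem_center_iff.1 (hz ha) z]; simp [ev1]
    exact ⟨u, hz', hu⟩
  · rw [Pst_mp hg]
    refine ⟨by rw [Zt_cj]; exact mem_cj' d.1, (d.2.act g).cg fun x hx => ?_⟩
    have := mem_center_iff.1 (hz (cm_iff.2 (d.1.2 _ (mem_cj.1 hx)))) g
    congr 1
    rw [← mul_left_inj g, ← this]; group

end
end H18.CL
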