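import Cfsg.Agent.H18.CL8
set_option autoImplicit false
set_option linter.unusedSectionVars false
set_option linter.unusedVariables false
/-! The cohomological step of S5242. -/
namespace H18.CL
open Subgroup Pointwise List

universe u v

section
variable {G : Type u} [Group G] [Finite G] {H : Type*} [Group H] {π : G →* H} {p : ℕ} [Fact p.Prime]
variable {S : Subgroup G} {Fm : Subgroup G → (G → G) → Prop}

/-- `w` is the deviation from conjugation of a morphism from `a⁻¹ P a` to `b⁻¹ P b` -/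
def Wd (π : G →* H) (Fm : Subgroup G → (G → G) → Prop) (a b : G) (P : Subgroup G) (w : G → G) : Prop :=
  ∃ φ, Fm (cj a⁻¹ P) φ ∧ ∀ u ∈ P, w u ∈ π.ker ∧ φ (a⁻¹ * u * a) = w u * (b⁻¹ * u * b)

theorem mem_cji {a u : G} {P : Subgroup G} (h : u ∈ P) : a⁻¹ * u * a ∈ cj a⁻¹ P := by
  simpa using mem_cj' (g := a⁻¹) h

theorem ex_cji {a x : G} {P : Subgroup G} (h : x ∈ cj a⁻¹ P) : ∃ u ∈ P, x = a⁻¹ * u * a :=
  ⟨_, mem_cj.1 h, by group⟩

variable (hz : π.ker ≤ center G) (hF : Fz S π.ker Fm) {a b c : G} {P : Subgroup G} {w w' : G → G}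
include hz

theorem cc {k : G} (hk : k ∈ π.ker) (g : G) : g⁻¹ * k * g = k := by
  rw [mem_center_iff.1 (hz hk) g⁻¹, inv_mul_cancel_right]

include hF

theorem Wd.ex (hA : π.ker ≤ P) (h1 : cj a⁻¹ P ≤ S) (h2 : cj b⁻¹ P ≤ S) : ∃ w, Wd π Fm a b P w := by
  obtain ⟨φ, f1, f2⟩ := hF.lift (b⁻¹ * a) (cj a⁻¹ P) (by rw [← cj_ker a⁻¹]; exact cj_mono _ hA) h1 fun x hx => by
    obtain ⟨u, hu, rfl⟩ := ex_cji hx
    convert h2 (mem_cji (a := b) hu) using 1; group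
  refine ⟨fun u => φ (a⁻¹ * u * a) * (b⁻¹ * u * b)⁻¹, φ, f1, fun u hu => ⟨?_, by group⟩⟩
  convert f2 _ (mem_cji hu) using 2; group

theorem Wd.hom (h : Wd π Fm a b P w) : (∀ u ∈ P, ∀ v ∈ P, w (u * v) = w u * w v) ∧ ∀ k ∈ π.ker, k ∈ P → w k = 1 := by
  obtain ⟨φ, f1, f2⟩ := h
  refine ⟨fun u hu v hv => ?_, fun k hk hk' => ?_⟩
  · have := hF.mul _ _ f1 _ (mem_cji (a := a) hu) _ (mem_cji (a := a) hv)
    rw [show a⁻¹ * u * a * (a⁻¹ * v * a) = a⁻¹ * (u * v) * a by group, (f2 _ (P.mul_mem hu hv)).2, (f2 u hu).2,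
      (f2 v hv).2, mul_assoc (w u), ← mul_assoc _ (w v), mem_center_iff.1 (hz (f2 v hv).1)] at this
    rw [← mul_left_inj (b⁻¹ * (u * v) * b), this]; group
  · have := (f2 k hk').2
    rw [cc hz hk, cc hz hk, hF.fixA _ _ f1 k hk (by rw [← cc hz hk a]; exact mem_cji hk')] at this
    exact right_eq_mul.1 this

theorem Wd.comp (hA : π.ker ≤ P) (h : Wd π Fm a b P w) (h' : Wd π Fm b c P w') :
    Wd π Fm a c P fun u => w u * w' u := by
  obtain ⟨φ, f1, f2⟩ := h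
  obtain ⟨ψ, g1, g2⟩ := h'
  have k : ∀ u ∈ P, w u ∈ cj b⁻¹ P := fun u hu => by rw [← cc hz (f2 u hu).1 b]; exact mem_cji (hA (f2 u hu).1)
  refine ⟨_, hF.comp _ _ _ _ f1 g1 fun x hx => ?_, fun u hu => ⟨mul_mem (f2 u hu).1 (g2 u hu).1, ?_⟩⟩
  · obtain ⟨u, hu, rfl⟩ := ex_cji hx
    rw [(f2 u hu).2]; exact mul_mem (k u hu) (mem_cji hu)
  · rw [(f2 u hu).2, hF.mul _ _ g1 _ (k u hu) _ (mem_cji hu), hF.fixA _ _ g1 _ (f2 u hu).1 (k u hu), (g2 u hu).2,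
      ← mul_assoc (w u)]

theorem Wd.inn (h1 : cj a⁻¹ P ≤ S) (hs : a⁻¹ * b ∈ S) : Wd π Fm a b P fun _ => 1 :=
  ⟨_, hF.cj _ (S.inv_mem hs) _ h1, fun u _ => ⟨one_mem _, by group⟩⟩

theorem Wd.act (h : Wd π Fm a b P w) (g : G) : Wd π Fm (g * a) (g * b) (cj g P) fun u => w (g⁻¹ * u * g) := by
  obtain ⟨φ, f1, f2⟩ := h
  refine ⟨φ, by rwa [cj_cj, mul_inv_rev, inv_mul_cancel_right], fun u hu => ⟨(f2 _ (mem_cj.1 hu)).1, ?_⟩⟩
  convert (f2 _ (mem_cj.1 hu)).2 using 2 <;> group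

theorem Wd.res (h : Wd π Fm a b P w) {Q : Subgroup G} (hQ : Q ≤ P) : Wd π Fm a b Q w := by
  obtain ⟨φ, f1, f2⟩ := h
  exact ⟨φ, hF.res _ _ _ f1 (cj_mono _ hQ), fun u hu => f2 u (hQ hu)⟩

theorem Wd.cg (h : Wd π Fm a b P w) (e : ∀ u ∈ P, w u = w' u) : Wd π Fm a b P w' := by
  obtain ⟨φ, f1, f2⟩ := h
  exact ⟨φ, f1, fun u hu => e u hu ▸ f2 u hu⟩

theorem Wd.mem (h : Wd π Fm a b P w) : ∀ u ∈ P, w u ∈ π.ker := fun u hu => (h.choose_spec.2 u hu).1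
theorem Wd.le (h : Wd π Fm a b P w) : cj a⁻¹ P ≤ S := hF.le _ _ h.choose_spec.1

theorem Wd.inv (hA : π.ker ≤ P) (h : Wd π Fm a b P w) : Wd π Fm b a P fun u => (w u)⁻¹ := by
  obtain ⟨m1, m2⟩ := h.hom hz hF
  obtain ⟨φ, f1, f2⟩ := h
  have k : ∀ u ∈ P, φ (a⁻¹ * ((w u)⁻¹ * u) * a) = b⁻¹ * u * b := fun u hu => by
    have h1 := inv_mem (f2 u hu).1
    rw [(f2 _ (mul_mem (hA h1) hu)).2, m1 _ (hA h1) _ hu, m2 _ h1 (hA h1),
      show b⁻¹ * ((w u)⁻¹ * u) * b = b⁻¹ * (w u)⁻¹ * b * (b⁻¹ * u * b) by group, cc hz h1]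
    group
  obtain ⟨ψ, g1, g2⟩ := hF.inv _ (cj b⁻¹ P) φ f1 fun y => ⟨fun hy => by
    obtain ⟨u, hu, rfl⟩ := ex_cji hy
    exact ⟨_, mem_cji (mul_mem (hA (inv_mem (f2 u hu).1)) hu), k u hu⟩, by
    rintro ⟨x, hx, rfl⟩
    obtain ⟨u, hu, rfl⟩ := ex_cji hx
    rw [(f2 u hu).2, ← cc hz (f2 u hu).1 b]; exact mul_mem (mem_cji (hA (f2 u hu).1)) (mem_cji hu)⟩
  refine ⟨ψ, g1, fun u hu => ⟨inv_mem (f2 u hu).1, ?_⟩⟩
  rw [← k u hu, g2 _ (mem_cji (mul_mem (hA (inv_mem (f2 u hu).1)) hu))]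
  beta_reduce
  conv_rhs => rw [← cc hz (inv_mem (f2 u hu).1) a]
  group

theorem Wd.key (hk : IsPGroup p π.ker) (hS : IsPGroup p S) (hP : Ce π p P) (h : Wd π Fm a a P w) :
    ∃ z ∈ Zt π P, ∀ u ∈ P, w u = z * u * z⁻¹ * u⁻¹ := by
  have hA : π.ker ≤ P := (hP.ker hk).trans inf_le_left
  have hA' : ∀ a, π.ker ≤ cj a P := fun a => by rw [← cj_ker a]; exact cj_mono _ hA
  obtain ⟨φ, Q, f1, f2, f3⟩ := hF.sat _ (hA' a⁻¹) (h.le hz hF)
  obtain ⟨g, hg⟩ := hF.bar _ _ f1 (hA' _)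
  have h0 : Wd π Fm a (a * g⁻¹) P fun u => φ (a⁻¹ * u * a) * (g * (a⁻¹ * u * a) * g⁻¹)⁻¹ :=
    ⟨φ, f1, fun u hu => ⟨hg _ (mem_cji hu), by group⟩⟩
  set b := a * g⁻¹
  have eQ : Q = cj b⁻¹ P := by
    obtain ⟨m1, m2⟩ := h0.hom hz hF
    refine le_antisymm (fun y hy => ?_) fun y hy => ?_
    · obtain ⟨x, hx, rfl⟩ := (f2 y).1 hy
      obtain ⟨u, hu, rfl⟩ := ex_cji hx
      have := mul_mem (hA' b⁻¹ (hg _ hx)) (mem_cji (a := b) hu)
      convert this using 1; simp only [b]; group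
    · obtain ⟨u, hu, rfl⟩ := ex_cji hy
      have h1 := inv_mem (hg _ (mem_cji (a := a) hu))
      refine (f2 _).2 ⟨_, mem_cji (mul_mem (hA h1) hu), ?_⟩
      have e := m1 _ (hA h1) _ hu
      rw [m2 _ h1 (hA h1), one_mul, mul_inv_eq_iff_eq_mul] at e
      rw [e]
      generalize φ (a⁻¹ * u * a) * (g * (a⁻¹ * u * a) * g⁻¹)⁻¹ = k at h1 ⊢
      rw [show g * (a⁻¹ * (k⁻¹ * u) * a) * g⁻¹ = b⁻¹ * k⁻¹ * b * (b⁻¹ * u * b) by simp only [b]; group, cc hz h1]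
      group
  obtain ⟨α, a1, a2⟩ := ((h0.inv hz hF hA).comp hz hF hA h).comp hz hF hA h0
  have a3 : ∀ u ∈ P, α (b⁻¹ * u * b) = w u * (b⁻¹ * u * b) := fun u hu => by
    rw [(a2 u hu).2]; beta_reduce; rw [mem_center_iff.1 (hz (h.mem hz hF u hu))]; group
  obtain ⟨s, hs, e⟩ := f3 α (eQ ▸ a1) fun x hx => by
    obtain ⟨u, hu, rfl⟩ := ex_cji (eQ ▸ hx)
    rw [a3 u hu, mul_inv_cancel_right]; exact h.mem hz hF u hu
  have e' : ∀ u ∈ P, w u = b * s * b⁻¹ * u * (b * s * b⁻¹)⁻¹ * u⁻¹ := fun u hu => by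
    have := e _ (eQ ▸ mem_cji hu)
    rw [a3 u hu, ← cc hz (h.mem hz hF u hu) b] at this
    calc w u = b * (b⁻¹ * w u * b * (b⁻¹ * u * b)) * b⁻¹ * u⁻¹ := by group
      _ = _ := by rw [this]; group
  have c : b * s * b⁻¹ ∈ Cz π P := fun u hu => cm_iff.1 (e' u hu ▸ h.mem hz hF u hu)
  exact ⟨_, ⟨hP.2 _ ((pel hS hs).imp fun k e => by rw [conj_pow, e]; simp) c, c⟩, e'⟩

theorem Wd.zin (h1 : cj a⁻¹ P ≤ S) {z : G} (h : z ∈ Zt π P) : Wd π Fm a a P fun u => z * u * z⁻¹ * u⁻¹ :=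
  ⟨_, hF.cj _ (h1 (mem_cji h.1)) _ h1, fun u hu => ⟨cm_iff.2 (h.2 u hu), by
    beta_reduce; rw [← cc hz (cm_iff.2 (h.2 u hu)) a]; group⟩⟩

variable {B : Type u} [AddCommGroup B] {ev : G → B}

theorem KK (hk : IsPGroup p π.ker) (hS : IsPGroup p S) (e1 : ∀ a ∈ π.ker, ∀ b ∈ π.ker, ev (a * b) = ev a + ev b)
    (hP : Ce π p P) (h : Wd π Fm a b P w) (h' : Wd π Fm a b P w') {u u' : Fn G B}
    (r : Rp π P u fun g => ev (w g)) (r' : Rp π P u' fun g => ev (w' g)) : u - u' ∈ PK π ev hz e1 P := by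
  have hA : π.ker ≤ P := (hP.ker hk).trans inf_le_left
  obtain ⟨z, h1, h2⟩ := (h.comp hz hF hA (h'.inv hz hF hA)).key hz hF hk hS hP
  refine ⟨z, h1, ?_⟩
  rw [sub_eq_add_neg]
  refine (r.add r'.neg).cg fun g hg => ?_
  rw [← h2 g hg, ← sub_eq_add_neg, sub_eq_iff_eq_add, ← e1 _ (mul_mem (h.mem hz hF g hg) (inv_mem (h'.mem hz hF g hg)))
    _ (h'.mem hz hF g hg), inv_mul_cancel_right]
end

theorem coh (hr : RED.{u, u}) (hb : BT.{u, u}) : COH.{u} := by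
  intro p _ G _ _ S A Fm hAS hz hF
  have : A.Normal := ⟨fun a ha g => by rw [mem_center_iff.1 (hz ha) g]; simpa using ha⟩
  obtain ⟨H, _, π, rfl⟩ : ∃ (H : Type u) (_ : Group H) (π : G →* H), π.ker = A :=
    ⟨_, _, QuotientGroup.mk' A, QuotientGroup.ker_mk' A⟩
  have hS : IsPGroup p S := S.2
  have hk : IsPGroup p π.ker := hS.to_le hAS
  obtain ⟨B, _, ev, e1, e2, e3⟩ := exB π.ker ⊥ bot_le fun a ha b _ => by
    rw [← mem_center_iff.1 (hz ha) b]; simp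
  have ev1 : ev 1 = 0 := (e2 1 (one_mem _)).2 (one_mem _)
  have evi : ∀ a ∈ π.ker, ∀ b ∈ π.ker, ev a = ev b → a = b := fun a ha b hb e => by
    have := e1 _ (mul_mem ha (inv_mem hb)) _ hb
    rw [inv_mul_cancel_right, e, right_eq_add, e2 _ (mul_mem ha (inv_mem hb)), mem_bot] at this
    exact mul_inv_eq_one.1 this
  have ht : ∃ e, ∀ b : B, p ^ e • b = 0 := by
    obtain ⟨e, he⟩ := hk.exists_card_eq
    refine ⟨e, fun b => ?_⟩
    obtain ⟨a, ha, rfl⟩ := e3 b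
    have h1 : ∀ j : ℕ, j • ev a = ev (a ^ j) := fun j => by
      induction j with
      | zero => simp [ev1]
      | succ j ih => rw [succ_nsmul, pow_succ, e1 _ (pow_mem ha j) _ ha, ih]
    have := pow_card_eq_one' (x := (⟨a, ha⟩ : π.ker))
    rw [he] at this
    rw [h1, show a ^ p ^ e = 1 from congrArg Subtype.val this, ev1]
  have st : ∀ a g : G, g • (a : G ⧸ (S : Subgroup G)) = a ↔ a⁻¹ * g * a ∈ (S : Subgroup G) := fun a g => by
    rw [MulAction.Quotient.smul_mk, eq_comm, QuotientGroup.eq, smul_eq_mul, mul_assoc]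
  have pl : ∀ (l : List (G ⧸ (S : Subgroup G))) (a : G), (a : G ⧸ (S : Subgroup G)) ∈ l →
      cj a⁻¹ (Pst (⊤ : Subgroup G) l) ≤ S := fun l a h x hx => by
    obtain ⟨u, hu, rfl⟩ := ex_cji hx
    exact (st a u).1 (hu.2 _ h)
  have hM : Md p (⊤ : Subgroup G) (Set.univ : Set (G ⧸ (S : Subgroup G))) := by
    refine ⟨fun _ _ _ _ => trivial, fun y _ => ?_, ?_⟩
    · obtain ⟨a, rfl⟩ := QuotientGroup.mk_surjective y
      have := cj_pg a (hS.to_le (pl [a] a (by simp)))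
      rwa [cj_inv'] at this
    · rw [Set.ncard_univ]; exact S.not_dvd_index
  have hY : ∀ a ∈ π.ker, ∀ y ∈ (Set.univ : Set (G ⧸ (S : Subgroup G))), a • y = y := fun a ha y _ => by
    obtain ⟨b, rfl⟩ := QuotientGroup.mk_surjective y
    rw [st, cc hz ha]; exact hAS ha
  set R := Rf (⊤ : Subgroup G) (Set.univ : Set (G ⧸ (S : Subgroup G))) (Ce π p) with hR
  have rA : ∀ l, R l → π.ker ≤ Pst ⊤ l := fun l b => (b.2.ker hk).trans inf_le_left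
  have ex : ∀ l : List (G ⧸ (S : Subgroup G)), ∃ u : Fn G B, (¬ R l → u = 0) ∧ ∀ a b : G, l = [↑a, ↑b] → R l →
      ∃ w, Wd π Fm a b (Pst ⊤ l) w ∧ Rp π (Pst ⊤ l) u fun g => ev (w g) := fun l => by
    by_cases c : R l ∧ ∃ a b : G, l = [↑a, ↑b]
    swap
    · exact ⟨0, fun _ => rfl, fun a b e r => absurd ⟨r, a, b, e⟩ c⟩
    obtain ⟨r, a, b, e⟩ := c
    obtain ⟨w, hw⟩ := Wd.ex hz hF (rA l r) (pl l a (by simp [e])) (pl l b (by simp [e]))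
    obtain ⟨m1, m2⟩ := hw.hom hz hF
    obtain ⟨u, hu⟩ := exRp (rA l r) (fun g => ev (w g)) (fun x hx y hy => by
      rw [m1 x hx y hy, e1 _ (hw.mem hz hF x hx) _ (hw.mem hz hF y hy)]) fun k hk => by rw [m2 k hk (rA l r hk), ev1]
    refine ⟨u, fun c => absurd r c, fun a' b' e' _ => ⟨w, ?_, hu⟩⟩
    rw [e] at e'
    simp only [List.cons.injEq, and_true] at e'
    exact (((Wd.inn hz hF (pl l a' (by simp [e, e'.1])) (QuotientGroup.eq.1 e'.1.symm)).comp hz hF (rA l r) hw).comp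
      hz hF (rA l r) (Wd.inn hz hF (pl l b (by simp [e])) (QuotientGroup.eq.1 e'.2))).cg hz hF fun u _ => by simp
  choose f f0 f1 using ex
  have l2 : ∀ l : List (G ⧸ (S : Subgroup G)), l.length = 2 → ∃ a b : G, l = [↑a, ↑b] := fun l h => by
    obtain ⟨x, y, rfl⟩ := List.length_eq_two.1 h
    obtain ⟨a, rfl⟩ := QuotientGroup.mk_surjective x
    obtain ⟨b, rfl⟩ := QuotientGroup.mk_surjective y
    exact ⟨a, b, rfl⟩
  have up : ∀ l' l : List (G ⧸ (S : Subgroup G)), l' <+ l → l' ≠ [] → R l → R l' := fun l' l a b c =>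
    ⟨fun _ _ => trivial, c.2.up (hM.pgl (fun _ _ => trivial) b) (Pst_anti a)⟩
  have rI := (Rf_rg hM.inv (fam_Ce (π := π) p ⊤)).inv
  obtain ⟨h, ha, hb⟩ := VK hr hb hM hk hz hY e1 e2 ht f ⟨fun l a b => by
      obtain ⟨x, y, e⟩ := l2 l a
      obtain ⟨w, -, hw⟩ := f1 l x y e b
      exact ⟨hw.1, fun g hg => ⟨_, hw.2 g hg⟩⟩, fun l _ b => f0 l b, fun g hg l a b => by
      obtain ⟨x, y, e⟩ := l2 l a
      obtain ⟨w, w1, w2⟩ := f1 l x y e b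
      have b' := rI g hg l b
      obtain ⟨w', w1', w2'⟩ := f1 (mp g l) (g * x) (g * y) (by rw [e]; rfl) b'
      have w3 := w1.act hz hF g
      have w4 := w2.act g
      rw [← Pst_mp hg] at w3 w4
      exact KK hz hF hk hS e1 b'.2 w1' w3 w2' w4⟩ fun l a b => by
      obtain ⟨x, y, z, rfl⟩ := List.length_eq_three.1 a
      obtain ⟨x, rfl⟩ := QuotientGroup.mk_surjective x
      obtain ⟨y, rfl⟩ := QuotientGroup.mk_surjective y
      obtain ⟨z, rfl⟩ := QuotientGroup.mk_surjective z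
      have s1 : [(x : G ⧸ (S : Subgroup G)), y] <+ [(x : G ⧸ (S : Subgroup G)), y, z] := by simp
      have s2 : [(y : G ⧸ (S : Subgroup G)), z] <+ [(x : G ⧸ (S : Subgroup G)), y, z] := by simp
      have s3 : [(x : G ⧸ (S : Subgroup G)), z] <+ [(x : G ⧸ (S : Subgroup G)), y, z] := by simp
      obtain ⟨w, w1, w2⟩ := f1 _ x y rfl (up _ _ s1 (by simp) b)
      obtain ⟨w', w1', w2'⟩ := f1 _ y z rfl (up _ _ s2 (by simp) b)
      obtain ⟨w'', w1'', w2''⟩ := f1 _ x z rfl (up _ _ s3 (by simp) b)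
      have := KK hz hF hk hS e1 b.2 ((w1.res hz hF (Pst_anti s1)).comp hz hF (rA _ b) (w1'.res hz hF (Pst_anti s2)))
        (w1''.res hz hF (Pst_anti s3)) (((w2.res (Pst_anti s1)).add (w2'.res (Pst_anti s2))).cg fun g hg =>
          (e1 _ (w1.mem hz hF g (Pst_anti s1 hg)) _ (w1'.mem hz hF g (Pst_anti s2 hg))).symm) (w2''.res (Pst_anti s3))
      simp only [dd_cons, dd_nil]
      convert this using 1; abel
  have hc := ha 1 rfl
  have eS : Pst (⊤ : Subgroup G) [((1 : G) : G ⧸ (S : Subgroup G))] = S := by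
    ext g; simp only [mem_Pst, List.forall_mem_cons, st]; simp
  have r0 : R [((1 : G) : G ⧸ (S : Subgroup G))] := by
    refine ⟨fun _ _ => trivial, ?_⟩
    rw [eS]
    refine ⟨hS, fun z ⟨k, hk⟩ c => ?_⟩
    have h1 : IsPGroup p (zpowers z) := by
      rintro ⟨_, j, rfl⟩
      refine ⟨k, Subtype.ext ?_⟩
      show (z ^ j) ^ p ^ k = 1
      rw [← zpow_natCast, ← zpow_mul, mul_comm, zpow_mul, zpow_natCast, hk, one_zpow]
    rw [← S.3 (IsPGroup.to_sup_of_normal_right' h1 hS (zpowers_le.2 (Cz_norm hAS c))) le_sup_right]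
    exact mem_sup_left (mem_zpowers z)
  set h₀ := h [((1 : G) : G ⧸ (S : Subgroup G))] with hh
  have m0 := hc.mem _ rfl r0
  rw [eS] at m0
  have ex : ∀ s, ∃ a ∈ π.ker, s ∈ (S : Subgroup G) → s • h₀ - h₀ = cst (ev a) := fun s => by
    by_cases c : s ∈ (S : Subgroup G)
    · obtain ⟨b, hb⟩ := m0.2 s c
      obtain ⟨a, ha, rfl⟩ := e3 b
      exact ⟨a, ha, fun _ => hb⟩
    · exact ⟨1, one_mem _, fun d => absurd d c⟩
  choose χ x1 x2 using ex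
  have x3 : ∀ s ∈ (S : Subgroup G), ∀ t ∈ (S : Subgroup G), χ (s * t) = χ s * χ t := fun s hs t ht =>
    evi _ (x1 _) _ (mul_mem (x1 _) (x1 _)) (cst_inj (G := G) (by
      rw [e1 _ (x1 _) _ (x1 _), cst_add, ← x2 _ (mul_mem hs ht), ← x2 s hs, ← smul_cst s (ev (χ t)), ← x2 t ht,
        smul_sub, mul_smul]; abel))
  have x4 : ∀ a ∈ π.ker, χ a = 1 := fun a ha => evi _ (x1 _) _ (one_mem _) (cst_inj (G := G) (by
    rw [← x2 a (hAS ha), m0.1 a ha, sub_self, ev1, cst_zero]))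
  refine ⟨fun s => (χ s)⁻¹, ⟨fun s _ => inv_mem (x1 s), fun s hs t ht => by
    simp only [x3 s hs t ht, mem_center_iff.1 (hz (x1 t)), mul_inv_rev], fun a ha => by simp only [x4 a ha, inv_one]⟩,
    fun g P p1 p2 p3 => ?_⟩
  set l : List (G ⧸ (S : Subgroup G)) := [((1 : G) : G ⧸ (S : Subgroup G)), ((g⁻¹ : G) : G ⧸ (S : Subgroup G))] with hl
  have q1 : P ≤ Pst ⊤ l := fun u hu => ⟨trivial, by
    simp only [hl, List.forall_mem_cons, st]; simpa using ⟨p1 hu, p2 u hu⟩⟩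
  have r1 : R l := ⟨fun _ _ => trivial, Ce.up ⟨p3.1, fun z a b => p3.2.2 z a fun x hx => cm_iff.2 (b x hx)⟩
    (hM.pgl (fun _ _ => trivial) (by simp [hl])) q1⟩
  obtain ⟨w, w1, w2⟩ := f1 l 1 g⁻¹ rfl r1
  have t1 := hb l rfl r1
  have t2 := hc.eqv g⁻¹ trivial _ rfl r0
  have e : List.map (g⁻¹ • ·) [((1 : G) : G ⧸ (S : Subgroup G))] = [((g⁻¹ : G) : G ⧸ (S : Subgroup G))] := by
    simp [MulAction.Quotient.smul_mk]
  rw [e] at t2
  have s1 : [((g⁻¹ : G) : G ⧸ (S : Subgroup G))] <+ l := by simp [hl]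
  obtain ⟨z, z1, z2⟩ := AddSubgroup.add_mem _ t1 ((PK_sy hz e1).mono _ _ s1 (up _ _ s1 (by simp) r1) r1 t2)
  have q2 : ∀ u ∈ Pst (⊤ : Subgroup G) l, u ∈ (S : Subgroup G) ∧ g * u * g⁻¹ ∈ (S : Subgroup G) := fun u hu => by
    have := hu.2
    simp only [hl, List.forall_mem_cons, st] at this; simpa using this
  have key : ∀ u ∈ Pst (⊤ : Subgroup G) l, w u * χ u = z * u * z⁻¹ * u⁻¹ * χ (g * u * g⁻¹) := fun u hu => by
    have c := cm_iff.2 (z1.2 u hu)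
    refine evi _ (mul_mem (w1.mem hz hF u hu) (x1 _)) _ (mul_mem c (x1 _)) (cst_inj (G := G) ?_)
    rw [e1 _ (w1.mem hz hF u hu) _ (x1 _), e1 _ c _ (x1 _), cst_add, cst_add, ← z2.2 u hu, ← w2.2 u hu,
      ← x2 u (q2 u hu).1, ← smul_cst g⁻¹ (ev (χ (g * u * g⁻¹))), ← x2 _ (q2 u hu).2]
    simp only [hl, dd_cons, dd_nil, ← hh, smul_sub, smul_add, mul_smul, inv_smul_smul, smul_zero]
    abel
  obtain ⟨φ, g1, g2⟩ := (((Wd.zin hz hF (w1.le hz hF) z1).inv hz hF (rA l r1)).comp hz hF (rA l r1) w1).res hz hF q1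
  rw [inv_one, cj_one] at g1
  refine ⟨φ, g1, fun u hu => ?_⟩
  obtain ⟨g3, g4⟩ := g2 u hu
  simp only [inv_one, one_mul, mul_one, inv_inv] at g4
  have k := key u (q1 hu)
  rw [← inv_mul_eq_iff_eq_mul, ← mul_assoc, ← eq_mul_inv_iff_mul_eq] at k
  beta_reduce at g3 ⊢
  have c2 := mem_center_iff.1 (hz (inv_mem (x1 u)))
  rw [g4, x3 _ (hAS g3) _ (p2 u hu), x4 _ g3, k, one_mul, mul_assoc (χ _),
    ← mem_center_iff.1 (hz (x1 (g * u * g⁻¹))), mul_inv_cancel_right, ← c2, mul_assoc _ g⁻¹, c2 g⁻¹]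
  group

end H18.CL
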