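import Cfsg.Agent.H23.Sec10

/-! The 56-dimensional module of `E₇(2)`: eigenvalue tables of elements of odd order. -/

set_option autoImplicit false
set_option maxRecDepth 100000

namespace H18.E7

open H14 H14.PreSt H14.St H23.Sec H23.Wag Cfsg.Lie Module Matrix

/-- the coefficient field -/
abbrev K := AlgebraicClosure (ZMod 2)
/-- the group -/
def G : Type := chevE7.group (ZMod 2)
noncomputable instance grpG : Group G := inferInstanceAs (Group (chevE7.group (ZMod 2)))
/-- the module -/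
abbrev V := Fin 56 → K
/-- the prime field inside `K` -/
noncomputable abbrev emb : ZMod 2 →+* K := algebraMap _ _

theorem hi (F : Type*) [Field F] [CharP F 2] (c : Fin chevE7.rank → Fˣ)
    (h : mpow Fˣ goodE7.R.A c = 1) : c = 1 := eq_one_of_pow_char 2 (kerE7 c h)

/-- the matrices over any field of characteristic two -/
noncomputable def ψ (F : Type*) [Field F] [CharP F 2] : chevE7.group F →* GL (Fin 56) F :=
  (goodE7.exists_rep (hi F) (repE7.hmul F)).choose

theorem ψ_hom (F : Type*) [Field F] [CharP F 2] :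
    (goodE7.SG F).toPreSt.IsHom (repE7.st F).toPreSt (ψ F) :=
  (goodE7.exists_rep (hi F) (repE7.hmul F)).choose_spec

/-- the matrices over the prime field -/
noncomputable def M : G →* Matrix (Fin 56) (Fin 56) (ZMod 2) := (Units.coeHom _).comp (ψ _)

/-- the module of the algebraic group -/
noncomputable def ρK : chevE7.group K →* End K V :=
  (Matrix.toLinAlgEquiv' (R := K) (n := Fin 56)).toMonoidHom.comp ((Units.coeHom _).comp (ψ K))

/-- the module -/
noncomputable def ρ : G →* End K V := ρK.comp (goodE7.mapG emb)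

theorem ψ_map (g : chevE7.group (ZMod 2)) : ψ K (goodE7.mapG emb g) = GeneralLinearGroup.map emb (ψ _ g) :=
  DFunLike.congr_fun (hom_ext (α := (ψ K).comp (goodE7.mapG emb))
    (β := (GeneralLinearGroup.map emb).comp (ψ _)) (goodE7.SG_top _) fun r t => by
      rw [MonoidHom.comp_apply, MonoidHom.comp_apply]
      erw [goodE7.mapG_x, ψ_hom K r, ψ_hom _ r t, Rep.map_x]) g

theorem ρK_app (g : chevE7.group K) (v : V) : ρK g v = (ψ K g : Matrix _ _ K) *ᵥ v := rfl

theorem ρ_app (g : G) (v : V) : ρ g v = (M g).map emb *ᵥ v := by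
  have : (GeneralLinearGroup.map emb (ψ _ g) : Matrix _ _ K) = (M g).map emb := by ext; rfl
  exact (ρK_app _ _).trans (congrArg (· *ᵥ v) ((congrArg Units.val (ψ_map g)).trans this))

instance simpleG : IsSimpleGroup G :=
  (goodE7.simple_of_perfect _ (perfect_of_mem (by simp) _)).1

theorem cardG : Nat.card G = 7997476042075799759100487262680802918400 := by
  have h := goodE7.card_group' (ZMod 2)
  rw [card_kerE7, Nat.card_units, poinE7, Nat.card_zmod] at h
  norm_num at h
  exact h.trans (by decide +kernel)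

instance finG : Finite G := Nat.finite_of_card_ne_zero (by rw [cardG]; decide)

/-- the root elements -/
noncomputable def xr (r : Fin chevE7.nroots) : G := (goodE7.SG (ZMod 2)).x r 1

theorem M_x (r : Fin chevE7.nroots) (b a : Fin 56) : (M (xr r) - 1) b a =
    if minE7.γ b = minE7.γ a + goodE7.R.cf r then 1 else 0 := by
  have : M (xr r) = repE7.X r 1 := congrArg Units.val (ψ_hom _ r 1)
  rw [this]
  simp only [Rep.X, xexp, repE7, Minus.rep, one_smul, map_zero, smul_zero, add_zero,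
    add_sub_cancel_left, cm_apply, Minus.E1, of_apply]
  split_ifs
  · have h1 := (okE7.epsData ok3E7 okEE7).c_sq r
    have h2 := minE7.eps_sq (okE7.epsData ok3E7 okEE7) r a
    obtain e | e := Int.eq_one_or_neg_one_of_mul_eq_one h1 <;>
      obtain e' | e' := Int.eq_one_or_neg_one_of_mul_eq_one h2 <;> rw [e, e'] <;> decide
  · simp

theorem ex_up (a : Fin 56) : ∃ r b, minE7.γ b = minE7.γ a + goodE7.R.cf r := by
  obtain ⟨i, h | h⟩ : ∃ i, minE7.wt a i = -1 ∨ minE7.wt a i = 1 := by revert a; decide +kernel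
  · exact ⟨_, _, Minus.γ_up ((minE7.pr_simple i a).trans h)⟩
  · exact ⟨_, _, Minus.γ_up ((minE7.pr_neg _ a).trans (by rw [minE7.pr_simple i a, h]))⟩

theorem nofix {v : Fin 56 → ZMod 2} (h : ∀ g, M g *ᵥ v = v) : v = 0 := funext fun a => by
  obtain ⟨r, b, e⟩ := ex_up a
  have := congrFun (show (M (xr r) - 1) *ᵥ v = 0 by rw [sub_mulVec, h]; simp) b
  simp only [mulVec, dotProduct, M_x, e, add_left_inj, minE7.γ_inj.eq_iff] at this
  simpa using this

theorem nofix' {v : Fin 56 → ZMod 2} (h : ∀ g, (M g)ᵀ *ᵥ v = v) : v = 0 := funext fun a => by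
  obtain ⟨r, b, e⟩ := ex_up a
  have := congrFun (show (M (xr (goodE7.R.neg r)) - 1)ᵀ *ᵥ v = 0 by
    rw [transpose_sub, sub_mulVec, h]; simp) b
  simp only [mulVec, dotProduct, transpose_apply, M_x, e, RootSys.cf_neg, add_neg_cancel_right,
    minE7.γ_inj.eq_iff] at this
  simpa using this

theorem ρ_one {g : G} (h : ρ g = 1) : g = 1 := by
  obtain e | e := IsSimpleGroup.eq_bot_or_eq_top_of_normal ρ.ker inferInstance
  · exact Subgroup.mem_bot.1 (e.le h)
  · have := nofix (v := 1) fun g => funext fun a => emb.injective (by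
      have := congrFun (ρ_app g 1) a
      rw [show ρ g = 1 from e.ge (Subgroup.mem_top g)] at this
      simpa [mulVec, dotProduct] using this.symm)
    simpa using congrFun this 0

/-- the Frobenius map -/
noncomputable def Φ (v : V) : V := fun a => v a ^ 2

theorem ρ_Φ (g : G) (v : V) : ρ g (Φ v) = Φ (ρ g v) := funext fun a => by
  have : ∀ t : ZMod 2, emb t ^ 2 = emb t := fun t => by rw [← map_pow]; congr 1; revert t; decide
  simp only [ρ_app, Φ, mulVec, dotProduct, map_apply, ← frobenius_def, map_sum, map_mul]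
  simp only [frobenius_def, this]

theorem Φ_eig {g : G} {μ : K} {v : V} : ρ g (Φ v) = μ ^ 2 • Φ v ↔ ρ g v = μ • v := by
  rw [ρ_Φ, funext_iff, funext_iff]
  refine forall_congr' fun a => ?_
  simp only [Φ, Pi.smul_apply, smul_eq_mul, ← mul_pow]
  exact (frobenius K 2).injective.eq_iff

theorem dim_Φ {W W' : Submodule K V} (h : ∀ v, Φ v ∈ W' ↔ v ∈ W) : finrank K W = finrank K W' := by
  let e : V ≃+ V := AddEquiv.piCongrRight fun _ => (frobeniusEquiv K 2).toAddEquiv
  have : W'.toAddSubgroup = W.toAddSubgroup.map (e : V →+ V) := by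
    ext v
    obtain ⟨v, rfl⟩ := e.surjective v
    exact (h v).trans (by simp)
  let f : W ≃+ W' := (e.addSubgroupMap W.toAddSubgroup).trans (AddEquiv.addSubgroupCongr this.symm)
  exact congrArg Cardinal.toNat (rank_eq_of_equiv_equiv (frobenius K 2) f
    (frobeniusEquiv K 2).bijective fun r m => Subtype.ext (funext fun a => mul_pow r (m.1 a) 2))

/-- joint eigenspaces -/
noncomputable def J {I : Type*} (y : I → G) (μ : I → K) : Submodule K V := ⨅ i, (ρ (y i)).eigenspace (μ i)

theorem mem_J {I : Type*} {y : I → G} {μ : I → K} {v : V} :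
    v ∈ J y μ ↔ ∀ i, ρ (y i) v = μ i • v := by simp [J]

theorem J_Φ {I : Type*} (y : I → G) (μ : I → K) :
    finrank K (J y μ) = finrank K (J y fun i => μ i ^ 2) :=
  dim_Φ fun v => by simp only [mem_J, Φ_eig]

/-- dimensions of eigenspaces -/
noncomputable def dm (g : G) (μ : K) : ℕ := finrank K ((ρ g).eigenspace μ)

theorem dm_Φ (g : G) (μ : K) : dm g μ = dm g (μ ^ 2) :=
  dim_Φ fun v => by simp only [End.mem_eigenspace_iff, Φ_eig]

theorem dm_conj (g y : G) (μ : K) : dm (g * y * g⁻¹) μ = dm y μ := eig_dim g y μ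

theorem dm_lt {g : G} (h : g ≠ 1) : dm g 1 ≠ 56 := fun e => h (ρ_one (LinearMap.ext fun v => by
  have := Submodule.eq_top_of_finrank_eq (S := (ρ g).eigenspace 1) (by simpa [dm] using e)
  simpa using End.mem_eigenspace_iff.1 (this.ge Submodule.mem_top)))

/-- the weights in terms of the simple roots, modulo `45045` -/
def EL : List (List ℕ) := [[1, 22524, 2, 3, 22525, 2, 22524],
  [1, 22524, 2, 3, 22525, 2, 22523],
  [1, 22524, 2, 3, 22525, 1, 22523],
  [1, 22524, 2, 3, 22524, 1, 22523],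
  [1, 22524, 2, 2, 22524, 1, 22523],
  [1, 22523, 2, 2, 22524, 1, 22523],
  [1, 22524, 1, 2, 22524, 1, 22523],
  [1, 22523, 1, 2, 22524, 1, 22523],
  [0, 22524, 1, 2, 22524, 1, 22523],
  [0, 22523, 1, 2, 22524, 1, 22523],
  [1, 22523, 1, 1, 22524, 1, 22523],
  [0, 22523, 1, 1, 22524, 1, 22523],
  [1, 22523, 1, 1, 22523, 1, 22523],
  [0, 22523, 0, 1, 22524, 1, 22523],
  [0, 22523, 1, 1, 22523, 1, 22523],
  [1, 22523, 1, 1, 22523, 0, 22523],
  [0, 22523, 0, 1, 22523, 1, 22523],
  [0, 22523, 1, 1, 22523, 0, 22523],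
  [1, 22523, 1, 1, 22523, 0, 22522],
  [0, 22523, 0, 0, 22523, 1, 22523],
  [0, 22523, 0, 1, 22523, 0, 22523],
  [0, 22523, 1, 1, 22523, 0, 22522],
  [0, 22522, 0, 0, 22523, 1, 22523],
  [0, 22523, 0, 0, 22523, 0, 22523],
  [0, 22523, 0, 1, 22523, 0, 22522],
  [0, 22522, 0, 0, 22523, 0, 22523],
  [0, 22523, 0, 0, 22522, 0, 22523],
  [0, 22523, 0, 0, 22523, 0, 22522],
  [0, 22522, 0, 0, 22522, 0, 22523],
  [0, 22522, 0, 0, 22523, 0, 22522],
  [0, 22523, 0, 0, 22522, 0, 22522],
  [0, 22522, 0, 45044, 22522, 0, 22523],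
  [0, 22522, 0, 0, 22522, 0, 22522],
  [0, 22523, 0, 0, 22522, 45044, 22522],
  [0, 22522, 45044, 45044, 22522, 0, 22523],
  [0, 22522, 0, 45044, 22522, 0, 22522],
  [0, 22522, 0, 0, 22522, 45044, 22522],
  [45044, 22522, 45044, 45044, 22522, 0, 22523],
  [0, 22522, 45044, 45044, 22522, 0, 22522],
  [0, 22522, 0, 45044, 22522, 45044, 22522],
  [45044, 22522, 45044, 45044, 22522, 0, 22522],
  [0, 22522, 45044, 45044, 22522, 45044, 22522],
  [0, 22522, 0, 45044, 22521, 45044, 22522],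
  [45044, 22522, 45044, 45044, 22522, 45044, 22522],
  [0, 22522, 45044, 45044, 22521, 45044, 22522],
  [45044, 22522, 45044, 45044, 22521, 45044, 22522],
  [0, 22522, 45044, 45043, 22521, 45044, 22522],
  [45044, 22522, 45044, 45043, 22521, 45044, 22522],
  [0, 22521, 45044, 45043, 22521, 45044, 22522],
  [45044, 22521, 45044, 45043, 22521, 45044, 22522],
  [45044, 22522, 45043, 45043, 22521, 45044, 22522],
  [45044, 22521, 45043, 45043, 22521, 45044, 22522],
  [45044, 22521, 45043, 45042, 22521, 45044, 22522],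
  [45044, 22521, 45043, 45042, 22520, 45044, 22522],
  [45044, 22521, 45043, 45042, 22520, 45043, 22522],
  [45044, 22521, 45043, 45042, 22520, 45043, 22521]]

/-- dot product -/
noncomputable def dt (w : List ℕ) : List ℕ → ℕ :=
  List.rec (fun _ => 0) (fun x _ ih a => List.rec 0 (fun y b _ => Nat.add (Nat.mul x y) (ih b)) a) w

/-- sum over a list -/
noncomputable def sm (f : List ℕ → ℕ) (L : List (List ℕ)) : ℕ :=
  List.rec 0 (fun w _ s => Nat.add (f w) s) L

theorem sm_eq (f : List ℕ → ℕ) (L : List (List ℕ)) : sm f L = (L.map f).sum := by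
  induction L with
  | nil => rfl
  | cons a L ih => rw [List.map_cons, List.sum_cons, ← ih]; rfl

theorem dt_eq {n : ℕ} (w a : Fin n → ℕ) : dt (List.ofFn w) (List.ofFn a) = ∑ i, w i * a i := by
  induction n with
  | zero => rfl
  | succ n ih => rw [List.ofFn_succ, List.ofFn_succ, Fin.sum_univ_succ, ← ih]; rfl

/-- the weights as a matrix -/
def Ew (x : Fin 56) (j : Fin chevE7.rank) : ℕ := (EL.getD x []).getD j 0

theorem EL_eq : EL = List.ofFn fun x => List.ofFn (Ew x) := by decide +kernel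

theorem EL_get : ∀ x : Fin 56, EL.getD x [] = List.ofFn (Ew x) := by decide +kernel

theorem Ew_eq : ∀ x (i : Fin chevE7.rank), (45045 : ℤ) ∣
    ∑ j, Ew x j * goodE7.R.wt (goodE7.R.simple j) i - repE7.wt x i := by
  change ∀ x i, _ ∣ _ - minE7.wt x i
  decide +kernel

/-- the number of weights with a given value -/
noncomputable def cnt (l : ℕ) (a : List ℕ) (j : ZMod l) : ℕ :=
  (Finset.univ.filter fun x : Fin 56 => (dt (EL.getD x []) a : ZMod l) = j).card

/-- the check of a table -/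
noncomputable def Tb (l : ℕ) (P : (ZMod l → ℕ) → Prop) [DecidablePred P] : Bool :=
  alcB [2, 2, 3, 4, 3, 2, 1] l fun a => Bool.rec true (decide (P (cnt l a)))
    (Nat.beq (sm (fun w => Nat.pow 64 (Nat.mod (dt w a) l)) EL)
      (sm (fun w => Nat.pow 64 (Nat.mod (Nat.mul 2 (dt w a)) l)) EL))

theorem tab {l : ℕ} [NeZero l] (hl : l ∣ 45045) {P : (ZMod l → ℕ) → Prop} [DecidablePred P]
    (h : Tb l P = true) {ζ : K} (hζ : IsPrimitiveRoot ζ l) {s : G} (hs : s ^ l = 1) :
    P fun j => dm s (ζ ^ j.val) := by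
  obtain ⟨z, rfl⟩ := hζ.isUnit (NeZero.ne l)
  have hz : orderOf z = l := (IsPrimitiveRoot.coe_units_iff.1 hζ).eq_orderOf.symm
  have hA := goodE7.alg (ZMod 2) 2 two_ne_zero kerE7
  obtain ⟨g, ν, h2, h3, e⟩ := hA.exists_alcove (goodE7.tor_inj (hi K)) (z := z)
    (s := goodE7.mapG emb s) (hz ▸ NeZero.pos l) (by
      rw [hz]; exact (map_pow (goodE7.mapG emb) s l).symm.trans ((congrArg _ hs).trans (map_one _)))
  let a : Fin chevE7.rank → ℕ := fun j => (ν ⬝ᵥ goodE7.R.wt (goodE7.R.simple j)).toNat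
  have ha : ∀ j, (a j : ℤ) = ν ⬝ᵥ goodE7.R.wt (goodE7.R.simple j) := fun j => Int.toNat_of_nonneg (h2 j)
  have k1 : ∀ j : ZMod l, dm s (z ^ j.val) = cnt l (List.ofFn a) j := fun j => by
    rw [dm, show ρ s = ρK _ from congrArg ρK e, eig_dim, cnt, ← Set.ncard_coe_finset,
      ← Pi.dim_spanSubset (R := K)]
    refine congrArg (fun W : Submodule K V => finrank K W) (Submodule.ext fun v => ?_)
    rw [End.mem_eigenspace_iff, Pi.mem_spanSubset_iff, funext_iff]
    refine forall_congr' fun x => ?_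
    change ((ψ K _ : Matrix _ _ K) *ᵥ v) x = _ ↔ _
    have k : ((ν ⬝ᵥ repE7.wt x : ℤ) : ZMod l) = (dt (EL.getD x []) (List.ofFn a) : ℕ) := by
      rw [EL_get, dt_eq, ← Int.cast_natCast, ZMod.intCast_eq_intCast_iff, Int.modEq_iff_dvd]
      rw [Nat.cast_sum]
      simp only [Nat.cast_mul, ha, dotProduct, Finset.mul_sum]
      rw [Finset.sum_comm, ← Finset.sum_sub_distrib]
      refine Finset.dvd_sum fun i _ => (Int.natCast_dvd_natCast.2 hl).trans ?_
      have := (Ew_eq x i).mul_left (ν i)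
      rwa [mul_sub, Finset.mul_sum, Finset.sum_congr rfl fun j _ => mul_left_comm _ _ _] at this
    rw [(goodE7.SG_hmul K).map (repE7.hmul K) (ψ_hom K), Rep.coe_tor, mulVec_diagonal,
      Pi.smul_apply, smul_eq_mul, mul_eq_mul_right_iff, ← Units.val_pow_eq_pow_val, Units.val_inj,
      prod_zpow_dot, ← zpow_natCast, zpow_eq_zpow_iff_modEq, hz, ← ZMod.intCast_eq_intCast_iff, k]
    rw [Int.cast_natCast, ZMod.natCast_zmod_val]
    simp only [Finset.coe_filter, Finset.mem_univ, true_and, Set.mem_ofPred_eq]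
    tauto
  have k2 : ∀ j, cnt l (List.ofFn a) (2 * j) = cnt l (List.ofFn a) j := fun j => by
    rw [← k1, ← k1, dm_Φ s (_ ^ j.val), ← pow_mul, ZMod.val_mul, ← pow_eq_pow_mod _ hζ.pow_eq_one,
      show (2 : ZMod l) = (2 : ℕ) by simp, ZMod.val_natCast, mul_comm j.val, pow_mul, pow_mul,
      ← pow_eq_pow_mod _ hζ.pow_eq_one]
  have k3 := alcB_spec (n := chevE7.rank) (fun j => ([2, 2, 3, 4, 3, 2, 1] : List ℕ).getD j 0) a l _
    (by decide) h (by
      have := h3 ⟨125, by decide⟩
      rw [dot_wt, hz] at this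
      zify
      simp only [ha]
      exact (Finset.sum_congr rfl fun j _ => by
        congr 1; revert j; decide +kernel).le.trans this)
  have k4 : ∀ f : ZMod l → ℕ, ∑ x : Fin 56, f (dt (List.ofFn (Ew x)) (List.ofFn a)) =
      ∑ j, cnt l (List.ofFn a) j * f j := fun f => by
    rw [← Finset.sum_fiberwise' (s := Finset.univ)
      (fun x : Fin 56 => (dt (List.ofFn (Ew x)) (List.ofFn a) : ZMod l)) f]
    simp only [cnt, EL_get, Finset.sum_const, smul_eq_mul]
  have hu : IsUnit (2 : ZMod l) := (ZMod.isUnit_iff_coprime 2 l).2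
    (Nat.Coprime.coprime_dvd_right hl (by norm_num))
  have k5 : sm (fun w => Nat.pow 64 (Nat.mod (dt w (List.ofFn a)) l)) EL =
      sm (fun w => Nat.pow 64 (Nat.mod (Nat.mul 2 (dt w (List.ofFn a))) l)) EL := by
    have a1 := k4 fun j => 64 ^ j.val
    have a2 := k4 fun j => 64 ^ (2 * j).val
    rw [← Equiv.sum_comp (hu.unit.mulLeft)] at a1
    simp only [Units.mulLeft_apply, IsUnit.unit_spec, k2] at a1
    rw [← a2] at a1
    rw [sm_eq, sm_eq, EL_eq, List.map_ofFn, List.map_ofFn, List.sum_ofFn, List.sum_ofFn]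
    simp only [show (2 : ZMod l) = (2 : ℕ) by simp, ← Nat.cast_mul, ZMod.val_natCast] at a1
    exact a1
  rw [k5, Nat.beq_refl] at k3
  rw [funext k1]
  exact of_decide_eq_true k3

theorem ex_prim {l : ℕ} (h : Odd l) : ∃ ζ : K, IsPrimitiveRoot ζ l := by
  have : NeZero (l : K) := ⟨fun e => (Nat.not_even_iff_odd.2 h)
    (even_iff_two_dvd.2 ((CharP.cast_eq_zero_iff K 2 l).1 e))⟩
  exact HasEnoughRootsOfUnity.exists_primitiveRoot K l

theorem tb3 : Tb 3 (fun d => (d 0, d 1, d 2) ∈
    [(2, 27, 27), (14, 21, 21), (20, 18, 18), (32, 12, 12), (56, 0, 0)]) = true := by decide +kernel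

theorem tb5 : Tb 5 (fun d => d 0 = 56 ∨ ∀ j, d j = if j = 0 then 16 else 10) = true := by
  decide +kernel

theorem tb7 : Tb 7 (fun d => (d 0, d 1) ∈ [(2, 9), (8, 8), (20, 6), (56, 0)] ∧ d 3 = d 1) = true := by
  decide +kernel

theorem tb9 : Tb 9 (fun d => (d 0, d 1, d 3) ∈ [(0, 6, 10), (0, 9, 1), (2, 0, 27), (4, 7, 5),
    (6, 6, 7), (8, 6, 6), (12, 4, 10), (12, 6, 4), (14, 0, 21), (20, 0, 18), (32, 0, 12),
    (56, 0, 0)]) = true := by decide +kernel

theorem tb13 : Tb 13 (fun d => d 0 = 56 ∨ d 0 = 8) = true := by decide +kernel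

theorem tb15 : Tb 15 (fun d => (d 0, d 1, d 3, d 5) ∈ [(0, 1, 8, 8), (2, 0, 0, 27), (2, 5, 0, 7),
    (4, 3, 4, 6), (6, 4, 2, 5), (8, 2, 6, 4), (12, 4, 2, 2), (14, 0, 0, 21), (16, 0, 10, 0),
    (20, 0, 0, 18), (32, 0, 0, 12), (56, 0, 0, 0)] ∧ d 7 = d 1) = true := by decide +kernel

end H18.E7
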