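import Cfsg.Agent.H18.E7a
import Cfsg.Agent.H1.GFitting

/-! Subgroups of `E₇(2)` with a fixed vector are not maximal; Scott's lemma. -/

set_option autoImplicit false

namespace H18.E7

open Module Matrix MulAction Subgroup
open scoped Pointwise

section act
variable {Γ W : Type*} [Group Γ] [Finite Γ] [AddCommGroup W] [Finite W] [DistribMulAction Γ W]

theorem ex_odd (h2 : ∀ v : W, v + v = 0) (N : Subgroup Γ) [N.Normal] {v : W} (hv : v ≠ 0)
    (hN : ∀ g ∈ N, g • v = v) :
    ∃ w : W, w ≠ 0 ∧ (stabilizer Γ w).index ∣ N.index ∧ ¬ 2 ∣ (stabilizer Γ w).index := by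
  obtain ⟨T⟩ : Nonempty (Sylow 2 Γ) := inferInstance
  have h0 : (0 : W) ∈ fixedPoints N W := fun g => smul_zero _
  have h1 : 2 ∣ Nat.card (fixedPoints N W) := by
    have := addOrderOf_dvd_natCard (⟨v, fun g => hN g g.2⟩ : FixedPoints.addSubgroup N W)
    rwa [addOrderOf_eq_prime (p := 2) (Subtype.ext (by simpa [two_nsmul] using h2 v))
      fun e => hv (congrArg Subtype.val e)] at this
  obtain ⟨w, a1, a2⟩ := T.2.exists_fixed_point_of_prime_dvd_card_of_fixed_point
    (fixedPoints N W) h1 (a := ⟨0, h0⟩) fun g => Subtype.ext (smul_zero _)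
  exact ⟨w, fun e => a2 (Subtype.ext e.symm), index_dvd_of_le fun g hg => w.2 ⟨g, hg⟩, fun e =>
    T.not_dvd_index (e.trans (index_dvd_of_le fun g hg => congrArg Subtype.val (a1 ⟨g, hg⟩)))⟩

omit [AddCommGroup W] [Finite W] [DistribMulAction Γ W] in
theorem card_le {X : Type*} [MulAction Γ X] {H : Subgroup Γ} (hH : IsCoatom H) {x : X}
    (h1 : H ≤ stabilizer Γ x) (h2 : stabilizer Γ x ≠ ⊤) {n : ℕ} (h3 : (orbit Γ x).ncard ≤ n) :
    Nat.card Γ ≤ Nat.card H * n := by
  rw [← H.card_mul_index, (hH.le_iff.1 h1).resolve_left h2 |>.symm, index_stabilizer]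
  gcongr

theorem card_le1 (h0 : ∀ v : W, (∀ g : Γ, g • v = v) → v = 0) {H : Subgroup Γ} (hH : IsCoatom H)
    {w : W} (hw : w ≠ 0) (h : ∀ g ∈ H, g • w = w) : Nat.card Γ ≤ Nat.card H * Nat.card W :=
  card_le hH (x := w) h (fun e => hw (h0 w fun g => e.ge (mem_top g))) (Set.ncard_le_card _)

theorem nmA (h2 : ∀ v : W, v + v = 0) (h0 : ∀ v : W, (∀ g : Γ, g • v = v) → v = 0)
    {H : Subgroup Γ} (hH : IsCoatom H) (N : Subgroup H) [N.Normal] {a : ℕ} (ha : N.index ∣ 2 ^ a)
    {v : W} (hv : v ≠ 0) (hN : ∀ g ∈ N, g • v = v) : Nat.card Γ ≤ Nat.card H * Nat.card W := by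
  obtain ⟨w, a1, a2, a3⟩ := ex_odd h2 N hv hN
  have := Nat.eq_one_of_dvd_coprimes ((Nat.prime_two.coprime_iff_not_dvd.2 a3).pow_left a)
    (a2.trans ha) dvd_rfl
  exact card_le1 h0 hH a1 fun g hg => (index_eq_one.1 this).ge (mem_top (⟨g, hg⟩ : H))

theorem nmB [IsSimpleGroup Γ] (h6 : 6 < Nat.card Γ) (h2 : ∀ v : W, v + v = 0)
    (h0 : ∀ v : W, (∀ g : Γ, g • v = v) → v = 0)
    {H : Subgroup Γ} (hH : IsCoatom H) (N : Subgroup H) [N.Normal] (ha : N.index ∣ 6)
    {v : W} (hv : v ≠ 0) (hN : ∀ g ∈ N, g • v = v) :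
    Nat.card Γ ≤ Nat.card H * (Nat.card W * Nat.card W) := by
  classical
  obtain ⟨w, a1, a2, a3⟩ := ex_odd h2 N hv hN
  have b0 : ∀ u : W, u ≠ 0 → (∀ g ∈ H, g • u = u) →
      Nat.card Γ ≤ Nat.card H * (Nat.card W * Nat.card W) := fun u hu h =>
    (card_le1 h0 hH hu h).trans (Nat.mul_le_mul_left _ (Nat.le_mul_self (Nat.card W)))
  have a4 := Nat.le_of_dvd (by decide) (a2.trans ha)
  have a5 := a2.trans ha
  obtain e | e : (stabilizer H w).index = 1 ∨ (stabilizer H w).index = 3 := by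
    generalize (stabilizer H w).index = n at a3 a4 a5 ⊢
    clear a2 b0 ha
    interval_cases n <;> omega
  · exact b0 w a1 fun g hg => (index_eq_one.1 e).ge (mem_top (⟨g, hg⟩ : H))
  rw [index_stabilizer] at e
  have b1 : ∀ g ∈ H, g • orbit H w = orbit H w := fun g hg => smul_orbit (⟨g, hg⟩ : H) w
  by_cases b2 : ∑ᶠ x ∈ orbit H w, x = 0
  swap
  · refine b0 _ b2 fun g hg => ?_
    have := finsum_mem_image (f := fun x : W => x) (g := (g • ·)) (s := orbit H w)
      (MulAction.injective g).injOn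
    rw [Set.image_smul, b1 g hg] at this
    exact ((DistribSMul.toAddMonoidHom W g).map_finsum_mem _ (Set.toFinite _)).trans this.symm
  obtain ⟨x, y, z, c1, c2, c3, c4⟩ := Set.ncard_eq_three.1 e
  rw [c4, finsum_mem_insert _ (by simp [*]) (Set.toFinite _), finsum_mem_pair c3] at b2
  obtain rfl : z = x + y := by
    rw [← add_zero z, ← b2, ← add_zero (x + y), ← h2 z]; abel
  refine card_le hH (x := orbit H w) b1 (fun e' => ?_) ?_
  · have d1 : orbit Γ w ⊆ orbit H w := by
      rintro _ ⟨g, rfl⟩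
      exact (show g • orbit H w = _ from e'.ge (mem_top g)).le ⟨w, mem_orbit_self w, rfl⟩
    obtain d | d := IsSimpleGroup.eq_bot_or_eq_top_of_normal (toPermHom Γ (orbit Γ w)).ker
      inferInstance
    · have := Nat.card_le_card_of_injective _ ((MonoidHom.ker_eq_bot_iff _).1 d)
      rw [Nat.card_perm] at this
      have d2 := Nat.factorial_le (e ▸ Set.ncard_le_ncard d1 : Nat.card (orbit Γ w) ≤ 3)
      simp only [Nat.factorial] at d2
      omega
    · refine a1 (h0 w fun g => ?_)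
      have := DFunLike.congr_fun
        (show toPermHom Γ (orbit Γ w) g = 1 from d.ge (mem_top g)) ⟨w, mem_orbit_self w⟩
      exact congrArg Subtype.val this
  · rw [← Nat.card_prod, ← Set.ncard_univ]
    refine (Set.ncard_le_ncard (t := (fun p : W × W => ({p.1, p.2, p.1 + p.2} : Set W)) '' Set.univ)
      ?_).trans (Set.ncard_image_le (Set.toFinite _))
    rintro _ ⟨g, rfl⟩
    exact ⟨(g • x, g • y), trivial, by simp [c4, Set.smul_set_insert]⟩

end act

theorem descend {I : Type*} (A : I → Matrix (Fin 56) (Fin 56) (ZMod 2)) {v : V} (hv : v ≠ 0)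
    (h : ∀ i, (A i).map emb *ᵥ v = v) : ∃ u : Fin 56 → ZMod 2, u ≠ 0 ∧ ∀ i, A i *ᵥ u = u := by
  obtain ⟨a, ha⟩ := Function.ne_iff.1 hv
  obtain ⟨φ, hφ⟩ := not_forall.1 ((forall_dual_apply_eq_zero_iff (ZMod 2) (v a)).not.2 ha)
  refine ⟨fun b => φ (v b), fun e => hφ (congrFun e a), fun i => funext fun b => ?_⟩
  conv_rhs => rw [← h i]
  simp [mulVec, dotProduct, ← Algebra.smul_def]

/-- the stabilizer of a vector -/
def fixS (v : V) : Subgroup G where
  carrier := {g | ρ g v = v}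
  mul_mem' {a b} ha hb := by
    change ρ (a * b) v = v
    rw [map_mul, End.mul_apply, hb, ha]
  one_mem' := by simp
  inv_mem' {a} ha := by
    change ρ a⁻¹ v = v
    conv_lhs => rw [← show ρ a v = v from ha, ← End.mul_apply, ← map_mul]
    simp

/-- the stabilizer of a linear form -/
def fixD (φ : Dual K V) : Subgroup G where
  carrier := {g | ∀ v, φ (ρ g v) = φ v}
  mul_mem' {a b} ha hb v := by rw [map_mul, End.mul_apply, ha, hb]
  one_mem' := by simp
  inv_mem' {a} ha v := by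
    rw [← ha, ← End.mul_apply, ← map_mul]
    simp

/-- a subgroup with a fixed vector in the module or in its dual -/
def Fx (N : Subgroup G) : Prop := (∃ v, v ≠ 0 ∧ N ≤ fixS v) ∨ ∃ φ, φ ≠ 0 ∧ N ≤ fixD φ

theorem Fx.mono {N N' : Subgroup G} (h : Fx N) (e : N' ≤ N) : Fx N' :=
  h.imp (fun ⟨v, a, b⟩ => ⟨v, a, e.trans b⟩) fun ⟨v, a, b⟩ => ⟨v, a, e.trans b⟩

theorem Fx.ex {N : Subgroup G} (h : Fx N) : ∃ _ : DistribMulAction G (Fin 56 → ZMod 2),
    (∀ v : Fin 56 → ZMod 2, (∀ g : G, g • v = v) → v = 0) ∧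
      ∃ v : Fin 56 → ZMod 2, v ≠ 0 ∧ ∀ g ∈ N, g • v = v := by
  obtain ⟨v, a, b⟩ | ⟨φ, a, b⟩ := h
  · obtain ⟨u, c, d⟩ := descend (fun g : N => M g) a fun g => (ρ_app _ _).symm.trans (b g.2)
    exact ⟨{ smul g v := M g *ᵥ v
             one_smul v := by change M 1 *ᵥ v = v; simp
             mul_smul g h v := by change M (g * h) *ᵥ v = M g *ᵥ M h *ᵥ v; simp
             smul_zero g := mulVec_zero _
             smul_add g := mulVec_add _ }, fun v => nofix, u, c, fun g hg => d ⟨g, hg⟩⟩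
  · obtain ⟨u, c, d⟩ := descend (fun g : N => (M g⁻¹)ᵀ) (v := fun i => φ (Pi.single i 1))
      (fun e => a ((Pi.basisFun K _).ext fun i => by simpa using congrFun e i)) fun g =>
        funext fun i => by
          rw [← b (N.inv_mem g.2), ρ_app, mulVec_single_one, LinearMap.pi_apply_eq_sum_univ]
          simp only [mulVec, dotProduct, map_apply, transpose_apply, col_apply, smul_eq_mul]
          refine Finset.sum_congr rfl fun j _ => congrArg₂ (· * ·) rfl (congrArg φ ?_)
          ext k; simp [Pi.single_apply, eq_comm]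
    exact ⟨{ smul g v := (M g⁻¹)ᵀ *ᵥ v
             one_smul v := by change (M 1⁻¹)ᵀ *ᵥ v = v; simp
             mul_smul g h v := by
               change (M (g * h)⁻¹)ᵀ *ᵥ v = (M g⁻¹)ᵀ *ᵥ (M h⁻¹)ᵀ *ᵥ v; simp
             smul_zero g := mulVec_zero _
             smul_add g := mulVec_add _ }, fun v h => nofix' fun g => by
               have : (M g⁻¹⁻¹)ᵀ *ᵥ v = v := h g⁻¹
               rwa [inv_inv] at this, u, c, fun g hg => d ⟨g, hg⟩⟩

theorem card_dvd {H S : Type*} [Group H] [Finite H] [Group S]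
    (e : Cfsg.generalizedFittingSubgroup H ≃* S) (hZ : center S = ⊥) : Nat.card H ∣ Nat.card (MulAut S) := by
  rw [← Nat.card_congr (MulAut.congr e).toEquiv]
  refine card_dvd_of_injective (MulAut.conjNormal (H := Cfsg.generalizedFittingSubgroup H))
    ((injective_iff_map_eq_one _).2 fun g hg => ?_)
  have h1 : ∀ x ∈ Cfsg.generalizedFittingSubgroup H, x * g = g * x := fun x hx => by
    have := congrArg Subtype.val (DFunLike.congr_fun hg ⟨x, hx⟩)
    rw [MulAut.conjNormal_apply] at this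
    exact (mul_inv_eq_iff_eq_mul.1 this).symm
  have h2 := H1.centralizer_gf_le (mem_centralizer_iff.2 h1)
  have h3 : e ⟨g, h2⟩ ∈ center S := mem_center_iff.2 fun s => by
    obtain ⟨x, rfl⟩ := e.surjective s
    rw [← map_mul, ← map_mul]; exact congrArg e (Subtype.ext (h1 _ x.2))
  exact congrArg Subtype.val (e.map_eq_one_iff.1 (mem_bot.1 (hZ.le h3)))

theorem index_dvd {H S : Type*} [Group H] [Finite H] [Group S]
    (e : Cfsg.generalizedFittingSubgroup H ≃* S) (hZ : center S = ⊥) {k : ℕ} (hA : Nat.card (MulAut S) ∣ k * Nat.card S) :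
    (Cfsg.generalizedFittingSubgroup H).index ∣ k := by
  have := (card_dvd e hZ).trans hA
  rwa [← (Cfsg.generalizedFittingSubgroup H).index_mul_card, ← Nat.card_congr e.toEquiv,
    Nat.mul_dvd_mul_iff_right Nat.card_pos] at this

section nm
variable {H : Subgroup G} {S : Type*} [Group S] (e : Cfsg.generalizedFittingSubgroup H ≃* S)

/-- the embedding of the socle -/
noncomputable def soc : S →* G := H.subtype.comp ((Subgroup.subtype _).comp e.symm.toMonoidHom)

theorem soc_inj : Function.Injective (soc e) :=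
  H.subtype_injective.comp ((Subgroup.subtype_injective _).comp e.symm.injective)

theorem soc_mem {g : H} (hg : g ∈ Cfsg.generalizedFittingSubgroup H) : g.1 ∈ (soc e).range :=
  ⟨e ⟨g, hg⟩, by simp [soc]⟩

theorem nm1 (hH : IsCoatom H) (hZ : center S = ⊥) {a : ℕ}
    (hA : Nat.card (MulAut S) ∣ 2 ^ a * Nat.card S) (hb : 2 ^ a * Nat.card S ≤ 2 ^ 76) :
    ¬ Fx (soc e).range := fun h => by
  obtain ⟨_, h0, v, hv, h1⟩ := h.ex
  have h3 := nmA (fun v => funext fun i => CharTwo.add_self_eq_zero _) h0 hH _ (index_dvd e hZ hA) hv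
    fun g hg => h1 g (soc_mem e hg)
  have := Finite.of_equiv _ e.toEquiv
  have h2 := (Nat.le_of_dvd (by simp [Nat.card_pos]) ((card_dvd e hZ).trans hA)).trans hb
  rw [cardG, Nat.card_fun, Nat.card_zmod, Nat.card_fin] at h3
  omega

theorem nm2 (hH : IsCoatom H) (hZ : center S = ⊥)
    (hA : Nat.card (MulAut S) ∣ 6 * Nat.card S) (hb : 6 * Nat.card S ≤ 10 ^ 6) :
    ¬ Fx (soc e).range := fun h => by
  obtain ⟨_, h0, v, hv, h1⟩ := h.ex
  have h3 := nmB (by rw [cardG]; decide) (fun v => funext fun i => CharTwo.add_self_eq_zero _) h0 hH _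
    (index_dvd e hZ hA) hv fun g hg => h1 g (soc_mem e hg)
  have := Finite.of_equiv _ e.toEquiv
  have h2 := (Nat.le_of_dvd (by simp [Nat.card_pos]) ((card_dvd e hZ).trans hA)).trans hb
  rw [cardG, Nat.card_fun, Nat.card_zmod, Nat.card_fin] at h3
  omega

end nm

theorem dm_add (g : G) : finrank K (LinearMap.range (ρ g - 1)) + dm g 1 = 56 := by
  have := (ρ g - 1).finrank_range_add_finrank_ker
  rwa [show LinearMap.ker (ρ g - 1) = (ρ g).eigenspace 1 by ext; simp [sub_eq_zero],
    finrank_fintype_fun_eq_card, Fintype.card_fin] at this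

theorem dm_two {t : G} (h : t ^ 2 = 1) : 28 ≤ dm t 1 := by
  have h1 := dm_add t
  have h2 : finrank K (LinearMap.range (ρ t - 1)) ≤ dm t 1 := Submodule.finrank_mono (by
    rintro _ ⟨v, rfl⟩
    have : ρ t (ρ t v) = v := by rw [← End.mul_apply, ← map_mul, ← sq, h]; simp
    simp only [End.mem_eigenspace_iff, LinearMap.sub_apply, End.one_apply, map_sub, this, one_smul]
    exact funext fun i => by simp [CharTwo.sub_eq_add, add_comm])
  omega

/-- Scott's lemma -/
theorem scott {x y : G} (h : 56 < dm x 1 + dm y 1 + dm (x * y) 1) : Fx (closure {x, y}) := by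
  by_contra hn
  rw [Fx, not_or, not_exists, not_exists] at hn
  have h1 : LinearMap.range (ρ x - 1) ⊔ LinearMap.range (ρ y - 1) = ⊤ := by
    by_contra e
    obtain ⟨φ, a, b⟩ := Submodule.exists_dual_map_eq_bot_of_lt_top (lt_top_iff_ne_top.2 e)
      inferInstance
    refine hn.2 φ ⟨a, (closure_le _).2 ?_⟩
    rintro g (rfl | rfl) v
    · simpa [sub_eq_zero] using b.le ⟨_, Submodule.mem_sup_left ⟨v, rfl⟩, rfl⟩
    · simpa [sub_eq_zero] using b.le ⟨_, Submodule.mem_sup_right ⟨v, rfl⟩, rfl⟩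
  have h2 := Submodule.finrank_sup_add_finrank_inf_eq (LinearMap.range (ρ x - 1))
    (LinearMap.range (ρ y - 1))
  rw [h1, finrank_top, finrank_fintype_fun_eq_card, Fintype.card_fin] at h2
  have h3 : ∀ v ∈ (ρ (x * y)).eigenspace 1, ρ x (ρ y v) = v := fun v hv => by
    simpa using End.mem_eigenspace_iff.1 hv
  have h4 : dm (x * y) 1 ≤ finrank K ↥(LinearMap.range (ρ x - 1) ⊓ LinearMap.range (ρ y - 1)) :=
    LinearMap.finrank_le_finrank_of_injective (f := (ρ y - 1).restrict fun v hv =>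
      ⟨⟨-ρ y v, by simp [h3 v hv, sub_eq_add_neg, add_comm]⟩, v, rfl⟩)
      ((injective_iff_map_eq_zero _).2 fun v e => by
        have a : ρ y v = v := sub_eq_zero.1 (congrArg Subtype.val e :)
        by_contra b
        refine hn.1 v ⟨fun e => b (Subtype.ext e), (closure_le _).2 ?_⟩
        rintro g (rfl | rfl)
        · have := h3 v v.2
          rwa [a] at this
        · exact a)
  have := dm_add x
  have := dm_add y
  omega

end H18.E7
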