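import Cfsg.Agent.H9.FV1

/-! S5720: the chunk `CH` (kernels of powers of `e` on weight spaces). -/

set_option autoImplicit false
set_option linter.unusedVariables false

open Module H17.FV H9.FV

namespace H18.FY

universe v w

theorem ch : CH.{v, w} := by
  intro K A M _ _ _ _ _ _ _ _ p _ _ D ν hp hν ef j
  let κ : ℕ → ℕ := fun k =>
    finrank K ↥(LinearMap.ker (act K M D.e) ⊓ LinearMap.range (act K M (D.π k)))
  have a : ∀ m k, finrank K ↥(LinearMap.ker (act K M (D.e ^ m)) ⊓ LinearMap.range (act K M (D.π k))) ≤
      ∑ i ∈ Finset.range m, κ (k + 2 * i) := fun m => by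
    induction m with
    | zero =>
      intro k
      rw [Finset.sum_range_zero, Nat.le_zero, Submodule.finrank_eq_zero, eq_bot_iff]
      intro x hx
      have : D.e ^ 0 • x = 0 := hx.1
      rwa [pow_zero, one_smul] at this
    | succ m ih =>
      intro k
      rw [rn (act K M D.e), Finset.sum_range_succ']
      refine add_le_add ((Submodule.finrank_mono ?_).trans ((ih (k + 2)).trans (le_of_eq
        (Finset.sum_congr rfl fun i _ => by congr 1; ring))))
        (Submodule.finrank_mono (inf_le_inf_left _ inf_le_right))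
      rintro _ ⟨x, hx, rfl⟩
      refine ⟨?_, (memV ef).2 ?_⟩
      · show D.e ^ m • D.e • x = 0
        rw [← mul_smul, ← pow_succ]
        exact hx.1
      · have := eV ef ((memV (K := K) ef).1 hx.2) 1
        rwa [pow_one, mul_one] at this
  let W : ℕ → Submodule K M := fun n =>
    LinearMap.ker (act K M D.e) ⊓ ⨅ i ∈ Finset.range n, LinearMap.ker (act K M (D.π (j + i)))
  have mW : ∀ n x, x ∈ W n ↔ D.e • x = 0 ∧ ∀ i < n, D.π (j + i) • x = 0 := fun n x => by
    simp only [W, Submodule.mem_inf, Submodule.mem_iInf, Finset.mem_range, LinearMap.mem_ker]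
    rfl
  have b : ∀ n, n ≤ p - 1 → finrank K (W n) + ∑ i ∈ Finset.range n, κ (j + i) ≤
      finrank K (LinearMap.ker (act K M D.e)) := fun n => by
    induction n with
    | zero => exact fun _ => Submodule.finrank_mono inf_le_left
    | succ n ih =>
      intro hn
      refine le_trans ?_ (ih (by omega))
      rw [Finset.sum_range_succ, rn (act K M (D.π (j + n))) (W n)]
      have c1 : finrank K (W (n + 1)) ≤
          finrank K ↥(LinearMap.ker (act K M (D.π (j + n))) ⊓ W n) :=
        Submodule.finrank_mono fun x hx => ⟨((mW _ x).1 hx).2 n n.lt_succ_self,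
          (mW _ x).2 ⟨((mW _ x).1 hx).1, fun i hi => ((mW _ x).1 hx).2 i (by omega)⟩⟩
      have c2 : κ (j + n) ≤ finrank K ((W n).map (act K M (D.π (j + n)))) :=
        Submodule.finrank_mono fun x hx => by
          have e := (memV (K := K) ef).1 hx.2
          refine ⟨x, (mW _ x).2 ⟨hx.1, fun i hi => ?_⟩, e⟩
          rw [← e, ← mul_smul, ef.orth, zero_smul]
          intro f
          have := Nat.le_of_dvd (by omega)
            ((Nat.modEq_iff_dvd' hi.le).1 (Nat.ModEq.add_left_cancel' j f))
          omega
      omega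
  have c : ∀ d, ∑ i ∈ Finset.range d, κ (j + 2 * i) + ∑ i ∈ Finset.range d, κ (j + 1 + 2 * i) =
      ∑ i ∈ Finset.range (2 * d), κ (j + i) := fun d => by
    induction d with
    | zero => simp
    | succ d ih =>
      rw [mul_add, mul_one, Finset.sum_range_succ, Finset.sum_range_succ, Finset.sum_range_succ,
        Finset.sum_range_succ, ← ih, show j + 1 + 2 * d = j + (2 * d + 1) by ring]
      ring
  have := b (2 * ((p - 1) / 2)) (by omega)
  have := add_le_add (a ((p - 1) / 2) j) (a ((p - 1) / 2) (j + 1))
  rw [c] at this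
  omega

end H18.FY
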