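import Cfsg.Agent.H18.HS1

/-! Facts on the model of the Sylow 2-subgroup of the Higman–Sims group. -/

set_option autoImplicit false
set_option maxRecDepth 100000
set_option synthInstance.maxSize 2000

namespace H18.HU
open H18.HS

attribute [local instance 2000] List.decidableBAll List.decidableBEx

/-- the model -/
abbrev X := Mo 8

def e : X := mo 8 1
def p : X := mo 8 4
def q : X := mo 8 16
def z : X := mo 8 2
def v : X := mo 8 40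
def w : X := mo 8 8
def a : X := mo 8 64
def b : X := mo 8 128
def s : X := mo 8 256
def c : X := mo 8 84
def d : X := mo 8 132

abbrev T0 : Subgroup X := ini 8 1
abbrev U0 : Subgroup X := ini 8 4

noncomputable def Z0 : Subgroup X := sg (nat_lit 0x5) (by decide +kernel)
instance : DecidablePred (· ∈ Z0) := fun x => inferInstanceAs (Decidable (tb (nat_lit 0x5) x))
noncomputable def E0 : Subgroup X := sg (nat_lit 0xf) (by decide +kernel)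
instance : DecidablePred (· ∈ E0) := fun x => inferInstanceAs (Decidable (tb (nat_lit 0xf) x))
noncomputable def W0 : Subgroup X := sg (nat_lit 0x50000000005) (by decide +kernel)
instance : DecidablePred (· ∈ W0) := fun x => inferInstanceAs (Decidable (tb (nat_lit 0x50000000005) x))
noncomputable def V0 : Subgroup X := sg (nat_lit 0x50500000505) (by decide +kernel)
instance : DecidablePred (· ∈ V0) := fun x => inferInstanceAs (Decidable (tb (nat_lit 0x50500000505) x))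
noncomputable def Y0 : Subgroup X := sg (nat_lit 0xf0f00000f0f) (by decide +kernel)
instance : DecidablePred (· ∈ Y0) := fun x => inferInstanceAs (Decidable (tb (nat_lit 0xf0f00000f0f) x))
noncomputable def R0 : Subgroup X :=
  sg (nat_lit 0xf0f00000f0f00000f0f00000f0f00000f0f00000f0f00000f0f00000f0f) (by decide +kernel)
instance : DecidablePred (· ∈ R0) := fun x => inferInstanceAs
  (Decidable (tb (nat_lit 0xf0f00000f0f00000f0f00000f0f00000f0f00000f0f00000f0f00000f0f) x))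
noncomputable def M1 : Subgroup X := sg (nat_lit 0xf0f00f0ff0f00f0ff0f00f0ff0f00f0ff0f00f0ff0f00f0ff0f00f0ff0f00f0ff0f00f0ff0f00f0ff0f00f0ff0f00f0ff0f00f0ff0f00f0ff0f00f0ff0f00f0f) (by decide +kernel)
instance : DecidablePred (· ∈ M1) := fun x => inferInstanceAs (Decidable (tb (nat_lit 0xf0f00f0ff0f00f0ff0f00f0ff0f00f0ff0f00f0ff0f00f0ff0f00f0ff0f00f0ff0f00f0ff0f00f0ff0f00f0ff0f00f0ff0f00f0ff0f00f0ff0f00f0ff0f00f0f) x))
noncomputable def M2 : Subgroup X := sg (nat_lit 0xf0ff0f00f0ff0f00f0ff0f00f0ff0f0f0f00f0ff0f00f0ff0f00f0ff0f00f0f0f0ff0f00f0ff0f00f0ff0f00f0ff0f0f0f00f0ff0f00f0ff0f00f0ff0f00f0f) (by decide +kernel)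
instance : DecidablePred (· ∈ M2) := fun x => inferInstanceAs (Decidable (tb (nat_lit 0xf0ff0f00f0ff0f00f0ff0f00f0ff0f0f0f00f0ff0f00f0ff0f00f0ff0f00f0f0f0ff0f00f0ff0f00f0ff0f00f0ff0f0f0f00f0ff0f00f0ff0f00f0ff0f00f0f) x))

theorem card_V0 : Nat.card V0 = 8 := (card_eq (· ∈ V0)).trans (by decide +kernel)
theorem card_R0 : Nat.card R0 = 64 := (card_eq (· ∈ R0)).trans (by decide +kernel)
theorem card_M1 : Nat.card M1 = 256 := (card_eq (· ∈ M1)).trans (by decide +kernel)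
theorem card_M2 : Nat.card M2 = 256 := (card_eq (· ∈ M2)).trans (by decide +kernel)
theorem card_T0 : Nat.card T0 = 64 := card_ini (by norm_num)

/-- conjugate in the model -/
def Cl (t x : X) : Prop := ∃ r, r * x * r⁻¹ = t
noncomputable instance (t x : X) : Decidable (Cl t x) := decEx _
/-- the classes of `a, b, c, d, w` -/
def Cm (k : ℕ) (x : X) : Prop := tb (H16.nth 0 [nat_lit 0x50a00000a050000000000000000,
  nat_lit 0xa0500000a0500000a0a0000050500000000000000000000000000000000,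
  nat_lit 0x50a00000a05000000000000000000000,
  nat_lit 0xa0500000a0500000000a0a00000505000000000000000000000000000000000, nat_lit 0x500000500] k) x
noncomputable instance (k : ℕ) (x : X) : Decidable (Cm k x) := Nat.decEq _ _
theorem cm : ∀ x, (Cm 0 x → Cl a x) ∧ (Cm 1 x → Cl b x) ∧ (Cm 2 x → Cl c x) ∧ (Cm 3 x → Cl d x) ∧
    (Cm 4 x → Cl w x) := by decide +kernel
/-- a square -/
def Sq (x : X) : Prop := tb (nat_lit 0xa050050a50a00a0510800f0f20100f05) x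
instance (x : X) : Decidable (Sq x) := Nat.decEq _ _

/-- the solutions of `x ^ 2 = 1` -/
def Il : List X := [0, 2, 8, 10, 32, 34, 40, 42, 64, 66, 73, 75, 84, 86, 93, 95, 97, 99, 104, 106, 117, 119, 124, 126,
  128, 130, 132, 134, 136, 138, 140, 142, 161, 163, 165, 167, 169, 171, 173, 175, 192, 194, 201, 203, 208, 210, 217,
  219, 224, 226, 233, 235, 240, 242, 249, 251, 256, 257, 258, 259, 284, 285, 286, 287, 296, 297, 298, 299, 308, 309,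
  310, 311, 320, 321, 322, 323, 340, 341, 342, 343, 360, 361, 362, 363, 380, 381, 382, 383].map (mo 8)

theorem il : ∀ x : X, x * x = 1 → x ∈ Il := by decide +kernel
theorem sq1 : ∀ x : X, Sq (x * x) := by decide +kernel
theorem sq2 : ∀ x, Sq x → ∃ y, y * y = x := by decide +kernel
theorem zc : ∀ x, x * z = z * x := by decide +kernel
theorem cs : z * z = 1 ∧ z ≠ 1 ∧ e * e = z ∧ v * v = 1 ∧ w * w = 1 ∧ a * a = 1 ∧ b * b = 1 ∧ c * c = 1 ∧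
    d * d = 1 ∧ s * s = 1 ∧ p * p = w := by decide +kernel
theorem zz : z * z = 1 := cs.1
theorem z1 : z ≠ 1 := cs.2.1
theorem ee : e * e = z := cs.2.2.1
theorem ww : w * w = 1 := cs.2.2.2.2.1
theorem aa : a * a = 1 := cs.2.2.2.2.2.1
theorem cc : c * c = 1 := cs.2.2.2.2.2.2.2.1
theorem pp : p * p = w := cs.2.2.2.2.2.2.2.2.2.2
theorem ms : z ∈ V0 ∧ v ∈ V0 ∧ w ∈ V0 ∧ z ∈ Z0 ∧ e ∈ E0 ∧ e ∈ R0 ∧ v ∈ R0 ∧ w ∈ R0 ∧ a ∈ R0 ∧ b ∈ R0 ∧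
    a ∉ Y0 ∧ c ∉ R0 ∧ a ∉ V0 ∧ w ≠ z ∧ v ∈ Y0 ∧ e ∈ T0 := by decide +kernel
theorem zV : z ∈ V0 := ms.1
theorem wV : w ∈ V0 := ms.2.2.1
theorem Zc : ∀ x, x ∈ Z0 ↔ x = 1 ∨ x = z := by decide +kernel
theorem abT : ∀ x ∈ T0, x ^ 4 = 1 ∧ (x ∈ V0 ↔ x ^ 2 = 1) ∧ ∀ y ∈ T0, y * x = x * y := by decide +kernel
theorem V_T : V0 ≤ T0 := by change ∀ x ∈ V0, x ∈ T0; decide +kernel
theorem V_R : V0 ≤ R0 := by change ∀ x ∈ V0, x ∈ R0; decide +kernel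
theorem V_Y : V0 ≤ Y0 := by change ∀ x ∈ V0, x ∈ Y0; decide +kernel
theorem Z_E : Z0 ≤ E0 := by change ∀ x ∈ Z0, x ∈ E0; decide +kernel
theorem E_Y : E0 ≤ Y0 := by change ∀ x ∈ E0, x ∈ Y0; decide +kernel
theorem Y_R : Y0 ≤ R0 := by change ∀ x ∈ Y0, x ∈ R0; decide +kernel
theorem R_U : R0 ≤ U0 := by change ∀ x ∈ R0, x ∈ U0; decide +kernel
theorem vv : ∀ x ∈ V0, x * x = 1 := by decide +kernel
theorem gen6 {K : Subgroup X} (h : ∀ r ∈ [e, p, q, a, b, s], r ∈ K) (x : X) : x ∈ K := by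
  rw [(by decide +kernel : ∀ x : X, x = e ^ (x.v % 4) * p ^ (x.v / 4 % 4) * q ^ (x.v / 16 % 4) * a ^ (x.v / 64 % 2) *
    b ^ (x.v / 128 % 2) * s ^ (x.v / 256)) x]
  simp only [List.forall_mem_cons] at h
  obtain ⟨_, _, _, _, _, _, -⟩ := h
  repeat first | assumption | apply pow_mem | apply mul_mem
theorem Sn {K : Subgroup X} (h : ∀ x ∈ K, ∀ r ∈ [e, p, q, a, b, s], r * x * r⁻¹ ∈ K) :
    ∀ r, ∀ x ∈ K, r * x * r⁻¹ ∈ K := fun r x hx =>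
  (Subgroup.mem_normalizer_iff.1 (gen6 (K := Subgroup.normalizer (K : Set X))
    (fun r hr => Subgroup.mem_normalizer_fintype fun y hy => h y hy r hr) r) x).1 hx
theorem SnT : ∀ r, ∀ x ∈ T0, r * x * r⁻¹ ∈ T0 := Sn (by decide +kernel)
theorem SnV : ∀ r, ∀ x ∈ V0, r * x * r⁻¹ ∈ V0 := Sn (by decide +kernel)
theorem SnY : ∀ r, ∀ x ∈ Y0, r * x * r⁻¹ ∈ Y0 := Sn (by decide +kernel)
theorem SnR : ∀ r, ∀ x ∈ R0, r * x * r⁻¹ ∈ R0 := Sn (by decide +kernel)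
theorem SnE : ∀ r, r * e * r⁻¹ = e ∨ r * e * r⁻¹ = e⁻¹ := by decide +kernel
theorem Ec : ∀ x ∈ E0, ∃ i < 4, x = e ^ i := by decide +kernel
theorem e4 : e ^ 4 = 1 := by decide +kernel
theorem sqV : ∀ x ∈ V0, ∃ t ∈ T0, t * t = x := by decide +kernel
theorem cV : ∀ x, (x * w = w * x ∧ x * v = v * x) → x * mo 8 32 = mo 8 32 * x → x ∈ T0 := by decide +kernel
theorem q4 : ∀ x : X, x * x * (x * x) = 1 → x * x ∉ V0 → ∀ y ∈ Il, y * x = x * y →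
    y = 1 ∨ y = z ∨ y = x * x ∨ y = z * (x * x) := by decide +kernel
theorem A1 : ∀ y ∈ U0, y * y = 1 → y ∉ V0 → y * e = e * y ∧ ∃ u ∈ V0, u * y = y * u ∧ u * e = e * u ∧
    u ≠ 1 ∧ u ≠ y ∧ u ≠ e * e ∧ u ≠ y * (e * e) := by decide +kernel
theorem A2 : ∀ y ∈ Il, y ∉ U0 → ∃ u ∈ T0, u * y = y * u ∧ z * (u * u) ∈ V0 ∧ z * (u * u) ≠ z ∧
    u * u * (u * u) = 1 ∧ z ≠ y ∧ z ≠ u * u ∧ z ≠ y * (u * u) := by decide +kernel
theorem A3 : ∀ y ∈ Il, y ∉ U0 → ∀ x ∈ Il, x ∈ V0 → x * y = y * x → Cl y (y * x) := by decide +kernel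
theorem K0 : ∀ u ∈ Il, Sq u → u = 1 ∨ u = z ∨ Cm 0 u ∨ Cm 4 u ∨ Cl v u := by decide +kernel
theorem K1 : ∀ u ∈ [z, a, w, v], ∀ x ∈ Il, x * u = u * x → ∀ y ∈ Il, y * u = u * y →
    (x * y) ^ 4 = 1 ∨ (x * y) ^ 4 = u := by decide +kernel
theorem K2 : d * c = c * d ∧ s * c = c * s ∧ (d * s) ^ 4 ≠ 1 ∧ c ≠ 1 ∧ (d * s) ^ 4 ≠ c := by decide +kernel
theorem Vc : ∀ x ∈ V0, x ≠ 1 → x ≠ z → Cl v x ∨ Cm 4 x := by decide +kernel
theorem Wc : ∀ x ∈ W0, x * x = 1 ∧ (x = 1 ∨ x = z ∨ Cl v x) := by decide +kernel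
theorem VW : ∀ x ∈ V0, x ∈ W0 ∨ Cm 4 x := by decide +kernel
theorem B2 : (∀ x, x * x = w → x ∈ T0) ∧ mo 8 384 * mo 8 384 = a ∧ mo 8 385 * mo 8 385 = a ∧
    mo 8 384 * mo 8 385 ≠ mo 8 385 * mo 8 384 := by decide +kernel
theorem B3 : (∀ y ∈ Il, y * w = w * y → y ∈ W0 ∨ Cm 4 y ∨ Cm 1 y ∨ Cm 3 y) ∧ a * b = b * a ∧
    mo 8 73 * b = b * mo 8 73 ∧ Cm 0 (mo 8 73) ∧ mo 8 73 * a * (mo 8 73 * a) ≠ 1 := by decide +kernel
theorem B4 : (∀ x ∈ M1, x * x * (x * x) = 1 → x * x ∈ W0 ∨ Cm 0 (x * x)) ∧ (∀ y ∈ Il, y ∈ M1 ∨ Cm 3 y) ∧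
    (∀ x ∈ M2, x * x * (x * x) = 1 → x * x ∈ W0 ∨ Cm 0 (x * x)) ∧ ∀ y ∈ Il, y ∈ M2 ∨ Cm 1 y := by
  decide +kernel

/-- the image in `L₃(2)` -/
def la (x : X) : Mo 168 := mo 168 (Nat.mul (nat_lit 64) (Nat.div x.v (nat_lit 64)))
/-- the inclusion -/
abbrev i8 : X →* Mo 168 := inc 8 168 (by norm_num)

theorem la1 : ∀ x, la x ∈ mL ∧ ∀ t ∈ [z, w, v], i8 (x * t * x⁻¹) = la x * i8 t * (la x)⁻¹ := by decide +kernel
theorem la2 : ∀ t ∈ V0, t ≠ 1 → ∀ u ∈ V0, u ≠ 1 → u ≠ t → ∀ r ∈ V0, r ≠ 1 → r ≠ t → r ≠ u → r ≠ t * u →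
    ∃ l ∈ mL, l * i8 z * l⁻¹ = i8 t ∧ l * i8 w * l⁻¹ = i8 u ∧ l * i8 v * l⁻¹ = i8 r := by decide +kernel
theorem la3 : ∀ l ∈ mL, l * i8 z * l⁻¹ = i8 z → l * i8 w * l⁻¹ = i8 w → l * i8 v * l⁻¹ = i8 v → l = 1 := by
  decide +kernel
theorem la4 : ∀ t ∈ V0, ∃ i < 2, ∃ j < 2, ∃ k < 2, t = z ^ i * w ^ j * v ^ k := by decide +kernel
theorem la5 : ∀ l ∈ mL, l * i8 w * l⁻¹ = i8 z → ∀ r ∈ [3, 7], ∃ k < 8,
    (l * la (mo 8 (64 * k))) ^ r = 1 ∧ l * la (mo 8 (64 * k)) ≠ 1 := by decide +kernel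
theorem la6 : ∀ y ∈ Il, y ∉ T0 → ∃ l ∈ mL, l * la y * l⁻¹ = la a := by decide +kernel
theorem la7 : ∀ t ∈ V0, t ≠ 1 → ∃ l ∈ mL, l * i8 t * l⁻¹ = i8 z := by decide +kernel
theorem la8 : ∀ x, (la x = 1 → x ∈ T0) ∧ (la x = la a → x * x = 1 → Cm 0 x ∨ Cm 2 x) := by decide +kernel
/-- the element of order three -/
def yy : Mo 168 := mo 168 1024
theorem y1 : yy ∈ mL ∧ yy * i8 z * yy⁻¹ = i8 z ∧ (∀ x ∈ U0, ∃ k < 4, la (mo 8 (64 * k)) = yy * la x * yy⁻¹) ∧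
    yy * la b * yy⁻¹ = la a ∧ yy * la d * yy⁻¹ = la a ∧ yy * la a * yy⁻¹ = la (a * b) ∧
    yy * la c * yy⁻¹ = la (a * b) := by decide +kernel
theorem D2 : ∀ x ∈ Il, la x = la a → ∀ y ∈ Il, la y = la (a * b) → y * x = x * y →
    (Cm 0 x ∧ Cm 1 y) ∨ (Cm 2 x ∧ Cm 3 y ∧ Cm 3 (y * x)) := by decide +kernel
theorem D3 : Cm 1 (a * b) ∧ ∀ y ∈ Il, y ∈ U0 → (y ∈ R0 ∧ (Sq y ∨ Cm 1 y)) ∨ (y ∉ R0 ∧ (Cm 2 y ∨ Cm 3 y)) := by
  decide +kernel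
theorem G0 : ∀ x, x * e = e * x → x * x * (x * x) = 1 → x * x ≠ 1 → x * x ≠ z → x ∈ T0 := by decide +kernel
theorem G1 : ∀ x, x * x = z → x.v < 128 → x = e ∨ x = e⁻¹ ∨ Sq x ∨ Cl (e * a) x := by decide +kernel
theorem G2 : ¬ Sq e ∧ (∀ u ∈ [mo 8 264, mo 8 265], u * u = v ∧ u * (e * a) = e * a * u) ∧
    mo 8 264 * mo 8 265 ≠ mo 8 265 * mo 8 264 ∧ v ≠ 1 ∧ v ≠ z ∧ s * e * s⁻¹ = e⁻¹ ∧ ∀ x, x * x = z → x ∈ U0 := by
  decide +kernel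

end H18.HU
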