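import Cfsg.Agent.H18.HU0b

/-! The symplectic geometry of `R / E`. -/

set_option autoImplicit false
set_option maxRecDepth 100000
set_option synthInstance.maxSize 200000

namespace H18.HU
open H18.HS Equiv

attribute [local instance 2000] List.decidableBAll List.decidableBEx

/-- an entry of a table -/
def ent (t m : ℕ) : ℕ := Nat.land (Nat.shiftRight t (Nat.mul (nat_lit 4) m)) (nat_lit 15)
/-- the image in `R / E` -/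
def vec (x : X) : ℕ := ent (nat_lit 0xdddd0000ffff00000000000000000000eeee0000cccc0000000000000000000099990000bbbb00000000000000000000aaaa0000888800000000000000000000555500007777000000000000000000006666000044440000000000000000000011110000333300000000000000000000222200000000) x.v
/-- the next point on a line of a spread -/
def om (i : Fin 6) (m : ℕ) : ℕ := ent (nat_lit 0x53e42fbc17a8d960354fe2da17b9c860367f2dbea815c94063e7c2fab915d8405647cfdeb8a913206574edfca9b81320)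
  (Nat.add (Nat.mul (nat_lit 16) i.1) m)
/-- the symplectic form -/
def bf (m n : ℕ) : Prop := Nat.land (Nat.shiftRight
  (nat_lit 0x6996969699666666a55a5a5a55aaaaaac33c3c3c33cccccc0ff0f0f0ff000000) (Nat.add (Nat.mul (nat_lit 16) m) n))
  (nat_lit 1) = nat_lit 1
instance (m n : ℕ) : Decidable (bf m n) := Nat.decEq _ _
/-- a linear map -/
def lin (n1 n2 n3 n4 m : ℕ) : ℕ := Nat.xor (Nat.xor (Nat.xor (Nat.mul (Nat.mod m (nat_lit 2)) n1)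
  (Nat.mul (Nat.mod (Nat.div m (nat_lit 2)) (nat_lit 2)) n2)) (Nat.mul (Nat.mod (Nat.div m (nat_lit 4)) (nat_lit 2)) n3))
  (Nat.mul (Nat.div m (nat_lit 8)) n4)
/-- two points on a line of a spread -/
def Ln (j : Fin 6) (m n : ℕ) : Prop := n = om j m ∨ m = om j n
instance (j : Fin 6) (m n : ℕ) : Decidable (Ln j m n) := @instDecidableOr _ _ (Nat.decEq _ _) (Nat.decEq _ _)
/-- the spread `i` is mapped to `j` -/
def Rl (n1 n2 n3 n4 : ℕ) (i j : Fin 6) : Prop := ∀ m < 16, Ln j (lin n1 n2 n3 n4 m) (lin n1 n2 n3 n4 (om i m))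
instance (n1 n2 n3 n4 : ℕ) (i j : Fin 6) : Decidable (Rl n1 n2 n3 n4 i j) := Nat.decidableBallLT _ _

/-- the action on the spreads -/
def Sp (n1 n2 n3 n4 : ℕ) : Prop := (∀ i, ∃ j, Rl n1 n2 n3 n4 i j) ∧
  (Rl n1 n2 n3 n4 0 0 → Rl n1 n2 n3 n4 1 1 → 4 ≤ n3 ∧ (Rl n1 n2 n3 n4 2 2 → Rl n1 n2 n3 n4 3 3 →
    Rl n1 n2 n3 n4 4 4 → n1 = 1 ∧ n2 = 2 ∧ n3 = 4 ∧ n4 = 8))
instance (n1 n2 n3 n4 : ℕ) : Decidable (Sp n1 n2 n3 n4) := inferInstanceAs (Decidable (_ ∧ _))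

theorem sp : ∀ n1 < 16, ∀ n2 < 16, ¬ bf n1 n2 → ∀ n3 < 16, ¬ bf n1 n3 → bf n2 n3 → ∀ n4 < 16, bf n1 n4 →
    ¬ bf n2 n4 → ¬ bf n3 n4 → Sp n1 n2 n3 n4 := by decide +kernel

theorem vec_lt (x : X) : vec x < 16 := Nat.lt_succ_of_le Nat.and_le_right
theorem om_lt (i : Fin 6) (m : ℕ) : om i m < 16 := Nat.lt_succ_of_le Nat.and_le_right
theorem vec_mul : ∀ x ∈ R0, ∀ y ∈ R0, vec (x * y) = vec x ^^^ vec y ∧ (x * y = y * x ↔ ¬ bf (vec x) (vec y)) ∧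
    (vec y = vec x → y * x⁻¹ ∈ E0) := by decide +kernel
theorem vecE : ∀ x ∈ E0, vec x = 0 := by decide +kernel
theorem vecV : ∀ x ∈ V0, vec x < 4 := by decide +kernel
theorem vec_sur : ∀ m < 16, lin 1 2 4 8 m = m ∧ ∃ x ∈ R0, vec x = m := by decide +kernel
theorem vec_dec : ∀ x ∈ R0, ∃ u ∈ E0,
    x = u * v ^ (vec x % 2) * w ^ (vec x / 2 % 2) * a ^ (vec x / 4 % 2) * b ^ (vec x / 8) := by decide +kernel
theorem CA : ∀ x, x ∈ R0 ↔ vec (x * v * x⁻¹) = 1 ∧ vec (x * w * x⁻¹) = 2 ∧ vec (x * a * x⁻¹) = 4 ∧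
    vec (x * b * x⁻¹) = 8 := by decide +kernel
theorem cms : v * w = w * v ∧ v * a = a * v ∧ w * a ≠ a * w ∧ v * b ≠ b * v ∧ w * b = b * w ∧ a * b = b * a := by
  decide +kernel
/-- the image of `p` -/
def σp : Perm (Fin 6) := swap 2 4 * swap 3 5
theorem vals : ∀ i, (∀ j, Rl 1 2 4 8 i j ↔ i = j) ∧ ∀ t ∈ [(p, σp), (q, swap 2 5 * swap 3 4), (s, swap 2 3)],
    Rl (vec (t.1 * v * t.1⁻¹)) (vec (t.1 * w * t.1⁻¹)) (vec (t.1 * a * t.1⁻¹)) (vec (t.1 * b * t.1⁻¹)) i (t.2 i) := by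
  decide +kernel
theorem W6 : ∀ σ : Perm (Fin 6), σ 0 ≠ 0 → σ 1 ≠ 1 → ∃ l ∈ [[1, 3, 0], [0, 3, 1], [1, 2, 0, 3, 1, 2, 0, 3, 1, 2, 0, 3],
    [1, 2, 3, 2, 0], [0, 3, 1, 1, 3, 0, 0, 3, 1], [1, 1, 3, 0, 0], [0, 0, 2, 1, 3, 0, 2, 1, 1], [0, 0, 3, 1, 1],
    [0, 2, 3, 2, 1], [0, 2, 0, 2, 3, 2, 1, 2, 1], [0, 2, 1, 2, 0], [0, 2, 0, 3, 1, 2, 1], [0, 0, 0],
    [0, 3, 0, 3, 1, 3, 1], [1, 3, 1, 3, 0, 3, 0], [1, 2, 3, 0, 3, 1, 2, 0, 3, 1, 3, 2, 0, 3], [0, 3, 0, 3, 0, 3],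
    [1, 3, 2, 1, 3, 0, 2, 3, 0], [0, 3, 2, 0, 3, 1, 2, 3, 1], [0, 2, 1, 2, 0, 2], [0, 0, 2, 1, 3, 1],
    [0, 3, 2, 3, 1, 2, 0, 3, 2], [0, 2, 0, 2, 0, 2, 3, 2, 3], [2, 1, 2, 1, 2, 0, 3, 2, 1, 1],
    [0, 3, 0, 2, 3, 1, 2, 3, 0, 2, 3, 1, 3], [0, 2, 1, 2, 0, 2, 1, 2, 0, 2], [0, 2, 3, 2, 1, 2, 3, 2, 0, 2, 3, 2],
    [0, 3, 2, 3]], (l.map (![σ, σ⁻¹, σp, swap 2 3] : Fin 4 → _)).prod = swap 0 1 := by decide +kernel
/-- the image of `p` -/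
def τp : Perm (Fin 5) := swap 1 3 * swap 2 4
theorem W5 : ∀ σ : Perm (Fin 5), σ 0 ≠ 0 → ∃ x ∈ [τp, swap 1 2 * τp * swap 1 2, (swap 1 2 * τp) ^ 2],
    ∃ y ∈ [τp, swap 1 2 * τp * swap 1 2, (swap 1 2 * τp) ^ 2], (x * (σ * y * σ⁻¹)) ^ 5 = 1 ∧ x * (σ * y * σ⁻¹) ≠ 1 := by
  decide +kernel
theorem W56 : ∀ i : Fin 5, σp i.succ = (τp i).succ ∧ swap (2 : Fin 6) 3 i.succ = (swap 1 2 i).succ := by
  decide +kernel
theorem W01 : swap 0 1 * σp * (swap 0 1)⁻¹ = σp ∧ swap 0 1 * swap (2 : Fin 6) 3 * (swap 0 1)⁻¹ = swap 2 3 := by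
  decide +kernel

end H18.HU
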