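import Cfsg.Agent.H27.MS0
import Cfsg.Agent.H27.PH4

/-! S5899, chunk `KU3`. -/

set_option autoImplicit false

namespace H18.MS
open Cfsg Subgroup H27.PH H11 Matrix
open scoped MatrixGroups

set_option maxHeartbeats 800000 in
theorem ku3 : H27.MS.KU3 := fun F _ _ q hF hq => by
  obtain ⟨u, hu, -⟩ := exists_orderOf_eq F (d := q + 1) ⟨_, card_sub_one_eq hF⟩
  have h : frob hF u * u = 1 := by
    rw [frob_apply, ← pow_succ, ← hu, ← Units.val_pow_eq_pow_val, pow_orderOf_eq_one]; rfl
  have n3 : (u : F) ^ 3 ≠ 1 := fun e => by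
    have := orderOf_le_of_pow_eq_one (x := u) (n := 3) (by norm_num) (Units.ext (by simpa using e))
    omega
  have hc : ∀ i, frob hF (![(u : F), u, frob hF u * frob hF u] i) * ![(u : F), u, frob hF u * frob hF u] i = 1 := by
    intro i; fin_cases i
    · exact h
    · exact h
    · simp only [map_mul, frob_frob, Fin.reduceFinMk, cons_val]
      linear_combination (frob hF u * u + 1) * h
  have hc' : ∀ i, frob hF (![(u : F), 1, frob hF u] i) * ![(u : F), 1, frob hF u] i = 1 := by
    intro i; fin_cases i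
    · exact h
    · simp [-frob_apply]
    · simp only [frob_frob, Fin.reduceFinMk, cons_val]
      linear_combination h
  let d : SU 3 F q := ⟨⟨diagonal ![(u : F), u, frob hF u * frob hF u], by
    simp only [det_diagonal, Fin.prod_univ_three, cons_val]
    linear_combination (frob hF u * u + 1) * h⟩, (mem_su hF).2 (on_dg hc)⟩
  let e : SU 3 F q := ⟨⟨diagonal ![(u : F), 1, frob hF u], by
    simp only [det_diagonal, Fin.prod_univ_three, cons_val]
    linear_combination h⟩, (mem_su hF).2 (on_dg hc')⟩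
  have cm : ∀ A, i0 hF A * d = d * i0 hF A := fun A => su_ext (by
    change (i0 hF A).1.1 * diagonal _ = diagonal _ * (i0 hF A).1.1
    ext a b; fin_cases a <;> fin_cases b <;>
      simp [i0, coe_bl, mul_apply, ct_Jm, Jm_apply, Fin.sum_univ_succ, mul_comm, one_apply, -frob_apply])
  obtain ⟨w, hw⟩ : ∃ w : SU 2 F q, w.1.1 = !![0, 1; -1, 0] := ⟨⟨⟨_, by simp⟩, (mem_su hF).2 (by
    ext a b; fin_cases a <;> fin_cases b <;> simp [ct, mul_apply, -frob_apply])⟩, rfl⟩
  have sc : ∀ {x y : SU 3 F q}, (x : PSU 3 F q) = y → ∃ a : F, a ^ 3 = 1 ∧ y.1.1 = x.1.1 * scalar _ a := fun {x y} k => by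
    obtain ⟨a, k⟩ := (su_mem_center_iff hF (by decide) _).1 (QuotientGroup.eq.1 k)
    refine ⟨a, by have := (x⁻¹ * y).1.2; rw [k] at this; simpa using this, ?_⟩
    rw [← k]; exact congrArg (·.1.1) (mul_inv_cancel_left x y).symm
  let φ := (QuotientGroup.mk' (center (SU 3 F q))).comp (i0 hF)
  refine ⟨φ.range, centralizer {(d : PSU 3 F q)}, lt_of_le_of_ne ?_ fun k => ?_, fun k => ?_, fun hs => ?_⟩
  · rintro _ ⟨A, rfl⟩
    exact mem_centralizer_singleton_iff.2 (congrArg (QuotientGroup.mk' _) (cm A))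
  · obtain ⟨A, k⟩ := k.ge (x := (e : PSU 3 F q)) (mem_centralizer_singleton_iff.2 (congrArg (QuotientGroup.mk' _)
      (show e * d = d * e from su_ext (by
        change diagonal _ * diagonal _ = diagonal _ * diagonal _
        simp only [diagonal_mul_diagonal, mul_comm]))))
    obtain ⟨a, a3, k⟩ := sc k
    have e2 : diagonal ![(u : F), 1, frob hF u] 2 2 = _ := congrFun₂ k 2 2
    simp [i0, coe_bl, mul_apply, ct_Jm, Jm_apply, Fin.sum_univ_succ, one_apply, -frob_apply] at e2
    exact n3 (by rw [e2] at h; linear_combination (-(u : F) ^ 3) * a3 + ((a * u) ^ 2 + a * u + 1) * h)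
  · obtain ⟨a, -, k⟩ := sc (x := i1 hF w * d) (y := d * i1 hF w)
      (mem_centralizer_singleton_iff.1 (k.ge (mem_top ((i1 hF w : SU 3 F q) : PSU 3 F q))))
    have e1 : (diagonal ![(u : F), u, frob hF u * frob hF u] * (i1 hF w).1.1) 0 0 =
      ((i1 hF w).1.1 * diagonal ![(u : F), u, frob hF u * frob hF u] * diagonal fun _ : Fin 3 => a) 0 0 := congrFun₂ k 0 0
    have e2 : (diagonal ![(u : F), u, frob hF u * frob hF u] * (i1 hF w).1.1) 1 2 =
      ((i1 hF w).1.1 * diagonal ![(u : F), u, frob hF u * frob hF u] * diagonal fun _ : Fin 3 => a) 1 2 := congrFun₂ k 1 2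
    rw [mul_diagonal, mul_diagonal, diagonal_mul] at e1 e2
    simp [i1, coe_bl, hw, mul_apply, ct_Jm, Jm_apply, Fin.sum_univ_succ, one_apply, -frob_apply] at e1 e2
    rw [e1] at e2
    exact n3 (by linear_combination (u : F) ^ 2 * e2 + (frob hF u * u + 1) * h)
  have kk : φ.rangeRestrict.ker ≤ (center (SU 2 F q)).subtype.range := fun A hA => ⟨⟨A, mem_center_iff.2 fun B =>
    bl_inj (on_Jm (Fin.castSucc_injective 2)) (by
      have := mem_center_iff.1 ((QuotientGroup.eq_one_iff _).1 (Subtype.ext_iff.1 hA)) (i0 hF B)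
      rw [map_mul, map_mul]; exact this)⟩, rfl⟩
  have := Group.isSolvable_of_comm (G := center (SU 2 F q)) mul_comm'
  have s := Group.isSolvable_of_ker_le_range _ φ.rangeRestrict kk
  obtain ⟨p, k, hp, _, k0, rfl⟩ := exists_prime_pow_of_card_sq hF
  have := Fact.mk hp
  have := Fintype.ofFinite (GaloisField p k)
  have c := GaloisField.card p k k0.ne'
  obtain ⟨e⟩ := nonempty_su_two_equiv hF (K := GaloisField p k) (by rw [← Nat.card_eq_fintype_card, c])
  have s2 := Cfsg.Agent.S0810.solv_congr e.symm s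
  exact Cfsg.Agent.S0810.psl_not_solv (c ▸ hq)
    (Group.isSolvable_of_surjective (QuotientGroup.mk'_surjective (center SL(2, GaloisField p k))))

end H18.MS
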