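import Cfsg.Agent.H27.MS1

/-! S5899: generic parts of `TYe` and `TYs`. -/

set_option autoImplicit false
set_option linter.unusedVariables false

namespace H18.MS
open Cfsg Subgroup H18 H17.GS H28.S H2.GW
open H19 hiding eq_bot_mono
open H28.NG hiding Hyp Uniq Ch
open H27.MS

universe u
variable {G : Type u} [Group G] [Finite G] {S Y N Q T V₀ V : Subgroup G} {a b x : G} {r k : ℕ}

/-- a solvable subgroup containing a four-subgroup of a TI Sylow subgroup normalizes it -/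
theorem gen0 (hS : Syl 2 S ⊤) (se : ∀ g a, a ∈ S → a * a = 1 → a ≠ 1 → g * a * g⁻¹ ∈ N(S) → g ∈ N(S)) (hY : Sol Y)
    (k : K4 a b) (aS : a ∈ S) (bS : b ∈ S) (aY : a ∈ Y) (bY : b ∈ Y) : Y ≤ N(S) := by
  by_cases R : Oc {2} Y = ⊥
  · have o : OG (Fit Y) := (R ▸ Oc_Fit_syl 2 Y).pi'_of_eq_bot
    have f : ∀ c ∈ S, orderOf c = 2 → Fit Y ⊓ C[c] ≤ N(S) := fun c hc c2 g hg =>
      se g c hc (mul_self_of_two c2) (ne_one_of_two c2) ((mem_cent1_conj.1 hg.2).symm ▸ le_normalizer hc)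
    have n := k.gen (odd_iff_pi.2 o) (Fit_norm Y aY) (Fit_norm Y bY) (f a aS k.t2) (f b bS k.s2) (f _ (mul_mem aS bS) k.ts2)
    exact (k.t1 ((hS.pi.inf_eq_bot o).le ⟨aS, cent_Fit_le hY ⟨aY, cents_of_norms_disjoint (H := S ⊓ Y) (norms_inf n
      ((Fit_le Y).trans le_normalizer)) (inf_le_right.trans (Fit_norm Y)) ((hS.pi.infl Y).inf_eq_bot o) ⟨aS, aY⟩⟩⟩)).elim
  obtain ⟨g, -, l⟩ := hS.scj_le le_top ((Oc_pi {2} Y).sup (pg2_zpowers k.t2) (zpowers_le' (Oc_norm _ Y aY)))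
  have l' : Oc {2} Y ≤ S := fun y hy => by
    simpa [mul_assoc] using conj_mem_of_norm' (se g a aS k.tt k.t1 (le_normalizer (l (conj_mem_cj.2 (mem_sup_right (mem_zpowers a))))))
      (l (conj_mem_cj.2 (mem_sup_left hy)))
  obtain ⟨t, ht, t2⟩ := exists_inv_pg (Oc_pi {2} Y) R
  exact fun y hy => se y t (l' ht) (mul_self_of_two t2) (ne_one_of_two t2) (le_normalizer (l' (conj_mem_of_norm (Oc_norm _ Y hy) ht)))

theorem cq (h : Fr N Q T) (s : Sec N Q V₀ V) : N ⊓ Cm V₀ V ≤ Q :=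
  (h.smp _ ⟨inf_le_left, norms_inf le_normalizer (norms_Cm s.n0 s.nV)⟩).resolve_right fun e => s.nc (e.ge.trans inf_le_right)

/-- an element of prime power order modulo `Q` bounds the sections from below -/
theorem lb_of (h : Fr N Q T) (s : Sec N Q V₀ V) (hx : x ∈ N) (hr : r.Prime) (r2 : r ≠ 2) (e : x ^ r ^ (k + 1) ∈ Q)
    (n : x ^ r ^ k ∉ Q) : ∃ d, 0 < d ∧ r ^ (k + 1) ∣ 2 ^ d - 1 ∧ 2 ^ d * #V₀ ≤ #V := by
  obtain ⟨m, hm⟩ := (h.pg.elt e).exists_pow (orderOf_pos _).ne'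
  have := Fact.mk hr
  have n' : (x ^ 2 ^ m) ^ r ^ k ∉ Q := fun q => n (by
    rw [← pow_mul, mul_comm, pow_mul] at q
    rw [pow_succ, pow_mul] at e
    obtain ⟨i, j, c⟩ := Nat.isCoprime_iff_coprime.2 (((Nat.coprime_primes Nat.prime_two hr).2 r2.symm).pow_left m)
    rw [← zpow_one (x ^ r ^ k), ← c, zpow_add, mul_comm i, mul_comm j, zpow_mul, zpow_mul, zpow_natCast, zpow_natCast]
    exact mul_mem (zpow_mem q _) (zpow_mem e _))
  have o : orderOf (x ^ 2 ^ m) = r ^ (k + 1) := orderOf_eq_prime_pow (fun q => n' (q ▸ one_mem _))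
    (by rw [← pow_mul, mul_comm, pow_mul, ← hm, pow_orderOf_eq_one])
  have hy := pow_mem hx (2 ^ m)
  generalize x ^ 2 ^ m = y at n' o hy
  have oz : orderOf (y ^ r ^ k) = r := by
    rw [orderOf_pow_of_dvd (pow_pos hr.pos k).ne' (o ▸ pow_dvd_pow r k.le_succ), o, pow_succ', Nat.mul_div_cancel _ (pow_pos hr.pos k)]
  have og : OG (zpowers y) := piG_zpowers.2 fun p hp hd e => r2 (by
    rw [o] at hd; exact ((Nat.prime_dvd_prime_iff_eq hp hr).1 (hp.dvd_of_dvd_pow hd)).symm.trans e)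
  have l : zpowers (y ^ r ^ k) ≤ zpowers y := zpowers_le' (pow_mem (mem_zpowers y) _)
  have yN := zpowers_le' hy
  have w := s.ea.subB (l.trans (yN.trans s.nV))
  have d := w.dvd_pred og (norms_br (yN.trans s.nV) (normal_of_ab (comm_of_cyclic inferInstance) l).norm (yN.trans s.n0)) (yN.trans s.n0)
    fun z hz z1 => (inf_le_inf_left _ (Cm_anti (cyc_le_of_dvd inferInstance l (zpowers_le' hz) ?_))).trans
      (s.ea.br_inf (og.of_le l) (l.trans (yN.trans s.nV)) (l.trans (yN.trans s.n0)))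
  · obtain ⟨i, hi⟩ := (w.pgV.dvd (relIndex_dvd_card V₀ _)).exists_pow (relIndex_ne_zero' _ _)
    refine ⟨i, Nat.pos_of_ne_zero fun i0 => n' (cq h s ⟨pow_mem hy _, le_Cm' (l.trans (yN.trans s.n0))
      (le_sup_left.trans (relIndex_eq_one.1 (by rw [hi, i0, pow_zero]))) (mem_zpowers _)⟩), by rwa [Nat.card_zpowers, o, hi] at d, ?_⟩
    rw [← hi, mul_comm, card_mul_relIndex w.le]
    exact card_le (s.ea.br_le (l.trans (yN.trans s.nV)))
  rw [Nat.card_zpowers, Nat.card_zpowers, oz]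
  obtain ⟨j, -, e⟩ := (Nat.dvd_prime_pow hr).1 (o ▸ orderOf_dvd_of_mem_zpowers hz)
  exact e ▸ dvd_pow_self r (by rintro rfl; exact z1 (orderOf_eq_one_iff.1 e))

end H18.MS
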