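import Cfsg.Agent.H23.MS3
import Cfsg.Agent.H18.MS2
import Cfsg.Agent.H13.SL2Syl

/-! S5899: the Bender data of `L₂(2 ^ p)`. -/

set_option autoImplicit false
set_option linter.unusedVariables false
set_option linter.unusedSectionVars false

namespace H18.MS
open Cfsg Subgroup H18 H17.GS H28.S H2.GW
open H19 hiding eq_bot_mono
open H28.NG hiding Hyp Uniq Ch
open H27.MS H23.MS
open H13.GL2 (upS upS_mul upS_inj upS_one exists_upS)
open scoped MatrixGroups

universe u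

theorem pp_of {p : ℕ} (hp : p.Prime) (p2 : p ≠ 2) : ∃ r k : ℕ, r.Prime ∧ r ≠ 2 ∧ r ^ (k + 1) ∣ 2 ^ p + 1 ∧
    ∀ d, 0 < d → r ^ (k + 1) ∣ 2 ^ d - 1 → 2 * p ≤ d := by
  have p3 : 2 ^ 2 ≤ 2 ^ p := Nat.pow_le_pow_right two_pos hp.two_le
  obtain ⟨r, j, hr, a, b⟩ : ∃ r j : ℕ, r.Prime ∧ r ^ j ∣ 2 ^ p + 1 ∧ ¬ r ^ j ∣ 3 := by
    by_contra! c
    have := Nat.le_of_dvd three_pos ((Nat.dvd_iff_prime_pow_dvd_dvd 3 _).2 c)
    omega
  have o : Odd (2 ^ p + 1) := (Even.pow_of_ne_zero even_two hp.ne_zero).add_one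
  obtain _ | k := j
  · simp at b
  refine ⟨r, k, hr, fun e => (Nat.not_even_iff_odd.2 (o.of_dvd_nat a)) (e ▸ Even.pow_of_ne_zero even_two k.succ_ne_zero), a,
    fun d d0 hd => ?_⟩
  generalize r ^ (k + 1) = m at a b hd
  by_contra! c
  have e : m ∣ 2 ^ (2 * p) - 1 := by
    rw [mul_comm, pow_mul, ← one_pow (M := ℕ) 2, Nat.sq_sub_sq]; exact a.mul_right _
  have g := Nat.dvd_gcd hd e
  rw [Nat.pow_sub_one_gcd_pow_sub_one] at g
  have l := Nat.gcd_le_left (2 * p) d0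
  obtain ⟨x, y, h1, h2, h3⟩ := (Nat.dvd_mul).1 (Nat.gcd_dvd_right d (2 * p))
  rw [← h3] at g l
  rcases (Nat.dvd_prime hp).1 h2 with rfl | rfl
  · rw [mul_one] at g
    exact b (g.trans (Nat.pow_sub_one_dvd_pow_sub_one 2 h1))
  rcases (Nat.dvd_prime Nat.prime_two).1 h1 with rfl | rfl
  · rw [one_mul] at g
    have := Nat.dvd_sub a g
    rw [show 2 ^ y + 1 - (2 ^ y - 1) = 2 by omega] at this
    rcases (Nat.dvd_prime Nat.prime_two).1 this with rfl | rfl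
    · exact b (one_dvd _)
    · exact Nat.not_even_iff_odd.2 (o.of_dvd_nat a) even_two
  · omega

section
variable (F : Type) [Field F] [Fintype F] [DecidableEq F]

def uH : Multiplicative F →* SL(2, F) where
  toFun b := upS 1 b.toAdd
  map_one' := upS_one
  map_mul' a b := by simp [upS_mul, add_comm]

def UU : Subgroup SL(2, F) := (uH F).range

variable {F}
theorem mem_UU {g : SL(2, F)} : g ∈ UU F ↔ ∃ b, upS 1 b = g := Iff.rfl

theorem card_UU : #(UU F) = Fintype.card F := by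
  rw [UU, ← Nat.card_congr (MonoidHom.ofInjective (f := uH F) fun a b e => (upS_inj (F := F) |>.1 e).2).toEquiv, Nat.card_eq_fintype_card,
    Fintype.card_multiplicative]

theorem c10 (g : SL(2, F)) (b : F) : (g * upS 1 b * g⁻¹) 1 0 = - b * g 1 0 ^ 2 := by
  have : ∀ i j, (upS 1 b : SL(2, F)) i j = !![1, b; 0, 1] i j := fun i j => by
    fin_cases i <;> fin_cases j <;> rfl
  have a : (g⁻¹ : SL(2, F)) 0 0 = g 1 1 ∧ (g⁻¹ : SL(2, F)) 1 0 = - g 1 0 := by
    rw [Matrix.SpecialLinearGroup.SL2_inv_expl]; exact ⟨rfl, rfl⟩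
  generalize g⁻¹ = k at a
  simp [Matrix.mul_apply, Fin.sum_univ_two, this, a.1, a.2]
  ring

theorem cjU (x : Fˣ) (b c : F) : upS x b * upS 1 c * (upS x b)⁻¹ = upS 1 (x * x * c) := by
  rw [mul_inv_eq_iff_eq_mul, upS_mul, upS_mul, upS_inj]
  refine ⟨mul_comm _ _, ?_⟩
  simp only [Units.val_one, inv_one, Units.val_inv_eq_inv_val]
  field_simp
  ring

theorem mem_nU {g : SL(2, F)} : g ∈ N(UU F) ↔ g 1 0 = 0 := by
  refine ⟨fun h => ?_, fun h => mem_norm_of_cj_le fun w hw => ?_⟩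
  · obtain ⟨b, e⟩ := mem_UU.1 (conj_mem_of_norm h (mem_UU.2 ⟨1, rfl⟩))
    have := c10 g 1
    rw [← e] at this
    simpa using (show (0 : F) = _ from this)
  · obtain ⟨x, b, rfl⟩ := exists_upS h
    obtain ⟨_, ⟨c, rfl⟩, rfl⟩ := mem_cj'.1 hw
    exact mem_UU.2 ⟨_, (cjU x b _).symm⟩

theorem card_nU : #N(UU F) = (Fintype.card F - 1) * Fintype.card F := by
  rw [← H13.GL2.card_BS]
  exact congrArg (fun H : Subgroup SL(2, F) => #H) (Subgroup.ext fun g => mem_nU.trans (H13.GL2.mem_B (g := Matrix.SpecialLinearGroup.toGL g)).symm)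

theorem two_eq {p : ℕ} (h : Fintype.card F = 2 ^ p) (p0 : p ≠ 0) : (2 : F) = 0 := by
  have := FiniteField.cast_card_eq_zero F
  rw [h] at this
  exact_mod_cast (pow_eq_zero_iff p0).1 (by exact_mod_cast this)

theorem syl_UU {p : ℕ} (h : Fintype.card F = 2 ^ p) (p0 : p ≠ 0) : Syl 2 (UU F) ⊤ := by
  refine syl_mk le_top (PiN.of_card_pow Nat.prime_two (card_UU.trans h)) ?_
  have := (UU F).card_mul_index
  rw [card_UU, H11.card_sl_two, mul_right_inj' Fintype.card_ne_zero] at this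
  rw [relIndex_top_right, this, h, ← pow_mul]
  exact (Nat.Even.sub_odd (Nat.one_le_two_pow) (Even.pow_of_ne_zero even_two (by omega)) odd_one).not_two_dvd_nat

theorem bx_UU {p : ℕ} (hp : p.Prime) (p2 : p ≠ 2) (h : Fintype.card F = 2 ^ p) : BX (UU F) (UU F) := by
  have t := two_eq h hp.ne_zero
  have sq : ∀ a ∈ UU F, a * a = 1 := by
    rintro _ ⟨b, rfl⟩
    change upS 1 _ * upS 1 _ = 1
    rw [upS_mul, ← upS_one, upS_inj]
    exact ⟨mul_one _, by simp only [Units.val_one, inv_one]; linear_combination b.toAdd * t⟩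
  have cm : ∀ a ∈ UU F, ∀ b ∈ UU F, a * b = b * a := by
    rintro _ ⟨a, rfl⟩ _ ⟨b, rfl⟩
    rw [← map_mul, ← map_mul, mul_comm]
  have se : ∀ g, ∀ a ∈ UU F, a ≠ 1 → g * a * g⁻¹ ∈ N(UU F) → g ∈ N(UU F) := fun g a ha a1 k => by
    obtain ⟨b, rfl⟩ := mem_UU.1 ha
    rw [mem_nU, c10] at k
    have : b ≠ 0 := fun e => a1 (e ▸ upS_one)
    exact mem_nU.2 (by simpa [this] using k)
  refine ⟨fun a => ⟨fun k => ⟨k, sq a k⟩, And.left⟩, cm, ⟨p, hp.odd_of_ne_two p2, by have := hp.two_le; omega,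
    card_UU.trans h, .inl rfl⟩, fun t k => mul_mem k k, .inl rfl, fun a ha b hb a1 b1 => ?_, se,
    fun Y a ha b hb a1 b1 n c c2 cS aY bY cY s => cS ?_, ?_, ?_⟩
  · obtain ⟨a, rfl⟩ := mem_UU.1 ha
    obtain ⟨b, rfl⟩ := mem_UU.1 hb
    have a0 : a ≠ 0 := fun e => a1 (e ▸ upS_one)
    have b0 : b ≠ 0 := fun e => b1 (e ▸ upS_one)
    have : ringChar F = 2 := CharP.ringChar_of_prime_eq_zero Nat.prime_two (by exact_mod_cast t)
    obtain ⟨x, hx⟩ := FiniteField.isSquare_of_char_two this (b / a)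
    have x0 : x ≠ 0 := by rintro rfl; exact div_ne_zero b0 a0 (by simpa using hx)
    refine ⟨upS (Units.mk0 x x0) 0, mem_nU.2 rfl, ?_⟩
    rw [cjU, Units.val_mk0, ← hx, div_mul_cancel₀ _ a0]
  · have o : ∀ a ∈ UU F, a ≠ 1 → orderOf a = 2 := fun a k a1 => orderOf_eq_prime (by rw [_root_.sq, sq a k]) a1
    exact (syl_UU h hp.ne_zero).mem_of_norm (mem_top c) (fun r hr d => (Nat.prime_dvd_prime_iff_eq hr Nat.prime_two).1 (d.trans
      (orderOf_dvd_of_pow_eq_one ((_root_.sq c).trans c2)))) (gen0 (syl_UU h hp.ne_zero)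
      (fun g a k _ => se g a k) s ⟨o a ha a1, o b hb b1, n, cm a ha b hb⟩ ha hb aY bY cY)
  · rw [card_nU, card_UU, H13.GL2.card_SL_nat]; ring
  · obtain ⟨r, k, r1, r2, r3, H⟩ := pp_of hp p2
    obtain ⟨w, hw⟩ := H13.GL2.exists_sTor_eS (F := F)
    have := hw.cyc
    obtain ⟨x, hx⟩ := IsCyclic.exists_ofOrder_eq_natCard (α := (H13.GL2.eS (F := F)).range)
    rw [H13.GL2.card_range_eS, h] at hx
    refine ⟨r, k, r1, r2, (x ^ (orderOf x / r ^ (k + 1)) : (H13.GL2.eS (F := F)).range), ?_, fun d d0 hd => ?_⟩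
    · rw [orderOf_coe]
      exact orderOf_pow_orderOf_div (orderOf_pos x).ne' (hx ▸ r3)
    · rw [card_UU, h, ← pow_mul, mul_comm]
      exact Nat.pow_le_pow_right two_pos (H d d0 hd)
end

/-- `[TYe]` -/
theorem tye : TYe.{u} := by
  intro G _ _ N Q T h ⟨F, _, _, p, hp, p2, hF, π, hs, hk⟩
  classical
  have z : center SL(2, F) = ⊥ := eq_bot_iff.2 fun g hg =>
    (H13.GL2.mem_center_SL.1 hg).elim id fun e => e.trans (H13.GL2.neg_one_eq (two_eq hF hp.ne_zero))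
  let e : PSL(2, F) ≃* SL(2, F) := (QuotientGroup.quotientMulEquivOfEq z).trans QuotientGroup.quotientBot
  have s := h.syl.subgroupOf_top.map (e.toMonoidHom.comp π)
  rw [map_top_of_surjective _ (e.surjective.comp hs)] at s
  obtain ⟨g, -, hg⟩ := s.sconj (syl_UU hF hp.ne_zero)
  refine ⟨_, be_pr (π := (MulAut.conj g).toMonoidHom.comp (e.toMonoidHom.comp π))
    ((MulAut.conj g).surjective.comp (e.surjective.comp hs)) (fun x => ?_) h (E := UU F) ?_⟩
  · rw [← hk]; simp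
  · rw [← map_map]
    exact (show _ = _ from hg) ▸ bx_UU hp p2 hF

end H18.MS
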