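import Cfsg.Agent.H27.MS2

/-! S5899: the short case (`SH`, `DS`). -/

set_option autoImplicit false
set_option linter.unusedVariables false
set_option linter.unusedSectionVars false

namespace H18.MS
open Cfsg Subgroup H18 H17.GS H28.S H2.GW H27.MS
open H19 hiding eq_bot_mono
open H28.NG hiding Hyp Uniq Ch
open H29.PU (bm)

universe u
variable {G : Type u} [Group G] [Finite G] {a b g m t u v x : G} {A L P S T X Y : Subgroup G}

theorem cj_bm (g : G) (S : Subgroup G) : cj g (bm 2 S) = bm 2 (cj g S) :=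
  H29.PU.map_bm (MulAut.conj g).injective S

theorem mnZ (h : Mn S Y) : Zs S ≤ Y := h.eY ▸ le_Kc
theorem mnZ0 (h : Mn S Y) : Zs S ≠ ⊥ := fun e => h.nz (by
  rw [eq_bot_iff.2 (h.eY.le.trans (Kc_le_of e.le nbot))]; exact nbot)
theorem mnY0 (h : Mn S Y) : Y ≠ ⊥ := ne_bot_mono (mnZ h) (mnZ0 h)
theorem mnB (h : Mn S Y) : H19.PG 2 (bm 2 S) := h.syl.pi.of_le H29.PU.bm_le

theorem mnwc (h : Mn S Y) (hT : H19.PG 2 T) (h1 : cj a (bm 2 S) ≤ T) (h2 : cj b (bm 2 S) ≤ T) :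
    cj a (bm 2 S) = cj b (bm 2 S) := by
  obtain ⟨g, -, k⟩ := h.syl.scj_le le_top hT
  have e {a} (p : cj a (bm 2 S) ≤ T) : cj g (cj a (bm 2 S)) = bm 2 S := by
    rw [cj_cj]; exact bm_wc (cj_cj g a _ ▸ (cj_mono g p).trans k)
  exact cj_inj.1 ((e h1).trans (e h2).symm)

theorem mnSM (h : Mn S Y) : S ≤ N(Y) := (H29.PU.nrm_bm le_normalizer).trans h.NB

theorem gnb1 (h : Gn S Y) (hv : v ∈ Y) : ∃ m ∈ N(Y), cj m (bm 2 S) ≤ C[v] := h.b1 v hv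

theorem gnOC (h : Gn S Y) (hv : v ∈ Y) : Oc {2} C[v] ≤ N(Y) := fun p hp => by
  obtain ⟨m, a, b⟩ := gnb1 h hv
  obtain ⟨T, c, d⟩ := ((mnB h.toMn).J m).exists_syl b
  have := h.NB (mem_norm_iff_cj.2 ((cj_mul m⁻¹ _ _).trans (cj_eq_iff.1
    (mnwc h.toMn c.pi d (b := p * m) (cj_mul p m _ ▸ cj_le_of_mem (Oc_le_hall c hp) d))).symm))
  simpa [mul_assoc] using mul_mem (mul_mem a this) (inv_mem a)

theorem gntr (h : Gn S Y) (h1 : v ∈ Y) (h2 : v ∈ cj g Y) : ∃ c ∈ C[v], cj g Y = cj c Y := by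
  obtain ⟨m, a, b⟩ := gnb1 h h1
  obtain ⟨n, a', b'⟩ := gnb1 h (mem_cj.1 h2)
  obtain ⟨T, p, q⟩ := ((mnB h.toMn).J m).exists_syl b
  obtain ⟨c, r, s⟩ := p.scj_le (K := cj g (cj n (bm 2 S))) (by
    rw [cj_le_iff, cj_cent1, inv_inv]; exact b') (((mnB h.toMn).J _).J _)
  rw [cj_cj, cj_cj] at s
  have := h.NB (mem_norm_iff_cj.2 ((cj_mul m⁻¹ _ _).trans (cj_eq_iff.1 (mnwc h.toMn p.pi q s)).symm))
  refine ⟨c⁻¹, inv_mem r, cj_eq_iff.1 ?_⟩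
  rw [cj_cj]
  exact cj_of_mem_norm (by simpa [mul_assoc] using mul_mem (mul_mem a this) (inv_mem a'))

theorem gnrk (h : Gn S Y) (g : G) (h1 : A ≤ N(cj g Y)) (h2 : Abelem 2 A) :
    #A * #(cj g Y ⊓ C(A)) ≤ #(cj g Y) * #(A ⊓ C(cj g Y)) := by
  have := h.rk (cj g⁻¹ A) (by rwa [← cj_norm, le_cj_iff] at h1) (abelem_J h2 _)
  rw [← card_cj g (Y ⊓ _), ← card_cj g (_ ⊓ C(Y)), cj_inf, cj_inf, cj_cent, cj_cent, cj_cj_inv, card_cj] at this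
  rwa [card_cj]

theorem gntv (h : Gn S Y) (g : G) (ht : Tv (cj g Y) t) (hu : u ∈ cm (cj g Y) t) (u1 : u ≠ 1) : C[u] ≤ N(cj g Y) := by
  have a := ht.J g⁻¹
  rw [cj_inv_cj] at a
  have := cj_mono g (h.tvC _ (g⁻¹ * u * g⁻¹⁻¹) a (by
    have := conj_mem_cj (g := g⁻¹).2 hu
    rwa [cj_cm, cj_inv_cj] at this) (mt conj_eq_one_iff.1 u1))
  rwa [cj_cent1, cj_norm, show g * (g⁻¹ * u * g⁻¹⁻¹) * g⁻¹ = u by group] at this

theorem gnhc (h : Gn S Y) (g : G) (h1 : X ≤ cj g Y) (h2 : #(cj g Y) ≤ #X * 2) : C(X) ≤ N(cj g Y) := by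
  have := cj_mono g (h.hypC (cj g⁻¹ X) (le_cj_iff.1 h1) (by rwa [card_cj] at h2 ⊢))
  rwa [cj_cent, cj_cj_inv, cj_norm] at this

theorem gncm (h : Gn S Y) (h1 : cj a Y ≤ N(cj b Y)) (h2 : cj b Y ≤ N(cj a Y)) : cj a Y ≤ C(cj b Y) := by
  have := h.comm (b⁻¹ * a) (show cj _ _ ≤ _ by rwa [cj_mul, ← le_cj_iff, cj_norm])
    (show _ ≤ N(cj _ _) by rwa [cj_mul, ← cj_norm, ← cj_le_iff])
  change cj _ _ ≤ _ at this
  rwa [cj_mul, ← le_cj_iff, cj_cent] at this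

section
variable (h : Gn S Y) (hO : Sh Y)
include h hO

theorem disj (h1 : v ∈ cj a Y) (h2 : v ∈ cj b Y) (v0 : v ≠ 1) : cj b Y ≤ C(cj a Y) := by
  have p := mem_cj.1 h1
  obtain ⟨c, q, r⟩ := gntr h (g := a⁻¹ * b) p (by rw [cj_mul, mem_cj_inv]; simpa [mul_assoc] using h2)
  have o := hO _ p fun e => v0 (by simpa using conj_eq_one_iff.1 (show a⁻¹ * v * a⁻¹⁻¹ = 1 by rwa [inv_inv]))
  have n := Oc_norm {2} _ q
  rw [← cj_cent, le_cj_iff, cj_cj, r]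
  exact h.comm c ((cj_le_of_mem_norm n o).trans (gnOC h p)) (o.trans ((cj_of_mem_norm n).ge.trans
    ((cj_mono c (gnOC h p)).trans (cj_norm c Y).le)))

theorem Vab (le : P ≤ C(Zs S)) (KP : C(Y) ≤ P) : Abelem 2 (Kc Y P) := by
  obtain ⟨z, p, q⟩ := exists_ne_one (mnZ0 h.toMn)
  have := ea_Kc h.ab bot_le nbot ((ab_cent h.ab).trans KP) PiN.bot fun c r => Cm_bot.ge.trans' (by
    simpa using disj h hO (a := 1) (by simpa using mnZ h.toMn p)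
      (cj_mono c (mnZ h.toMn) ((cj_of_mem_cent (le r)).ge p)) q)
  exact ⟨comm_iff_der.2 (le_bot_iff.1 this.ab), fun v p => (sq v).trans (mem_bot.1 (this.sq v p))⟩

variable (le : P ≤ C(Zs S)) (KP : C(Y) ≤ P)
  (dlx : ∀ A, A ≤ C(Y) → Abelem 2 A → (∃ p ∈ P, ¬ A ≤ N(cj p Y)) → ∃ x ∈ P, Hyp (A ⊓ N(cj x Y)) A)
include le KP dlx

theorem key (h1 : Kc Y P ≤ C(cj g Y)) (h2 : cj g (Kc Y P) ≤ C(Y))
    (h3 : ∃ p ∈ P, ¬ Kc Y P ≤ N(cj (g * p) Y)) : False := by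
  have Vab := Vab h hO le KP
  obtain ⟨x, x1, x2⟩ := dlx (cj g⁻¹ (Kc Y P)) (by rwa [← le_cj_iff, cj_cent]) (abelem_J Vab _)
    (h3.imp fun p q => ⟨q.1, by rw [← le_cj_iff, cj_norm, cj_cj]; exact q.2⟩)
  replace x2 := x2.conj g
  rw [cj_inf, cj_cj_inv, cj_norm, cj_cj] at x2
  have l : cj (g * x) Y ≤ C(Y) := (cj_mul g x Y).trans_le ((cj_mono g (cj_le_Kc x1)).trans h2)
  have kab := abelem_J h.ab (g * x)
  have c {q} (p : q ∈ P) : #(cj q Y) ≤ #(cj q Y ⊓ N(cj (g * x) Y)) * 2 := by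
    have := x2.card_inf (cj_le_Kc p)
    rwa [← inf_assoc, inf_eq_left.2 (cj_le_Kc p)] at this
  have dj {q X W} (n : ¬ cj q Y ≤ C(cj (g * x) Y)) (p1 : X ≤ cj q Y ⊓ N(cj (g * x) Y))
      (p2 : W ≤ cj (g * x) Y ⊓ N(cj q Y)) : X ≤ C(W) :=
    cents_of_disj (p1.trans inf_le_left) (p2.trans inf_le_right) (p2.trans inf_le_left) (p1.trans inf_le_right)
      (by_contra fun e => (exists_ne_one e).elim fun v r => n (disj h hO r.1.2 r.1.1 r.2))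
  by_cases j : ∃ p ∈ P, ¬ cj (g * x) Y ≤ N(cj p Y)
  · obtain ⟨q, q1, q2⟩ := dlx _ l kab j
    obtain ⟨b, b1, b2⟩ := hyp_ex q2
    have n : ¬ cj q Y ⊓ N(cj (g * x) Y) ≤ C(cj (g * x) Y) := fun e =>
      b2 ⟨b1, gnhc h q inf_le_left (c q1) (cents_symm e b1)⟩
    obtain ⟨η, e1, e2⟩ := SetLike.not_le_iff_exists.1 n
    have tv := tv_of (ab_pg kab) e1.2 e2 (q2.card.trans_le (Nat.mul_le_mul_right _ (card_le (le_inf inf_le_left
      (le_cent1_iff.2 (dj (mt inf_le_left.trans n) le_rfl le_rfl e1))))))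
    obtain ⟨u, u1, u2⟩ := exists_ne_one (mt cm_eq_bot.1 (mt le_cent1_iff.1 e2))
    exact x2.ne (inf_eq_left.2 ((ab_cent1 Vab (cm_le_of_mem (cj_le_Kc q1 e1.1) ((l.trans KP).trans Kc_norm)
      u1)).trans (gntv h _ tv u1 u2)))
  push Not at j
  refine x2.ne (inf_eq_left.2 (Kc_le_of_cj fun p p1 => by_contra fun n => n ?_))
  have r := gnrk h p (j p p1) kab
  have := card_le (le_inf inf_le_left (dj (mt (·.trans (cent_le_norm _)) n) le_rfl (le_inf le_rfl (j p p1))))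
  have := c p1
  have := card_pos (cj p Y ⊓ N(cj (g * x) Y))
  have := card_pos (cj p Y)
  exact (cents_symm inf_le_right).trans (gnhc h _ inf_le_left (by nlinarith))

theorem sh_false (nl : ¬ P ≤ N(Y)) : False := by
  classical
  have Vab := Vab h hO le KP
  have ex : ∃ n g, Ds P N(Y) n g ∧ ¬ cj g (Kc Y P) ≤ C(Kc Y P) := by
    by_contra! k
    let L : Subgroup G := ⟨⟨⟨{g | ∃ n, Ds P N(Y) n g}, fun ⟨_, a⟩ ⟨_, b⟩ => ⟨_, a.mul b⟩⟩, 0, one_mem P⟩,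
      fun ⟨_, a⟩ => ⟨_, a.inv⟩⟩
    have l1 : N(Y) ≤ L := fun _ a => ⟨1, Ds.one a⟩
    have l2 : P ≤ L := fun _ a => ⟨0, a⟩
    exact nl ((l2.trans Kc_norm).trans (h.max _ (ne_bot_mono (le_Kc.trans le_Kc) (mnY0 h.toMn)) (ea_Kc Vab bot_le nbot
      ((Kc_le ((ab_cent h.ab).trans KP)).trans l2) PiN.bot fun g (a : g ∈ L) => a.elim fun n a =>
        (k n g a).trans Cm_bot.ge).pgV (l1.trans Kc_norm)))
  obtain ⟨g, g1, g0⟩ := Nat.find_spec ex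
  have mn {k g} (p : k < Nat.find ex) (q : Ds P N(Y) k g) : cj g (Kc Y P) ≤ C(Kc Y P) :=
    by_contra fun r => Nat.find_min ex p ⟨g, q, r⟩
  generalize Nat.find ex = n at *
  have pv {p} (a : p ∈ P) : cj p (Kc Y P) = Kc Y P := cj_of_mem_norm (Kc_norm a)
  obtain _ | n := n
  · exact g0 ((pv g1).trans_le (ab_cent Vab))
  have c {d m} (p : Ds P N(Y) n d) (q : m ∈ N(Y)) : Kc Y P ≤ C(cj (d * m) Y) := by
    rw [cj_mul, cj_of_mem_norm q]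
    exact (cents_symm (mn n.lt_succ_self p)).trans (cent_mono (cj_mono d le_Kc))
  obtain ⟨d, p, m, q, r, t, rfl⟩ := g1
  rw [cj_mul, pv t] at g0
  obtain ⟨d', p', m', q', r', t', e⟩ := (p.mul (Ds.one q)).inv
  have c1 : Kc Y P ≤ C(cj (r' * (d * m)) Y) := by rw [cj_mul, ← cj_cent, ← pv t']; exact cj_mono _ (c p q)
  have c2 : cj (r' * (d * m)) (Kc Y P) ≤ C(Y) := by
    rw [cj_le_iff, cj_cent, mul_inv_rev, e, mul_inv_cancel_right]; exact c p' q'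
  replace g0 : ¬ cj (r' * (d * m)) (Kc Y P) ≤ C(Kc Y P) := by
    rwa [cj_mul, cj_le_iff, cj_cent, pv (inv_mem t')]
  generalize r' * (d * m) = g at *
  by_cases k : ∃ p ∈ P, ¬ Kc Y P ≤ N(cj (g * p) Y)
  · exact key h hO le KP dlx c1 c2 k
  by_cases k' : ∃ p ∈ P, ¬ Kc Y P ≤ N(cj (g⁻¹ * p) Y)
  · exact key h hO le KP dlx (by rwa [← cj_cent, ← cj_le_iff]) (by rwa [← le_cj_iff, cj_cent]) k'
  push Not at k k'
  refine g0 (cj_le_iff.2 (Kc_le_of_cj fun a a1 => cj_le_iff.1 (cents_symm (Kc_le_of_cj fun b b1 => cents_symm ?_))))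
  rw [cj_cj]
  refine gncm h ?_ ((cj_le_Kc b1).trans (k a a1))
  rw [cj_mul, cj_le_iff, cj_norm, cj_cj]
  exact (cj_le_Kc a1).trans (k' b b1)
end

/-- `[SH]` -/
theorem sh : SH.{u} := fun {G} _ _ {S Y} h hO =>
  ⟨Vab h hO le_rfl (cent_mono (mnZ h.toMn)), fun ⟨P, le, ge, nl, dlx⟩ =>
    sh_false h hO le ((le_inf (cent_mono (mnZ h.toMn)) (cent_le_norm Y)).trans ge) dlx nl⟩

/-- `[DS]` -/
theorem ds : DS.{u} := fun {G} _ _ {S Y} h s => by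
  obtain ⟨P, ⟨le, ge, nl⟩, mn⟩ := (Set.toFinite {P : Subgroup G | P ≤ C(Zs S) ∧
    C(Zs S) ⊓ N(Y) ≤ P ∧ ¬ P ≤ N(Y)}).exists_minimal ⟨_, le_rfl, inf_le_left, h.nz⟩
  replace mn : ∀ X, C(Zs S) ⊓ N(Y) ≤ X → X ≤ P → ¬ X ≤ N(Y) → P ≤ X := fun X a b c => mn ⟨b.trans le, a, c⟩ b
  refine ⟨P, le, ge, nl, fun A h1 h2 h3 => ?_⟩
  change ∃ p ∈ P, ¬ A ≤ N(cj p Y) at h3
  change ∃ x ∈ P, Hyp (A ⊓ N(cj x Y)) A
  have KP : C(Y) ≤ P := (le_inf (cent_mono (mnZ h)) (cent_le_norm Y)).trans ge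
  have SM := mnSM h
  have SG : S ≤ C(Zs S) ⊓ N(Y) := le_inf (cents_symm ((Ohm1_le _ _).trans inf_le_right)) SM
  have core {N} (p : N ⊴ P) (q : N ≤ N(Y)) : N ≤ P ⊓ ⨅ p : P, N(cj (p : G) Y) := le_inf p.le (le_iInf fun r => by
    rw [← cj_norm, ← p.cj_eq r.2]; exact cj_mono _ q)
  have nN : P ⊓ ⨅ p : P, N(cj (p : G) Y) ⊴ P := inf_normal_of_norm' fun g p => mem_norm_of_cj_le (le_iInf fun r => by
    rw [cj_le_iff, cj_norm, cj_cj]; exact iInf_le (fun p : P => N(cj (p : G) Y)) ⟨_, mul_mem (inv_mem p) r.2⟩)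
  have NM : P ⊓ ⨅ p : P, N(cj (p : G) Y) ≤ N(Y) := inf_le_right.trans (by simpa using iInf_le (fun p : P => N(cj (p : G) Y)) 1)
  obtain ⟨E, fs⟩ := exists_FS nN (sol_mono s le) fun N p q r => core p
      ((((h.syl.of_le (SG.trans ge) le_top).inf_normal p).sup_eq q r).ge.trans (sup_le NM (inf_le_left.trans SM)))
  have EM : E ⊓ N(Y) ≤ P ⊓ ⨅ p : P, N(cj (p : G) Y) := by
    by_cases k : E ⊓ N(E ⊓ N(Y)) ≤ N(Y)
    · have := fs.nil _ (le_inf fs.le NM) inf_le_left (le_inf inf_le_left k)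
      exact inf_le_left.trans (core fs.nF (this.ge.trans inf_le_right))
    · exact core ⟨inf_le_left.trans fs.FP, (mn (P ⊓ N(E ⊓ N(Y))) (le_inf ge (norms_inf (ge.trans fs.nF.norm)
        (norms_of_le inf_le_right))) inf_le_left (mt (inf_le_inf_right _ fs.FP).trans k)).trans inf_le_right⟩
        inf_le_right
  obtain ⟨p, p1, p2⟩ := h3
  obtain ⟨H, x, a1, -, a2, a3, a4, a5, a6⟩ := fs.dl (h1.trans KP) ((ea_bot h2).ab.trans bot_le)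
    (fun _ q => sq_one h2 q ▸ one_mem _) fun k => p2 (k.trans (inf_le_right.trans (iInf_le (fun p : P => N(cj (p : G) Y)) ⟨p, p1⟩)))
  have AM := h1.trans (cent_le_norm Y)
  refine ⟨x, fs.FP a2, (a1.max (le_inf a1.le fun η q => ?_) inf_le_left).resolve_right (fun k => ?_) ▸ a1⟩
  · rw [← cj_norm, mem_cj]
    simpa using mul_mem (NM ((inv_mem a5).2 η q)) (AM (a1.le q))
  · obtain ⟨a, q, r⟩ := hyp_ex a1
    have := (k.ge q).2
    rw [← cj_norm] at this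
    refine a3 (EM ⟨a2, N(Y).inv_mem_iff.1 (mem_of_inv (a := a) (by simpa using a4) (AM q) (by simpa using mem_cj.1 this) ?_)⟩)
    convert inv_mem (NM (nN.conj_mem (fs.FP a2) (a6 a q r))) using 1
    group

end H18.MS
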