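import Cfsg.Agent.H12.MS0

/-! S5899: the case `|Y| = 4`, the subgroup `R`. -/

set_option autoImplicit false
set_option linter.unusedVariables false
set_option linter.unusedSectionVars false

namespace H18.MS
open Cfsg Subgroup H18 H17.GS H28.S H2.GW H27.MS H12.MS
open H19 hiding eq_bot_mono
open H28.NG hiding Hyp Uniq Ch
open H29.PU (bm)

universe u
variable {G : Type u} [Group G] [Finite G] {u y z : G} {A B D U : Subgroup G}

/-- at most two elementary abelian subgroups of index two contain the centre -/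
theorem tri (a : Hyp A U) (b : Hyp B U) (d : Hyp D U) (aa : Abelem 2 A) (bb : Abelem 2 B) (dd : Abelem 2 D)
    (zb : U ⊓ C(U) ≤ B) : A = B ∨ D = A ∨ D = B := by
  by_contra! n
  have k {A B} (a : Hyp A U) (b : Hyp B U) (l : A ≤ B) : A = B := ((a.max l b.le).resolve_right b.ne).symm
  obtain ⟨e, e1, e2⟩ := SetLike.not_le_iff_exists.1 (mt (k a b) n.1)
  obtain ⟨p, p1, p2⟩ := SetLike.not_le_iff_exists.1 (mt (k d a) n.2.1)
  obtain ⟨q, q1, q2⟩ := SetLike.not_le_iff_exists.1 (mt (k d b) n.2.2)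
  obtain ⟨w, w1, w2, w3⟩ : ∃ w ∈ D, w ∉ A ∧ w ∉ B := by
    by_cases i : p ∈ B
    · by_cases j : q ∈ A
      · exact ⟨_, mul_mem p1 q1, fun k => p2 ((mul_mem_cancel_right j).1 k), fun k => q2 ((mul_mem_cancel_left i).1 k)⟩
      · exact ⟨q, q1, j, q2⟩
    · exact ⟨p, p1, p2, i⟩
  have s := sq_one bb (hyp_mul b (a.le e1) (d.le w1) e2 w3)
  refine e2 (zb ⟨a.le e1, le_cent1_iff.1 (hyp_le a (d.le w1) w2 (ab_cent1 aa e1) (mem_cent1.2 ?_))⟩)
  have := sq_one aa e1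
  have := sq_one dd w1
  calc w * e = (e * e) * (w * e) * (w * w) := by simp [*]
    _ = e * (e * w * (e * w)) * w := by group
    _ = _ := by rw [s, mul_one]

theorem mv (k : K4 z y) (hu : u ∈ N(V4 z y)) (h1 : u ∈ C[z]) (h2 : u ∉ C[y]) : u * y * u⁻¹ = z * y := by
  rcases k.mem.1 (conj_mem_of_norm hu (right_mem_V4 z y)) with e | e | e | e
  · exact absurd (conj_eq_one_iff.1 e) k.s1
  · exact absurd (by simpa using (mem_cent1_conj.1 h1).trans e.symm) k.ne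
  · exact absurd (mem_cent1_conj.2 e) h2
  · exact e

/-- `[E1]` -/
theorem e1 : E1.{u} := fun {G} _ _ {S Y Q z y} h => by
  have k := h.k4
  have f := h.lc.toFr
  have m := h.toMn
  have zY : z ∈ Y := h.eV ▸ left_mem_V4 z y
  have yY : y ∈ Y := h.eV ▸ right_mem_V4 z y
  have cY : C(Y) = C[z] ⊓ C[y] := h.eV ▸ cent_V4 z y
  have YC : Y ≤ C[z] := h.eV ▸ k.le_cent1
  have nz : C[z] ≤ N(zpowers z) := cent1_le_norm_zpowers z
  have hz : Hyp (zpowers z) Y := hyp_of_card (zpowers_le' zY) (by rw [h.eV, k.card, Nat.card_zpowers, k.t2])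
  have QC : Q ≤ Cm (zpowers z) Y := fun g hg => hyp_cm hz (m.SM (f.le hg)) (nz (f.QN hg))
  have nU : C[z] ≤ N(Kc Y C[z]) := Kc_norm
  have YU : Y ≤ Kc Y C[z] := le_Kc
  have UQ : Kc Y C[z] ≤ Q := Kc_le_of h.yq f.nq.norm
  have ea : EA (zpowers z) (Kc Y C[z]) := ea_Kc h.ab (zpowers_le' (YU zY)) nz YC (pg2_zpowers k.t2) fun c hc =>
    ((cj_le_Kc hc).trans UQ).trans QC
  have QU : Q ≤ Cm (zpowers z) (Kc Y C[z]) := H28.NG.Cm_symm (Kc_le_of (H28.NG.Cm_symm QC (YC.trans nz))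
    (H28.NG.norms_Cm nz f.nq.norm)) (f.QN.trans nz)
  have sec : Sec C[z] Q (zpowers z) (Kc Y C[z]) := ⟨ea, nU, nz, QU, fun e => h.nz (by
    rw [h.eZ, cent_zpowers]; exact norm_of_Cm e hz.le YU)⟩
  have UC := UQ.trans f.QN
  by_cases n : Kc Y C[z] ≤ C[y]
  · have := ea_Kc h.ab bot_le nbot YC PiN.bot fun c r => Cm_bot.ge.trans' ((cj_le_Kc r).trans (cY ▸ le_inf UC n))
    exact .inl ⟨comm_iff_der.2 (le_bot_iff.1 this.ab), fun v p => (sq v).trans (mem_bot.1 (this.sq v p))⟩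
  obtain ⟨s, hs, s1, s2⟩ := h.sw
  have eW : cj s (Kc Y C[z]) = Kc Y C[y] := by rw [cj_Kc, cj_of_mem_norm hs, cj_cent1, s1]
  have UM := UQ.trans (f.le.trans m.SM)
  have hU := hyp_cent k.tt ((UQ.trans QC).trans (H28.NG.Cm_anti (zpowers_le' yY))) n
  have hW := hU.conj s
  have eb := ea.J s
  have WM := cj_mono s UM
  have cW := card_cj s (Kc Y C[z])
  have WC := cj_mono s UC
  rw [cj_inf, cj_cent1, s2, eW] at hW
  rw [cj_zpowers, s1, eW] at eb
  rw [cj_norm, cj_of_mem_norm hs, eW] at WM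
  rw [cj_cent1, s1, eW] at WC
  rw [eW] at cW
  have nW : C[y] ≤ N(Kc Y C[y]) := Kc_norm
  have YW : Y ≤ Kc Y C[y] := le_Kc
  have kW : ∀ g ∈ N(Y), g * y * g⁻¹ = z → cj g (Kc Y C[y]) = Kc Y C[z] := fun g a b => by
    rw [cj_Kc, cj_of_mem_norm a, cj_cent1, b]
  have KU : ∀ E, Y ≤ E → C[z] ≤ N(E) → Kc Y C[z] ≤ E := fun E => Kc_le_of
  right
  clear eW
  generalize eU : Kc Y C[z] = U at *
  generalize Kc Y C[y] = W at *
  have yy := zpowers_le' yY
  have RY : W ⊓ C[z] ≤ C(Y) := cY ▸ le_inf inf_le_right (inf_le_left.trans WC)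
  have nR : ∀ g ∈ C[z], g ∈ C[y] → g ∈ N(W ⊓ C[z]) := fun g a b =>
    norms_inf (A := C[z] ⊓ C[y]) (inf_le_right.trans nW) (inf_le_left.trans le_normalizer) ⟨a, b⟩
  obtain ⟨u, u1, u2⟩ := SetLike.not_le_iff_exists.1 n
  have u3 := mv k (h.eV ▸ UM u1) (UC u1) u2
  have RQ : W ⊓ C[z] ⊓ Q ≤ U := fun r hr => by
    obtain ⟨w, w1, w2⟩ := hyp_ex hW
    have w3 := mv k.symm (V4_comm z y ▸ h.eV ▸ WM w1) (WC w1) fun e => w2 ⟨w1, e⟩
    have a : w * u ∈ Cm Y (W ⊓ C[z] ⊓ Q) := mul_mem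
      (H28.NG.le_Cm WM ((commutator_mono le_rfl (inf_le_left.trans inf_le_left)).trans (eb.ab.trans yy)) w1)
      (le_Cm' UM ((commutator_mono inf_le_right le_rfl).trans ((commg_of_Cm QU).trans hz.le)) u1)
    have b := kW _ a.1 (by
      rw [show w * u * y * (w * u)⁻¹ = w * (u * y * u⁻¹) * w⁻¹ by group, u3, ← conj_mul, w3, mem_cent1_conj.1 (WC w1),
        ← k.comm, mul_assoc, k.ss, mul_one])
    simpa [mul_assoc] using mul_mem (inv_mem (YU (a.2 r hr))) (b.le (conj_mem_cj.2 hr.1.1))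
  have c1 : ⁅U, W ⊓ C[z]⁆ ≤ U := commg_le_left (inf_le_right.trans nU)
  have cR : #(W ⊓ C[z]) = #(U ⊓ C[y]) := by have := hU.card; have := hW.card; omega
  refine ⟨U, W ⊓ C[z], U ⊓ C[y], h, eU.symm, UQ, sec, (le_Oc ⟨RY, fun g a => nR g (cY.le a).1 (cY.le a).2⟩ (eb.pgV.of_le inf_le_left)).trans
      ((Oc_le_hall (m.sM.inf_normal ⟨cent_le_norm Y, norm_le_norm_cent Y⟩)).trans inf_le_left), RQ, fun l => n ?_,
    ⟨le_inf YW YC, (der_mono inf_le_left).trans (eb.ab.trans yy), fun v p => yy (eb.sq v p.1), m.pg⟩, fun g hg => ?_,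
    le_inf c1 (((commutator_mono le_rfl RY).trans (commg_le_right (UM.trans (norm_le_norm_cent Y)))).trans
      (cY.le.trans inf_le_right)), ?_, (commutator_mono (inf_le_left.trans inf_le_left) inf_le_left).trans eb.ab, RY,
    fun r hr => ?_⟩
  · have e : W ⊓ C[z] = U ⊓ C[y] := eq_of_le_of_card_eq (le_inf ((le_inf le_rfl l).trans RQ) (inf_le_left.trans WC)) cR
    have d : zpowers z ⊓ zpowers y ≤ ⊥ := zp_inf k.tt fun j => by
      have := eq_zpowers_of_prime (by rw [Nat.card_zpowers, k.s2]; exact Nat.prime_two) j k.t1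
      exact n (UC.trans (by rw [← cent_zpowers, ← cent_zpowers, this]))
    have EW := e.ge.trans inf_le_left
    have ab : Abelem 2 (U ⊓ C[y] : Subgroup G) := ⟨comm_iff_der.2 (le_bot_iff.1 ((le_inf ((der_mono inf_le_left).trans ea.ab)
      ((der_mono EW).trans eb.ab)).trans d)), fun v p => (sq v).trans (mem_bot.1 (d ⟨ea.sq v p.1, eb.sq v (EW p)⟩))⟩
    refine (KU _ (le_inf YU (YW.trans WC)) (((f.smp _ ⟨O2r_le _, norms_O2r le_normalizer⟩).resolve_left fun j =>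
      f.ns (pg_of_O2r (f.pg.of_le j)).sol).ge.trans (O2r_le_iff.2 fun x hx o => ?_))).trans inf_le_right
    have J {g} (hg : g ∈ C[z]) : Hyp (cj g (U ⊓ C[y])) U := by simpa only [cj_of_mem_norm (nU hg)] using hU.conj g
    rcases tri (J hx) hU (J (mul_mem hx hx)) (abelem_J ab _) ab (abelem_J ab _)
      (inf_le_inf_left _ (cent_le_cent1 (YU yY))) with j | j | j
    · exact mem_norm_iff_cj.2 j
    · exact mem_norm_iff_cj.2 (cj_inj.1 (cj_mul x x _ ▸ j))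
    · exact mem_of_sq o (mem_norm_iff_cj.2 j)
  · have a : ∀ g ∈ C[z], g ∈ C[y] → g ∈ N(W ⊓ C[z] ⊔ Q) := fun g a b =>
      norms_sup (zpowers_le' (nR g a b)) (zpowers_le' (f.nq.norm a)) (mem_zpowers g)
    by_cases j : g ∈ C[y]
    · exact a g hg.1 j
    · refine (mul_mem_cancel_left (inv_mem (le_normalizer (mem_sup_right (UQ u1))))).1
        (a _ (mul_mem (inv_mem (UC u1)) hg.1) (mem_cent1_conj.2 ?_))
      rw [show u⁻¹ * g * y * (u⁻¹ * g)⁻¹ = u⁻¹ * (g * y * g⁻¹) * u by group, mv k (h.eV ▸ hg.2) hg.1 j, ← u3]; group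
  · have := (commutator_mono (inf_le_left (b := C[y])) le_rfl).trans c1
    exact le_inf (le_inf ((commutator_mono le_rfl inf_le_left).trans (commg_le_right (inf_le_right.trans nW)))
      (this.trans UC)) (this.trans UQ)
  · have a : #(W ⊓ C[z] ⊓ Q) ≤ #(W ⊓ C[z] ⊓ Q ⊓ C[r]) * 2 := by
      by_cases j : W ⊓ C[z] ⊓ Q ≤ C[r]
      · rw [inf_eq_left.2 j]; omega
      · exact (hyp_cent k.ss ((inf_le_left.trans inf_le_left).trans (eb.cm.trans
          (H28.NG.Cm_anti (zpowers_le' hr.1)))) j).card.le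
    have b : #(W ⊓ C[z] ⊓ Q ⊓ C[r]) ≤ #(U ⊓ Cm (zpowers z) (zpowers r)) := card_le (le_inf (inf_le_left.trans RQ)
      (Cm_of_cent (inf_le_left.trans (inf_le_left.trans (inf_le_right.trans nz))) (cent_zpowers r ▸ inf_le_right)))
    rw [hU.card, cR]
    nlinarith

end H18.MS
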