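import Cfsg.Agent.H20.MS2
import Cfsg.Agent.H17.MS4

/-! S5899, part 3: pushing up the radical of a point stabilizer. -/

set_option autoImplicit false
set_option linter.unusedVariables false
set_option linter.unusedSectionVars false

namespace H18.MS
open Cfsg Subgroup H18 H17.GS H28.S H2.GW H27.MS H12.MS
open H19 hiding eq_bot_mono
open H28.NG hiding Hyp Uniq Ch
open H29.PU (bm)

universe u
variable {G : Type u} [Group G] [Finite G] {N Q T V R H P : Subgroup G} {g v n h : G} {m : ℕ}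

/-- words with `m` letters from `H` -/
def Wd (N H : Subgroup G) : ℕ → G → Prop
  | 0, g => g ∈ N
  | m + 1, g => ∃ x h n, Wd N H m x ∧ h ∈ H ∧ n ∈ N ∧ g = x * h * n

theorem Wd.left (hn : n ∈ N) : ∀ {m : ℕ} {g : G}, Wd N H m g → Wd N H m (n * g)
  | 0, _, a => mul_mem hn a
  | m + 1, _, ⟨x, h, k, a, b, c, e⟩ => ⟨n * x, h, k, Wd.left hn a, b, c, by rw [e]; group⟩

theorem Wd.cons (hn : n ∈ N) (hh : h ∈ H) : ∀ {m : ℕ} {g : G}, Wd N H m g → Wd N H (m + 1) (n * h * g)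
  | 0, g, a => ⟨n, h, g, hn, hh, a, rfl⟩
  | m + 1, _, ⟨x, h', k, a, b, c, e⟩ => ⟨n * h * x, h', k, Wd.cons hn hh a, b, c, by rw [e]; group⟩

theorem Wd.inv : ∀ {m : ℕ} {g : G}, Wd N H m g → Wd N H m g⁻¹
  | 0, _, a => inv_mem a
  | m + 1, _, ⟨x, h, k, a, b, c, e⟩ => by
    have := Wd.cons (inv_mem c) (inv_mem b) (Wd.inv a)
    rwa [show k⁻¹ * h⁻¹ * x⁻¹ = (x * h * k)⁻¹ by group, ← e] at this

theorem wd_all (hg : g ∈ N ⊔ H) : ∃ m, Wd N H m g := by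
  obtain ⟨l, a, rfl⟩ := H17.MS.word hg
  clear hg
  induction l with
  | nil => exact ⟨0, one_mem _⟩
  | cons x l ih =>
    obtain ⟨m, b⟩ := ih fun y p => a y (List.mem_cons_of_mem _ p)
    rw [List.prod_cons]
    rcases a x List.mem_cons_self with c | c
    · exact ⟨m, b.left c⟩
    · exact ⟨m + 1, by simpa using b.cons (one_mem _) c⟩

theorem zp_mem {X Y : Subgroup G} (vv : v * v = 1) (a : ⁅X, Y⁆ ≤ zpowers v) (b : ⁅X, Y⁆ ≤ V) (c : ¬ X ≤ C(Y)) :
    v ∈ V := by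
  by_contra k
  exact c (commg_eq_bot.1 (le_bot_iff.1 ((le_inf b a).trans (zp_inf_eq_bot vv k).le)))

theorem pu0 (b : Bd N Q T V) (p : Pt N Q V P R v) (a : Abelem 2 V) (hv : v ∈ V) (v1 : v ≠ 1)
    (tr : ∀ a ∈ V, ∀ b ∈ V, a ≠ 1 → b ≠ 1 → ∃ n ∈ N, n * a * n⁻¹ = b) : N(R) ⊓ C[v] ≤ N := by
  by_contra k
  set H := N(R) ⊓ C[v] with eH
  have top : N ⊔ H = ⊤ := (b.mx _ le_sup_left).resolve_left fun e => k (le_sup_right.trans e.le)
  have cV := H17.MS.bdcV b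
  have nV := H17.MS.bdnV b
  have VQ := H17.MS.bdVQ b
  have vv := sq_one a hv
  have Rn := H20.MS.Rn p
  have Pv := H20.MS.Pv p
  have PN : P ≤ N := p.eP ▸ inf_le_left
  have RN := Rn.le.trans PN
  have PH : P ≤ H := le_inf Rn.2 Pv
  obtain ⟨e1, -, e2, e3⟩ := H20.MS.kc_ea (H := H) a (VQ.trans p.QR) p.cm inf_le_right (Rn.le.trans Pv) inf_le_left
  have EQ : Kc V H ≤ Q := p.el _ ⟨e1.trans Rn.le, PH.trans Kc_norm⟩ (e2.trans (zpowers_le' hv))
    fun e he => zpowers_le' hv (e3 e he)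
  have cR : ∀ h ∈ H, ⁅cj h V, R⁆ ≤ zpowers v := fun h hh => by
    have := cj_mono h p.cm
    rwa [cj_comm, cj_of_mem_norm hh.1, cj_of_mem_norm (cent1_le_norm_zpowers v hh.2)] at this
  have key : ∀ m g, Wd N H m g → cj g V ≤ Q := by
    intro m
    induction m with
    | zero => exact fun g a => (cj_of_mem_norm (nV.ge a)).le.trans VQ
    | succ m ih =>
      have s : ∀ g, Wd N H (m + 1) g → cj g V ≤ N := fun g a => by
        obtain ⟨x, h, n, c, hh, hn, e⟩ := a.inv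
        rw [show g = n⁻¹ * (h⁻¹ * x⁻¹) by rw [← inv_inv g, e]; group, ← cj_cj, ← cj_cj]
        exact cj_le_of_mem (inv_mem hn)
          ((cj_le_of_mem_norm (inv_mem hh).1 ((ih _ c.inv).trans p.QR)).trans RN)
      intro g₁ w₁
      by_contra c₁
      obtain ⟨a₁, ha₁, na₁⟩ := SetLike.not_le_iff_exists.1 c₁
      obtain ⟨w, hw, nw⟩ : ∃ w ∈ V, a₁ ∉ C[w] := by
        by_contra z
        push Not at z
        exact na₁ (cV.le fun w hw => (mem_cent1.1 (z w hw)).symm)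
      obtain ⟨n, hn, en⟩ := tr w hw v hv (fun e => nw (by simp [e])) v1
      have w₂ := w₁.left hn
      have ha : n * a₁ * n⁻¹ ∈ cj (n * g₁) V := by rw [← cj_cj]; exact conj_mem_cj.2 ha₁
      have na : n * a₁ * n⁻¹ ∉ C[v] := by rw [← en, ← cj_cent1]; exact fun z => nw (conj_mem_cj.1 z)
      generalize n * a₁ * n⁻¹ = a₂ at ha na
      have sN := s _ w₂
      obtain ⟨x, h, n', c, hh, hn', e⟩ := w₂
      rw [e, ← cj_cj, ← cj_cj, cj_of_mem_norm (nV.ge hn')] at ha sN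
      have c1 : ⁅cj x (cj h V), cj x R⁆ ≤ zpowers (x * v * x⁻¹) := by
        rw [← cj_comm, ← cj_zpowers]; exact cj_mono x (cR h hh)
      have vv' : x * v * x⁻¹ * (x * v * x⁻¹) = 1 := by rw [conj_mul, vv]; group
      have xQ : cj x Q = C(cj x V) := by rw [← cV, cj_cent]
      have m1 : x * v * x⁻¹ ∈ V := zp_mem vv'
        ((commutator_mono le_rfl ((le_cj_iff.2 (ih _ c.inv)).trans (cj_mono x p.QR))).trans c1)
        (commg_le_right (sN.trans nV.ge)) fun z => na (mem_cent1.2 (z ha v hv).symm)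
      have dl : ∀ h₀ ∈ H, cj h₀ V ≤ cj x Q := fun h₀ k₀ => by
        by_contra z
        have y : cj h₀ V ≤ N(cj x V) := by
          rw [← cj_norm, nV, le_cj_iff, cj_cj]
          exact s _ ⟨x⁻¹, h₀, 1, c.inv, k₀, one_mem _, (mul_one _).symm⟩
        have m2 : v ∈ cj x V := zp_mem vv
          ((commutator_mono le_rfl ((ih _ c).trans p.QR)).trans (cR h₀ k₀)) (commg_le_right y) (xQ ▸ z)
        exact na (mem_cent1.2 (xQ.le (cj_mono x ((cj_le_Kc hh).trans EQ) ha) v m2).symm)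
      have aE : a₂ ∈ N(Kc V H) := mem_norm_of_cj_le (cj_le_iff.2 (Kc_le_of_cj fun h₀ k₀ y hy => by
        have := mul_mem (le_Kc (H := H) (zpowers_le' m1 (c1 (commutator_mem_commutator ha
          (cj_mono x p.QR (dl h₀ k₀ hy)))))) (cj_le_Kc k₀ hy)
        rwa [commutatorElement_def, inv_mul_cancel_right, ← mem_cj_inv] at this))
      have gen : P ⊔ zpowers a₂ = N := (p.mx _ le_sup_left (sup_le PN (zpowers_le' (sN ha)))).resolve_left
        fun z => na (Pv (z.le (le_sup_right (a := P) (mem_zpowers a₂))))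
      exact b.hy.ntop (ne_bot_mono le_Kc (H17.MS.bdne b)) (b.pg.of_le EQ) (top_le_iff.1 (top.ge.trans
        (sup_le (gen.ge.trans (sup_le (PH.trans Kc_norm) (zpowers_le' aE))) Kc_norm)))
  have l : Kc V ⊤ ≤ Q := Kc_le_of_cj fun g _ => by
    obtain ⟨m, a⟩ := wd_all (N := N) (H := H) (top ▸ mem_top g)
    exact key m g a
  exact b.hy.ntop (ne_bot_mono le_Kc (H17.MS.bdne b)) (b.pg.of_le l) (top_le_iff.1 Kc_norm)

theorem DR (p : Pt N Q V P R v) (u : N(R) ⊓ C[v] ≤ N) : Oc {2} C[v] ≤ R := by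
  have n := (H20.MS.Pv p).trans (Oc_norm {2} C[v])
  have g : H19.PG 2 (Oc {2} C[v] ⊔ R) := (Oc_pi _ _).sup (H20.MS.Rpg p) ((H20.MS.Rn p).le.trans n)
  have l := sup_le (Oc_le {2} C[v]) ((H20.MS.Rn p).le.trans (H20.MS.Pv p))
  refine le_sup_left.trans (nil_eq_of_norm_le g.nil le_sup_right ?_).ge
  rw [p.eR]
  refine le_Oc ⟨?_, norms_inf (norms_sup n (Oc_norm _ _)) (norms_norm (Oc_norm _ _))⟩ (p.eR ▸ g.infl _)
  rw [← p.eR, p.eP]
  exact le_inf ((le_inf inf_le_right (inf_le_left.trans l)).trans u) (inf_le_left.trans l)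

theorem g2 (bk : BK.{u}) : G2.{u} := by
  intro G _ _ N Q T V v h hv v1
  obtain ⟨-, a, VQ, cV, -, -, tr, -, pt⟩ := bk h
  obtain ⟨P, R, p⟩ := pt v hv v1
  have d := DR p (pu0 h p a hv v1 tr)
  have c : ⁅V, Oc {2} C[v]⁆ ≤ zpowers v := (commutator_mono le_rfl d).trans p.cm
  have Vv := ab_cent1 a hv
  have nZ := cent1_le_norm_zpowers v
  have VD : V ≤ Oc {2} C[v] := (le_inf Vv (le_Cm (Vv.trans nZ) c)).trans
    (H20.MS.cmD (h.hy.ch1 v1 (sq_one a hv)) (sq_one a hv))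
  obtain ⟨k, -, ab, sq⟩ := H20.MS.kc_ea a VD c le_rfl (Oc_le _ _) (Oc_norm _ _)
  have q := p.el _ ⟨(k.trans d).trans (H20.MS.Rn p).le, (H20.MS.Pv p).trans Kc_norm⟩ (ab.trans (zpowers_le' hv))
    fun e he => zpowers_le' hv (sq e he)
  have u : Kc V C[v] ≤ C(Kc V C[v]) := Kc_cents (cents_symm (q.trans cV.ge)) Kc_norm
  exact ⟨by rw [← p.eP, ← p.eR]; exact d, VD, q, abelem_mono (abelem_Ohm1 (comm_iff_le_cent.2 u) 2)
    (Kc_le_of (abelem_le_Ohm1 a le_Kc) (norms_Ohm1 2 Kc_norm))⟩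

theorem ic (bk : BK.{u}) : IC.{u} := H20.MS.ic bk (g2 bk)

theorem nr (bk : BK.{u}) : NR.{u} := H17.MS.nr H17.MS.cp (ic bk)

theorem pu (bk : BK.{u}) : PU.{u} := by
  intro G _ _ N Q T V v h hv v1
  obtain ⟨P, R, p⟩ := (bk h).2.2.2.2.2.2.2.2 v hv v1
  rw [← p.eP, ← p.eR]
  exact (nr bk h).2 R (H20.MS.Rpg p) p.QR ((H20.MS.Rn p).le.trans (p.eP ▸ inf_le_left))

end H18.MS
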