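import Cfsg.Agent.H24.ND0

/-! S4780: the chunk `SO` (commutation with an element of the second layer is onto the third). -/

set_option autoImplicit false
set_option linter.unusedVariables false
set_option linter.unusedSectionVars false

open Subgroup MulAction H19 H20 H6 Cfsg H3.PT H3.GR H3.ND H24.ND
open scoped commutatorElement

namespace H18.ND

universe u
variable {G : Type u} [Group G] [Finite G]

theorem avg {W : Type u} [AddCommGroup W] [Finite W] [DistribMulAction G W] (T : Subgroup G)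
    (K : AddSubgroup W) (ν : W) (hc : (#T).Coprime (Nat.card W)) (h : ∀ c ∈ T, c • ν - ν ∈ K) :
    ∃ ν0, ν0 - ν ∈ K ∧ ∀ c ∈ T, c • ν0 = ν0 := by
  classical
  have := Fintype.ofFinite T
  obtain ⟨a, b, e⟩ := Nat.isCoprime_iff_coprime.2 hc
  refine ⟨a • ∑ t : T, (t : G) • ν, ?_, fun c hc => ?_⟩
  · have e1 : a • ∑ t : T, (t : G) • ν - ν = a • ∑ t : T, ((t : G) • ν - ν) := by
      rw [Finset.sum_sub_distrib, Finset.sum_const, smul_sub, Finset.card_univ, ← natCast_zsmul,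
        smul_smul, ← Nat.card_eq_fintype_card, eq_sub_of_add_eq e, sub_smul, one_smul, mul_smul,
        natCast_zsmul, card_nsmul_eq_zero', smul_zero, sub_zero]
    rw [e1]
    exact K.zsmul_mem (K.sum_mem fun (t : T) _ => h t t.2) a
  · rw [smul_comm, Finset.smul_sum]
    congr 1
    exact Fintype.sum_equiv (Equiv.mulLeft ⟨c, hc⟩) _ _ fun t => by simp [mul_smul]

theorem sub_kr {X Y : Subgroup G} (h : Y ≤ X) {a b : Du X} :
    a - b ∈ Du.Kr h ↔ ∀ y ∈ Y, a.fn y = b.fn y := by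
  change Y ≤ _ ↔ _
  refine forall₂_congr fun y hy => ?_
  have e := congrFun (Du.fn_add (a - b) b) y
  rw [sub_add_cancel, Pi.mul_apply] at e
  rw [(a - b).lin.mem_cker (h hy), e, mul_eq_right₀ (b.lin.ne_zero (h hy))]

/-- an extension fixed by the coprime stabilizer of the restriction -/
theorem fix {X Y H : Subgroup G} [X.Normal] [Y.Normal] (h : Y ≤ X) (hc : (#H).Coprime #X) (ν : Du X) :
    ∃ ν0 : Du X, (∀ y ∈ Y, ν0.fn y = ν.fn y) ∧
      ∀ c ∈ H, (∀ y ∈ Y, ν.fn (c * y * c⁻¹) = ν.fn y) → cfj c ν0.fn = ν0.fn := by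
  let T : Subgroup G :=
    { carrier := {c | c ∈ H ∧ c • ν - ν ∈ Du.Kr h}
      one_mem' := ⟨H.one_mem, by rw [one_smul, sub_self]; exact zero_mem _⟩
      mul_mem' := fun {a b} ha hb => ⟨mul_mem ha.1 hb.1, by
        have := add_mem (Du.Kr_inv h a _ hb.2) ha.2
        rwa [smul_sub, sub_add_sub_cancel, ← mul_smul] at this⟩
      inv_mem' := fun {a} ha => ⟨inv_mem ha.1, by
        have := neg_mem (Du.Kr_inv h a⁻¹ _ ha.2)
        rwa [smul_sub, inv_smul_smul, neg_sub] at this⟩ }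
  obtain ⟨ν0, a, b⟩ := avg T (Du.Kr h) ν
    ((hc.coprime_dvd_left (card_dvd (fun _ e => e.1 : T ≤ H))).coprime_dvd_right Du.card_dvd)
    fun c e => e.2
  refine ⟨ν0, (sub_kr h).1 a, fun c hc e => ?_⟩
  have := congrArg Du.fn (b c⁻¹ ⟨inv_mem hc, (sub_kr h).2 fun y hy => by
    rw [Du.fn_smul, inv_inv]; exact e y hy⟩)
  rwa [Du.fn_smul, inv_inv] at this

theorem so : SO.{u} := by
  intro G _ _ P H X Y Z p nX nY nZ h zy yx xg xx xp yp d1 d2 w hw wy y hy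
  by_contra hn
  have nP := h.nP
  have xP : X ≤ P := xg.trans (der_le P)
  have cY : ∀ g ∈ P, ∀ x ∈ X, g * x * g⁻¹ * x⁻¹ ∈ Y := fun g hg x hx =>
    xp (Subgroup.commutator_comm P X ▸ commutator_mem_commutator hg hx)
  have cZ : ∀ g ∈ P, ∀ x ∈ Y, g * x * g⁻¹ * x⁻¹ ∈ Z := fun g hg x hx =>
    yp (Subgroup.commutator_comm P Y ▸ commutator_mem_commutator hg hx)
  let S : Subgroup G :=
    { carrier := {s | s ∈ Y ∧ ∃ g ∈ P, g * w * g⁻¹ * w⁻¹ * s⁻¹ ∈ Z}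
      one_mem' := ⟨Y.one_mem, 1, P.one_mem, by simp⟩
      mul_mem' := fun {a b} ⟨ha, g, hg, e⟩ ⟨hb, k, hk, f⟩ => ⟨mul_mem ha hb, k * g, mul_mem hk hg, by
        have := mul_mem (mul_mem (cZ k hk _ (cY g hg w hw))
          (nZ.conj_mem _ f (g * w * g⁻¹ * w⁻¹))) e
        convert this using 1
        group⟩
      inv_mem' := fun {a} ⟨ha, g, hg, e⟩ => ⟨inv_mem ha, g⁻¹, inv_mem hg, by
        have := mul_mem (cZ g⁻¹ (inv_mem hg) _ (inv_mem (cY g hg w hw)))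
          (nZ.conj_mem _ (inv_mem e) (g * w * g⁻¹ * w⁻¹)⁻¹)
        convert this using 1
        group⟩ }
  have zS : Z ≤ S := fun z hz => ⟨zy hz, 1, P.one_mem, by simpa using hz⟩
  obtain ⟨ν, hS, hν⟩ : ∃ ν : Du X, S ≤ cker ν.fn ∧ y ∉ cker ν.fn := by
    by_contra e
    push Not at e
    exact hn (Du.sep (xx.trans zS) (fun _ e => yx e.1) (yx hy) e).2
  obtain ⟨μ, hY, hμ⟩ : ∃ μ : Du X, Y ≤ cker μ.fn ∧ w ∉ cker μ.fn := by
    by_contra e
    push Not at e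
    exact wy (Du.sep (xx.trans zy) yx hw e)
  obtain ⟨ν0, ag, fx⟩ := fix yx ((PiN.of_not_dvd h.np).coprime' (h.pg.of_le xP)) ν
  have l := ν0.lin
  have m := μ.lin
  have s1 : ∀ s ∈ S, ν0.fn s = 1 := fun s hs => by
    rw [ag s hs.1]; exact (ν.lin.mem_cker (yx hs.1)).1 (hS hs)
  have y1 : ν0.fn y ≠ 1 := fun e => hν ((ν.lin.mem_cker (yx hy)).2 (ag y hy ▸ e))
  have m1 : ∀ s ∈ Y, μ.fn s = 1 := fun s hs => (m.mem_cker (yx hs)).1 (hY hs)
  have cj : ∀ {f : G → ℂ}, Lin X f → ∀ g, ∀ x ∈ X, f (g * x * g⁻¹ * x⁻¹) = 1 →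
      f (g * x * g⁻¹) = f x := fun {f} hf g x hx e => by
    have := hf.map_mul (mul_mem (nX.conj_mem x hx g) (inv_mem hx)) hx
    rwa [inv_mul_cancel_right, e, one_mul] at this
  have la := l.mul m
  obtain ⟨ψ, hψ⟩ := exists_ovr xP la.irr
  obtain ⟨i1, i2⟩ := mem_ovr.1 hψ
  have dg : deg ψ ≠ 1 := fun e => y1 (by
    have := (la.mem_cker (yx hy)).1 (le_cker_of_below (irr_chr i1) xP la.irr i2 le_rfl
      (xg.trans ((der_le_cker i1).2 e)) (yx hy))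
    rwa [Pi.mul_apply, m1 y hy, mul_one] at this)
  obtain ⟨c, hc, cP, e⟩ := h.st ψ i1 dg
  have nn : ∀ (A : Subgroup G) [A.Normal], c ∈ N(A) := fun A _ => nr (mem_top c)
  obtain ⟨g, hg, eg⟩ := mem_orb.1 (clifford_conj ⟨xP, nr⟩ i1 la.irr (la.cfj (nn X)).irr i2 (by
    rwa [← e, dot_cfj_of_norm (nn X)]))
  have eg' : ∀ x, ν0.fn (g * x * g⁻¹) * μ.fn (g * x * g⁻¹) =
      ν0.fn (c * x * c⁻¹) * μ.fn (c * x * c⁻¹) := fun x => congrFun eg x
  have cy : ∀ s ∈ Y, ν0.fn (c * s * c⁻¹) = ν0.fn s := fun s hs => by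
    have := eg' s
    rw [m1 _ (nY.conj_mem s hs g), m1 _ (nY.conj_mem s hs c), mul_one, mul_one,
      cj l g s (yx hs) (s1 _ (zS (cZ g hg s hs)))] at this
    exact this.symm
  have cx : ∀ x, ν0.fn (c * x * c⁻¹) = ν0.fn x := congrFun (fx c hc fun s hs => by
    rw [← ag s hs, ← ag _ (nY.conj_mem s hs c), cy s hs])
  have fp : Fpf X Y c := (d1 c hc).resolve_left fun ce => y1 (by
    have := congrFun ((d2 c hc cP ce).eq_triv (nn Z) (nn Y) ⟨zy, nr⟩ (l.Res yx)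
      (le_cker_Res zy fun z hz => (l.mem_cker (yx (zy hz))).2 (s1 z (zS hz))) fun s hs => by
        rw [Res_of_mem _ hs, Res_of_mem _ (nY.conj_mem s hs c), cx]) y
    rwa [Res_of_mem _ hy, triv_of_mem hy] at this)
  let X0 : Subgroup G :=
    { carrier := {x | x ∈ X ∧ ∀ k ∈ P, ν0.fn (k * x * k⁻¹) = ν0.fn x}
      one_mem' := ⟨X.one_mem, fun k _ => by simp⟩
      mul_mem' := fun {a b} ha hb => ⟨mul_mem ha.1 hb.1, fun k hk => by
        rw [show k * (a * b) * k⁻¹ = k * a * k⁻¹ * (k * b * k⁻¹) by group,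
          l.map_mul (nX.conj_mem a ha.1 k) (nX.conj_mem b hb.1 k), ha.2 k hk, hb.2 k hk,
          l.map_mul ha.1 hb.1]⟩
      inv_mem' := fun {a} ha => ⟨inv_mem ha.1, fun k hk => by
        have := l.mul_inv (nX.conj_mem a ha.1 k)
        rw [ha.2 k hk, ← l.mul_inv ha.1] at this
        rw [← mul_left_cancel₀ (l.ne_zero ha.1) this]
        congr 1
        group⟩ }
  have x0 : X0 ≤ X := fun _ e => e.1
  have y0 : Y ≤ X0 := fun s hs => ⟨yx hs, fun k hk => cj l k s (yx hs) (s1 _ (zS (cZ k hk s hs)))⟩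
  have w0 : w ∈ X0 := ⟨hw, fun k hk => cj l k w hw (s1 _ ⟨cY k hk w hw, k, hk, by simp⟩)⟩
  have c0 : ∀ x ∈ X0, c * x * c⁻¹ ∈ X0 := fun x hx => ⟨nX.conj_mem x hx.1 c, fun k hk => by
    rw [show k * (c * x * c⁻¹) * k⁻¹ = c * (c⁻¹ * k * c⁻¹⁻¹ * x * (c⁻¹ * k * c⁻¹⁻¹)⁻¹) * c⁻¹ by group,
      cx, cx, hx.2 _ (nP.conj_mem k hk c⁻¹)]⟩
  have n0 : c ∈ N(X0) := mem_norm_of_cj_le fun _ hx =>
    let ⟨s, hs, e⟩ := mem_cj'.1 hx; e ▸ c0 s hs
  have := congrFun ((fp.mono x0).eq_triv (nn Y) n0 ⟨y0, nr⟩ (m.Res x0) (le_cker_Res y0 hY)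
    fun x hx => by
      have := eg' x
      rw [hx.2 g hg, cx, cj m g x hx.1 (m1 _ (cY g hg x hx.1))] at this
      rw [Res_of_mem _ hx, Res_of_mem _ (c0 x hx), mul_left_cancel₀ (l.ne_zero hx.1) this]) w
  rw [Res_of_mem _ w0, triv_of_mem w0] at this
  exact hμ ((m.mem_cker hw).2 this)

end H18.ND
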