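import Cfsg.Agent.H16.Fast
import Cfsg.Agent.H16.Facts
import Mathlib.Tactic.Group

/-! Tits recognition, part a: binary normal forms, graphs of partial homomorphisms. -/

set_option autoImplicit false

namespace H18.NT

open H16

/-- apply the tables of the letters given by the bits `< n` of `u` -/
noncomputable def bitf (P : ℕ → ℕ → ℕ) (u v n : ℕ) : ℕ :=
  Nat.rec (motive := fun _ => ℕ) v (fun i acc => force acc fun a =>
    Nat.rec (motive := fun _ => ℕ) a (fun _ _ => P i a)
      (Nat.land (Nat.shiftRight u i) (nat_lit 1))) n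

theorem bitf_succ (P : ℕ → ℕ → ℕ) (u v i : ℕ) :
    bitf P u v (i + 1) = if u.testBit i then P i (bitf P u v i) else bitf P u v i := by
  have h : bitf P u v (i + 1) = force (bitf P u v i) fun a =>
      Nat.rec (motive := fun _ => ℕ) a (fun _ _ => P i a)
        (Nat.land (Nat.shiftRight u i) (nat_lit 1)) := rfl
  rw [h, force_eq]
  have h1 : Nat.land (Nat.shiftRight u i) (nat_lit 1) = (u >>> i) % 2 := Nat.and_one_is_mod _
  rw [h1, Nat.testBit_eq_decide_div_mod_eq, ← Nat.shiftRight_eq_div_pow]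
  rcases Nat.mod_two_eq_zero_or_one (u >>> i) with h2 | h2 <;> rw [h2] <;> simp

/-- the product of the letters given by the bits `< n` of `u` -/
noncomputable def elN {G : Type*} [Group G] (h : ℕ → G) (u : ℕ) : ℕ → G
  | 0 => 1
  | i + 1 => if u.testBit i then h i * elN h u i else elN h u i

section
variable {G Ω : Type*} [Group G] [MulAction G Ω] {h : ℕ → G} {pt : ℕ → Ω} {P : ℕ → ℕ → ℕ}
  {N : ℕ}

theorem bitf_sound {u v n : ℕ} (hv : v < N)
    (hA : ∀ i < n, u.testBit i = true → ∀ w < N, P i w < N ∧ h i • pt w = pt (P i w)) :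
    bitf P u v n < N ∧ elN h u n • pt v = pt (bitf P u v n) := by
  induction n with
  | zero => exact ⟨hv, one_smul _ _⟩
  | succ i ih =>
    obtain ⟨h1, h2⟩ := ih fun j hj => hA j (by omega)
    rw [bitf_succ, elN]
    split_ifs with hb
    · obtain ⟨h3, h4⟩ := hA i (by omega) hb _ h1
      exact ⟨h3, by rw [mul_smul, h2, h4]⟩
    · exact ⟨h1, h2⟩

theorem elN_mem {A : Subgroup G} {u n : ℕ} (hA : ∀ i < n, u.testBit i = true → h i ∈ A) :
    elN h u n ∈ A := by
  induction n with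
  | zero => exact A.one_mem
  | succ i ih =>
    have h1 := ih fun j hj => hA j (by omega)
    rw [elN]
    split_ifs with hb
    · exact A.mul_mem (hA i (by omega) hb) h1
    · exact h1

theorem map_elN {G' : Type*} [Group G'] (φ : G →* G') (h : ℕ → G) (u n : ℕ) :
    φ (elN h u n) = elN (fun k => φ (h k)) u n := by
  induction n with
  | zero => exact map_one φ
  | succ i ih =>
    rw [elN, elN]
    split_ifs with hb
    · rw [map_mul, ih]
    · exact ih

theorem elN_congr {h' : ℕ → G} {u n : ℕ} (e : ∀ i < n, u.testBit i = true → h i = h' i) :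
    elN h u n = elN h' u n := by
  induction n with
  | zero => rfl
  | succ i ih =>
    have h1 := ih fun j hj => e j (by omega)
    rw [elN, elN]
    split_ifs with hb
    · rw [h1, e i (by omega) hb]
    · exact h1

theorem elN_zero (h : ℕ → G) (n : ℕ) : elN h 0 n = 1 := by
  induction n with
  | zero => rfl
  | succ i ih => rw [elN, ih]; simp

/-- numbers with the same high bits give the same coset -/
theorem elN_shift {p q n : ℕ} (e : p >>> n = q >>> n) (m : ℕ) :
    elN h p (n + m) * (elN h p n)⁻¹ = elN h q (n + m) * (elN h q n)⁻¹ := by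
  induction m with
  | zero => simp
  | succ i ih =>
    have h1 : p.testBit (n + i) = q.testBit (n + i) := by
      rw [← Nat.testBit_shiftRight, ← Nat.testBit_shiftRight, e]
    rw [← Nat.add_assoc, elN, elN, h1]
    split_ifs with hb
    · rw [mul_assoc, mul_assoc, ih]
    · exact ih

theorem elN_two_pow {k n : ℕ} (hk : k < n) : elN h (2 ^ k) n = h k := by
  induction n with
  | zero => omega
  | succ i ih =>
    rw [elN]
    rcases Nat.lt_succ_iff_lt_or_eq.1 hk with h1 | rfl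
    · rw [if_neg (by rw [Nat.testBit_two_pow_of_ne (by omega)]; simp), ih h1]
    · rw [if_pos (Nat.testBit_two_pow_self)]
      have : ∀ m ≤ k, elN h (2 ^ k) m = 1 := by
        intro m hm
        induction m with
        | zero => rfl
        | succ j ihj =>
          rw [elN, if_neg (by rw [Nat.testBit_two_pow_of_ne (by omega)]; simp), ihj (by omega)]
      rw [this k le_rfl, mul_one]

end

/-- `if a = 0 then u else v` -/
noncomputable def ifz {α : Type} (a : ℕ) (u v : α) : α :=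
  Nat.rec (motive := fun _ => α) u (fun _ _ => v) a

theorem ifz_eq {α : Type} (a : ℕ) (u v : α) : ifz a u v = if a = 0 then u else v := by
  cases a <;> simp [ifz]

/-- evaluate all entries of a list first -/
noncomputable def fl {α : Type} (L : List ℕ) : (List ℕ → α) → α :=
  List.rec (motive := fun _ => (List ℕ → α) → α) (fun f => f [])
    (fun x _ ih f => force x fun x' => ih fun L' => f (x' :: L')) L

theorem fl_eq {α : Type} (L : List ℕ) (f : List ℕ → α) : fl L f = f L := by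
  induction L generalizing f with
  | nil => rfl
  | cons x L ih =>
    have : fl (x :: L) f = force x fun x' => fl L fun L' => f (x' :: L') := rfl
    rw [this, force_eq, ih]

/-- `0` iff `p` occurs in the list -/
noncomputable def memL (p : ℕ) (A : List ℕ) : ℕ :=
  List.rec (motive := fun _ => ℕ) (nat_lit 1) (fun a _ ih => ifz (Nat.xor a p) (nat_lit 0) ih) A

theorem memL_zero {p : ℕ} {A : List ℕ} (h : memL p A = 0) : p ∈ A := by
  induction A with
  | nil => cases h
  | cons a A ih =>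
    have h' : ifz (Nat.xor a p) 0 (memL p A) = 0 := h
    rw [ifz_eq] at h'
    split_ifs at h' with h1
    · rw [xor_zero h1]; exact List.mem_cons_self
    · exact List.mem_cons_of_mem _ (ih h')

/-- the word of the bits `< n` of `u` -/
noncomputable def wdN (u n : ℕ) : List ℕ :=
  Nat.rec (motive := fun _ => List ℕ) [] (fun i L =>
    Nat.rec (motive := fun _ => List ℕ) L (fun _ _ => L ++ [i])
      (Nat.land (Nat.shiftRight u i) (nat_lit 1))) n

theorem evA_wdN {G : Type*} [Group G] (h : ℕ → G) (u n : ℕ) : evA h (wdN u n) = elN h u n := by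
  induction n with
  | zero => rfl
  | succ i ih =>
    have e : wdN u (i + 1) = Nat.rec (motive := fun _ => List ℕ) (wdN u i) (fun _ _ => wdN u i ++ [i])
        (Nat.land (Nat.shiftRight u i) (nat_lit 1)) := rfl
    have h1 : Nat.land (Nat.shiftRight u i) (nat_lit 1) = (u >>> i) % 2 := Nat.and_one_is_mod _
    rw [e, elN, h1, Nat.testBit_eq_decide_div_mod_eq, ← Nat.shiftRight_eq_div_pow]
    rcases Nat.mod_two_eq_zero_or_one (u >>> i) with h2 | h2 <;> rw [h2]
    · simpa using ih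
    · show evA h (wdN u i ++ [i]) = _
      rw [evA_append, ih]; simp

theorem xor_self' (a : ℕ) : Nat.xor a a = 0 := Nat.xor_self a

theorem xor_eq_zero {a b : ℕ} : Nat.xor a b = 0 ↔ a = b :=
  ⟨xor_zero, fun h => h ▸ xor_self' a⟩

/-- substitution of words for letters -/
noncomputable def subW (U : List (List ℕ)) (W : List ℕ) : List ℕ :=
  List.rec (motive := fun _ => List ℕ) [] (fun k _ ih => nth [] U k ++ ih) W

theorem evA_subW {G : Type*} [Group G] (h : ℕ → G) (U : List (List ℕ)) (W : List ℕ) :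
    evA h (subW U W) = evA (wds h U) W := by
  induction W with
  | nil => rfl
  | cons k W ih =>
    have : subW U (k :: W) = nth [] U k ++ subW U W := rfl
    rw [this, evA_append, ih, evA_cons]; rfl

/-! ### graphs -/

section
variable {G₀ G : Type*} [Group G₀] [Group G]

theorem evA_pair (g₀ : ℕ → G₀) (g : ℕ → G) (W : List ℕ) :
    evA (fun k => (g₀ k, g k)) W = (evA g₀ W, evA g W) :=
  Prod.ext (map_evA _ (MonoidHom.fst G₀ G) W) (map_evA _ (MonoidHom.snd G₀ G) W)

theorem elN_pair (g₀ : ℕ → G₀) (g : ℕ → G) (u n : ℕ) :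
    elN (fun k => (g₀ k, g k)) u n = (elN g₀ u n, elN g u n) :=
  Prod.ext (map_elN (MonoidHom.fst G₀ G) _ u n) (map_elN (MonoidHom.snd G₀ G) _ u n)

theorem rels_pair {g₀ : ℕ → G₀} {g : ℕ → G} {R : List (List ℕ)} (h₀ : Rels g₀ R) (h : Rels g R) :
    Rels (fun k => (g₀ k, g k)) R := fun r hr => by
  rw [evA_pair, h₀ r hr, h r hr]; rfl

/-- the subgroup is the graph of a partial function -/
def Fn (Γ : Subgroup (G₀ × G)) : Prop := ∀ b : G, ((1 : G₀), b) ∈ Γ → b = 1

theorem Fn.eq {Γ : Subgroup (G₀ × G)} (hΓ : Fn Γ) {a : G₀} {b b' : G} (h1 : (a, b) ∈ Γ)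
    (h2 : (a, b') ∈ Γ) : b = b' := by
  have h3 := Γ.mul_mem (Γ.inv_mem h1) h2
  have h4 : (a, b)⁻¹ * (a, b') = ((1 : G₀), b⁻¹ * b') := by simp
  rw [h4] at h3
  exact inv_mul_eq_one.1 (hΓ _ h3)

theorem fn_of_bound {R : List (List ℕ)} {K c : ℕ} (hB : Bound R K c) {g₀ : ℕ → G₀} {g : ℕ → G}
    (h₀ : Rels g₀ R) (h : Rels g R) (hc : c ≤ Nat.card (gen g₀ K)) :
    Fn (gen (fun k => (g₀ k, g k)) K) := fun _ hb =>
  eq_one_of_card (hB.le (rels_pair h₀ h)) hc hb

theorem mem_swap {g₀ : ℕ → G₀} {g : ℕ → G} {K : ℕ} {a : G₀} {b : G}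
    (h : (a, b) ∈ gen (fun k => (g₀ k, g k)) K) : (b, a) ∈ gen (fun k => (g k, g₀ k)) K := by
  have h1 := Subgroup.mem_map_of_mem (MulEquiv.prodComm (M := G₀) (N := G)).toMonoidHom h
  rw [map_gen] at h1
  exact h1

theorem exists_pair {g₀ : ℕ → G₀} (g : ℕ → G) {K : ℕ} {a : G₀} (h : a ∈ gen g₀ K) :
    ∃ b, (a, b) ∈ gen (fun k => (g₀ k, g k)) K := by
  have h1 : (gen (fun k => (g₀ k, g k)) K).map (MonoidHom.fst G₀ G) = gen g₀ K := map_gen _ _ _
  rw [← h1] at h
  obtain ⟨⟨a', b⟩, h2, rfl⟩ := h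
  exact ⟨b, h2⟩

theorem evA_mem_graph {Γ : Subgroup (G₀ × G)} {h₀ : ℕ → G₀} {h : ℕ → G} {W : List ℕ}
    (hW : ∀ k ∈ W, (h₀ k, h k) ∈ Γ) : (evA h₀ W, evA h W) ∈ Γ := by
  rw [← evA_pair]; exact evA_mem _ hW

theorem elN_mem_graph {Γ : Subgroup (G₀ × G)} {h₀ : ℕ → G₀} {h : ℕ → G} {u n : ℕ}
    (hW : ∀ k < n, (h₀ k, h k) ∈ Γ) : (elN h₀ u n, elN h u n) ∈ Γ := by
  rw [← elN_pair]; exact elN_mem fun k hk _ => hW k hk

open Subgroup in
/-- comparison of the counts in Thompson's order formula along a graph -/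
theorem count_le [Finite G] {Γ : Subgroup (G₀ × G)} (hf : Fn Γ)
    (hi : ∀ a : G₀, (a, (1 : G)) ∈ Γ → a = 1) {z t i : G₀} {z' t' i' : G}
    (hz : z * z = 1) (ht : t * t = 1) (hi2 : i * i = 1) (hii : (i, i') ∈ Γ)
    (tot : ∀ a ∈ centralizer ({i} : Set G₀), ∃ b, (a, b) ∈ Γ)
    (cz : ∀ a b, (a, b) ∈ Γ → IsConj z a → IsConj z' b)
    (ct : ∀ a b, (a, b) ∈ Γ → IsConj t a → IsConj t' b) :
    Nat.card (centralizer ({i} : Set G₀)) ≤ Nat.card (centralizer ({i'} : Set G)) ∧
    Nat.card {p : G₀ × G₀ // IsConj z p.1 ∧ IsConj t p.2 ∧ i ∈ zpowers (p.1 * p.2)} ≤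
      Nat.card {p : G × G // IsConj z' p.1 ∧ IsConj t' p.2 ∧ i' ∈ zpowers (p.1 * p.2)} := by
  classical
  choose! φ hφ using tot
  have inj : ∀ a ∈ centralizer ({i} : Set G₀), ∀ b ∈ centralizer ({i} : Set G₀),
      φ a = φ b → a = b := by
    intro a ha b hb e
    have h3 := Γ.mul_mem (Γ.inv_mem (hφ a ha)) (hφ b hb)
    have h4 : (a, φ a)⁻¹ * (b, φ b) = (a⁻¹ * b, (1 : G)) := by simp [e]
    rw [h4] at h3
    exact inv_mul_eq_one.1 (hi _ h3)
  constructor
  · refine Nat.card_le_card_of_injective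
      (fun a : centralizer ({i} : Set G₀) => (⟨φ a, ?_⟩ : centralizer ({i'} : Set G))) ?_
    · rw [mem_centralizer_singleton_iff]
      have h1 := Γ.mul_mem (hφ a a.2) hii
      have h2 := Γ.mul_mem hii (hφ a a.2)
      rw [Prod.mk_mul_mk] at h1 h2
      rw [mem_centralizer_singleton_iff.1 a.2] at h1
      exact hf.eq h1 h2
    · intro a b e
      exact Subtype.ext (inj a a.2 b b.2 (congrArg Subtype.val e))
  · have sq : ∀ {w a : G₀}, w * w = 1 → IsConj w a → a * a = 1 := by
      intro w a hw ha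
      obtain ⟨c, rfl⟩ := isConj_iff.1 ha
      calc c * w * c⁻¹ * (c * w * c⁻¹) = c * (w * w) * c⁻¹ := by group
        _ = 1 := by rw [hw]; group
    have cen : ∀ u v : G₀, u * u = 1 → v * v = 1 → i ∈ zpowers (u * v) →
        u ∈ centralizer ({i} : Set G₀) ∧ v ∈ centralizer ({i} : Set G₀) := by
      intro u v hu hv hm
      obtain ⟨k, rfl⟩ := mem_zpowers_iff.1 hm
      have hu' : u⁻¹ = u := inv_eq_of_mul_eq_one_right hu
      have hv' : v⁻¹ = v := inv_eq_of_mul_eq_one_right hv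
      have hii' : ((u * v) ^ k)⁻¹ = (u * v) ^ k := inv_eq_of_mul_eq_one_right hi2
      have e1 : u * (u * v) * u⁻¹ = (u * v)⁻¹ := by
        rw [mul_inv_rev, hu', hv', ← mul_assoc, hu, one_mul]
      have e2 : v * (u * v) * v⁻¹ = (u * v)⁻¹ := by
        rw [mul_inv_rev, hu', hv', mul_assoc, mul_assoc, hv, mul_one]
      constructor <;> rw [mem_centralizer_singleton_iff]
      · have : u * (u * v) ^ k * u⁻¹ = (u * v) ^ k := by
          rw [← conj_zpow, e1, inv_zpow, hii']
        rw [← mul_inv_eq_iff_eq_mul, this]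
      · have : v * (u * v) ^ k * v⁻¹ = (u * v) ^ k := by
          rw [← conj_zpow, e2, inv_zpow, hii']
        rw [← mul_inv_eq_iff_eq_mul, this]
    refine Nat.card_le_card_of_injective
      (fun p : {p : G₀ × G₀ // IsConj z p.1 ∧ IsConj t p.2 ∧ i ∈ zpowers (p.1 * p.2)} =>
        (⟨(φ p.1.1, φ p.1.2), ?_⟩ :
          {p : G × G // IsConj z' p.1 ∧ IsConj t' p.2 ∧ i' ∈ zpowers (p.1 * p.2)})) ?_
    · obtain ⟨⟨u, v⟩, h1, h2, h3⟩ := p
      obtain ⟨c1, c2⟩ := cen u v (sq hz h1) (sq ht h2) h3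
      refine ⟨cz _ _ (hφ u c1) h1, ct _ _ (hφ v c2) h2, ?_⟩
      obtain ⟨k, hk⟩ := mem_zpowers_iff.1 h3
      have h4 := Γ.zpow_mem (Γ.mul_mem (hφ u c1) (hφ v c2)) k
      rw [Prod.mk_mul_mk, Prod.pow_mk] at h4
      have hk' : (u * v) ^ k = i := hk
      rw [hk'] at h4
      exact mem_zpowers_iff.2 ⟨k, hf.eq h4 hii⟩
    · rintro ⟨⟨u, v⟩, h1, h2, h3⟩ ⟨⟨u', v'⟩, h1', h2', h3'⟩ e
      obtain ⟨c1, c2⟩ := cen u v (sq hz h1) (sq ht h2) h3
      obtain ⟨c1', c2'⟩ := cen u' v' (sq hz h1') (sq ht h2') h3'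
      have e' := congrArg Subtype.val e
      simp only [Prod.mk.injEq] at e'
      exact Subtype.ext (Prod.ext (inj _ c1 _ c1' e'.1) (inj _ c2 _ c2' e'.2))

end

end H18.NT
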