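import Cfsg.Agent.H18.NTm

/-! Tits recognition, part b: computing in the centralizer of the central involution. -/

set_option autoImplicit false

namespace H18.NT

open H16 Subgroup

/-- the sixteen letters `z z₁ t v₀ v₁ x b a e² e y e⁻¹ a⁻¹ f f⁻¹ s` -/
noncomputable def hh {G : Type*} [Group G] (g : ℕ → G) : ℕ → G := wds g Ws
/-- the element of the Sylow subgroup with number `u` -/
noncomputable def el {G : Type*} [Group G] (g : ℕ → G) (u : ℕ) : G := elN (hh g) u 11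

/-- the six letters `e e⁻¹ f f⁻¹ x s` in the model -/
noncomputable def g0 : ℕ → Equiv.Perm (Fin 1755) := wds H15.Tits.g W0

theorem act0 : Act g0 (ptF 1755) (rl σ0 H) 1755 6 :=
  (H15.Tits.act.wds W0lt.1 6).of_eq fun k hk i hi => (force_eq i _).symm.trans (m0 k hk i hi)

theorem acth : Act (hh g0) (ptF 1755) H 1755 16 :=
  (act0.wds W0lt.2.2.1 16).of_eq fun k hk i hi => (force_eq i _).symm.trans (m1 k hk i hi)

theorem hh_mem {G : Type*} [Group G] (g : ℕ → G) {k : ℕ} (hk : k < 15) : hh g k ∈ gen g 5 :=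
  evA_mem_gen g (ltAll_zero (allZ_sound0 W0lt.2.2.2 k hk))

theorem hh_mem6 {G : Type*} [Group G] (g : ℕ → G) (k : ℕ) : hh g k ∈ gen g 6 :=
  evA_mem_gen g (nth_lt W0lt.2.2.1 k)

theorem g0_le6 : gen g0 6 ≤ gen H15.Tits.g 6 := gen_wds_le W0lt.1 6

theorem tits_eq {k : ℕ} (hk : k < 6) : H15.Tits.g k = evA (hh g0) (nth [] U0 k) := by
  obtain ⟨h1, h2⟩ := Nat.add_eq_zero_iff.1 (allZ_sound0 U0c.1 k hk)
  refine H15.Tits.isBase.ext (mem_gen _ hk) (evA_mem _ fun j _ => g0_le6 (hh_mem6 g0 j))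
    fun b hb => ?_
  have hb' := ltAll_zero H15.Tits.Blt b hb
  rw [(H15.Tits.act k hk b hb').2, (acth.apW (ltAll_zero h1) hb').2, xor_zero (sumL_zero h2 b hb)]

theorem g0_eq6 : gen g0 6 = gen H15.Tits.g 6 :=
  le_antisymm g0_le6 (gen_le.2 fun k hk => tits_eq hk ▸ evA_mem _ fun j _ => hh_mem6 g0 j)

theorem g0_eq5 : gen g0 5 = gen H15.Tits.g 5 :=
  le_antisymm (gen_le.2 fun k hk => evA_mem_gen _ (ltAll_zero (allZ_sound0 W0lt.2.1 k hk)))
    (gen_le.2 fun k hk => tits_eq (by omega : k < 6) ▸ evA_mem _ fun j hj =>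
      hh_mem g0 (ltAll_zero (allZ_sound0 U0c.2 k hk) j hj))

theorem chain1 : IsChain H15.Tits.g (ptF 1755) 1755 [H15.Tits.l1, H15.Tits.l2] :=
  IsChain.tail (l := H15.Tits.l0) H15.Tits.chain

theorem card0 : Nat.card (gen g0 5) = 10240 := by
  rw [g0_eq5]
  exact chain1.card' (ptF_inj 1755) (by decide +kernel)

theorem base1 : IsBase (gen (hh g0) 15) (ptF 1755) B1 := by
  have h1 := chain1.isBase (ptF_inj 1755)
  have e : chainBase [H15.Tits.l1, H15.Tits.l2] = B1 := by decide +kernel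
  rw [e] at h1
  exact h1.mono (gen_le.2 fun k hk => (g0_eq5.le (hh_mem g0 hk) : _ ∈ gen H15.Tits.g 5))

theorem B1lt : ltAll 1755 B1 = 0 := by decide +kernel

theorem base0 : IsBase (gen g0 6) (ptF 1755) H15.Tits.B := H15.Tits.isBase.mono g0_le6

theorem rel0 : Rels g0 R1 := rels_of_base act0 H15.Tits.Blt base0 R1m

section
variable {G : Type*} [Group G] {g : ℕ → G}

theorem fn1 (hR : Rels g R1) : Fn (gen (fun k => (g0 k, g k)) 5) :=
  fn_of_bound bda5 rel0 hR card0.ge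

theorem hh_pair {G' : Type*} [Group G'] (g' : ℕ → G') (g : ℕ → G) {k : ℕ} (hk : k < 15) :
    (hh g' k, hh g k) ∈ gen (fun k => (g' k, g k)) 5 := by
  have := hh_mem (fun k => (g' k, g k)) hk
  unfold hh wds at this ⊢
  rwa [evA_pair] at this

theorem eq1 (hR : Rels g R1) {W W' : List ℕ} (h : eq1c W W' = 0) :
    evA (hh g) W = evA (hh g) W' := by
  have e : evA (hh g0) W = evA (hh g0) W' := eqL_sound (acth.mono (by decide)) B1lt base1 h
  obtain ⟨h1, -⟩ := Nat.add_eq_zero_iff.1 h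
  obtain ⟨h1, h2⟩ := Nat.add_eq_zero_iff.1 h1
  exact (fn1 hR).eq (evA_mem_graph fun k hk => hh_pair g0 g (ltAll_zero h1 k hk))
    (e ▸ evA_mem_graph fun k hk => hh_pair g0 g (ltAll_zero h2 k hk))

theorem tab_idx {k u : ℕ} (hk : k < 11) (hu : u < 2048) :
    T k u < 2048 ∧ T k u >>> (k + 1) = u >>> (k + 1) ∧ T k (T k (T k (T k u))) = u ∧
      ∀ b ∈ B1, H k (bitf H u b 11) = bitf H (T k u) b 11 := by
  have h := tT k hk u hu
  unfold tEnt at h
  simp only [force_eq] at h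
  obtain ⟨h1, h2⟩ := Nat.add_eq_zero_iff.1 h
  obtain ⟨h1, h3⟩ := Nat.add_eq_zero_iff.1 h1
  obtain ⟨h2, h4⟩ := Nat.add_eq_zero_iff.1 h2
  refine ⟨?_, xor_zero h3, xor_zero h2, fun b hb => xor_zero (sumL_zero h4 b hb)⟩
  have : T k u + 1 - 2048 = 0 := h1
  omega

theorem tab (hR : Rels g R1) {k u : ℕ} (hk : k < 11) (hu : u < 2048) :
    hh g k * el g u = el g (T k u) := by
  have m : ∀ v, el g0 v ∈ gen (hh g0) 15 := fun v => elN_mem fun i hi _ => mem_gen _ (by omega)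
  have e : hh g0 k * el g0 u = el g0 (T k u) := by
    refine base1.ext (mul_mem (mem_gen _ (by omega)) (m u)) (m _) fun b hb => ?_
    have hb' := ltAll_zero B1lt b hb
    have a : ∀ v, bitf H v b 11 < 1755 ∧ el g0 v • ptF 1755 b = ptF 1755 (bitf H v b 11) :=
      fun v => bitf_sound hb' fun i hi _ => acth i (by omega)
    rw [mul_smul, (a u).2, (acth k (by omega) _ (a u).1).2, (a _).2, (tab_idx hk hu).2.2.2 b hb]
  have p : ∀ v, (el g0 v, el g v) ∈ gen (fun k => (g0 k, g k)) 5 := fun v =>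
    elN_mem_graph fun i hi => hh_pair g0 g (by omega)
  exact (fn1 hR).eq (mul_mem (hh_pair g0 g (by omega : k < 15)) (p u)) (e ▸ p (T k u))

theorem actR (hR : Rels g R1) : Act (hh g) (el g) T 2048 11 := fun _ hk _ hu =>
  ⟨(tab_idx hk hu).1, tab hR hk hu⟩

theorem mu_lt (u : ℕ) {v : ℕ} (hv : v < 2048) : mu u v < 2048 :=
  (bitf_sound (u := u) (n := 11) hv fun i hi _ => actR rel0 i hi).1

theorem el_mu (hR : Rels g R1) (u : ℕ) {v : ℕ} (hv : v < 2048) :
    el g (mu u v) = el g u * el g v :=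
  (bitf_sound (u := u) (n := 11) hv fun i hi _ => actR hR i hi).2.symm

theorem el_zero (g : ℕ → G) : el g 0 = 1 := elN_zero _ _

theorem el_pow (g : ℕ → G) {k : ℕ} (hk : k < 11) : el g (2 ^ k) = hh g k := elN_two_pow hk

theorem el_pow' (g : ℕ → G) (k : ℕ) {u : ℕ} (h : k < 11 ∧ u = 2 ^ k := by decide) :
    el g u = hh g k := by rw [h.2, el_pow g h.1]

theorem el_mem (g : ℕ → G) {u n : ℕ} (hu : u < 2 ^ n) : el g u ∈ gen (hh g) n :=
  elN_mem fun i _ hb => mem_gen _ (by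
    by_contra hc
    rw [Nat.testBit_lt_two_pow (lt_of_lt_of_le hu (Nat.pow_le_pow_right (by decide) (by omega)))]
      at hb
    cases hb)

theorem el_memS (g : ℕ → G) (u : ℕ) : el g u ∈ gen (hh g) 11 :=
  elN_mem fun _ hi _ => mem_gen _ hi

theorem T_lt {k u n : ℕ} (hk : k < n) (hn : n ≤ 11) (hu : u < 2 ^ n) : T k u < 2 ^ n := by
  have h2 : u < 2048 := lt_of_lt_of_le hu (Nat.pow_le_pow_right (by decide) hn : 2 ^ n ≤ 2 ^ 11)
  have h := (tab_idx (by omega : k < 11) h2).2.1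
  obtain ⟨m, rfl⟩ : ∃ m, n = (k + 1) + m := ⟨n - (k + 1), by omega⟩
  have h3 : T k u >>> (k + 1 + m) = u >>> (k + 1 + m) := by
    rw [Nat.shiftRight_add _ (k + 1), Nat.shiftRight_add _ (k + 1), h]
  rw [Nat.shiftRight_eq_div_pow, Nat.shiftRight_eq_div_pow, Nat.div_eq_of_lt hu] at h3
  exact (Nat.div_eq_zero_iff_lt (Nat.two_pow_pos _)).1 h3

theorem exists_el (hR : Rels g R1) {n : ℕ} (hn : n ≤ 11) {a : G} (ha : a ∈ gen (hh g) n) :
    ∃ u < 2 ^ n, a = el g u := by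
  have hA : Act (hh g) (el g) T (2 ^ n) n := fun k hk u hu =>
    ⟨T_lt hk hn hu, tab hR (by omega)
      (lt_of_lt_of_le hu (Nat.pow_le_pow_right (by decide) hn : 2 ^ n ≤ 2 ^ 11))⟩
  obtain ⟨j, hj, e⟩ := hA.exists_smul ha (Nat.two_pow_pos n)
  exact ⟨j, hj, by rw [← e, el_zero, smul_eq_mul, mul_one]⟩

theorem exists_elS (hR : Rels g R1) {a : G} (ha : a ∈ gen (hh g) 11) : ∃ u < 2048, a = el g u :=
  exists_el hR le_rfl ha

theorem iv_idx {u : ℕ} (hu : u < 2048) : Iv u < 2048 ∧ mu (Iv u) u = 0 ∧ (2 ≤ u →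
    Kc u < 11 ∧ Uc u < u ∧ Uc u ≠ 0 ∧ mu (Uc u) (mu u (2 ^ Kc u)) = T (Kc u) u) := by
  have h := iT u hu
  unfold iEnt at h
  simp only [force_eq, ifz_eq] at h
  obtain ⟨h1, h2⟩ := Nat.add_eq_zero_iff.1 h
  obtain ⟨h1, h3⟩ := Nat.add_eq_zero_iff.1 h1
  have h1' : Iv u + 1 - 2048 = 0 := h1
  refine ⟨by omega, h3, fun h4 => ?_⟩
  have h5 : Nat.shiftRight u 1 ≠ 0 := by
    show u >>> 1 ≠ 0
    rw [Nat.shiftRight_eq_div_pow]; omega
  rw [if_neg h5] at h2
  obtain ⟨h2, h6⟩ := Nat.add_eq_zero_iff.1 h2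
  have h2' : (Kc u + 1 - 11) + ((Uc u + 1 - u) + (1 - Uc u)) = 0 := h2
  exact ⟨by omega, by omega, by omega, xor_zero h6⟩

theorem el_iv (hR : Rels g R1) {u : ℕ} (hu : u < 2048) : el g (Iv u) = (el g u)⁻¹ :=
  eq_inv_of_mul_eq_one_left (by rw [← el_mu hR _ hu, (iv_idx hu).2.1, el_zero])

theorem bitf_inj {w n : ℕ} (hn : n ≤ 11) {u v : ℕ} (hu : u < 2048) (hv : v < 2048)
    (e : bitf T w u n = bitf T w v n) : u = v := by
  induction n with
  | zero => exact e
  | succ i ih =>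
    refine ih (by omega) ?_
    rw [bitf_succ, bitf_succ] at e
    split_ifs at e with hb
    · have l : ∀ x < 2048, bitf T w x i < 2048 := fun x hx =>
        (bitf_sound (u := w) (n := i) hx fun j hj _ => actR rel0 j (by omega)).1
      rw [← (tab_idx (by omega : i < 11) (l u hu)).2.2.1, e,
        (tab_idx (by omega : i < 11) (l v hv)).2.2.1]
    · exact e

/-- the relations of the centralizer hold and the central involution is not trivial -/
structure A1 (g : ℕ → G) : Prop where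
  rel : Rels g R1
  nz : hh g 0 ≠ 1

theorem A1.eq_zero (h : A1 g) {u : ℕ} (hu : u < 2048) (e : el g u = 1) : u = 0 := by
  induction u using Nat.strong_induction_on with
  | _ u ih =>
    by_contra h0
    by_cases h1 : u = 1
    · subst h1; exact h.nz ((el_pow' g 0).symm.trans e)
    obtain ⟨h2, h3, h4, h5⟩ := (iv_idx hu).2.2 (by omega)
    refine h4 (ih _ h3 (by omega) ?_)
    have h6 : 2 ^ Kc u < 2048 := Nat.pow_lt_pow_right (by decide : 1 < 2) h2
    have h7 := congrArg (el g) h5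
    rw [el_mu h.rel _ (mu_lt _ h6), el_mu h.rel _ h6, ← tab h.rel h2 hu, e, el_pow g h2, one_mul,
      mul_one] at h7
    exact mul_eq_right.1 h7

theorem A1.inj (h : A1 g) {u v : ℕ} (hu : u < 2048) (hv : v < 2048) (e : el g u = el g v) :
    u = v := by
  have h1 : mu (Iv u) v = 0 := h.eq_zero (mu_lt _ hv) (by
    rw [el_mu h.rel _ hv, el_iv h.rel hu, e, inv_mul_cancel])
  exact bitf_inj le_rfl hu hv ((iv_idx hu).2.1.trans h1.symm)

theorem A1.lt_of_mem (h : A1 g) {u n : ℕ} (hn : n ≤ 11) (hu : u < 2048)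
    (hm : el g u ∈ gen (hh g) n) : u < 2 ^ n := by
  obtain ⟨v, hv, e⟩ := exists_el h.rel hn hm
  rwa [h.inj hu (lt_of_lt_of_le hv (Nat.pow_le_pow_right (by decide) hn : 2 ^ n ≤ 2 ^ 11)) e]

theorem A1.card_gen (h : A1 g) {n : ℕ} (hn : n ≤ 11) : Nat.card (gen (hh g) n) = 2 ^ n := by
  have l : ∀ u : Fin (2 ^ n), (u : ℕ) < 2048 := fun u =>
    lt_of_lt_of_le u.2 (Nat.pow_le_pow_right (by decide) hn : 2 ^ n ≤ 2 ^ 11)
  have : Function.Bijective fun u : Fin (2 ^ n) => (⟨el g u, el_mem g u.2⟩ : gen (hh g) n) := by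
    refine ⟨fun u v e => Fin.ext (h.inj (l u) (l v) (congrArg Subtype.val e)), fun a => ?_⟩
    obtain ⟨u, hu, e⟩ := exists_el h.rel hn a.2
    exact ⟨⟨u, hu⟩, Subtype.ext e.symm⟩
  rw [← Nat.card_eq_of_bijective _ this, Nat.card_eq_fintype_card, Fintype.card_fin]

theorem A1.com_iff (h : A1 g) {u v : ℕ} (hu : u < 2048) (hv : v < 2048) :
    com u v = 0 ↔ el g u * el g v = el g v * el g u := by
  unfold com
  rw [xor_eq_zero, ← el_mu h.rel _ hv, ← el_mu h.rel _ hu]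
  exact ⟨congrArg _, h.inj (mu_lt _ hv) (mu_lt _ hu)⟩

theorem A1.mu_eq (h : A1 g) {u v w : ℕ} (hv : v < 2048) (hw : w < 2048)
    (e : el g u * el g v = el g w) : mu u v = w :=
  h.inj (mu_lt _ hv) hw (by rw [el_mu h.rel _ hv, e])

theorem shift_mem (g : ℕ → G) {p q n : ℕ} (hn : n ≤ 11) (e : p >>> n = q >>> n) :
    (el g q)⁻¹ * el g p ∈ gen (hh g) n := by
  have h1 := elN_shift (h := hh g) e (11 - n)
  rw [show n + (11 - n) = 11 by omega] at h1
  have h2 : (el g q)⁻¹ * el g p = (elN (hh g) q n)⁻¹ * elN (hh g) p n := by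
    unfold el
    rw [← mul_inv_eq_iff_eq_mul] at h1
    rw [← h1]; group
  rw [h2]
  exact mul_mem (inv_mem (elN_mem fun i hi _ => mem_gen _ hi)) (elN_mem fun i hi _ => mem_gen _ hi)

/-- the initial segments generate normal subgroups of `S` -/
theorem conj_mem_gen (hR : Rels g R1) {n : ℕ} (hn : n ≤ 11) {c a : G} (hc : c ∈ gen (hh g) 11)
    (ha : a ∈ gen (hh g) n) : c⁻¹ * a * c ∈ gen (hh g) n := by
  obtain ⟨u, hu, rfl⟩ := exists_elS hR hc
  have : (gen (hh g) n).map (MulAut.conj (el g u)⁻¹).toMonoidHom ≤ gen (hh g) n := by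
    rw [map_gen]
    refine gen_le.2 fun k hk => ?_
    have h1 := shift_mem g (by omega : k + 1 ≤ 11) (tab_idx (by omega : k < 11) hu).2.1
    rw [← tab hR (by omega) hu, ← mul_assoc] at h1
    simpa using gen_mono _ (by omega : k + 1 ≤ n) h1
  simpa using this (mem_map_of_mem _ ha)

theorem bitf_shift {u v n m : ℕ} (hu : u < 2 ^ n) (hm : m ≤ 11) (hv : v < 2048) :
    bitf T u v m >>> n = v >>> n := by
  induction m with
  | zero => rfl
  | succ i ih =>
    rw [bitf_succ]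
    split_ifs with hb
    · have hi : i < n := by
        by_contra hc
        rw [Nat.testBit_lt_two_pow
          (lt_of_lt_of_le hu (Nat.pow_le_pow_right (by decide) (by omega)))] at hb
        cases hb
      have l : bitf T u v i < 2048 :=
        (bitf_sound (u := u) (n := i) hv fun j hj _ => actR rel0 j (by omega)).1
      obtain ⟨r, rfl⟩ : ∃ r, n = (i + 1) + r := ⟨n - (i + 1), by omega⟩
      rw [Nat.shiftRight_add _ (i + 1), (tab_idx (by omega : i < 11) l).2.1,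
        ← Nat.shiftRight_add, ih (by omega)]
    · exact ih (by omega)

theorem A1.shift_eq (h : A1 g) {p q n : ℕ} (hn : n ≤ 11) (hp : p < 2048) (hq : q < 2048)
    (e : el g p * (el g q)⁻¹ ∈ gen (hh g) n) : p >>> n = q >>> n := by
  obtain ⟨c, hc, e1⟩ := exists_el h.rel hn e
  rw [← h.mu_eq hq hp (by rw [← e1]; group : el g c * el g q = el g p)]
  exact bitf_shift hc le_rfl hq

theorem evI_sound (hR : Rels g R1) {im W : List ℕ} {φ : ℕ → G} {n : ℕ}
    (hφ : ∀ k < n, φ k = el g (nth 0 im k)) (hW : ∀ k ∈ W, k < n) :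
    evI im W < 2048 ∧ el g (evI im W) = evA φ W := by
  have hA : Act φ (el g) (fun k r => force (nth (nat_lit 0) im k) fun w => mu w r) 2048 n := by
    intro k hk r hr
    simp only [force_eq]
    exact ⟨mu_lt _ hr, by rw [el_mu hR _ hr, hφ k hk]; rfl⟩
  obtain ⟨h1, h2⟩ := hA.apW hW (by decide : 0 < 2048)
  exact ⟨h1, by rw [el_zero, smul_eq_mul, mul_one] at h2; exact h2.symm⟩

theorem homR_sound (hR : Rels g R1) {im : List ℕ} (φ : G →* G) {u : ℕ}
    (hφ : ∀ i < 11, u.testBit i = true → φ (hh g i) = el g (nth 0 im i)) :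
    homR im u < 2048 ∧ el g (homR im u) = φ (el g u) := by
  obtain ⟨h1, h2⟩ := bitf_sound (h := fun i => φ (hh g i)) (pt := el g) (u := u) (n := 11)
    (P := fun i a => force (nth (nat_lit 0) im i) fun w => mu w a) (by decide : 0 < 2048) (by
      intro i hi hb w hw
      simp only [force_eq]
      exact ⟨mu_lt _ hw, by rw [el_mu hR _ hw, hφ i hi hb]; rfl⟩)
  refine ⟨h1, ?_⟩
  rw [el_zero, smul_eq_mul, mul_one] at h2
  unfold el
  rw [map_elN]
  exact h2.symm

theorem testBit_lt {u n i : ℕ} (hu : u < 2 ^ n) (hb : u.testBit i = true) : i < n := by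
  by_contra hc
  rw [Nat.testBit_lt_two_pow (lt_of_lt_of_le hu (Nat.pow_le_pow_right (by decide) (by omega)))]
    at hb
  cases hb

theorem io_sound (hR : Rels g R1) (u : ℕ) :
    io u < 2048 ∧ el g (io u) = hh g 10 * el g u * hh g 10 := by
  unfold io
  rw [force_eq]
  have h1 : mu u 1024 < 2048 := mu_lt _ (by decide)
  refine ⟨(tab_idx (by decide) h1).1, ?_⟩
  rw [← tab hR (by decide) h1, el_mu hR _ (by decide), mul_assoc, el_pow' g 10 (u := 1024)]

theorem eq_el (hR : Rels g R1) {W : List ℕ} {u : ℕ} (h : eq1c W (wdN u 11) = 0) :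
    evA (hh g) W = el g u := (eq1 hR h).trans (evA_wdN _ _ _)

end

end H18.NT
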