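import Cfsg.Agent.H18.NTb

/-! Tits recognition, part c: structure of the centralizer from its presentation. -/

set_option autoImplicit false

namespace H18.NT

open H16 Subgroup

variable {G : Type*} [Group G] {g : ℕ → G}

theorem evA_rep (h : ℕ → G) (n k : ℕ) : evA h (List.replicate n k) = h k ^ n := by
  induction n with
  | zero => simp
  | succ n ih => rw [List.replicate_succ, evA_cons, ih, pow_succ]

theorem hh_g (g : ℕ → G) {k : ℕ} (hk : k < 6) : hh g (nth 0 σ0 k) = g k := by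
  have : ∀ k < 6, nth [] Ws (nth 0 σ0 k) = [k] := by decide +kernel
  unfold hh wds
  rw [this k hk]; simp

theorem gen15 (g : ℕ → G) : gen (hh g) 15 = gen g 5 :=
  le_antisymm (gen_le.2 fun _ hk => hh_mem g hk) (gen_le.2 fun k hk => by
    have : ∀ k < 5, nth 0 σ0 k < 15 := by decide +kernel
    rw [← hh_g g (by omega : k < 6)]; exact mem_gen _ (this k hk))

theorem S_le (g : ℕ → G) : gen (hh g) 11 ≤ gen g 5 := gen_le.2 fun _ hk => hh_mem g (by omega)

theorem eq_one1 (hR : Rels g R1) {W : List ℕ} (h : eq1c W [] = 0) : evA (hh g) W = 1 := eq1 hR h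

theorem hE (hR : Rels g R1) : hh g 11 = (hh g 9)⁻¹ :=
  eq_inv_of_mul_eq_one_left (by simpa using eq_one1 hR (W := [9, 11]) (by decide +kernel))
theorem hA (hR : Rels g R1) : hh g 12 = (hh g 7)⁻¹ :=
  eq_inv_of_mul_eq_one_left (by simpa using eq_one1 hR (W := [7, 12]) (by decide +kernel))
theorem hF (hR : Rels g R1) : hh g 14 = (hh g 13)⁻¹ :=
  eq_inv_of_mul_eq_one_left (by simpa using eq_one1 hR (W := [13, 14]) (by decide +kernel))
theorem f5 (hR : Rels g R1) : hh g 13 ^ 5 = 1 :=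
  (evA_rep _ _ _).symm.trans (eq_one1 hR (W := List.replicate 5 13) (by decide +kernel))
theorem yy (hR : Rels g R1) : hh g 10 * hh g 10 = 1 := by
  simpa using eq_one1 hR (W := [10, 10]) (by decide +kernel)
theorem zz (hR : Rels g R1) : hh g 0 * hh g 0 = 1 := by
  simpa using eq_one1 hR (W := [0, 0]) (by decide +kernel)
theorem tt (hR : Rels g R1) : hh g 2 * hh g 2 = 1 := by
  simpa using eq_one1 hR (W := [2, 2]) (by decide +kernel)
theorem ee (hR : Rels g R1) : hh g 8 = hh g 9 * hh g 9 := by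
  simpa using eq1 hR (W := [8]) (W' := [9, 9]) (by decide +kernel)
theorem efe (hR : Rels g R1) : hh g 9 * hh g 13 * (hh g 9)⁻¹ = hh g 13 ^ 2 := by
  have := eq1 hR (W := [11, 13, 9]) (W' := [13, 13]) (by decide +kernel)
  simp only [evA_cons, evA_nil, one_mul, hE hR] at this
  rw [this, sq]

theorem z_cent (hR : Rels g R1) {p : G} (hp : p ∈ gen g 5) : p * hh g 0 = hh g 0 * p := by
  have : gen (hh g) 15 ≤ centralizer {hh g 0} := gen_le.2 fun k hk => by
    have h1 : allZ (fun k => eq1c [0, k] [k, 0]) 0 15 = true := by decide +kernel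
    rw [mem_centralizer_singleton_iff]
    simpa using eq1 hR (allZ_sound0 h1 k hk)
  exact mem_centralizer_singleton_iff.1 (this ((gen15 g).symm ▸ hp))

theorem dec (hR : Rels g R1) {p : G} (hp : p ∈ gen g 5) :
    ∃ k < 5, ∃ u < 2048, p = hh g 13 ^ k * el g u := by
  have hA : Act g (fun u => ((hh g 13 ^ u : G) : G ⧸ gen (hh g) 11)) dv 5 5 := by
    intro k hk u hu
    obtain ⟨h1, h2⟩ := Nat.add_eq_zero_iff.1 (allZ2_sound dT k hk u hu)
    have h1' : dv k u + 1 - 5 = 0 := h1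
    refine ⟨by omega, ?_⟩
    have h3 := eq1 hR h2
    rw [evA_append, evA_append, evA_rep, evA_rep, evA_wdN] at h3
    simp only [evA_cons, evA_nil, one_mul] at h3
    rw [show nth (nat_lit 0) σ0 k = nth 0 σ0 k from rfl, hh_g g (by omega)] at h3
    show ((g k * hh g 13 ^ u : G) : G ⧸ gen (hh g) 11) = _
    rw [eq_comm, QuotientGroup.eq]
    have h4 : g k * hh g 13 ^ u = hh g 13 ^ dv k u * el g (dI k u) := h3
    rw [h4, inv_mul_cancel_left]
    exact el_memS g _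
  obtain ⟨j, hj, e⟩ := hA.exists_smul hp (by decide : 0 < 5)
  have e' : ((p * hh g 13 ^ 0 : G) : G ⧸ gen (hh g) 11) = ((hh g 13 ^ j : G) : G ⧸ _) := e
  rw [eq_comm, QuotientGroup.eq, pow_zero, mul_one] at e'
  obtain ⟨u, hu, e2⟩ := exists_elS hR e'
  exact ⟨j, hj, u, hu, by rw [← e2, mul_inv_cancel_left]⟩

theorem dec' (hR : Rels g R1) {p : G} (hp : p ∈ gen g 5) :
    ∃ k < 5, ∃ c ∈ gen (hh g) 11, p = c * hh g 13 ^ k := by
  obtain ⟨k, hk, u, -, e⟩ := dec hR (inv_mem hp)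
  have h1 : p = (el g u)⁻¹ * (hh g 13 ^ k)⁻¹ := by rw [← mul_inv_rev, ← e, inv_inv]
  refine ⟨(5 - k) % 5, Nat.mod_lt _ (by decide), _, inv_mem (el_memS g u), ?_⟩
  rw [h1, ← pow_mod_of_pow_eq_one' (f5 hR)]
  congr 1
  rw [eq_comm, ← mul_eq_one_iff_eq_inv, ← pow_add, Nat.sub_add_cancel hk.le, f5 hR]
where
  pow_mod_of_pow_eq_one' {x : G} (h : x ^ 5 = 1) {m : ℕ} : x ^ m = x ^ (m % 5) := by
    conv_lhs => rw [← Nat.div_add_mod m 5, pow_add, pow_mul, h, one_pow, one_mul]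

theorem fconj (hR : Rels g R1) {i : ℕ} (hi : i < 11) (h8 : i ≠ 8) (h9 : i ≠ 9) :
    hh g 13 * hh g i * (hh g 13)⁻¹ = el g (nth 0 imf i) := by
  have h := allZ_sound0 fT i hi
  simp only [ifz_eq] at h
  rw [if_neg (by
    rw [xor_eq_zero]
    show i >>> 1 ≠ 4
    rw [Nat.shiftRight_eq_div_pow]; omega)] at h
  have h3 := eq1 hR (Nat.add_eq_zero_iff.1 h).2
  simp only [evA_cons, evA_nil, one_mul, evA_wdN] at h3
  rw [mul_inv_eq_iff_eq_mul]
  exact h3

theorem V_conj (hR : Rels g R1) {p a : G} (hp : p ∈ gen g 5) (ha : a ∈ gen (hh g) 5) :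
    p * a * p⁻¹ ∈ gen (hh g) 5 := by
  have hf : ∀ b ∈ gen (hh g) 5, hh g 13 * b * (hh g 13)⁻¹ ∈ gen (hh g) 5 := by
    intro b hb
    have : (gen (hh g) 5).map (MulAut.conj (hh g 13)).toMonoidHom ≤ gen (hh g) 5 := by
      rw [map_gen]
      refine gen_le.2 fun k hk => ?_
      have h1 : ∀ k < 5, nth 0 imf k < 2 ^ 5 := by decide +kernel
      have h2 := el_mem g (h1 k hk)
      rw [← fconj hR (by omega) (by omega) (by omega)] at h2
      exact h2
    exact this (mem_map_of_mem _ hb)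
  obtain ⟨k, -, u, -, rfl⟩ := dec hR hp
  have h1 := conj_mem_gen hR (by decide : 5 ≤ 11) (inv_mem (el_memS g u)) ha
  rw [inv_inv] at h1
  have h2 : ∀ k : ℕ, hh g 13 ^ k * (el g u * a * (el g u)⁻¹) * (hh g 13 ^ k)⁻¹ ∈ gen (hh g) 5 := by
    intro k
    induction k with
    | zero => simpa using h1
    | succ k ih =>
      have := hf _ ih
      rwa [show hh g 13 * (hh g 13 ^ k * (el g u * a * (el g u)⁻¹) * (hh g 13 ^ k)⁻¹) * (hh g 13)⁻¹ =
        hh g 13 ^ (k + 1) * (el g u * a * (el g u)⁻¹) * (hh g 13 ^ (k + 1))⁻¹ by group] at this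
  have := h2 k
  rwa [show hh g 13 ^ k * (el g u * a * (el g u)⁻¹) * (hh g 13 ^ k)⁻¹ =
    hh g 13 ^ k * el g u * a * (hh g 13 ^ k * el g u)⁻¹ by group] at this

theorem V_comm (hR : Rels g R1) {a b : G} (ha : a ∈ gen (hh g) 5) (hb : b ∈ gen (hh g) 5) :
    a * b = b * a := by
  have h1 : allZ2 (fun k j => eq1c [j, k] [k, j]) 5 5 = true := by decide +kernel
  have : gen (hh g) 5 ≤ centralizer (gen (hh g) 5 : Set G) := gen_le.2 fun k hk => by
    have h2 : gen (hh g) 5 ≤ centralizer {hh g k} := gen_le.2 fun j hj => by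
      rw [mem_centralizer_singleton_iff]
      simpa using (eq1 hR (allZ2_sound h1 k hk j hj)).symm
    exact fun c hc => mem_centralizer_singleton_iff.1 (h2 hc)
  exact this hb a ha

theorem rep_conj (hR : Rels g R1) {j : ℕ} (hj : j < 18) : nth 0 RLr j < 6 ∧ nth 0 RLi j < 2048 ∧
    hh g 13 ^ nth 0 RLk j * evA (hh g) (nth [] RW (nth 0 RLr j)) * (hh g 13 ^ nth 0 RLk j)⁻¹ =
      el g (nth 0 RLi j) := by
  obtain ⟨h1, h2⟩ := Nat.add_eq_zero_iff.1 (allZ_sound0 rT j hj)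
  have h1' : (nth 0 RLr j + 1 - 6) + (nth 0 RLi j + 1 - 2048) = 0 := h1
  refine ⟨by omega, by omega, ?_⟩
  have h3 := eq1 hR h2
  rw [evA_append, evA_append, evA_rep, evA_wdN] at h3
  rw [mul_inv_eq_iff_eq_mul]
  exact h3

/-- the classes of involutions of the centralizer -/
theorem inv_cls (hR : Rels g R1) {u : ℕ} (hu : u < 2048) (h0 : u ≠ 0) (h2 : mu u u = 0) :
    cls u < 6 ∧ ∃ p ∈ gen g 5, el g u = p * evA (hh g) (nth [] RW (cls u)) * p⁻¹ := by
  have h := cT u hu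
  unfold cEnt at h
  simp only [force_eq, ifz_eq, if_neg h0, if_pos h2] at h
  obtain ⟨h1, h3⟩ := Nat.add_eq_zero_iff.1 h
  have h1' : (Cc u + 1 - 2048) + (Jc u + 1 - 18) = 0 := h1
  obtain ⟨h4, h5, h6⟩ := rep_conj hR (by omega : Jc u < 18)
  refine ⟨h4, el g (Cc u) * hh g 13 ^ nth 0 RLk (Jc u),
    mul_mem (S_le g (el_memS g _)) (pow_mem (hh_mem g (by decide)) _), ?_⟩
  have h7 : mu u (Cc u) = mu (Cc u) (nth 0 RLi (Jc u)) := xor_zero h3
  have h8 := congrArg (el g) h7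
  rw [el_mu hR _ (by omega), el_mu hR _ h5, ← h6, ← eq_mul_inv_iff_mul_eq] at h8
  rw [h8]; unfold cls
  show _ = _ * evA (hh g) (nth [] RW (nth 0 RLr (Jc u))) * _
  group

theorem A1.mem_S_of_t (h : A1 g) {p : G} (hp : p ∈ gen g 5)
    (ht : p * hh g 2 * p⁻¹ ∈ gen (hh g) 3) : p ∈ gen (hh g) 11 := by
  obtain ⟨k, hk, c, hc, rfl⟩ := dec' h.rel hp
  have h1 := conj_mem_gen h.rel (by decide : 3 ≤ 11) hc ht
  rw [show c⁻¹ * (c * hh g 13 ^ k * hh g 2 * (c * hh g 13 ^ k)⁻¹) * c =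
    hh g 13 ^ k * hh g 2 * (hh g 13 ^ k)⁻¹ by group] at h1
  obtain ⟨-, h3, h4⟩ := rep_conj h.rel (by omega : 6 + k < 18)
  have h5 : ∀ k < 5, nth 0 RLk (6 + k) = k ∧ nth [] RW (nth 0 RLr (6 + k)) = [2] ∧
      (nth 0 RLi (6 + k) < 2 ^ 3 → k = 0) := by decide +kernel
  obtain ⟨h6, h7, h8⟩ := h5 k hk
  rw [h6, h7] at h4
  simp only [evA_cons, evA_nil, one_mul] at h4
  rw [h4] at h1
  rw [h8 (h.lt_of_mem (by decide) h3 h1), pow_zero, mul_one]
  exact hc

theorem A1.f_pow_mem (h : A1 g) {k : ℕ} (hk : k < 5) (hm : hh g 13 ^ k ∈ gen (hh g) 11) :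
    k = 0 := by
  have h1 := conj_mem_gen h.rel (by decide : 3 ≤ 11) (inv_mem hm) (mem_gen (hh g) (by decide : 2 < 3))
  rw [inv_inv] at h1
  obtain ⟨-, h3, h4⟩ := rep_conj h.rel (by omega : 6 + k < 18)
  have h5 : ∀ k < 5, nth 0 RLk (6 + k) = k ∧ nth [] RW (nth 0 RLr (6 + k)) = [2] ∧
      (nth 0 RLi (6 + k) < 2 ^ 3 → k = 0) := by decide +kernel
  obtain ⟨h6, h7, h8⟩ := h5 k hk
  rw [h6, h7] at h4
  simp only [evA_cons, evA_nil, one_mul] at h4
  rw [h4] at h1
  exact h8 (h.lt_of_mem (by decide) h3 h1)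

theorem A1.order_f (h : A1 g) : orderOf (hh g 13) = 5 := by
  haveI : Fact (Nat.Prime 5) := ⟨by decide⟩
  refine orderOf_eq_prime (f5 h.rel) fun e => ?_
  have := h.f_pow_mem (by decide : 1 < 5) (by rw [e, one_pow]; exact one_mem _)
  omega

theorem A1.card_P (h : A1 g) : Nat.card (gen g 5) = 10240 := by
  obtain ⟨hf, hle⟩ := bda5.le h.rel
  have h1 : 2 ^ 11 ∣ Nat.card (gen g 5) := h.card_gen le_rfl ▸ card_dvd_of_le (S_le g)
  have h2 : 5 ∣ Nat.card (gen g 5) := by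
    have := Subgroup.orderOf_dvd_natCard _ (hh_mem g (by decide : 13 < 15))
    rwa [h.order_f] at this
  have h3 := Nat.Coprime.mul_dvd_of_dvd_of_dvd (by decide +kernel) h1 h2
  exact le_antisymm hle (Nat.le_of_dvd Nat.card_pos h3)

theorem land_bit {u m i : ℕ} (h : Nat.land u m = 0) (hb : u.testBit i = true) :
    m.testBit i = false := by
  have := congrArg (fun n => Nat.testBit n i) (show u &&& m = 0 from h)
  simpa [hb] using this

theorem E_norm (hR : Rels g R1) {u : ℕ} (hu : Nat.land u 1278 = 0) :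
    el g u ∈ normalizer (zpowers (hh g 13) : Set G) := by
  have he : hh g 9 ∈ normalizer (zpowers (hh g 13) : Set G) := by
    rw [mem_normalizer_iff]
    intro a
    have h1 : (hh g 9)⁻¹ * hh g 13 * hh g 9 = hh g 13 ^ 3 := by
      have h2 : hh g 9 * hh g 13 ^ 3 * (hh g 9)⁻¹ = hh g 13 := by
        rw [← conj_pow, efe hR, ← pow_mul, show 2 * 3 = 5 + 1 from rfl, pow_succ, f5 hR, one_mul]
      rw [← h2]; nth_rewrite 2 [h2]; group
    constructor
    · rintro ⟨k, rfl⟩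
      exact mem_zpowers_iff.2 ⟨2 * k, by rw [← conj_zpow, efe hR, zpow_mul]; norm_cast⟩
    · rintro ⟨k, hk⟩
      refine mem_zpowers_iff.2 ⟨3 * k, ?_⟩
      have h3 : a = (hh g 9)⁻¹ * hh g 13 ^ k * (hh g 9)⁻¹⁻¹ := by
        have hk' : hh g 13 ^ k = hh g 9 * a * (hh g 9)⁻¹ := hk
        rw [hk']; group
      rw [h3, ← conj_zpow, inv_inv, h1, zpow_mul]; norm_cast
  refine elN_mem fun i hi hb => ?_
  have h1 := land_bit hu hb
  have h2 : ∀ i < 11, Nat.testBit 1278 i = false → i = 0 ∨ i = 8 ∨ i = 9 := by decide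
  rcases h2 i hi h1 with rfl | rfl | rfl
  · refine centralizer_le_normalizer _ ?_
    rintro _ ⟨k, rfl⟩
    exact z_cent hR (zpow_mem (hh_mem g (by decide)) k)
  · rw [ee hR]; exact mul_mem he he
  · exact he

theorem Q0_idx (hR : Rels g R1) {w : ℕ} (hw : Nat.land w 768 = 0) :
    homR imf w < 2048 ∧ el g (homR imf w) = hh g 13 * el g w * (hh g 13)⁻¹ := by
  refine homR_sound hR (MulAut.conj (hh g 13)).toMonoidHom fun i hi hb => ?_
  have h1 := land_bit hw hb
  exact fconj hR hi (by rintro rfl; cases h1) (by rintro rfl; cases h1)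

theorem A1.norm_f (h : A1 g) {u : ℕ} (hu : u < 2048)
    (hn : el g u ∈ normalizer (zpowers (hh g 13) : Set G)) : Nat.land u 1278 = 0 := by
  classical
  have h1 := nT u hu
  unfold nEnt at h1
  simp only [force_eq, ifz_eq] at h1
  obtain ⟨h2, h3⟩ := Nat.add_eq_zero_iff.1 h1
  set w := mu (Iv (Nat.land u 768)) u with hw
  have hwl : w < 2048 := mu_lt _ hu
  have l768 : Nat.land u 768 < 2048 := lt_of_le_of_lt (Nat.and_le_right) (by decide)
  have hwn : el g w ∈ normalizer (zpowers (hh g 13) : Set G) := by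
    rw [hw, el_mu h.rel _ hu, el_iv h.rel l768]
    refine mul_mem (inv_mem (E_norm h.rel ?_)) hn
    show (u &&& 768) &&& 1278 = 0
    rw [Nat.and_assoc]; simp
  obtain ⟨h4, h5⟩ := Q0_idx h.rel (g := g) h2
  have h6 : homR imf w = w := by
    refine h.inj h4 hwl ?_
    have h7 : (el g w)⁻¹ * el g (homR imf w) ∈ zpowers (hh g 13) := by
      rw [h5, ← mul_assoc, ← mul_assoc]
      refine mul_mem ?_ (inv_mem (mem_zpowers _))
      have := (mem_normalizer_iff.1 (inv_mem hwn) (hh g 13)).1 (mem_zpowers _)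
      rwa [inv_inv] at this
    have h8 : (el g w)⁻¹ * el g (homR imf w) ∈ gen (hh g) 11 :=
      mul_mem (inv_mem (el_memS g _)) (el_memS g _)
    have fin : IsOfFinOrder (hh g 13) := orderOf_pos_iff.1 (by rw [h.order_f]; decide)
    obtain ⟨k, hk, e⟩ := (Finset.mem_image.1 (fin.mem_zpowers_iff_mem_range_orderOf.1 h7))
    rw [Finset.mem_range, h.order_f] at hk
    have h9 := h.f_pow_mem hk (e ▸ h8)
    rw [h9, pow_zero] at e
    exact (inv_mul_eq_one.1 e.symm).symm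
  rw [if_pos (xor_eq_zero.2 h6)] at h3
  exact h3

end H18.NT
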