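import Cfsg.Agent.H18.NTc
import Mathlib.Tactic.IntervalCases

/-! Tits recognition, part d: the amalgam. -/

set_option autoImplicit false

namespace H18.NT

open H16 Subgroup

variable {G : Type*} [Group G] {g : ℕ → G}

theorem el_768 (hR : Rels g R1) : el g 768 = hh g 11 := by
  rw [← twT.2.2.1, el_iv hR (by decide), el_pow' g 9, hE hR]

theorem el_144 (hR : Rels g R1) : el g 144 = hh g 12 := by
  rw [← twT.2.2.2, el_iv hR (by decide), el_pow' g 7, hA hR]

/-- the four letters `e e⁻¹ a a⁻¹` -/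
noncomputable def q4 (g : ℕ → G) (k : ℕ) : G := [hh g 9, hh g 11, hh g 7, hh g 12].getD k 1

theorem q4_el (hR : Rels g R1) : ∀ k < 4, q4 g k = el g (nth 0 [512, 768, 128, 144] k) := by
  intro k hk
  interval_cases k
  · exact (el_pow' g 9).symm
  · exact (el_768 hR).symm
  · exact (el_pow' g 7).symm
  · exact (el_144 hR).symm

theorem tw_lt {i : ℕ} (hi : i < 10) : ∀ k ∈ nth [] TW i, k < 4 :=
  ltAll_zero (Nat.add_eq_zero_iff.1 (allZ_sound0 twT.1 i hi)).1

theorem tw_eq (hR : Rels g R1) {i : ℕ} (hi : i < 10) : hh g i = evA (q4 g) (nth [] TW i) := by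
  have h1 : evI [512, 768, 128, 144] (nth [] TW i) = 2 ^ i :=
    xor_zero (Nat.add_eq_zero_iff.1 (allZ_sound0 twT.1 i hi)).2
  rw [← (evI_sound hR (q4_el hR) (tw_lt hi)).2, h1, el_pow g (by omega)]

theorem map_q4 (hR : Rels g R1) (σ : G →* G) {im : List ℕ}
    (h : ∀ k < 4, σ (q4 g k) = el g (nth 0 im k)) {W : List ℕ} (hW : ∀ k ∈ W, k < 4) :
    evI im W < 2048 ∧ el g (evI im W) = σ (evA (q4 g) W) := by
  rw [map_evA]; exact evI_sound hR h hW

theorem rq_eq (hR : Rels g R1) {r : List ℕ} (hr : r ∈ RQ) :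
    (∀ k ∈ r, k < 4) ∧ evA (q4 g) r = 1 := by
  obtain ⟨h1, h2⟩ := Nat.add_eq_zero_iff.1 (allL_sound twT.2.1 r hr)
  refine ⟨ltAll_zero h1, ?_⟩
  have h3 : evI [512, 768, 128, 144] r = 0 := h2
  rw [← (evI_sound hR (q4_el hR) (ltAll_zero h1)).2, h3, el_zero]

theorem cube (n r : G) : (n * r) ^ 3 = n * (r * n * r⁻¹) * (r * (r * n * r⁻¹) * r⁻¹) * r ^ 3 := by
  simp only [pow_succ, pow_zero]; group

/-- the relations of the amalgam -/
structure AM (g : ℕ → G) : Prop extends A1 g where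
  ss : hh g 15 * hh g 15 = 1
  br : (hh g 10 * hh g 15) ^ 3 = 1
  sa : hh g 15 * hh g 7 * hh g 15 = hh g 9

/-- an element of order three of the second parabolic centralizing `t` -/
noncomputable def rho (g : ℕ → G) : G := el g 640 * hh g 10 * hh g 15

/-- the second parabolic -/
noncomputable def P2 (g : ℕ → G) : Subgroup G := gen (rl σ2 (hh g)) 6

namespace AM

theorem sinv (h : AM g) : (hh g 15)⁻¹ = hh g 15 := inv_eq_of_mul_eq_one_right h.ss

theorem se (h : AM g) : hh g 15 * hh g 9 * hh g 15 = hh g 7 := by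
  rw [← h.sa]
  calc hh g 15 * (hh g 15 * hh g 7 * hh g 15) * hh g 15
      = (hh g 15 * hh g 15) * hh g 7 * (hh g 15 * hh g 15) := by group
    _ = hh g 7 := by rw [h.ss]; group

theorem s_let (h : AM g) {i : ℕ} (hi : i < 10) :
    nth 0 ims i < 1024 ∧ hh g 15 * hh g i * (hh g 15)⁻¹ = el g (nth 0 ims i) := by
  have h0 : ∀ i < 10, nth 0 ims i < 1024 := by decide +kernel
  refine ⟨h0 i hi, ?_⟩
  have h1 : evI [128, 144, 512, 768] (nth [] TW i) = nth 0 ims i :=
    xor_zero (Nat.add_eq_zero_iff.1 (allZ_sound0 sT.1 i hi)).1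
  have h2 := (map_q4 h.rel (MulAut.conj (hh g 15)).toMonoidHom (im := [128, 144, 512, 768]) (by
    intro k hk
    interval_cases k
    · show hh g 15 * hh g 9 * (hh g 15)⁻¹ = el g 128
      rw [h.sinv, h.se, el_pow' g 7]
    · show hh g 15 * hh g 11 * (hh g 15)⁻¹ = el g 144
      rw [el_144 h.rel, hE h.rel, hA h.rel, ← h.se, mul_inv_rev, mul_inv_rev, h.sinv, mul_assoc]
    · show hh g 15 * hh g 7 * (hh g 15)⁻¹ = el g 512
      rw [h.sinv, h.sa, el_pow' g 9]
    · show hh g 15 * hh g 12 * (hh g 15)⁻¹ = el g 768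
      rw [el_768 h.rel, hE h.rel, hA h.rel, ← h.sa, mul_inv_rev, mul_inv_rev, h.sinv, mul_assoc])
    (tw_lt hi)).2
  rw [h1, ← tw_eq h.rel hi] at h2
  exact h2.symm

theorem s_el (h : AM g) {u : ℕ} (hu : u < 1024) :
    homR ims u < 2048 ∧ el g (homR ims u) = hh g 15 * el g u * (hh g 15)⁻¹ :=
  homR_sound h.rel (MulAut.conj (hh g 15)).toMonoidHom fun _ _ hb =>
    (h.s_let (testBit_lt (n := 10) hu hb)).2

theorem rho_let (h : AM g) {i : ℕ} (hi : i < 10) :
    rho g * hh g i * (rho g)⁻¹ = el g (nth 0 imr i) := by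
  have h1 : mu (nth 0 imr i) 640 = mu 640 (io (nth 0 ims i)) :=
    xor_zero (Nat.add_eq_zero_iff.1 (allZ_sound0 sT.1 i hi)).2
  have h2 := congrArg (el g) h1
  rw [el_mu h.rel _ (by decide), el_mu h.rel _ (io_sound h.rel _).1, (io_sound h.rel _).2,
    ← (h.s_let hi).2, ← eq_mul_inv_iff_mul_eq] at h2
  have h3 : (hh g 10)⁻¹ = hh g 10 := inv_eq_of_mul_eq_one_right (yy h.rel)
  rw [h2]; unfold rho
  rw [mul_inv_rev, mul_inv_rev, h3]; group

theorem rho_el (h : AM g) {u : ℕ} (hu : u < 1024) :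
    homR imr u < 2048 ∧ el g (homR imr u) = rho g * el g u * (rho g)⁻¹ :=
  homR_sound h.rel (MulAut.conj (rho g)).toMonoidHom fun _ _ hb =>
    h.rho_let (testBit_lt (n := 10) hu hb)

theorem rho_t (h : AM g) : rho g * hh g 2 = hh g 2 * rho g := by
  have := h.rho_let (by decide : 2 < 10)
  rw [show nth 0 imr 2 = 4 by decide +kernel, el_pow' g 2] at this
  exact mul_inv_eq_iff_eq_mul.1 this

theorem rho_z1 (h : AM g) : rho g * hh g 1 * (rho g)⁻¹ = hh g 0 := by
  rw [h.rho_let (by decide), show nth 0 imr 1 = 1 by decide +kernel, el_pow' g 0]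

theorem rho_z (h : AM g) : rho g * hh g 0 * (rho g)⁻¹ = el g 3 := by
  rw [h.rho_let (by decide), show nth 0 imr 0 = 3 by decide +kernel]

theorem rho3 (h : AM g) : rho g ^ 3 = 1 := by
  have h3 : (hh g 10)⁻¹ = hh g 10 := inv_eq_of_mul_eq_one_right (yy h.rel)
  have e0 : io (homR ims 640) < 1024 ∧
      mu 640 (mu (io (homR ims 640)) (io (homR ims (io (homR ims 640))))) = 0 := by decide +kernel
  have a1 := io_sound h.rel (homR ims 640)
  have a2 := io_sound h.rel (homR ims (io (homR ims 640)))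
  have a3 := congrArg (el g) e0.2
  rw [el_mu h.rel _ (mu_lt _ a2.1), el_mu h.rel _ a2.1, a2.2, (h.s_el e0.1).2, a1.2,
    (h.s_el (by decide)).2, el_zero] at a3
  unfold rho
  rw [mul_assoc, cube, h.br, mul_one, ← a3, mul_inv_rev, h3]
  group

theorem S_le2 (h : AM g) : gen (hh g) 11 ≤ P2 g := by
  have h1 : ∀ k < 4, q4 g k ∈ P2 g := by
    intro k hk
    have := mem_gen (rl σ2 (hh g)) (by omega : k < 6)
    interval_cases k <;> exact this
  refine gen_le.2 fun k hk => ?_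
  rcases Nat.lt_succ_iff_lt_or_eq.1 hk with h2 | rfl
  · rw [tw_eq h.rel h2]; exact evA_mem _ fun j hj => h1 j (tw_lt h2 j hj)
  · exact mem_gen (rl σ2 (hh g)) (by decide : 4 < 6)

theorem s_mem2 (g : ℕ → G) : hh g 15 ∈ P2 g := mem_gen (rl σ2 (hh g)) (by decide : 5 < 6)

theorem rho_mem (h : AM g) : rho g ∈ P2 g :=
  mul_mem (mul_mem (h.S_le2 (el_memS g _)) (h.S_le2 (mem_gen _ (by decide)))) (s_mem2 g)

theorem szs (h : AM g) : hh g 15 * hh g 0 * (hh g 15)⁻¹ = hh g 1 := by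
  rw [(h.s_let (by decide)).2, show nth 0 ims 0 = 2 by decide +kernel, el_pow' g 1]

theorem s_not_mem (h : AM g) : hh g 15 ∉ gen g 5 := fun hs => by
  have h1 := h.szs
  rw [z_cent h.rel hs, mul_inv_cancel_right, ← el_pow' g 0 (u := 1), ← el_pow' g 1 (u := 2)] at h1
  exact absurd (h.toA1.inj (by decide) (by decide) h1) (by decide)

theorem srels (h : AM g) :
    hh g 15 * hh g 10 * hh g 15 * hh g 10 * hh g 15 * hh g 10 = 1 ∧
    hh g 15 * hh g 7 * hh g 15 * hh g 11 = 1 ∧ hh g 15 * hh g 9 * hh g 15 * hh g 12 = 1 := by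
  refine ⟨?_, by rw [h.sa, hE h.rel, mul_inv_cancel], by rw [h.se, hA h.rel, mul_inv_cancel]⟩
  have h1 : hh g 15 * hh g 10 * hh g 15 * hh g 10 * hh g 15 * hh g 10 =
      (hh g 10)⁻¹ * (hh g 10 * hh g 15) ^ 3 * hh g 10 := by
    simp only [pow_succ, pow_zero]; group
  rw [h1, h.br]; group

theorem rels_rl (hR : Rels g R1) {σ : List ℕ} {L : List (List ℕ)}
    (h : H16.allL (fun r => eq1c (rlW σ r) []) L = true) : Rels (rl σ (hh g)) L := fun r hr => by
  rw [evA_rl]; exact eq_one1 hR (allL_sound h r hr)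

theorem rel2 (h : AM g) : Rels (rl σ2 (hh g)) R2 := by
  refine (rels_rl h.rel R2c.1).append (Rels.append ?_ ((rels_rl h.rel R2c.2).append ?_))
  · intro r hr
    rw [List.mem_singleton.1 hr]
    show 1 * hh g 15 * hh g 15 = 1
    rw [one_mul, h.ss]
  · intro r hr
    simp only [R2s, List.mem_cons, List.not_mem_nil, or_false] at hr
    rcases hr with rfl | rfl | rfl
    · show 1 * hh g 15 * hh g 10 * hh g 15 * hh g 10 * hh g 15 * hh g 10 = 1
      rw [one_mul, h.srels.1]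
    · show 1 * hh g 15 * hh g 7 * hh g 15 * hh g 11 = 1
      rw [one_mul, h.srels.2.1]
    · show 1 * hh g 15 * hh g 9 * hh g 15 * hh g 12 = 1
      rw [one_mul, h.srels.2.2]

theorem card_P2 (h : AM g) : Nat.card (P2 g) = 6144 := by
  obtain ⟨hf, hle⟩ := bdb6.le h.rel2
  have h1 : 2 ^ 11 ∣ Nat.card (P2 g) := h.toA1.card_gen le_rfl ▸ card_dvd_of_le h.S_le2
  haveI : Fact (Nat.Prime 3) := ⟨by decide⟩
  have h0 : orderOf (rho g) = 3 := orderOf_eq_prime h.rho3 fun e => by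
    have h2 := h.rho_z1
    rw [e, one_mul, inv_one, mul_one, ← el_pow' g 0 (u := 1), ← el_pow' g 1 (u := 2)] at h2
    exact absurd (h.toA1.inj (by decide) (by decide) h2) (by decide)
  have h2 : 3 ∣ Nat.card (P2 g) := by
    have := Subgroup.orderOf_dvd_natCard _ h.rho_mem
    rwa [h0] at this
  have h3 := Nat.Coprime.mul_dvd_of_dvd_of_dvd (by decide +kernel) h1 h2
  haveI : Finite (P2 g) := hf
  exact le_antisymm hle (Nat.le_of_dvd Nat.card_pos h3)

theorem g_z (h : AM g) :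
    (hh g 15 * hh g 13 ^ 3 * hh g 15) * hh g 0 * (hh g 15 * hh g 13 ^ 3 * hh g 15)⁻¹ =
      hh g 8 * hh g 0 := by
  obtain ⟨-, -, h4⟩ := rep_conj h.rel (by decide : 4 < 18)
  have h5 : nth 0 RLk 4 = 3 ∧ nth [] RW (nth 0 RLr 4) = [1] ∧ nth 0 RLi 4 = 18 ∧
      homR ims 18 = 257 ∧ T 8 1 = 257 := by decide +kernel
  rw [h5.1, h5.2.1, h5.2.2.1] at h4
  simp only [evA_cons, evA_nil, one_mul] at h4
  have h6 := (h.s_el (by decide : 18 < 1024)).2
  rw [h5.2.2.2.1, ← h4, ← h.szs, ← h5.2.2.2.2, ← tab h.rel (by decide) (by decide),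
    el_pow' g 0] at h6
  rw [h6]; group

/-- the fusion of the classes of involutions -/
theorem colour (h : AM g) {u : ℕ} (hu : u < 2048) (h0 : u ≠ 0) (h2 : mu u u = 0) :
    (memL (cls u) [2, 3, 4] ≠ 0 → IsConj (hh g 0) (el g u)) ∧
      (memL (cls u) [2, 3, 4] = 0 → IsConj (hh g 2) (el g u)) := by
  have key : ∀ {v : ℕ}, v < 2048 → v ≠ 0 → mu v v = 0 → cls v < 6 ∧
      IsConj (evA (hh g) (nth [] RW (cls v))) (el g v) := fun hv h0 h2 => by
    obtain ⟨h3, p, -, e⟩ := inv_cls h.rel hv h0 h2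
    exact ⟨h3, isConj_iff.2 ⟨p, e.symm⟩⟩
  obtain ⟨h3, h4⟩ := key hu h0 h2
  have c : homR ims 14 = 32 ∧ homR ims 16 = 256 ∧ mu 14 14 = 0 ∧ mu 16 16 = 0 ∧ cls 14 = 2 ∧
      cls 16 = 2 := by decide +kernel
  have r : ∀ j < 5, nth [] RW j = [[0, 1, 2, 5, 8].getD j 0] := by decide +kernel
  have t1 : IsConj (hh g 2) (el g 14) := by
    have := (key (by decide) (by decide) c.2.2.1).2
    rw [c.2.2.2.2.1, r 2 (by decide)] at this
    simpa using this
  have t2 : IsConj (hh g 2) (el g 16) := by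
    have := (key (by decide) (by decide) c.2.2.2.1).2
    rw [c.2.2.2.2.2, r 2 (by decide)] at this
    simpa using this
  generalize cls u = j at h3 h4
  interval_cases j
  · rw [r 0 (by decide)] at h4
    exact ⟨fun _ => by simpa using h4, fun h5 => absurd h5 (by decide +kernel)⟩
  · rw [r 1 (by decide)] at h4
    exact ⟨fun _ => (isConj_iff.2 ⟨_, h.szs⟩).trans (by simpa using h4),
      fun h5 => absurd h5 (by decide +kernel)⟩
  · rw [r 2 (by decide)] at h4
    exact ⟨fun h5 => absurd (by decide +kernel) h5, fun _ => by simpa using h4⟩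
  · rw [r 3 (by decide)] at h4
    refine ⟨fun h5 => absurd (by decide +kernel) h5, fun _ => t1.trans (IsConj.trans ?_ h4)⟩
    have := (h.s_el (by decide : 14 < 1024)).2
    rw [c.1, el_pow' g 5] at this
    exact isConj_iff.2 ⟨_, by simpa using this.symm⟩
  · rw [r 4 (by decide)] at h4
    refine ⟨fun h5 => absurd (by decide +kernel) h5, fun _ => t2.trans (IsConj.trans ?_ h4)⟩
    have := (h.s_el (by decide : 16 < 1024)).2
    rw [c.2.1, el_pow' g 8] at this
    exact isConj_iff.2 ⟨_, by simpa using this.symm⟩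
  · rw [show nth [] RW 5 = [0, 8] by decide +kernel] at h4
    exact ⟨fun _ => (isConj_iff.2 ⟨_, h.g_z⟩).trans (by simpa using h4),
      fun h5 => absurd h5 (by decide +kernel)⟩

theorem mu_sq (h : AM g) {u : ℕ} (hu : u < 2048) (e : el g u * el g u = 1) : mu u u = 0 :=
  h.toA1.mu_eq hu (by decide) (by rw [e, el_zero])

theorem ct (h : AM g) {c : G} (hc : c * hh g 2 = hh g 2 * c) {i : ℕ}
    (hp : (rho g ^ i)⁻¹ * c ∈ gen g 5) : (rho g ^ i)⁻¹ * c ∈ gen (hh g) 11 := by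
  refine h.toA1.mem_S_of_t hp ?_
  have h1 : Commute ((rho g ^ i)⁻¹ * c) (hh g 2) :=
    Commute.mul_left (Commute.inv_left (Commute.pow_left h.rho_t i)) hc
  rw [h1.eq, mul_inv_cancel_right]
  exact mem_gen _ (by decide)

theorem ct2 (h : AM g) {c : G} (hc : c * hh g 2 = hh g 2 * c) {i : ℕ}
    (hp : (rho g ^ i)⁻¹ * c ∈ gen g 5) : c ∈ P2 g := by
  have := mul_mem (pow_mem h.rho_mem i) (h.S_le2 (h.ct hc hp))
  rwa [mul_inv_cancel_left] at this

end AM

theorem conj_sq {z a : G} (hz : z * z = 1) (h : IsConj z a) : a * a = 1 := by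
  obtain ⟨c, rfl⟩ := isConj_iff.1 h
  calc c * z * c⁻¹ * (c * z * c⁻¹) = c * (z * z) * c⁻¹ := by group
    _ = 1 := by rw [hz]; group

theorem conj_ne {z a : G} (hz : z ≠ 1) (h : IsConj z a) : a ≠ 1 := fun e => by
  rw [e] at h; exact hz (isConj_one_left.1 h)

theorem A1.t_ne (h : A1 g) : hh g 2 ≠ 1 := fun e =>
  absurd (h.eq_zero (u := 4) (by decide) ((el_pow' g 2).trans e)) (by decide)

theorem AM.not_conj (h : AM g) (cz : centralizer {hh g 0} ≤ gen g 5) :
    ¬ IsConj (hh g 0) (hh g 2) := fun hc => by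
  obtain ⟨c, e⟩ := isConj_iff.1 hc
  have h1 : c⁻¹ * rho g * c ∈ gen g 5 := cz (by
    rw [mem_centralizer_singleton_iff]
    have h2 := h.rho_t
    rw [← e] at h2
    calc c⁻¹ * rho g * c * hh g 0 = c⁻¹ * (rho g * (c * hh g 0 * c⁻¹)) * c := by group
      _ = hh g 0 * (c⁻¹ * rho g * c) := by rw [h2]; group)
  haveI : Fact (Nat.Prime 3) := ⟨by decide⟩
  have h0 : orderOf (c⁻¹ * rho g * c) = 3 := orderOf_eq_prime
    (by rw [show c⁻¹ * rho g * c = c⁻¹ * rho g * c⁻¹⁻¹ by rw [inv_inv], conj_pow, h.rho3]; group)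
    fun e => by
      have e' : rho g = 1 := by
        calc rho g = c * (c⁻¹ * rho g * c) * c⁻¹ := by group
          _ = 1 := by rw [e]; group
      have h2 := h.rho_z1
      rw [e', one_mul, inv_one, mul_one, ← el_pow' g 0 (u := 1), ← el_pow' g 1 (u := 2)] at h2
      exact absurd (h.toA1.inj (by decide) (by decide) h2) (by decide)
  have := Subgroup.orderOf_dvd_natCard _ h1
  rw [h0, h.toA1.card_P] at this
  omega

/-- a conjugate of `z` in `S` commuting with `z₁` and with its conjugate under `ρ` is in `⟨z, z₁⟩` -/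
theorem AM.zline (h : AM g) (cz : centralizer {hh g 0} ≤ gen g 5) {w : G}
    (hw : w ∈ gen (hh g) 11) (hc : IsConj (hh g 0) w) (h1 : w * hh g 1 = hh g 1 * w) :
    rho g * w * (rho g)⁻¹ ∈ gen (hh g) 11 ∧
    (w * (rho g * w * (rho g)⁻¹) = (rho g * w * (rho g)⁻¹) * w →
      ∃ i, w = rho g ^ i * hh g 0 * (rho g ^ i)⁻¹) := by
  obtain ⟨u, hu, rfl⟩ := exists_elS h.rel hw
  have h2 := h.mu_sq hu (conj_sq (zz h.rel) hc)
  have h0 : u ≠ 0 := fun e => conj_ne h.nz hc (by rw [e, el_zero])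
  have h3 : com u 2 = 0 := (h.toA1.com_iff hu (by decide)).2 (by rwa [el_pow' g 1 (u := 2)])
  have h4 : memL (cls u) [2, 3, 4] ≠ 0 := fun e =>
    h.not_conj cz (hc.trans ((h.colour hu h0 h2).2 e).symm)
  have h5 := bT u hu
  unfold bEnt at h5
  simp only [force_eq, ifz_eq] at h5
  rw [if_pos (show Nat.add _ _ = 0 from Nat.add_eq_zero_iff.2 ⟨h2, h3⟩), if_neg h4] at h5
  obtain ⟨h6, h7⟩ := Nat.add_eq_zero_iff.1 h5
  have h6' : u < 1024 := by
    have : u >>> 10 = 0 := h6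
    rw [Nat.shiftRight_eq_div_pow] at this; omega
  obtain ⟨h8, h9⟩ := h.rho_el h6'
  refine ⟨h9 ▸ el_memS g _, fun e => ?_⟩
  rw [if_pos ((h.toA1.com_iff hu h8).2 (by rwa [h9]))] at h7
  have h10 : u < 4 := by
    have : u >>> 2 = 0 := h7
    rw [Nat.shiftRight_eq_div_pow] at this; omega
  interval_cases u
  · exact absurd rfl h0
  · exact ⟨0, by rw [el_pow' g 0]; group⟩
  · refine ⟨2, ?_⟩
    have h11 : rho g ^ 2 = (rho g)⁻¹ := eq_inv_of_mul_eq_one_left (by rw [← pow_succ, h.rho3])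
    rw [h11, ← h.rho_z1, el_pow' g 1 (u := 2)]; group
  · exact ⟨1, by rw [pow_one, h.rho_z]⟩

end H18.NT
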