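import Cfsg.Agent.H18.NTd
import Cfsg.Agent.H18.G1b
import Cfsg.Agent.H19.Amb5
import Cfsg.Agent.S0213

/-! Tits recognition, part e: the order of the group. -/

set_option autoImplicit false

namespace H18.NT

open H16 Subgroup H19

/-- the amalgam together with the global hypotheses -/
structure AD {G : Type*} [Group G] (g : ℕ → G) : Prop extends AM g where
  syl : Syl 2 (gen (hh g) 11) ⊤
  cz : C[hh g 0] ≤ gen g 5
  ct : C[hh g 2] ≤ P2 g

section
variable {G G' : Type*} [Group G] [Group G'] {g : ℕ → G} {g' : ℕ → G'}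

theorem pg_of_sq [Finite G] {a : G} (h : a * a = 1) : PG 2 (zpowers a) :=
  abelem_pg Nat.prime_two (abelem_zpowers (by rw [pow_two, h]))

theorem AD.into_S [Finite G] (h : AD g) {P : Subgroup G} (hP : gen (hh g) 11 ≤ P) {a : G}
    (ha : a ∈ P) (h2 : a * a = 1) : ∃ c ∈ P, ∃ u < 2048, c * a * c⁻¹ = el g u := by
  obtain ⟨c, hc, hle⟩ := (h.syl.of_le hP le_top).scj_le (zpowers_le.2 ha) (pg_of_sq h2)
  obtain ⟨u, hu, e⟩ := exists_elS h.rel (hle (conj_mem_cj.2 (mem_zpowers a)))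
  exact ⟨c, hc, u, hu, e⟩

theorem transport [Finite G] (h : AD g) (h' : AM g') {Γ : Subgroup (G × G')} (hf : Fn Γ)
    {P : Subgroup G} (hP : gen (hh g) 11 ≤ P) (tot : ∀ a ∈ P, ∃ b, (a, b) ∈ Γ)
    (sub : ∀ a b, (a, b) ∈ Γ → a ∈ P) (hl : ∀ k < 11, (hh g k, hh g' k) ∈ Γ) :
    (∀ a b, (a, b) ∈ Γ → IsConj (hh g 0) a → IsConj (hh g' 0) b) ∧
    (∀ a b, (a, b) ∈ Γ → IsConj (hh g 2) a → IsConj (hh g' 2) b) := by
  have key : ∀ a b, (a, b) ∈ Γ → a * a = 1 → a ≠ 1 → ∃ u < 2048, u ≠ 0 ∧ mu u u = 0 ∧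
      IsConj a (el g u) ∧ IsConj (el g' u) b := by
    intro a b hab h2 h1
    obtain ⟨c, hc, u, hu, e⟩ := h.into_S hP (sub a b hab) h2
    obtain ⟨d, hd⟩ := tot c hc
    have h3 := Γ.mul_mem (Γ.mul_mem hd hab) (Γ.inv_mem hd)
    rw [Prod.inv_mk, Prod.mk_mul_mk, Prod.mk_mul_mk, e] at h3
    have h4 : IsConj a (el g u) := isConj_iff.2 ⟨c, e⟩
    exact ⟨u, hu, fun e0 => conj_ne h1 h4 (by rw [e0, el_zero]),
      h.toAM.mu_sq hu (conj_sq h2 h4), h4,
      (isConj_iff.2 ⟨d, hf.eq h3 (elN_mem_graph hl)⟩ : IsConj b (el g' u)).symm⟩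
  constructor <;> intro a b hab hc
  · obtain ⟨u, hu, h0, h2, c1, c2⟩ := key a b hab (conj_sq (zz h.rel) hc) (conj_ne h.nz hc)
    exact ((h'.colour hu h0 h2).1 fun e => h.toAM.not_conj h.cz
      ((hc.trans c1).trans ((h.toAM.colour hu h0 h2).2 e).symm)).trans c2
  · obtain ⟨u, hu, h0, h2, c1, c2⟩ :=
      key a b hab (conj_sq (tt h.rel) hc) (conj_ne h.toA1.t_ne hc)
    refine ((h'.colour hu h0 h2).2 ?_).trans c2
    by_contra e
    exact h.toAM.not_conj h.cz (((h.toAM.colour hu h0 h2).1 e).trans (hc.trans c1).symm)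

theorem fst_mem {g₀ : ℕ → G} {g₁ : ℕ → G'} {K : ℕ} {a : G} {b : G'}
    (h : (a, b) ∈ gen (fun k => (g₀ k, g₁ k)) K) : a ∈ gen g₀ K :=
  (gen_le (A := (gen g₀ K).comap (MonoidHom.fst G G')).2 fun _ hk => mem_gen g₀ hk) h

theorem inj_of_bound {R : List (List ℕ)} {K c : ℕ} (hB : Bound R K c) {g₀ : ℕ → G}
    {g₁ : ℕ → G'} (h₀ : Rels g₀ R) (h₁ : Rels g₁ R) (hc : c ≤ Nat.card (gen g₁ K)) (a : G)
    (ha : (a, (1 : G')) ∈ gen (fun k => (g₀ k, g₁ k)) K) : a = 1 :=
  (fn_of_bound hB h₁ h₀ hc).eq (mem_swap ha) (one_mem _)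

theorem pair2 (h : AM g) (h' : AM g') {k : ℕ} (hk : k < 11) :
    (hh g k, hh g' k) ∈ gen (fun k => (rl σ2 (hh g) k, rl σ2 (hh g') k)) 6 := by
  rcases Nat.lt_succ_iff_lt_or_eq.1 hk with h2 | rfl
  · rw [tw_eq h.rel h2, tw_eq h'.rel h2]
    refine evA_mem_graph fun j hj => ?_
    have h3 := tw_lt h2 j hj
    have := mem_gen (fun k => (rl σ2 (hh g) k, rl σ2 (hh g') k)) (by omega : j < 6)
    interval_cases j <;> exact this
  · exact mem_gen (fun k => (rl σ2 (hh g) k, rl σ2 (hh g') k)) (by decide : 4 < 6)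

theorem AD.two_classes [Finite G] (h : AD g) (a : G) (ha : orderOf a = 2) :
    IsConj (hh g 0) a ∨ IsConj (hh g 2) a := by
  have h2 : a * a = 1 := by rw [← pow_two, ← ha, pow_orderOf_eq_one]
  have h1 : a ≠ 1 := fun e => by simp [e] at ha
  obtain ⟨c, -, u, hu, e⟩ := h.into_S le_top (mem_top a) h2
  have h4 : IsConj a (el g u) := isConj_iff.2 ⟨c, e⟩
  have h5 := h.toAM.colour hu (fun e0 => conj_ne h1 h4 (by rw [e0, el_zero]))
    (h.toAM.mu_sq hu (conj_sq h2 h4))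
  by_cases e : memL (cls u) [2, 3, 4] = 0
  · exact Or.inr ((h5.2 e).trans h4.symm)
  · exact Or.inl ((h5.1 e).trans h4.symm)

theorem AD.card_le [Finite G] [Finite G'] (h : AD g) (h' : AD g') : Nat.card G ≤ Nat.card G' := by
  have f1 := fn_of_bound bda5 h.rel h'.rel h.toA1.card_P.ge
  have f2 := fn_of_bound bdb6 h.toAM.rel2 h'.toAM.rel2 h.toAM.card_P2.ge
  have t1 := transport h h'.toAM f1 (S_le g) (fun _ ha => exists_pair g' ha) (fun _ _ => fst_mem)
    fun k hk => hh_pair g g' (by omega)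
  have t2 := transport h h'.toAM f2 h.toAM.S_le2 (fun _ ha => exists_pair _ ha)
    (fun _ _ => fst_mem) fun k hk => pair2 h.toAM h'.toAM hk
  obtain ⟨a1, b1⟩ := count_le f1 (inj_of_bound bda5 h.rel h'.rel h'.toA1.card_P.ge) (zz h.rel)
    (tt h.rel) (zz h.rel) (hh_pair g g' (by decide)) (fun _ ha => exists_pair g' (h.cz ha)) t1.1 t1.2
  obtain ⟨a2, b2⟩ := count_le f2 (inj_of_bound bdb6 h.toAM.rel2 h'.toAM.rel2 h'.toAM.card_P2.ge)
    (zz h.rel) (tt h.rel) (tt h.rel) (pair2 h.toAM h'.toAM (by decide))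
    (fun _ ha => exists_pair _ (h.ct ha)) t2.1 t2.2
  haveI : Fact (Nat.Prime 2) := ⟨Nat.prime_two⟩
  rw [Cfsg.Agent.S0213.result (hh g 0) (hh g 2)
      (orderOf_eq_prime (by rw [pow_two, zz h.rel]) h.nz)
      (orderOf_eq_prime (by rw [pow_two, tt h.rel]) h.toA1.t_ne) (h.toAM.not_conj h.cz)
      h.two_classes,
    Cfsg.Agent.S0213.result (hh g' 0) (hh g' 2)
      (orderOf_eq_prime (by rw [pow_two, zz h'.rel]) h'.nz)
      (orderOf_eq_prime (by rw [pow_two, tt h'.rel]) h'.toA1.t_ne) (h'.toAM.not_conj h'.cz)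
      h'.two_classes]
  exact Nat.add_le_add (Nat.mul_le_mul a2 b1) (Nat.mul_le_mul a1 b2)

end

/-! ### the model -/

/-- the letters in the Tits group itself -/
noncomputable def gT (k : ℕ) : gen H15.Tits.g 6 :=
  ⟨g0 k, evA_mem_gen _ (nth_lt W0lt.1 k)⟩

theorem hT (k : ℕ) : (hh gT k).1 = hh g0 k :=
  map_evA gT (gen H15.Tits.g 6).subtype _

theorem evT (W : List ℕ) : (evA (hh gT) W).1 = evA (hh g0) W :=
  (map_evA _ (gen H15.Tits.g 6).subtype _).trans (evA_congr _ fun k _ => hT k)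

theorem baseh : IsBase (gen (hh g0) 16) (ptF 1755) H15.Tits.B :=
  base0.mono (gen_le.2 fun k _ => hh_mem6 g0 k)

theorem oneT {W : List ℕ} (h : fixL H 16 H15.Tits.B W = 0) : evA (hh gT) W = 1 :=
  Subtype.ext ((evT W).trans (fixL_eq_one acth H15.Tits.Blt baseh h))

theorem memT {a : gen H15.Tits.g 6} (ha : a.1 ∈ gen H15.Tits.g 5) : a ∈ gen gT 5 := by
  rw [← g0_eq5] at ha
  have e : (gen gT 5).map (gen H15.Tits.g 6).subtype = gen g0 5 := map_gen _ _ _
  rw [← e] at ha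
  exact (mem_map_iff_mem (subtype_injective _)).1 ha

theorem stabT {a : gen H15.Tits.g 6} (ha : a.1 • ptF 1755 0 = ptF 1755 0) : a ∈ gen gT 5 := by
  refine memT (IsChain.stab (l := H15.Tits.l0) H15.Tits.chain (ptF_inj 1755) a.2 ?_)
  rw [show H15.Tits.l0.Pt 0 = 0 from H15.Tits.lv0b.2.2]; exact ha

theorem amT : AM gT where
  rel r hr := Subtype.ext ((map_evA gT (gen H15.Tits.g 6).subtype _).trans (rel0 r hr))
  nz e := by
    have h1 := (acth 0 (by decide) 2 (by decide))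
    rw [← hT, e] at h1
    exact fxT.2.2.2.2.2 (ptF_inj 1755 _ (by decide) _ h1.1 h1.2).symm
  ss := by simpa using oneT (W := [15, 15]) (by decide +kernel)
  br := by simpa [pow_succ, mul_assoc] using oneT (W := [15, 10, 15, 10, 15, 10]) (by decide +kernel)
  sa := by
    have h1 := oneT (W := [11, 15, 7, 15]) (by decide +kernel)
    have h2 := oneT (W := [9, 11]) (by decide +kernel)
    simp only [evA_cons, evA_nil, one_mul] at h1 h2
    rw [eq_inv_of_mul_eq_one_left h1, eq_inv_of_mul_eq_one_right h2]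

theorem rho_eq {G : Type*} [Group G] {g : ℕ → G} (hR : Rels g R1) :
    rho g = evA (hh g) [15, 10, 7, 9] := by
  have := eq_el hR (W := [7, 9]) (u := 640) (by decide +kernel)
  unfold rho
  rw [← this]; simp only [evA_cons, evA_nil, one_mul]

theorem adT : AD gT where
  toAM := amT
  syl := by
    refine syl_mk le_top (PiN.of_card_pow Nat.prime_two (amT.toA1.card_gen le_rfl)) fun h => ?_
    have h1 := card_mul_relIndex (le_top : gen (hh gT) 11 ≤ ⊤)
    rw [amT.toA1.card_gen le_rfl, card_top, H15.Tits.card] at h1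
    omega
  cz a ha := by
    by_contra hn
    have h1 := MaxCert.le (l := H15.Tits.l0) H15.Tits.chain (ptF_inj 1755) H15.Tits.maxCert
      (A := C[hh g0 0]) (fun p hp => mem_cent1.2 (z_cent rel0 (g0_eq5.ge hp))) a.2
      (mem_cent1.2 (by rw [← hT, ← coe_mul, ← coe_mul, mem_cent1.1 ha]))
      fun h => hn (memT h)
    have h2 : hh gT 15 * hh gT 0 = hh gT 0 * hh gT 15 :=
      Subtype.ext (by rw [coe_mul, coe_mul, hT 0]; exact mem_cent1.1 (h1 (hh gT 15).2))
    have h3 := amT.szs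
    rw [h2, mul_inv_cancel_right, ← el_pow' gT 0 (u := 1), ← el_pow' gT 1 (u := 2)] at h3
    exact absurd (amT.toA1.inj (by decide) (by decide) h3) (by decide)
  ct c hc := by
    have hc' := mem_cent1.1 hc
    obtain ⟨q, hq, e⟩ := H15.Tits.act.exists_smul c.2 (by decide : 0 < 1755)
    have act : ∀ {W : List ℕ} {i : ℕ}, ltAll 16 W = 0 → i < 1755 → apW H W i < 1755 ∧
        (evA (hh gT) W).1 • ptF 1755 i = ptF 1755 (apW H W i) := fun hW hi => by
      rw [evT]; exact acth.apW (ltAll_zero hW) hi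
    have t0 : hh g0 2 • ptF 1755 0 = ptF 1755 0 := by
      rw [(acth 2 (by decide) 0 (by decide)).2, show H 2 0 = 0 by decide +kernel]
    have h1 : H 2 q = q := by
      obtain ⟨h1, h2⟩ := acth 2 (by decide) q hq
      refine ptF_inj 1755 _ h1 _ hq ?_
      have h3 : c.1 * hh g0 2 = hh g0 2 * c.1 := by rw [← hT, ← coe_mul, ← coe_mul, hc']
      rw [← h2, ← e, ← mul_smul, ← h3, mul_smul, t0]
    have h2 := allZ_sound0 fxT.2.1 q hq
    simp only [force_eq, ifz_eq] at h2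
    rw [if_pos (xor_eq_zero.2 h1)] at h2
    have r1 : (rho gT).1 • ptF 1755 0 = ptF 1755 1191 := by
      rw [rho_eq amT.rel, (act (by decide +kernel) (by decide)).2,
        show apW H [15, 10, 7, 9] 0 = 1191 by decide +kernel]
    have r2 : (rho gT).1 • ptF 1755 1191 = ptF 1755 147 := by
      rw [rho_eq amT.rel, (act (by decide +kernel) (by decide)).2,
        show apW H [15, 10, 7, 9] 1191 = 147 by decide +kernel]
    have fin : ∀ i, (rho gT ^ i).1 • ptF 1755 0 = ptF 1755 q → c ∈ P2 gT := fun i hi =>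
      amT.ct2 hc' (i := i) (stabT (by rw [coe_mul, mul_smul, e, ← hi, coe_inv, inv_smul_smul]))
    rcases List.mem_cons.1 (memL_zero h2) with rfl | h2
    · exact fin 0 (by rw [pow_zero, coe_one, one_smul])
    rcases List.mem_cons.1 h2 with rfl | h2
    · exact fin 2 (by rw [pow_two, coe_mul, mul_smul, r1, r2])
    rcases List.mem_cons.1 h2 with rfl | h2
    · exact fin 1 (by rw [pow_one, r1])
    obtain ⟨⟨q, w, wi, k, b⟩, hx, rfl⟩ := List.mem_map.1 h2
    have h3 := allL_sound fxT.1 _ hx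
    unfold fEnt at h3
    obtain ⟨h3, h4⟩ := Nat.add_eq_zero_iff.1 h3
    obtain ⟨h3, h5⟩ := Nat.add_eq_zero_iff.1 h3
    obtain ⟨h4, h6⟩ := Nat.add_eq_zero_iff.1 h4
    obtain ⟨h4, h7⟩ := Nat.add_eq_zero_iff.1 h4
    have hk : k < 5 := by have : k + 1 - 5 = 0 := h4; omega
    have hb : b < 1755 := by have : b + 1 - 1755 = 0 := h7; omega
    have hw : ∀ j ∈ w ++ wi, j < 16 :=
      ltAll_zero (Nat.add_eq_zero_iff.1 (Nat.add_eq_zero_iff.1 h5).1).1
    have h8 : evA (hh gT) wi = (evA (hh gT) w)⁻¹ := by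
      refine eq_inv_of_mul_eq_one_left (Subtype.ext ?_)
      rw [← evA_append, evT]
      exact eqL_sound acth H15.Tits.Blt baseh h5
    have h9 : c⁻¹ * evA (hh gT) w ∈ gen gT 5 := stabT (by
      rw [coe_mul, mul_smul, evT, (acth.apW (fun j hj => hw j (List.mem_append_left _ hj))
        (by decide)).2, xor_zero h3, ← e, coe_inv, inv_smul_smul])
    have h10 := V_comm amT.rel (V_conj amT.rel h9 (mem_gen _ hk)) (mem_gen _ (by decide : 2 < 5))
    have h11 : evA (hh gT) (wi ++ k :: (w ++ [2])) = evA (hh gT) (2 :: (wi ++ k :: w)) := by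
      simp only [evA_append, evA_cons, evA_nil, one_mul, h8]
      calc _ = c * (c⁻¹ * hh gT 2 * c * (c⁻¹ * evA (hh gT) w * hh gT k *
              (c⁻¹ * evA (hh gT) w)⁻¹)) * c⁻¹ := by group
        _ = c * (c⁻¹ * evA (hh gT) w * hh gT k * (c⁻¹ * evA (hh gT) w)⁻¹ *
              (c⁻¹ * hh gT 2 * c)) * c⁻¹ := by
            rw [mul_assoc c⁻¹ (hh gT 2), ← hc', inv_mul_cancel_left, h10]
        _ = _ := by group
    have h12 := congrArg (fun a : gen H15.Tits.g 6 => a.1 • ptF 1755 b) h11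
    simp only [evT] at h12
    have l1 : ∀ j ∈ wi ++ k :: (w ++ [2]), j < 16 := by
      intro j hj
      simp only [List.mem_append, List.mem_cons, List.not_mem_nil, or_false] at hj hw
      rcases hj with h | h | h | h
      exacts [hw j (Or.inr h), by omega, hw j (Or.inl h), by omega]
    have l2 : ∀ j ∈ 2 :: (wi ++ k :: w), j < 16 := fun j hj => l1 j (by
      simp only [List.mem_append, List.mem_cons, List.not_mem_nil, or_false] at hj ⊢
      rcases hj with h | h | h | h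
      exacts [Or.inr (Or.inr (Or.inr h)), Or.inl h, Or.inr (Or.inl h), Or.inr (Or.inr (Or.inl h))])
    rw [(acth.apW l1 hb).2, (acth.apW l2 hb).2] at h12
    rw [ifz_eq, if_pos (xor_eq_zero.2
      (ptF_inj 1755 _ (acth.apW l1 hb).1 _ (acth.apW l2 hb).1 h12))] at h6
    exact absurd h6 (by decide)

theorem AD.card {G : Type*} [Group G] [Finite G] {g : ℕ → G} (h : AD g) :
    Nat.card G = 17971200 :=
  (le_antisymm (h.card_le adT) (adT.card_le h)).trans H15.Tits.card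

end H18.NT
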