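import Cfsg.Agent.H18.NTe

/-! Tits recognition, part f: identification of the group. -/

set_option autoImplicit false

namespace H18.NT

open H16 Subgroup H19

variable {G : Type*} [Group G] {g : ℕ → G}

theorem A1.cent_f (h : A1 g) {u : ℕ} (hu : u < 2048)
    (hc : el g u * hh g 13 = hh g 13 * el g u) : u < 2 := by
  have h1 := h.norm_f hu (cent1_le_norm_zpowers _ (mem_cent1.2 hc))
  have h2 : ∀ u < 2048, Nat.land u 1278 = 0 → u < 2 ∨ ∃ k < 3,
      eq1c (13 :: wdN u 11) (wdN u 11 ++ List.replicate (k + 2) 13) = 0 := by decide +kernel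
  rcases h2 u hu h1 with h3 | ⟨k, hk, h3⟩
  · exact h3
  have h4 := eq1 h.rel h3
  rw [evA_cons, evA_append, evA_rep, evA_wdN, pow_succ] at h4
  have h5 : hh g 13 ^ (k + 1) = 1 :=
    mul_right_cancel (b := hh g 13 * el g u) (by rw [one_mul, ← mul_assoc, ← hc]; exact h4.symm)
  have := orderOf_dvd_of_pow_eq_one h5
  rw [h.order_f] at this
  omega

theorem AD.cent_fz (h : AD g) :
    C[hh g 13] ⊓ C[hh g 0] ≤ zpowers (hh g 13) ⊔ zpowers (hh g 0) := by
  rintro r ⟨h1, h2⟩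
  obtain ⟨k, -, u, hu, rfl⟩ := dec h.rel (h.cz h2)
  have h3 : el g u ∈ C[hh g 13] :=
    (mul_mem_cancel_left (pow_mem (mem_cent1_self _) k)).1 h1
  have h4 := h.toA1.cent_f hu (mem_cent1.1 h3)
  refine mul_mem (mem_sup_left (pow_mem (mem_zpowers _) k)) (mem_sup_right ?_)
  interval_cases u
  · rw [el_zero]; exact one_mem _
  · rw [el_pow' g 0]; exact mem_zpowers _

theorem inv_of_norm5 [Finite G] {k w : G} (hk : orderOf k = 5) (hw : w * w = 1)
    (hn : w ∈ N(zpowers k)) (hc : w ∉ C[k]) : w * k * w⁻¹ = k⁻¹ := by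
  classical
  obtain ⟨a, ha, e⟩ := Finset.mem_image.1 ((isOfFinOrder_of_finite k).mem_zpowers_iff_mem_range_orderOf.1
    (conj_mem_of_norm hn (mem_zpowers k)))
  rw [Finset.mem_range, hk] at ha
  have h1 : k ^ (a * a) = k ^ 1 := by
    rw [pow_mul, e, conj_pow, e, pow_one]
    calc w * (w * k * w⁻¹) * w⁻¹ = (w * w) * k * (w * w)⁻¹ := by group
      _ = k := by rw [hw]; group
  rw [pow_eq_pow_iff_modEq, hk] at h1
  interval_cases a
  · exact absurd h1 (by decide)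
  · exact absurd (mem_cent1.2 (by rw [pow_one] at e; exact mul_inv_eq_iff_eq_mul.1 e.symm)) hc
  · exact absurd h1 (by decide)
  · exact absurd h1 (by decide)
  · rw [← e]
    exact eq_inv_of_mul_eq_one_left (by rw [← pow_succ, show 4 + 1 = orderOf k from hk.symm, pow_orderOf_eq_one])

theorem mem_zp2 {z a : G} (hz : z * z = 1) (ha : a ∈ zpowers z) : a = 1 ∨ a = z := by
  obtain ⟨k, rfl⟩ := mem_zpowers_iff.1 ha
  have h2 : z ^ (2 : ℤ) = 1 := by rw [zpow_two, hz]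
  rcases Int.even_or_odd' k with ⟨m, rfl | rfl⟩
  · exact Or.inl (by rw [zpow_mul, h2, one_zpow])
  · exact Or.inr (by rw [zpow_add, zpow_mul, h2, one_zpow, one_mul, zpow_one])

theorem norm_zp2 {z : G} (hz : z * z = 1) : N(zpowers z) ≤ C[z] := fun a ha => by
  rcases mem_zp2 hz (conj_mem_of_norm ha (mem_zpowers z)) with h2 | h2
  · rw [conj_eq_one_iff.1 h2, cent1_one]; trivial
  · exact mem_cent1.2 (mul_inv_eq_iff_eq_mul.1 h2)

theorem AD.exists_five [Finite G] (h : AD g) : ∃ k : G, orderOf k = 5 ∧ k ∈ C[hh g 13] ∧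
    k ∈ C[hh g 8 * hh g 0] ∧ hh g 9 ∈ N(zpowers k) := by
  have p5 : Nat.Prime 5 := by decide
  have hz : orderOf (hh g 0) = 2 := orderOf_of_pow Nat.prime_two (by rw [pow_two, zz h.rel]) h.nz
  have cZ : #(zpowers (hh g 0)) = 2 := by rw [Nat.card_zpowers, hz]
  have cF : #(zpowers (hh g 13)) = 5 := by rw [Nat.card_zpowers, h.toA1.order_f]
  have fz : hh g 13 ∈ C[hh g 0] := mem_cent1.2 (z_cent h.rel (hh_mem g (by decide)))
  have ez : hh g 9 ∈ C[hh g 0] := mem_cent1.2 (z_cent h.rel (hh_mem g (by decide)))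
  have c10 : #(C[hh g 13] ⊓ C[hh g 0]) ∣ 10 := by
    refine (card_dvd h.cent_fz).trans ?_
    have := card_sup_dvd (A := zpowers (hh g 13)) (B := zpowers (hh g 0))
      (zpowers_le.2 (cent1_le_norm_zpowers _ (mem_cent1_symm.1 fz)))
    rwa [cZ, cF] at this
  have hN := norm_zp2 (zz h.rel)
  have hZ : Syl 2 (zpowers (hh g 0)) C[hh g 13] := by
    have hle : zpowers (hh g 0) ≤ C[hh g 13] ⊓ N(zpowers (hh g 0)) :=
      le_inf (zpowers_le.2 (mem_cent1_symm.1 fz)) le_normalizer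
    refine syl_of_subnorm (syl_mk hle (PiN.of_card Nat.prime_two cZ) fun h2 => ?_)
    have h3 := (card_dvd (inf_le_inf_left _ hN)).trans c10
    obtain ⟨m, hm⟩ := h2
    rw [← card_mul_relIndex hle, cZ, hm, ← mul_assoc] at h3
    exact absurd (dvd_of_mul_right_dvd h3) (by decide)
  have hO := cyclic_pdiv_normal_complement hZ (cyc_zpowers _) fun _ hq _ => hq.two_le
  have hA : zpowers (hh g 9) ⊔ zpowers (hh g 0) ≤ gen (hh g) 11 :=
    sup_le (zpowers_le.2 (mem_gen _ (by decide))) (zpowers_le.2 (mem_gen _ (by decide)))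
  have pA := h.syl.pi.of_le hA
  have eN : hh g 9 ∈ N(zpowers (hh g 13)) := by
    rw [← el_pow' g 9 (u := 512)]; exact E_norm h.rel (by decide)
  have hAK : zpowers (hh g 9) ⊔ zpowers (hh g 0) ≤ N(C[hh g 13]) := by
    refine sup_le (zpowers_le.2 ?_) (hZ.le.trans le_normalizer)
    rw [← cent_zpowers]; exact norm_le_norm_cent _ eN
  obtain ⟨F, hF, hAF⟩ := inv_syl_exists 5 (norms_Oc {2}ᶜ hAK) (hO.pi.coprime' pA) (Or.inl pA.sol)
  have hFK := hO.sub_syl (by decide) hF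
  obtain ⟨F0, hF0, hf0⟩ := (PiN.of_card p5 cF).exists_syl le_top
  have c25 : #F0 = 25 := by
    have h1 := hF0.card_mul
    have h2 : 25 ∣ #F0 := hF0.dvd (PiN.prime_pow p5 2) (by rw [card_top, h.card]; decide)
    obtain ⟨n, hn⟩ := hF0.pi.exists_card
    have h3 : 5 ^ n ∣ 17971200 := by rw [← hn, ← h.card]; exact card_subgroup_dvd_card _
    have h4 : n < 3 := by
      by_contra hc
      exact absurd ((pow_dvd_pow 5 (not_lt.1 hc)).trans h3) (by decide)
    rw [hn] at h2 ⊢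
    interval_cases n <;> omega
  have cF25 : #F = 25 := by
    refine Nat.dvd_antisymm (c25 ▸ hF0.card_dvd le_top hF.pi) (c25 ▸ hFK.card_dvd ?_ hF0.pi)
    exact le_cent1_iff.2 (comm_iff_le_cent.1 (ab_of_card_sq p5 (by rw [c25]; decide)) (hf0 (mem_zpowers _)))
  have hD := ab_cent_dprod (ab_of_card_sq p5 (by rw [cF25]; decide)) (le_sup_right.trans hAF)
    (by rw [cF25, cZ]; decide)
  have hfF : zpowers (hh g 13) ≤ F := hFK.le_of_norm' (zpowers_le.2 (mem_cent1_self _))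
    (PiN.of_card p5 cF) (hFK.le.trans (cent1_le_norm_zpowers _))
  have c5 : #(F ⊓ C(zpowers (hh g 0))) = 5 := by
    have h1 : 5 ∣ #(F ⊓ C(zpowers (hh g 0))) := by
      rw [← cF]; exact card_dvd (le_inf hfF (by rw [cent_zpowers]; exact zpowers_le.2 fz))
    have h2 : #(F ⊓ C(zpowers (hh g 0))) ∣ 10 := by
      rw [cent_zpowers]; exact (card_dvd (inf_le_inf_right _ hFK.le)).trans c10
    have h3 := card_dvd (inf_le_left : F ⊓ C(zpowers (hh g 0)) ≤ F)
    rw [cF25] at h3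
    exact Nat.dvd_antisymm (Nat.dvd_gcd h2 h3) h1
  have cH : #⁅F, zpowers (hh g 0)⁆ = 5 := by have := hD.card; rw [c5, cF25] at this; omega
  obtain ⟨k, k1, hk, ek⟩ := (el1_mk p5 le_top cH).exists_gen
  have hn : zpowers (hh g 9) ⊔ zpowers (hh g 0) ≤ N(zpowers k) := by
    rw [ek]
    exact norms_comm hAF (sup_le (zpowers_le.2 (cent1_le_norm_zpowers _ ez)) le_normalizer)
  have kF : k ∈ F := hD.right_le (ek ▸ mem_zpowers k)
  have en : hh g 9 ∈ N(zpowers k) := hn (mem_sup_left (mem_zpowers _))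
  have i1 := inv_of_norm5 hk (zz h.rel) (hn (mem_sup_right (mem_zpowers _))) fun hc =>
    k1 (mem_bot.1 (hD.inf ▸ (⟨⟨kF, by rw [cent_zpowers]; exact mem_cent1_symm.1 hc⟩,
      ek ▸ mem_zpowers k⟩ : k ∈ F ⊓ C(zpowers (hh g 0)) ⊓ ⁅F, zpowers (hh g 0)⁆)))
  have c8 : mu 256 256 = 0 ∧ memL (cls 256) [2, 3, 4] = 0 := by decide +kernel
  have t8 := (h.toAM.colour (by decide : 256 < 2048) (by decide) c8.1).2 c8.2
  rw [el_pow' g 8] at t8
  have i2 := inv_of_norm5 hk (conj_sq (tt h.rel) t8) (by rw [ee h.rel]; exact mul_mem en en)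
    fun hc => by
      obtain ⟨c, e⟩ := isConj_iff.1 t8
      have h1 : k ∈ cj c C[hh g 2] := by rw [cj_cent1, e]; exact mem_cent1_symm.1 hc
      have h2 := (orderOf_dvd_card' h1).trans (card_cj c _ ▸ card_dvd h.ct)
      rw [hk, h.toAM.card_P2] at h2
      omega
  refine ⟨k, hk, hFK.le kF, mem_cent1_symm.1 (mem_cent1.2 (mul_inv_eq_iff_eq_mul.1 ?_)), en⟩
  calc hh g 8 * hh g 0 * k * (hh g 8 * hh g 0)⁻¹
      = hh g 8 * (hh g 0 * k * (hh g 0)⁻¹) * (hh g 8)⁻¹ := by group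
    _ = (hh g 8 * k * (hh g 8)⁻¹)⁻¹ := by rw [i1]; group
    _ = k := by rw [i2, inv_inv]

/-- the last relation -/
theorem AD.last [Finite G] (h : AD g) : ∃ c ∈ Ci,
    (hh g 15 * hh g 13 ^ 3 * hh g 15 * el g c) * hh g 13 *
      (hh g 15 * hh g 13 ^ 3 * hh g 15 * el g c)⁻¹ ∈ C[hh g 13] := by
  obtain ⟨k, hk, k1, k2, k3⟩ := h.exists_five
  have p5 : Nat.Prime 5 := by decide
  have cF : #(zpowers (hh g 13)) = 5 := by rw [Nat.card_zpowers, h.toA1.order_f]
  have cK : #(zpowers k) = 5 := by rw [Nat.card_zpowers, hk]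
  have hz := h.toAM.g_z
  have he : (hh g 15 * hh g 13 ^ 3 * hh g 15)⁻¹ * hh g 9 * (hh g 15 * hh g 13 ^ 3 * hh g 15) =
      el g 778 := by
    have h1 := eq_el h.rel (W := [13, 13, 13, 7, 14, 14, 14]) (u := 182) (by decide +kernel)
    have h2 := (h.toAM.s_el (by decide : 182 < 1024)).2
    rw [show homR ims 182 = 778 by decide +kernel, ← h1] at h2
    simp only [evA_cons, evA_nil, one_mul, hF h.rel] at h2
    rw [h2, ← h.toAM.se, mul_inv_rev, mul_inv_rev, h.toAM.sinv]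
    simp only [pow_succ, pow_zero]; group
  generalize hh g 15 * hh g 13 ^ 3 * hh g 15 = w at hz he ⊢
  have hS : Syl 5 (zpowers (hh g 13)) (gen g 5) := by
    have hle : zpowers (hh g 13) ≤ gen g 5 := zpowers_le.2 (hh_mem g (by decide))
    refine syl_mk hle (PiN.of_card p5 cF) fun h2 => ?_
    have := card_mul_relIndex hle
    rw [cF, h.toA1.card_P] at this
    omega
  have h1 : cj w⁻¹ (zpowers k) ≤ gen g 5 := by
    refine le_trans ?_ h.cz
    rw [cj_le_iff, inv_inv, cj_cent1, hz]; exact zpowers_le.2 k2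
  obtain ⟨p, hp, h2⟩ := hS.sle_cj h1 (PiN.of_card p5 (by rw [card_cj, cK]))
  obtain ⟨i, -, c, hc, rfl⟩ := dec' h.rel hp
  rw [cj_mul, cj_of_mem (pow_mem (mem_zpowers _) i)] at h2
  have h3 := eq_of_le_of_card_eq h2 (by rw [card_cj, card_cj, cK, cF])
  obtain ⟨u, hu, rfl⟩ := exists_elS h.rel hc
  have h4 : el g (mu (Iv u) (mu 778 u)) ∈ N(zpowers (hh g 13)) := by
    rw [el_mu h.rel _ (mu_lt _ hu), el_mu h.rel _ hu, el_iv h.rel hu, ← mul_assoc, ← mem_cj,
      cj_norm, ← h3, ← cj_norm, ← he, mem_cj, inv_inv]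
    simpa [mul_assoc] using k3
  have h5 := eT u hu
  unfold eEnt at h5
  rw [force_eq, ifz_eq, if_pos (h.toA1.norm_f (mu_lt _ (mu_lt _ hu)) h4)] at h5
  obtain ⟨c, hc, e⟩ := List.mem_map.1 (memL_zero h5)
  have hc' : c < 2048 := (by decide : ∀ c ∈ Ci, c < 2048) c hc
  have h6 := E_norm h.rel (g := g) e
  rw [el_mu h.rel _ hu, el_iv h.rel hc'] at h6
  refine ⟨c, hc, zpowers_le.2 k1 ?_⟩
  have h7 : zpowers k = cj (w * el g c) (zpowers (hh g 13)) := by
    rw [← cj_of_mem_norm h6, cj_cj, mul_assoc, mul_inv_cancel_left, cj_mul, ← h3, cj_cj_inv]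
  rw [h7]; exact conj_mem_cj.2 (mem_zpowers _)

theorem AM.relT0 (h : AM g) : Rels (rl σT (hh g)) RT0 := by
  refine (rels_rl h.rel RTc.1).append (Rels.append ?_ ((rels_rl h.rel RTc.2.1).append ?_))
  · intro r hr
    rw [List.mem_singleton.1 hr]
    show 1 * hh g 15 * hh g 15 = 1
    rw [one_mul, h.ss]
  · intro r hr
    simp only [RTs, List.mem_cons, List.not_mem_nil, or_false] at hr
    rcases hr with rfl | rfl | rfl
    · show 1 * hh g 15 * hh g 10 * hh g 15 * hh g 10 * hh g 15 * hh g 10 = 1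
      rw [one_mul, h.srels.1]
    · show 1 * hh g 15 * hh g 7 * hh g 15 * hh g 11 = 1
      rw [one_mul, h.srels.2.1]
    · show 1 * hh g 15 * hh g 9 * hh g 15 * hh g 12 = 1
      rw [one_mul, h.srels.2.2]

theorem AM.ivW (h : AM g) {W : List ℕ} (hW : ∀ k ∈ W, k < 9) :
    (∀ k ∈ ivW W, k < 9) ∧ evA (rl σT (hh g)) (ivW W) = (evA (rl σT (hh g)) W)⁻¹ := by
  have h1 : ∀ k < 9, nth 0 ivT k < 9 ∧ nth 0 ivT k = ivOf RT0 k := by decide +kernel
  constructor
  · intro k hk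
    obtain ⟨j, hj, rfl⟩ := List.mem_map.1 (List.mem_reverse.1 hk)
    exact (h1 j (hW j hj)).1
  · exact evA_inv fun k hk => by
      rw [(h1 k (hW k hk)).2]; exact iv_eq h.relT0 (by decide +kernel) (hW k hk)

theorem AM.relW (h : AM g) {i : ℕ} (hi : i < 4)
    (hc : (hh g 15 * hh g 13 ^ 3 * hh g 15 * el g (nth 0 Ci i)) * hh g 13 *
      (hh g 15 * hh g 13 ^ 3 * hh g 15 * el g (nth 0 Ci i))⁻¹ ∈ C[hh g 13]) {r : List ℕ}
    (hr : neL (relW (nth [] CW i)) r = 0) : Rels (rl σT (hh g)) (RT0 ++ [r]) := by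
  refine h.relT0.append fun r' hr' => ?_
  rw [List.mem_singleton.1 hr', ← neL_zero hr]
  obtain ⟨h1, h2⟩ := Nat.add_eq_zero_iff.1 (allZ_sound0 RTc.2.2 i hi)
  have h3 := eq_el h.rel h2
  rw [← evA_rl] at h3
  have l1 : ∀ k ∈ nth [] CW i ++ [8, 3, 3, 8], k < 9 := fun k hk =>
    (List.mem_append.1 hk).elim (ltAll_zero h1 k) ((by decide : ∀ k ∈ [8, 3, 3, 8], k < 9) k)
  have h4 : evA (rl σT (hh g)) (nth [] CW i ++ [8, 3, 3, 8]) =
      hh g 15 * hh g 13 ^ 3 * hh g 15 * el g (nth 0 Ci i) := by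
    rw [evA_append, h3]
    show 1 * hh g 15 * hh g 14 * hh g 14 * hh g 15 * _ = _
    rw [hF h.rel, show hh g 13 ^ 3 = hh g 13 ^ 5 * (hh g 13)⁻¹ * (hh g 13)⁻¹ by group, f5 h.rel]
    group
  unfold NT.relW
  generalize nth [] CW i ++ [8, 3, 3, 8] = W at l1 h4
  have l2 : ∀ k ∈ NT.ivW W ++ ([2] ++ W), k < 9 := fun k hk =>
    (List.mem_append.1 hk).elim ((h.ivW l1).1 k) fun hk => (List.mem_append.1 hk).elim
      ((by decide : ∀ k ∈ [2], k < 9) k) (l1 k)
  have h5 : evA (rl σT (hh g)) (NT.ivW W ++ ([2] ++ W)) ∈ C[hh g 13] := by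
    rw [evA_append, evA_append, (h.ivW l1).2, h4]
    show _ * (1 * hh g 13) * _ ∈ _
    rwa [one_mul]
  show evA _ (NT.ivW (NT.ivW W ++ ([2] ++ W)) ++ ([3] ++ (NT.ivW W ++ ([2] ++ W) ++ [2]))) = 1
  generalize NT.ivW W ++ ([2] ++ W) = X at l2 h5
  rw [evA_append, evA_append, evA_append, (h.ivW l2).2]
  show 1 * hh g 13 * _ * (1 * hh g 14) * _ = 1
  rw [hF h.rel, one_mul, one_mul, ← mem_cent1.1 h5]; group

theorem AM.collapse (h : AM g) {c : TCert2} {R : List (List ℕ)} (hc : c.OK R 9)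
    (hg : H16.allL (ltAll 8) c.Sl = true ∧ c.goal [8] = 0) (hR : Rels (rl σT (hh g)) R) : False := by
  have := hc.mem hR (H := gen g 5) (fun w hw => evA_mem _ fun k hk => hh_mem g
    ((by decide +kernel : ∀ k < 8, nth 0 σT k < 15) k (ltAll_zero (allL_sound hg.1 w hw) k hk))) hg.2
  exact h.s_not_mem (by rw [← one_mul (hh g 15)]; exact this)

theorem genT : gen (rl σT (hh g)) 9 = gen g 6 := by
  refine le_antisymm (gen_le.2 fun k _ => hh_mem6 g _) (gen_le.2 fun k hk => ?_)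
  obtain ⟨j, hj, e⟩ := (by decide +kernel : ∀ k < 6, ∃ j < 9, nth 0 σ0 k = nth 0 σT j) k hk
  rw [← hh_g g hk, e]; exact mem_gen (rl σT (hh g)) hj

/-- **Recognition from the amalgam.** -/
theorem AD.equiv [Finite G] (h : AD g) : Nonempty (G ≃* gen H15.Tits.g 6) := by
  obtain ⟨c, hc, hm⟩ := h.last
  obtain ⟨i, hi, rfl⟩ := (by decide +kernel : ∀ c ∈ Ci, ∃ i < 4, c = nth 0 Ci i) c hc
  have key := fun r => h.toAM.relW hi hm (r := r)
  interval_cases i
  · exact (h.toAM.collapse tck0 gk0 (key _ RT0e)).elim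
  · have e0 : gen (rl σT (hh g0)) 9 = gen H15.Tits.g 6 := genT.trans g0_eq6
    haveI : IsSimpleGroup (gen (rl σT (hh g0)) 9) := by rw [e0]; exact H15.Tits.simple
    have c0 : Nat.card (gen (rl σT (hh g0)) 9) = 17971200 := by rw [e0, H15.Tits.card]
    obtain ⟨e, -⟩ := bdt9.exists_equiv_of_simple
      (rels_of_base (acth.rl (by decide +kernel)) H15.Tits.Blt (by rw [genT]; exact base0) RTm) c0
      (key _ RT1e) (by decide : 8 < 9) fun e => h.toAM.s_not_mem (by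
        rw [show hh g 15 = 1 from e]; exact one_mem _)
    have e1 : gen (rl σT (hh g)) 9 = ⊤ :=
      eq_top_of_card_eq _ (by rw [← Nat.card_congr e.toEquiv, c0, h.card])
    exact ⟨(topEquiv.symm.trans (MulEquiv.subgroupCongr e1.symm)).trans
      (e.symm.trans (MulEquiv.subgroupCongr e0))⟩
  · exact (h.toAM.collapse tck2 gk2 (key _ RT2e)).elim
  · exact (h.toAM.collapse tck3 gk3 (key _ RT3e)).elim

end H18.NT
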