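import Cfsg.Agent.H18.NTi

/-! The Tits configuration: `C(V) ⊓ C(V') = V ⊓ V'`. -/

set_option autoImplicit false

namespace H18.NT

open Subgroup H19 H28.NG

variable {G : Type*} [Group G] [Finite G] {S R X : Subgroup G} {z y a b c d e f g j k p q s u v w x : G}

namespace T3

theorem exj (h : T3 S z y) : ∃ j ∈ Vz y z, j ∉ Qz z := SetLike.not_le_iff_exists.1 h.b3

theorem Y1 (h : T3 S z y) (hj : j ∈ Vz y z) (hjQ : j ∉ Qz z) (hv : v ∈ Vz z y)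
    (hf : j * v * j⁻¹ * v⁻¹ ∈ zpowers z) : v ∈ Vz y z := by
  obtain ⟨f, e, fr⟩ := h.fr hj hjQ
  exact fr.Y1 hv hf

theorem sq (h : T3 S z y) (hj : j ∈ Vz y z) (hjQ : j ∉ Qz z) (ha : a ∈ S) (h2 : a * a ∈ Qz z) :
    a ∈ Qz z ∨ j * a ∈ Qz z := by
  obtain ⟨f, e, fr⟩ := h.fr hj hjQ
  exact fr.sq ha h2

theorem Y3 (h : T3 S z y) (hj : j ∈ Vz y z) (hjQ : j ∉ Qz z) (ha : a ∈ S)
    (hc : a ∈ C(Vz z y ⊓ Vz y z)) : a ∈ Qz z ∨ j * a ∈ Qz z := by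
  obtain ⟨f, e, fr⟩ := h.fr hj hjQ
  exact fr.Y3 ha hc

theorem pV (h : T3 S z y) (hX : X ≤ Vz z y) : PG 2 X := h.toB0.pg (hX.trans (h.V_le.trans h.toB0.Q_le))

theorem Y8 (h : T3 S z y) : 8 ≤ #(Vz z y ⊓ Vz y z) := by
  obtain ⟨j, hj, hjQ⟩ := h.exj
  obtain ⟨f, e, fr⟩ := h.fr hj hjQ
  have h1 := (h.pV (Ln_le_Vz z y)).card_mul_le (H := zpowers z)
    (lt_of_le_not_ge le_sup_left fun hc => h.toB0.y_not (hc (y_mem_Ln z y)))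
  have h2 := (h.pV (inf_le_left : Vz z y ⊓ Vz y z ≤ _)).card_mul_le (H := Ln z y)
    (lt_of_le_not_ge (le_inf (Ln_le_Vz z y) (Ln_comm z y ▸ Ln_le_Vz y z)) fun hc =>
      fr.tL (hc ⟨mul_mem (fr.yV 1) (fr.yV 4), fr.tV' (i := 1) (by decide)⟩))
  rw [h.cZ] at h1
  omega

theorem exA (h : T3 S z y) : ∃ a ∈ Vz z y, a ∈ Qz y ∧ a ∉ Vz y z := by
  obtain ⟨j, hj, hjQ⟩ := h.exj
  obtain ⟨f, e, fr⟩ := h.fr hj hjQ
  obtain ⟨_, h'⟩ := h.sw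
  have key : ∀ {a : G}, a ∈ Vz y z → j * a * j⁻¹ * a⁻¹ = 1 := fun ha => by rw [h'.vc hj ha]; group
  by_cases h1 : cf f y 1 ∈ Qz y
  · exact ⟨_, fr.yV 1, h1, fun hc => fr.tL ((fr.jc 1).symm.trans (key hc) ▸ one_mem _)⟩
  rcases h'.sq (fr.yV 1) h1 (h'.V'_le (fr.yV 2)) (by rw [h.vsq (fr.yV 2)]; exact one_mem _)
    with h2 | h2
  · exact ⟨_, fr.yV 2, h2, fun hc => fr.t'L ((fr.jc 2).symm.trans (key hc) ▸ one_mem _)⟩
  · refine ⟨_, mul_mem (fr.yV 1) (fr.yV 2), h2, fun hc => h.toB0.y_not ?_⟩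
    have := fr.tt
    rwa [← fr.jc12, key hc, one_mul] at this

theorem exx (h : T3 S z y) : ∃ x ∈ Vz y z, x ∈ Qz z ∧ x ∉ Vz z y := by
  obtain ⟨_, h'⟩ := h.sw
  exact h'.exA

theorem A_eq (h : T3 S z y) (hx : x ∈ Vz y z) (hxQ : x ∈ Qz z) (hxV : x ∉ Vz z y)
    (hv : v ∈ Vz y z) (hvQ : v ∈ Qz z) : v ∈ Vz z y ∨ v * x ∈ Vz z y := by
  obtain ⟨_, h'⟩ := h.sw
  have hle : Vz z y ⊓ Vz y z ⊔ zpowers x ≤ Vz y z ⊓ Qz z :=
    sup_le (le_inf inf_le_right (inf_le_left.trans h.V_le)) (zpowers_le.2 ⟨hx, hxQ⟩)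
  have h1 := (h'.pV (hle.trans inf_le_left)).card_mul_le (H := Vz z y ⊓ Vz y z)
    (lt_of_le_not_ge le_sup_left fun hc => hxV (hc (mem_sup_right (mem_zpowers x))).1)
  have h2 := (h'.pV le_rfl).card_mul_le (H := Vz y z ⊓ Qz z)
    (lt_of_le_not_ge inf_le_left fun hc => h.b3 (hc.trans inf_le_right))
  have h3 := h.Y8
  have h4 := card_le hle
  rw [h'.cardV] at h2
  obtain ⟨w, hw, b, hb, rfl⟩ := (mem_sup_of_norm (norms_of_comm h'.ab (zpowers_le.2 hx)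
    inf_le_right)).1 ((eq_of_le_of_card_eq hle (by omega)).ge ⟨hv, hvQ⟩)
  rcases (zp2 (h'.vsq hx)).1 hb with rfl | rfl
  · exact Or.inl (by rw [mul_one]; exact hw.1)
  · exact Or.inr (by rw [mul_assoc, h'.vsq hx, mul_one]; exact hw.1)

theorem Cx (h : T3 S z y) (hx : x ∈ Vz y z) (hxV : x ∉ Vz z y) (hv : v ∈ Vz z y)
    (hc : v ∈ C[x]) : v ∈ Qz y := by
  obtain ⟨_, h'⟩ := h.sw
  by_contra hn
  exact hxV (h'.Y1 hv hn hx (by rw [conj_of_cent hc, mul_inv_cancel]; exact one_mem _))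

theorem CV_S (h : T3 S z y) : C(Vz z y) ≤ S := fun _ hc =>
  h.toB0.Q2_le (cent_le_cent1 (z_mem_Vz z y) hc) (cent_le_cent1 (y_mem_Vz z y) hc)

theorem CV_le (h : T3 S z y) : C(Vz z y) ≤ Qz z :=
  B0.le_Q (cent_le_cent1 (z_mem_Vz z y)) (norms_cent (Vz_norm z y)) (h.toB0.pg h.CV_S)

theorem x_not (h : T3 S z y) (hx : x ∈ Vz y z) (hxV : x ∉ Vz z y) : x ∉ C(Vz z y) := fun hc => by
  obtain ⟨_, h'⟩ := h.sw
  exact h'.b3 fun v hv => h.Cx hx hxV hv (le_cent1_iff.2 hc hv)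

theorem ja (h : T3 S z y) (hj : j ∈ Vz y z) (hjQ : j ∉ Qz z) (ha : a ∈ Vz z y) (haQ : a ∈ Qz y)
    (haV : a ∉ Vz y z) : j * a * j⁻¹ * a⁻¹ = y := by
  obtain ⟨_, h'⟩ := h.sw
  have h1 := inv_mem (h'.toB0.VQ haQ hj)
  rw [show (a * j * a⁻¹ * j⁻¹)⁻¹ = j * a * j⁻¹ * a⁻¹ by group] at h1
  exact ((zp2 h.y_sq).1 h1).resolve_left fun e => haV (h.Y1 hj hjQ ha (e ▸ one_mem _))

theorem Y6 (h : T3 S z y) (hj : j ∈ Vz y z) (hjQ : j ∉ Qz z) (hv : v ∈ Vz z y)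
    (hf : j * v * j⁻¹ * v⁻¹ ∈ Ln z y) : v ∈ Qz y := by
  obtain ⟨_, h'⟩ := h.sw
  obtain ⟨a, ha, haQ, haV⟩ := h.exA
  have key : j * v * j⁻¹ * v⁻¹ * y ∈ zpowers z → v ∈ Qz y := fun h1 =>
    (mul_mem_cancel_right haQ).1 (h'.V_le (h.Y1 hj hjQ (mul_mem hv ha) (by
      rw [← conj_of_cent (h.Vy hv), ← h.ja hj hjQ ha haQ haV] at h1
      convert h1 using 1; group)))
  rcases h.toB0.mem_Ln.1 hf with e | e | e | e
  · exact h'.V_le (h.Y1 hj hjQ hv (e ▸ one_mem _))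
  · exact h'.V_le (h.Y1 hj hjQ hv (e ▸ mem_zpowers z))
  · exact key (by rw [e, h.y_sq]; exact one_mem _)
  · exact key (by rw [e, mul_assoc, h.y_sq, mul_one]; exact mem_zpowers z)

theorem CQ' (h : T3 S z y) (hc : c ∈ C(Vz z y)) : ∃ v ∈ Vz z y, v * c ∈ Qz y := by
  obtain ⟨_, h'⟩ := h.sw
  obtain ⟨j, hj, hjQ⟩ := h'.exj
  rcases h'.Y3 hj hjQ (h'.toB0.Q2_le (cent_le_cent1 (y_mem_Vz z y) hc)
    (cent_le_cent1 (z_mem_Vz z y) hc)) (cent_mono inf_le_right hc) with h1 | h1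
  · exact ⟨1, one_mem _, by rwa [one_mul]⟩
  · exact ⟨j, hj, h1⟩

theorem CV' (h : T3 S z y) (hc : c ∈ C(Vz z y)) (hw : w ∈ Vz y z) :
    w * c * w⁻¹ * c⁻¹ ∈ Vz z y := by
  obtain ⟨_, h'⟩ := h.sw
  obtain ⟨v, hv, h1⟩ := h.CQ' hc
  have h2 := conj_mem_of_norm' (Vz_norm z y (h.Vz_ hv)) (inv_mem (Z'_le z y (h'.toB0.VQ h1 hw)))
  have h3 := mul_mem (conj_mem_of_norm (Vz_norm z y (h'.Vy hw)) (inv_mem hv)) hv
  convert mul_mem h3 h2 using 1; group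

end T3

namespace Fr

theorem KC (h : Fr S z y f j e) (hq : q ∈ Qz z) (hf : q ∈ C[f]) : q ∈ C(Vz z y) := by
  have h1 : q * f * q⁻¹ = f ^ 1 := by rw [conj_of_cent hf, pow_one]
  refine le_cent1_iff.1 (h.V_le (mem_cent1_symm.1 (Qz_le z hq)) fun k _ =>
    mem_cent1_symm.1 (cent_of_conj ?_))
  rw [cf_conj h1 (conj_of_cent (h.ny (h.toB0.Q_le hq) h1)), one_mul]

theorem of_j (h : Fr S z y f j e) (h1 : j ∈ X) (h2 : f * j * f⁻¹ ∈ X) : f ∈ X := by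
  have h3 := mul_mem h2 (inv_mem h1)
  rw [show f * j * f⁻¹ * j⁻¹ = f * (j * f * j⁻¹)⁻¹ by group, h.jf, inv_inv] at h3
  have h4 := pow_mem h3 3
  rwa [← pow_two, ← pow_mul, show 2 * 3 = 5 + 1 from rfl, pow_succ, h.f5, one_mul] at h4

theorem decC (h : Fr S z y f j e) (hc : c ∈ C(Vz z y)) : ∃ v ∈ Vz z y, v * c ∈ C[f] := by
  have n := Vz_norm z y
  let T : Subgroup G :=
    { carrier := {a | a ∈ C[z] ∧ ∀ c ∈ C(Vz z y), a * c * a⁻¹ * c⁻¹ ∈ Vz z y}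
      one_mem' := ⟨one_mem _, fun c _ => by simp⟩
      mul_mem' := fun {a b} ha hb => ⟨mul_mem ha.1 hb.1, fun c hc => by
        convert mul_mem (conj_mem_of_norm (n ha.1) (hb.2 c hc)) (ha.2 c hc) using 1; group⟩
      inv_mem' := fun {a} ha => ⟨inv_mem ha.1, fun c hc => by
        convert conj_mem_of_norm' (n ha.1) (inv_mem (ha.2 c hc)) using 1; group⟩ }
  have jz := h.z_cent (h.toT3.V'_le h.jV)
  have hf : f ∈ T := h.of_j ⟨jz, fun c hc => h.toT3.CV' hc h.jV⟩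
    ⟨mul_mem (mul_mem h.fP jz) (inv_mem h.fP), fun c hc => by
      convert conj_mem_of_norm (n h.fP) (h.toT3.CV'
        (conj_mem_of_norm' (norms_cent n h.fP) hc) h.jV) using 1
      group⟩
  rw [← cent_zpowers]
  exact exists_mul_mem_cent (zpowers_le.2 (n h.fP)) (by
    rw [Nat.card_zpowers, orderOf_of_pow (by decide) h.f5 h.f1, h.cardV]; decide)
    (Or.inl (sol_zpowers f)) fun a ha => (zpowers_le.2 hf ha).2 c hc

theorem Kj (h : Fr S z y f j e) (hk : k ∈ C(Vz z y)) (hf : k ∈ C[f]) : k ∈ Qz y ∧ k ∈ C[j] := by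
  obtain ⟨_, h'⟩ := h.toT3.sw
  have h1 : j * k * j⁻¹ * k⁻¹ ∈ zpowers z := h.mZ (h.toT3.CV' hk h.jV) (mul_mem (by
    rw [← mem_cj_inv, cj_cent1, inv_inv, ← inv_inv f, ← h.jf]
    simpa [mul_assoc] using mem_cent1_symm.1 (inv_mem (mem_cent1_symm.1 hf))) (inv_mem hf))
  obtain ⟨v, hv, h2⟩ := h.toT3.CQ' hk
  have h3 : k ∈ Qz y := (mul_mem_cancel_left (h.toT3.Y6 h.jV h.jQ hv (by
    have n : v ∈ N(Ln z y) := h.norm (h.toB0.Q_le (h.toT3.V_le hv))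
    convert mul_mem (inv_mem (zpowers_le.2 (y_mem_Ln z y) (h'.toB0.VQ h2 h.jV)))
      (conj_mem_of_norm n (inv_mem (zpowers_le.2 (z_mem_Ln z y) h1))) using 1
    group))).1 h2
  have h4 := inv_mem (h'.toB0.VQ h3 h.jV)
  rw [show (k * j * k⁻¹ * j⁻¹)⁻¹ = j * k * j⁻¹ * k⁻¹ by group] at h4
  exact ⟨h3, mem_cent1_symm.1 (cent_of_conj (mul_inv_eq_one.1 (h.toB0.zp_inf h1 h4)))⟩

theorem xy (h : Fr S z y f j e) (hx : x ∈ Vz y z) (hxQ : x ∈ Qz z) (hxV : x ∉ Vz z y) {m : ℕ}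
    (hm : m % 5 ≠ 0) : x ∉ C[cf f y m] := fun hc => by
  obtain ⟨_, h'⟩ := h.toT3.sw
  have h1 : Vz y z ⊓ Qz z ≤ C[cf f y (m % 5)] := fun v hv => by
    rw [← cf_mod h.f5]
    rcases h.toT3.A_eq hx hxQ hxV hv.1 hv.2 with h2 | h2
    · exact mem_cent1.2 (h.toT3.vc h2 (h.yV m))
    · exact (mul_mem_cancel_right hc).1 (mem_cent1.2 (h.toT3.vc h2 (h.yV m)))
  have st : ∀ {i}, Vz y z ⊓ Qz z ≤ C[cf f y i] → Vz y z ⊓ Qz z ≤ C[cf f y (2 * i % 5)] := fun hi => by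
    rw [← h.ey, ← cj_cent1, ← cj_of_mem_norm (zpowers_le.1 (norms_inf
      (zpowers_le.2 (Vz_norm y z (h.ny h.eS h.ef))) (zpowers_le.2 (Qz_norm z (h.z_cent h.eS)))))]
    exact cj_mono e hi
  have h2 : Vz y z ⊓ Qz z ≤ C[cf f y 1] := by
    have := Nat.mod_lt m (by decide : 0 < 5)
    generalize m % 5 = i at *
    interval_cases i
    exacts [absurd rfl hm, h1, st (st (st h1)), st h1, st (st h1)]
  refine h.toT3.x_not hx hxV (le_cent1_iff.1 (h.V_le (mem_cent1_symm.1 (h'.Vy hx))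
    fun k hk => mem_cent1_symm.1 ?_))
  interval_cases k
  · rw [cf_zero]; exact h'.Vz_ hx
  exacts [h2 ⟨hx, hxQ⟩, st h2 ⟨hx, hxQ⟩, st (st (st h2)) ⟨hx, hxQ⟩, st (st h2) ⟨hx, hxQ⟩]

theorem xQ (h : Fr S z y f j e) (hxQ : x ∈ Qz z) (m : ℕ) : cf f x m ∈ Qz z :=
  cf_mem (Qz_norm z h.fP) hxQ m

theorem xk (h : Fr S z y f j e) (hx : x ∈ Vz y z) (hxQ : x ∈ Qz z) (hxV : x ∉ Vz z y) {m : ℕ}
    (hm : m % 5 ≠ 0) : cf f x m * y * (cf f x m)⁻¹ = z * y :=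
  (h.toB0.conj_y (h.toB0.Q_le (h.xQ hxQ m))).resolve_left fun e1 =>
    h.xy hx hxQ hxV (m := 4 * m) (by omega) (by
      have h1 := conj_mem_cj (g := f ^ (4 * m)).2 (cent_of_conj e1)
      rwa [cj_cent1, cf_add, cf_mod h.f5, show (4 * m + m) % 5 = 0 by omega, cf_zero] at h1)

theorem CV'_of (h : Fr S z y f j e) (hx : x ∈ Vz y z) (hxQ : x ∈ Qz z) (hxV : x ∉ Vz z y)
    (h1 : Vz z y ⊓ Vz y z ≤ X) (h2 : x ∈ X) (h3 : j ∈ X) : Vz y z ≤ X := by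
  obtain ⟨_, h'⟩ := h.toT3.sw
  have key : ∀ v ∈ Vz y z, v ∈ Qz z → v ∈ X := fun v hv hq =>
    (h.toT3.A_eq hx hxQ hxV hv hq).elim (fun a => h1 ⟨a, hv⟩) fun a =>
      (mul_mem_cancel_right h2).1 (h1 ⟨a, mul_mem hv hx⟩)
  intro v hv
  rcases h.sq (h.toT3.V'_le hv) (by rw [h'.vsq hv]; exact one_mem _) with h4 | h4
  · exact key v hv h4
  · exact (mul_mem_cancel_left h3).1 (key _ (mul_mem h.jV hv) h4)

end Fr

/-- the core in `C(z)` of `C(V) ⊓ C(V')` -/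
def Ucore (z y : G) : Subgroup G := ⨅ g : C[z], cj (g : G) (C(Vz z y) ⊓ C(Vz y z))

omit [Finite G] in
theorem mem_Ucore : u ∈ Ucore z y ↔ ∀ g ∈ C[z], g⁻¹ * u * g ∈ C(Vz z y) ⊓ C(Vz y z) := by
  simp only [Ucore, mem_iInf, mem_cj, Subtype.forall]

omit [Finite G] in
theorem Ucore_le (hu : u ∈ Ucore z y) : u ∈ C(Vz z y) ⊓ C(Vz y z) := by simpa using mem_Ucore.1 hu 1 (one_mem _)

omit [Finite G] in
theorem Ucore_conj (g : G) (hu : u ∈ Ucore z y) : g * u * g⁻¹ ∈ Ucore (g * z * g⁻¹) (g * y * g⁻¹) :=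
  mem_Ucore.2 fun c hc => by
    rw [← cj_Vz, ← cj_Vz, ← cj_cent, ← cj_cent, ← cj_inf, mem_cj]
    rw [← cj_cent1, mem_cj] at hc
    convert mem_Ucore.1 hu _ hc using 1; group

theorem Ucore_norm (z y : G) : C[z] ≤ N(Ucore z y) := fun g hg => mem_norm_of_cj_le fun _ hw => by
  obtain ⟨u, hu, rfl⟩ := mem_cj'.1 hw
  exact mem_Ucore.2 fun c hc => by
    convert mem_Ucore.1 hu _ (mul_mem (inv_mem hg) hc) using 1; group

namespace T3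

theorem U_third (h : T3 S z y) : Ucore z (z * y) = Ucore z y := by
  obtain ⟨q, hq, e⟩ := h.toB0.third
  have h1 : cj q (Ucore z y) ≤ Ucore z (z * y) := fun _ hw => by
    obtain ⟨u, hu, rfl⟩ := mem_cj'.1 hw
    have := Ucore_conj q hu
    rwa [conj_of_cent (h.z_cent hq), e] at this
  obtain ⟨q', hq', e'⟩ := h.th.toB0.third
  have h2 : cj q' (Ucore z (z * y)) ≤ Ucore z y := fun _ hw => by
    obtain ⟨u, hu, rfl⟩ := mem_cj'.1 hw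
    have := Ucore_conj q' hu
    rwa [conj_of_cent (h.z_cent hq'), e', h.toB0.zzy] at this
  rw [cj_of_mem_norm (Ucore_norm _ _ (h.z_cent hq))] at h1
  rw [cj_of_mem_norm (Ucore_norm _ _ (h.z_cent hq'))] at h2
  exact le_antisymm h2 h1

theorem z_U (h : T3 S z y) : z ∈ Ucore z y := mem_Ucore.2 fun g hg => by
  obtain ⟨_, h'⟩ := h.sw
  have := conj_of_cent (inv_mem hg)
  rw [inv_inv] at this
  rw [this]
  exact ⟨comm_iff_le_cent.1 h.ab (z_mem_Vz z y), comm_iff_le_cent.1 h'.ab (y_mem_Vz y z)⟩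

theorem S_le (h : T3 S z y) (hq : q ∈ S) (e : q * y * q⁻¹ = z * y) (h1 : C[z] ⊓ C[y] ≤ X)
    (h2 : q ∈ X) : S ≤ X := fun a ha => by
  rcases h.toB0.conj_y ha with e1 | e1
  · exact h1 ⟨h.z_cent ha, cent_of_conj e1⟩
  · refine (mul_mem_cancel_left (inv_mem h2)).1 (h1 ⟨h.z_cent (mul_mem (inv_mem hq) ha),
      cent_of_conj ?_⟩)
    rw [show q⁻¹ * a * y * (q⁻¹ * a)⁻¹ = q⁻¹ * (a * y * a⁻¹) * q by group, e1, ← e]; group

theorem U1 (h : T3 S z y) (hd : d ∈ C(Vz z y) ⊓ C(Vz y z)) :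
    ∃ w ∈ Vz z y ⊓ Vz y z, w * d ∈ Ucore z y := by
  obtain ⟨j, hj, hjQ⟩ := h.exj
  obtain ⟨f, e, fr⟩ := h.fr hj hjQ
  obtain ⟨x, hx, hxQ, hxV⟩ := h.exx
  obtain ⟨_, h'⟩ := h.sw
  obtain ⟨v, hv, hf⟩ := fr.decC hd.1
  have h1 := mul_mem (comm_iff_le_cent.1 h.ab hv) hd.1
  have h2 : v ∈ Vz y z := fr.Y1 hv (by
    rw [conj_of_cent (mem_cent1_symm.1 ((mul_mem_cancel_right (cent_le_cent1 hj hd.2)).1
      (fr.Kj h1 hf).2)), mul_inv_cancel]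
    exact one_mem _)
  have h3 := mul_mem (comm_iff_le_cent.1 h'.ab h2) hd.2
  refine ⟨v, ⟨hv, h2⟩, mem_Ucore.2 fun g hg => ?_⟩
  generalize v * d = k at hf h1 h3
  have n : C[z] ⊓ C[y] ≤ N(C(Vz z y) ⊓ C(Vz y z)) := norms_inf
    (norms_cent (inf_le_left.trans (Vz_norm z y))) (norms_cent (inf_le_right.trans (Vz_norm y z)))
  have kx : cf f x 1 ∈ C[k] := mul_mem (mul_mem (pow_mem (mem_cent1_symm.1 hf) 1)
    (le_cent1_iff.2 h3 hx)) (inv_mem (pow_mem (mem_cent1_symm.1 hf) 1))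
  obtain ⟨i, -, a, ha, rfl⟩ := fr.dec g hg
  rw [show (f ^ i * a)⁻¹ * k * (f ^ i * a) = a⁻¹ * ((f ^ i)⁻¹ * k * (f ^ i)⁻¹⁻¹) * a⁻¹⁻¹ by group,
    conj_of_cent (inv_mem (pow_mem (mem_cent1_symm.1 hf) i))]
  have ha' := inv_mem ha
  generalize a⁻¹ = b at ha'
  rcases h.toB0.conj_y ha' with e1 | e1
  · exact conj_mem_of_norm (n ⟨h.z_cent ha', cent_of_conj e1⟩) ⟨h1, h3⟩
  · have := conj_mem_of_norm (n (show b * cf f x 1 ∈ _ from ⟨h.z_cent (mul_mem ha'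
      (h.toB0.Q_le (fr.xQ hxQ 1))), cent_of_conj ?_⟩)) (show k ∈ _ from ⟨h1, h3⟩)
    · rwa [show b * cf f x 1 * k * (b * cf f x 1)⁻¹ = b * (cf f x 1 * k * (cf f x 1)⁻¹) * b⁻¹ by
        group, conj_of_cent kx] at this
    · rw [show b * cf f x 1 * y * (b * cf f x 1)⁻¹ = b * (cf f x 1 * y * (cf f x 1)⁻¹) * b⁻¹ by
        group, fr.xk hx hxQ hxV (by decide), show b * (z * y) * b⁻¹ = b * z * b⁻¹ * (b * y * b⁻¹) by
        group, conj_of_cent (h.z_cent ha'), e1, h.toB0.zzy]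

theorem U2a (h : T3 S z y) (h1 : R ≤ Ucore z y) (h2 : C[z] ⊓ C[y] ≤ N(R)) : C[z] ≤ N(R) := by
  obtain ⟨j, hj, hjQ⟩ := h.exj
  obtain ⟨f, e, fr⟩ := h.fr hj hjQ
  obtain ⟨x, hx, hxQ, hxV⟩ := h.exx
  have key : ∀ g ∈ C[z], ∀ w ∈ Vz y z, g * w * g⁻¹ ∈ C(R) := fun g hg w hw =>
    mem_cent.2 fun u hu => by
      have := mem_cent.1 (mem_Ucore.1 (h1 hu) g hg).2 w hw
      calc u * (g * w * g⁻¹) = g * (g⁻¹ * u * g * w) * g⁻¹ := by group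
        _ = _ := by rw [← this]; group
  exact h.toB0.maxP (h.S_le (h.toB0.Q_le (fr.xQ hxQ 1)) (fr.xk hx hxQ hxV (by decide)) h2
    (cent_le_norm _ (key _ (pow_mem fr.fP 1) x hx))) (cent_le_norm _ (fr.of_j
      (by simpa using key 1 (one_mem _) j hj) (key f fr.fP j hj))) fr.fP (h.not_S fr.f5 fr.f1)

theorem U2 (h : T3 S z y) : Ucore z y ⊓ Ucore y z = ⊥ := by
  obtain ⟨_, h'⟩ := h.sw
  have n : C[z] ⊓ C[y] ≤ N(Ucore z y ⊓ Ucore y z) :=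
    norms_inf (inf_le_left.trans (Ucore_norm z y)) (inf_le_right.trans (Ucore_norm y z))
  exact h.toB0.eq_bot (h.toB0.pg fun u hu => h.CV_S (Ucore_le hu.1).1) (h.U2a inf_le_left n)
    (h'.U2a inf_le_right (inf_comm C[z] C[y] ▸ n))

/-- `C(V) ⊓ C(V') ≤ V` -/
theorem D0 (h : T3 S z y) (h1 : d ∈ C(Vz z y)) (h2 : d ∈ C(Vz y z)) : d ∈ Vz z y := by
  obtain ⟨j, hj, hjQ⟩ := h.exj
  obtain ⟨f, e, fr⟩ := h.fr hj hjQ
  obtain ⟨x, hx, hxQ, hxV⟩ := h.exx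
  obtain ⟨_, h'⟩ := h.sw
  obtain ⟨_, h''⟩ := h'.th.sw
  obtain ⟨w, hw, hu⟩ := h.U1 ⟨h1, h2⟩
  refine (mul_mem_cancel_left (show w ∈ Vz z y from hw.1)).1 ?_
  generalize w * d = u at hu
  obtain ⟨w', hw', hu'⟩ := h'.U1 ⟨(Ucore_le hu).2, (Ucore_le hu).1⟩
  refine (mul_mem_cancel_left (show w' ∈ Vz z y from hw'.2)).1 ?_
  have hq := fr.xQ hxQ 1
  have h3 : cf f x 1 * u * (cf f x 1)⁻¹ = u := by
    have := mem_cent.1 (mem_Ucore.1 hu (f ^ 1) (pow_mem fr.fP 1)).2 x hx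
    calc _ = f ^ 1 * (x * ((f ^ 1)⁻¹ * u * f ^ 1) * x⁻¹) * (f ^ 1)⁻¹ := by unfold cf; group
      _ = u := by rw [this]; group
  have h4 := Ucore_conj (cf f x 1) hu'
  have h5 := h''.U_third
  rw [mul_assoc, h.toB0.comm, h.toB0.yya] at h5
  rw [fr.xk hx hxQ hxV (by decide), conj_of_cent (Qz_le z hq), h.toB0.comm, h5,
    show cf f x 1 * (w' * u) * (cf f x 1)⁻¹ = cf f x 1 * w' * (cf f x 1)⁻¹ * w'⁻¹ * (w' *
      (cf f x 1 * u * (cf f x 1)⁻¹)) by group, h3] at h4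
  rw [← h'.U_third] at hu'
  generalize w' * u = u' at hu' h4
  have h6 := h'.th.U2
  rcases (zp2 h.z_sq).1 (h.toB0.VQ hq hw'.2) with e1 | e1 <;> rw [e1] at h4
  · rw [one_mul] at h4
    exact mem_bot.1 (h6.le ⟨hu', h4⟩) ▸ one_mem _
  · have h7 := mul_mem h''.z_U h4
    rw [mul_assoc, h.toB0.zzy] at h7
    exact (mul_mem_cancel_left (y_mem_Vz z y)).1
      (mem_bot.1 (h6.le ⟨mul_mem h'.th.z_U hu', h7⟩) ▸ one_mem _)

end T3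

end H18.NT
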