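import Cfsg.Agent.H18.NTj

/-! The Tits configuration: generators and relations for the centralizer of `z`. -/

set_option autoImplicit false

namespace H18.NT

open Subgroup H19 H28.NG
open scoped commutatorElement

variable {G : Type*} [Group G] [Finite G] {S R X : Subgroup G} {z y a b c d e f g j k p q s u v w x : G}

theorem T3.Y5 (h : T3 S z y) (h1 : v ∈ Vz z y) (h2 : v ∈ Vz y z) : v ∈ Vz (z * y) z := by
  obtain ⟨j, hj, hjQ⟩ := h.exj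
  obtain ⟨f, e, fr⟩ := h.fr hj hjQ
  obtain ⟨x, hx, hxQ, hxV⟩ := h.exx
  have hq := fr.xQ hxQ 1
  have h3 := cj_Vz (cf f x 1) y z
  rw [fr.xk hx hxQ hxV (by decide), conj_of_cent (Qz_le z hq)] at h3
  rw [← h3, mem_cj]
  have := mul_mem (T3.Z'_le y z (h.toB0.VQ (inv_mem hq) h1)) h2
  rwa [inv_inv, inv_mul_cancel_right] at this

theorem T3.Y5' (h : T3 S z y) (h1 : v ∈ Vz y z) (h2 : v ∈ Vz (z * y) z) : v ∈ Vz z y := by
  obtain ⟨_, h'⟩ := h.sw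
  have e1 : Vz (y * z) y = Vz (z * y) z := by
    rw [← Vz_third (z * y) z, h.toB0.comm, mul_assoc, h.z_sq, mul_one]
  have := h'.th.Y5 ((Vz_third y z).ge h1) (e1.ge h2)
  rwa [h.toB0.yya] at this

theorem T3.QQ (h : T3 S z y) (ha : a ∈ Qz z) (hb : b ∈ Qz z) : a * b * a⁻¹ * b⁻¹ ∈ C(Vz z y) := by
  have h1 : ⁅Qz z, Vz z y⁆ ≤ zpowers z := commutator_le.2 fun _ hq _ hv => h.toB0.VQ hq hv
  have h2 : ⁅⁅Qz z, Vz z y⁆, Qz z⁆ = ⊥ :=
    commg_eq_bot.2 (h1.trans (cents_symm ((Qz_le z).trans (cent_zpowers z).ge)))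
  exact commg_eq_bot.1 (three_subgroup h2 (by rwa [commutator_comm (Vz z y)]))
    (commutator_mem_commutator ha hb)

theorem sum_rule {H : Type*} [CommGroup H] {a b y : H} (c d e : H) (ha : a * a = 1) (hb : b * b = 1)
    (hy : y * y = 1) : a * (c * b) * (d * (y * b)) * (e * (y * a)) = c * d * e := by
  calc _ = (a * a) * (b * b) * (y * y) * (c * d * e) := by ac_rfl
    _ = _ := by rw [ha, hb, hy]; simp

/-- a frame together with an involution of `V' ⊓ Q` outside `V` -/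
structure Fx (S : Subgroup G) (z y f j e x : G) : Prop extends Fr S z y f j e where
  xV' : x ∈ Vz y z
  xQ : x ∈ Qz z
  xV : x ∉ Vz z y

namespace Fx

theorem xx (h : Fx S z y f j e x) : x * x = 1 := by
  obtain ⟨_, h'⟩ := h.toT3.sw
  exact h'.vsq h.xV'

theorem Kx (h : Fx S z y f j e x) (hk : k ∈ C(Vz z y)) (hf : k ∈ C[f]) (hx : k ∈ C[x]) :
    k ∈ zpowers z :=
  h.toFr.mZ (h.toT3.D0 hk (le_cent1_iff.1 (h.toFr.CV'_of h.xV' h.xQ h.xV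
    (inf_le_left.trans (le_cent1_iff.2 hk)) (mem_cent1_symm.1 hx)
    (mem_cent1_symm.1 (h.toFr.Kj hk hf).2)))) hf

theorem kx (h : Fx S z y f j e x) (hk : k ∈ C(Vz z y)) (hf : k ∈ C[f]) (hz : k ∉ zpowers z) :
    k * x * k⁻¹ * x⁻¹ = y := by
  obtain ⟨_, h'⟩ := h.toT3.sw
  exact ((zp2 h.y_sq).1 (h'.toB0.VQ (h.toFr.Kj hk hf).1 h.xV')).resolve_left fun e1 =>
    hz (h.Kx hk hf (cent_of_conj (mul_inv_eq_one.1 e1)))

theorem kk (h : Fx S z y f j e x) (hk : k ∈ C(Vz z y)) (hf : k ∈ C[f]) (hz : k ∉ zpowers z)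
    (hk' : c ∈ C(Vz z y)) (hf' : c ∈ C[f]) (hz' : c ∉ zpowers z) : k * c ∈ zpowers z := by
  refine h.Kx (mul_mem hk hk') (mul_mem hf hf') (cent_of_conj ?_)
  have h1 := eq_mul_of_mul_inv_eq (h.kx hk hf hz)
  have h2 := eq_mul_of_mul_inv_eq (h.kx hk' hf' hz')
  rw [show k * c * x * (k * c)⁻¹ = k * (c * x * c⁻¹) * k⁻¹ by group, h2,
    show k * (y * x) * k⁻¹ = k * y * k⁻¹ * (k * x * k⁻¹) by group, h1,
    conj_of_cent (cent_le_cent1 (y_mem_Vz z y) hk), h.toB0.yya]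

theorem cc (h : Fx S z y f j e x) (hc : c ∈ C(Vz z y)) : c * c ∈ zpowers z := by
  obtain ⟨v, hv, hf⟩ := h.toFr.decC hc
  have hk := mul_mem (comm_iff_le_cent.1 h.ab hv) hc
  have e1 : v * c * (v * c) = c * c := by
    rw [mul_assoc, ← mul_assoc c, ← mem_cent.1 hc v hv, mul_assoc, ← mul_assoc, h.toT3.vsq hv, one_mul]
  rw [← e1]
  by_cases hz : v * c ∈ zpowers z
  · exact mul_mem hz hz
  · exact h.kk hk hf hz hk hf hz

theorem cV (h : Fx S z y f j e x) (hc : c ∈ C(Vz z y)) (hx : x * c * x⁻¹ * c⁻¹ ∈ zpowers z) :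
    c ∈ Vz z y := by
  obtain ⟨v, hv, hf⟩ := h.toFr.decC hc
  have hk := mul_mem (comm_iff_le_cent.1 h.ab hv) hc
  by_cases hz : v * c ∈ zpowers z
  · exact (mul_mem_cancel_left hv).1 (T3.Z_le z y hz)
  · refine absurd ?_ h.toB0.y_not
    rw [← h.kx hk hf hz]
    convert inv_mem (mul_mem (h.toB0.VQ h.xQ hv) (conj_mem_of_norm
      (cent1_le_norm_zpowers z (h.toT3.Vz_ hv)) hx)) using 1
    group

theorem eQ' (h : Fx S z y f j e x) : e ∈ Qz y := by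
  obtain ⟨_, h'⟩ := h.toT3.sw
  have ey := h.toFr.ny h.eS h.ef
  have jS := h.toT3.V'_le h.jV
  have h1 : e * j * e⁻¹ * j⁻¹ ∈ Vz y z :=
    mul_mem (conj_mem_of_norm (Vz_norm y z ey) h.jV) (inv_mem h.jV)
  have h2 : e * j * e⁻¹ * j⁻¹ * f * (e * j * e⁻¹ * j⁻¹)⁻¹ = f := by
    have h3 : j⁻¹ * f * j = f⁻¹ := by rw [← h.jf, inv_of_sq (h'.vsq h.jV)]
    have h4 : e⁻¹ * f⁻¹ * e = f ^ 2 := by
      rw [← h.toFr.eef, ← h.ef]; group
    calc _ = e * (j * (e⁻¹ * (j⁻¹ * f * j) * e) * j⁻¹) * e⁻¹ := by group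
      _ = f := by
        rw [h3, h4, ← conj_pow, h.jf, inv_pow, ← conj_inv, ← conj_pow, h.ef, ← pow_mul,
          ← h.toFr.f4, inv_inv]
  have h3 := h.toFr.mZ (h.toT3.D0 (h.toFr.KC (h.cq _ (h.toT3.V'_le h1) h2) (cent_of_conj h2))
    (comm_iff_le_cent.1 h'.ab h1)) (cent_of_conj h2)
  obtain ⟨i, hi, hiQ⟩ := h'.exj
  refine (h'.sq hi hiQ (h'.toB0.Q2_le ey (h.z_cent h.eS)) ?_).resolve_right fun h4 => hiQ ?_
  · rw [← pow_two]
    exact (mul_mem_cancel_left (h'.V_le h.jV)).1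
      (h.toFr.Kj (h.toFr.KC h.toFr.jeQ (cent_of_conj h.toFr.je)) (cent_of_conj h.toFr.je)).1
  · refine h.toT3.Y6 h.jV h.jQ hi ?_
    have n : i ∈ N(Ln z y) := h.norm (h.toB0.Q_le (h.toT3.V_le hi))
    convert mul_mem (inv_mem (zpowers_le.2 (y_mem_Ln z y) (h'.toB0.VQ h4 h.jV)))
      (conj_mem_of_norm n (zpowers_le.2 (z_mem_Ln z y) h3)) using 1
    group

theorem exy (h : Fx S z y f j e x) (hv : v ∈ Vz y z) : e * v * e⁻¹ = v ∨ e * v * e⁻¹ = y * v := by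
  obtain ⟨_, h'⟩ := h.toT3.sw
  exact ((zp2 h.y_sq).1 (h'.toB0.VQ h.eQ' hv)).imp mul_inv_eq_one.1 eq_mul_of_mul_inv_eq

theorem eeZ (h : Fx S z y f j e x) : j * e ^ 2 ∈ zpowers z := by
  obtain ⟨_, h'⟩ := h.toT3.sw
  refine h.Kx (h.toFr.KC h.toFr.jeQ (cent_of_conj h.toFr.je)) (cent_of_conj h.toFr.je)
    (mul_mem (mem_cent1.2 (h'.vc h.jV h.xV')) (cent_of_conj ?_))
  rw [show e ^ 2 * x * (e ^ 2)⁻¹ = e * (e * x * e⁻¹) * e⁻¹ by rw [pow_two]; group]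
  rcases h.exy h.xV' with e1 | e1
  · rw [e1, e1]
  · rw [e1, show e * (y * x) * e⁻¹ = e * y * e⁻¹ * (e * x * e⁻¹) by group, e1,
      conj_of_cent (h.toFr.ny h.eS h.ef), h.toB0.yya]

theorem mul (h : Fx S z y f j e x) (h1 : v ∈ Vz z y) (h2 : v ∈ Vz y z) : Fx S z y f j e (x * v) :=
  ⟨h.toFr, mul_mem h.xV' h2, mul_mem h.xQ (h.toT3.V_le h1),
    fun hc => h.xV ((mul_mem_cancel_right h1).1 hc)⟩

theorem ex_norm (h : Fx S z y f j e x) : ∃ x, Fx S z y f j e x ∧ e * x * e⁻¹ = x := by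
  rcases h.exy h.xV' with e1 | e1
  · exact ⟨x, h, e1⟩
  obtain ⟨_, h'⟩ := h.toT3.sw
  have t1 := mul_mem (h.toFr.yV 1) (h.toFr.yV 4)
  have t2 : cf f y 1 * cf f y 4 ∈ Vz y z := h.toFr.tV' (i := 1) (by decide)
  refine ⟨_, h.mul t1 t2, ?_⟩
  have e2 := (h.exy t2).resolve_left fun e2 => h.toB0.y_not (by
    have := h.toFr.tt
    rwa [← h.toFr.et, e2, h.toT3.vsq t1, one_mul] at this)
  generalize cf f y 1 * cf f y 4 = t at e2
  rw [show e * (x * t) * e⁻¹ = e * x * e⁻¹ * (e * t * e⁻¹) by group, e1, e2,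
    h'.vc (z_mem_Vz y z) h.xV', mul_assoc, h.toB0.yya]

theorem xm (h : Fx S z y f j e x) (m : ℕ) : (cf f x m)⁻¹ = cf f x m := inv_of_sq (sq_conj h.xx _)

theorem xw (h : Fx S z y f j e x) (m : ℕ) :
    x * (x * cf f x m * x⁻¹ * (cf f x m)⁻¹) = cf f x m * x * (cf f x m)⁻¹ := by
  rw [inv_of_sq h.xx, ← mul_assoc, ← mul_assoc, ← mul_assoc, h.xx, one_mul]

theorem wV (h : Fx S z y f j e x) (m : ℕ) : x * cf f x m * x⁻¹ * (cf f x m)⁻¹ ∈ Vz z y := by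
  have hc := h.toT3.QQ h.xQ (h.toFr.xQ h.xQ m)
  have h1 := sq_conj h.xx (cf f x m)
  rw [← h.xw] at h1
  generalize x * cf f x m * x⁻¹ * (cf f x m)⁻¹ = w at hc h1
  refine h.cV hc ?_
  rw [inv_of_sq h.xx, show x * w * x * w⁻¹ = x * w * (x * w) * (w * w)⁻¹ by group, h1, one_mul]
  exact inv_mem (h.cc hc)

theorem wV' (h : Fx S z y f j e x) {m : ℕ} (hm : m % 5 ≠ 0) :
    x * cf f x m * x⁻¹ * (cf f x m)⁻¹ ∉ Vz y z := fun hc => by
  have hq := h.toFr.xQ h.xQ m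
  have h1 := mul_mem h.xV' hc
  have h2 := conj_mem_cj (g := cf f x m).2 h.xV'
  rw [cj_Vz, h.toFr.xk h.xV' h.xQ h.xV hm, conj_of_cent (Qz_le z hq)] at h2
  rw [h.xw] at h1
  have := conj_mem_of_norm' (Vz_norm z y (Qz_le z hq)) (h.toT3.Y5' h1 h2)
  exact h.xV (by simpa [mul_assoc] using this)

theorem wx (h : Fx S z y f j e x) (m : ℕ) : x * cf f x m * x⁻¹ * (cf f x m)⁻¹ ∈ C[x] := by
  have h1 := sq_conj h.xx (cf f x m)
  rw [← h.xw] at h1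
  have h2 := h.toT3.vsq (h.wV m)
  generalize x * cf f x m * x⁻¹ * (cf f x m)⁻¹ = w at h1 h2
  rw [mem_cent1, ← inv_of_sq h2, ← inv_of_sq h.xx, ← mul_inv_rev, inv_of_sq h1, inv_of_sq h2,
    inv_of_sq h.xx]

theorem jw (h : Fx S z y f j e x) {m : ℕ} (hm : m % 5 ≠ 0) :
    x * cf f x (4 * m % 5) * x⁻¹ * (cf f x (4 * m % 5))⁻¹ =
      y * (x * cf f x m * x⁻¹ * (cf f x m)⁻¹) := by
  obtain ⟨_, h'⟩ := h.toT3.sw
  have h1 := h.toT3.ja h.jV h.jQ (h.wV m) (h.toT3.Cx h.xV' h.xV (h.wV m) (h.wx m)) (h.wV' hm)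
  have h2 : j * x * j⁻¹ = x := mul_inv_eq_iff_eq_mul.2 (h'.vc h.jV h.xV')
  rw [← eq_mul_of_mul_inv_eq h1, ← h.toFr.jy h.xV']
  generalize cf f x m = c
  calc _ = j * x * j⁻¹ * (j * c * j⁻¹) * (j * x * j⁻¹)⁻¹ * (j * c * j⁻¹)⁻¹ := by rw [h2]
    _ = _ := by group

/-- the product of the five conjugates -/
def pr5 (f x : G) : G := x * (cf f x 1 * cf f x 2 * cf f x 3 * cf f x 4)

theorem fpr (h : Fx S z y f j e x) : f * pr5 f x * f⁻¹ = x * pr5 f x * x⁻¹ := by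
  unfold pr5
  calc _ = f * cf f x 0 * f⁻¹ * (f * cf f x 1 * f⁻¹) * (f * cf f x 2 * f⁻¹) * (f * cf f x 3 * f⁻¹) *
        (f * cf f x 4 * f⁻¹) := by rw [cf_zero]; group
    _ = x * x * (cf f x 1 * cf f x 2 * cf f x 3 * cf f x 4) * x⁻¹ := by
        simp only [cf_succ, Nat.reduceAdd]
        rw [cf_mod h.f5 x 5, cf_zero, h.xx, one_mul, inv_of_sq h.xx]
    _ = _ := by group

theorem prQ (h : Fx S z y f j e x) : pr5 f x ∈ Qz z :=
  mul_mem h.xQ (mul_mem (mul_mem (mul_mem (h.toFr.xQ h.xQ 1) (h.toFr.xQ h.xQ 2))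
    (h.toFr.xQ h.xQ 3)) (h.toFr.xQ h.xQ 4))

theorem prC (h : Fx S z y f j e x) : pr5 f x ∈ C(Vz z y) := by
  obtain ⟨_, h'⟩ := h.toT3.sw
  have hy : y ∈ C[pr5 f x] := mem_cent1_symm.1 (cent_of_conj (by
    have a : ∀ m, m % 5 ≠ 0 → cf f x m * y * (cf f x m)⁻¹ = z * y := fun m => h.toFr.xk h.xV' h.xQ h.xV
    have b : ∀ m, m % 5 ≠ 0 → cf f x m * (z * y) * (cf f x m)⁻¹ = y := fun m hm => by
      rw [show ∀ c : G, c * (z * y) * c⁻¹ = c * z * c⁻¹ * (c * y * c⁻¹) by intros; group, a m hm,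
        conj_of_cent (Qz_le z (h.toFr.xQ h.xQ m)), h.toB0.zzy]
    calc _ = x * (cf f x 1 * (cf f x 2 * (cf f x 3 * (cf f x 4 * y * (cf f x 4)⁻¹) * (cf f x 3)⁻¹) *
        (cf f x 2)⁻¹) * (cf f x 1)⁻¹) * x⁻¹ := by unfold pr5; group
      _ = y := by
        rw [a 4 (by decide), b 3 (by decide), a 2 (by decide), b 1 (by decide),
          conj_of_cent (h'.Vz_ h.xV')]))
  have hn : cj f (Vz z y ⊓ C[pr5 f x]) ≤ Vz z y ⊓ C[pr5 f x] := by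
    rw [cj_inf, cj_of_mem_norm (Vz_norm z y h.fP), cj_cent1, h.fpr]
    rintro v ⟨hv, hc⟩
    exact ⟨hv, mem_cent1_symm.1 ((mul_mem_cancel_left (cent_le_cent1 hv
      (h.toT3.QQ h.xQ h.prQ))).1 (by rw [inv_mul_cancel_right]; exact mem_cent1_symm.1 hc))⟩
  rcases h.toFr.irr (le_inf (T3.Z_le z y) (zpowers_le.2 (mem_cent1_symm.1 (Qz_le z h.prQ))))
    inf_le_left (mem_norm_of_cj_le hn) with e1 | e1
  · exact absurd (e1.le ⟨y_mem_Vz z y, hy⟩) h.toB0.y_not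
  · exact le_cent1_iff.1 (inf_eq_left.1 e1)

theorem prx (h : Fx S z y f j e x) : x * pr5 f x * x⁻¹ * (pr5 f x)⁻¹ ∈ zpowers z := by
  have q := h.toFr.xQ h.xQ
  have h2 := h.toB0.VQ (q 1) (h.wV 2)
  have h3 := h.toB0.VQ (mul_mem (q 1) (q 2)) (h.wV 3)
  have h4 := h.toB0.VQ (mul_mem (mul_mem (q 1) (q 2)) (q 3)) (h.wV 4)
  letI : CommGroup (Vz z y) :=
    { (inferInstance : Group (Vz z y)) with mul_comm := fun a b => Subtype.ext (h.toT3.vc a.2 b.2) }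
  have h5 := congrArg Subtype.val (sum_rule (H := Vz z y) (a := ⟨_, h.wV 1⟩) (b := ⟨_, h.wV 2⟩)
    (y := ⟨y, y_mem_Vz z y⟩) ⟨_, T3.Z_le z y h2⟩ ⟨_, T3.Z_le z y h3⟩ ⟨_, T3.Z_le z y h4⟩
    (Subtype.ext (h.toT3.vsq (h.wV 1))) (Subtype.ext (h.toT3.vsq (h.wV 2))) (Subtype.ext h.y_sq))
  simp only [coe_mul] at h5
  rw [← h.jw (m := 1) (by decide), ← h.jw (m := 2) (by decide)] at h5
  have h6 := conj_mem_of_norm (cent1_le_norm_zpowers z (Qz_le z h.xQ)) (mul_mem (mul_mem h2 h3) h4)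
  rw [← h5] at h6
  convert h6 using 1
  unfold pr5
  simp only [Nat.reduceMul, Nat.reduceMod]
  group

theorem prZ (h : Fx S z y f j e x) : pr5 f x ∈ zpowers z :=
  h.toFr.fix (h.cV h.prC h.prx) (h.fpr ▸ h.prx)

end Fx

/-- a normalized frame -/
structure Fy (S : Subgroup G) (z y f j e x : G) : Prop extends Fx S z y f j e x where
  ex : e * x * e⁻¹ = x
  pi : Fx.pr5 f x = 1

theorem Fr.fy (h : Fr S z y f j e) : ∃ x, Fy S z y f j e x := by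
  obtain ⟨x, h1, h2, h3⟩ := h.toT3.exx
  obtain ⟨x, h', ex⟩ := Fx.ex_norm ⟨h, h1, h2, h3⟩
  rcases (zp2 h.z_sq).1 h'.prZ with e1 | e1
  · exact ⟨x, h', ex, e1⟩
  refine ⟨x * z, h'.mul (z_mem_Vz z y) (y_mem_Vz y z), ?_, ?_⟩
  · rw [show e * (x * z) * e⁻¹ = e * x * e⁻¹ * (e * z * e⁻¹) by group, ex,
      conj_of_cent (h.z_cent h.eS)]
  · have a : ∀ m, cf f (x * z) m = cf f x m * z := fun m => by
      unfold cf; nth_rewrite 2 [← conj_of_cent (pow_mem h.fP m)]; group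
    have b : ∀ m a, z * (cf f x m * a) = cf f x m * (z * a) := fun m a => by
      rw [← mul_assoc, ← mem_cent1.1 (Qz_le z (h.xQ h'.xQ m)), mul_assoc]
    unfold Fx.pr5 at e1 ⊢
    simp only [a, mul_assoc, b, h.toB0.zzy] at e1 ⊢
    rw [← h.z_sq]; nth_rewrite 2 [← e1]; simp only [mul_assoc]

end H18.NT
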