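import Cfsg.Agent.H18.NTk
import Cfsg.Agent.H18.NTf

/-! The Tits configuration: coordinates. -/

set_option autoImplicit false

namespace H18.NT

open H16 Subgroup H19 H28.NG

variable {G : Type*} [Group G] {S R X : Subgroup G} {z y a b c d e f j k p q s u v w x : G}

/-- the six letters -/
def lt6 (e f x s : G) (k : ℕ) : G := [e, e⁻¹, f, f⁻¹, x, s].getD k 1

theorem h9 (e f x s : G) : hh (lt6 e f x s) 9 = e := hh_g _ (k := 0) (by decide)
theorem h13 (e f x s : G) : hh (lt6 e f x s) 13 = f := hh_g _ (k := 2) (by decide)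
theorem h5 (e f x s : G) : hh (lt6 e f x s) 5 = x := hh_g _ (k := 4) (by decide)
theorem h15 (e f x s : G) : hh (lt6 e f x s) 15 = s := hh_g _ (k := 5) (by decide)
theorem h8 (e f x s : G) : hh (lt6 e f x s) 8 = e ^ 2 := by
  show 1 * e * e = _; rw [one_mul, pow_two]
theorem h10 (e f x s : G) : hh (lt6 e f x s) 10 = cf f x 1 := by
  show 1 * f * x * f⁻¹ = _; simp [cf]
theorem h7 (e f x s : G) : hh (lt6 e f x s) 7 = cf f x 2 * cf f x 1 := by
  show 1 * f * f * x * f⁻¹ * x * f⁻¹ = _; unfold cf; rw [pow_two]; group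
theorem h3 (e f x s : G) : hh (lt6 e f x s) 3 = x * cf f x 1 * x * cf f x 1 := by
  show 1 * x * f * x * f⁻¹ * x * f * x * f⁻¹ = _; unfold cf; group

/-- the exponent of `f` in a word -/
def cnt : List ℕ → ℕ
  | [] => 0
  | k :: W => cnt W + if k = 2 then 1 else if k = 3 then 4 else 0

variable [Finite G]

namespace Fx

theorem wQ (h : Fx S z y f j e x) (s : G) {W : List ℕ} (hW : ∀ k ∈ W, 2 ≤ k ∧ k ≤ 4) :
    (f ^ cnt W)⁻¹ * evA (lt6 e f x s) W ∈ Qz z := by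
  induction W with
  | nil => simp [cnt]
  | cons k W ih =>
    have h1 := ih fun k hk => hW k (List.mem_cons_of_mem _ hk)
    obtain ⟨h2, h3⟩ := hW k List.mem_cons_self
    have n := fun m => conj_mem_of_norm' (Qz_norm z (pow_mem h.fP m)) h1
    rw [evA_cons, cnt]
    interval_cases k
    · convert n 1 using 1; simp only [lt6]; simp; group
    · convert n 4 using 1; rw [← h.toFr.f4]; simp [lt6, pow_add, ← h.toFr.f4, mul_assoc]
    · convert mul_mem h1 h.xQ using 1; simp [lt6, mul_assoc]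

theorem hQ (h : Fx S z y f j e x) (s : G) {i : ℕ} (hi : i < 11) (h8 : i ≠ 8) (h9 : i ≠ 9) :
    hh (lt6 e f x s) i ∈ Qz z := by
  have h1 : ∀ i < 11, i ≠ 8 → i ≠ 9 → (∀ k ∈ nth [] Ws i, 2 ≤ k ∧ k ≤ 4) ∧
      cnt (nth [] Ws i) % 5 = 0 := by decide +kernel
  have := h.wQ s (h1 i hi h8 h9).1
  rwa [pow_eq_pow_mod _ h.f5, (h1 i hi h8 h9).2, pow_zero, inv_one, one_mul] at this

theorem eeV (h : Fx S z y f j e x) : e ^ 2 ∈ Vz y z :=
  (mul_mem_cancel_left h.jV).1 (T3.Z'_le y z h.eeZ)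

theorem eeQ (h : Fx S z y f j e x) : e ^ 2 ∉ Qz z := fun hc =>
  h.jQ ((mul_mem_cancel_right hc).1 h.toFr.jeQ)

theorem c0 (h : Fx S z y f j e x) (s : G) :
    hh (lt6 e f x s) 3 = x * cf f x 1 * x⁻¹ * (cf f x 1)⁻¹ := by rw [h3, h.xm, inv_of_sq h.xx]

end Fx

namespace Fy

theorem rel (h : Fy S z y f j e x) (s : G) : Rels (lt6 e f x s) R1 := by
  obtain ⟨_, h'⟩ := h.toT3.sw
  have xx := h.toFx.xx
  have xa : ∀ a, x * (x * a) = a := fun a => by rw [← mul_assoc, xx, one_mul]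
  have c0 := h.toFx.wV 1
  rw [← h.toFx.c0 s, h3] at c0
  have ck := fun m => h.toT3.vsq (mul_mem c0 (cf_mem (Vz_norm z y h.fP) c0 m))
  intro r hr
  simp only [R1, List.mem_cons, List.not_mem_nil, or_false] at hr
  rcases hr with rfl | rfl | rfl | rfl | rfl | rfl | rfl | rfl | rfl | rfl | rfl | rfl | rfl
  · show 1 * e⁻¹ * e = 1; group
  · show 1 * e * e⁻¹ = 1; group
  · show 1 * f⁻¹ * f = 1; group
  · show 1 * f * f⁻¹ = 1; group
  · show 1 * x * x = 1; rw [one_mul, xx]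
  · show 1 * e * e * e * e = 1
    exact Eq.trans (by rw [pow_two]; group) (h'.vsq h.toFx.eeV)
  · show 1 * f * f * f * f * f = 1
    exact Eq.trans (by simp only [pow_succ, pow_zero]) h.f5
  · show 1 * e * f * e⁻¹ * f⁻¹ * f⁻¹ = 1
    rw [one_mul, h.ef, pow_two]; group
  · show 1 * e * x * e⁻¹ * x = 1
    rw [one_mul, h.ex, xx]
  · show 1 * x * f * x * f * x * f * x * f * x * f⁻¹ * f⁻¹ * f⁻¹ * f⁻¹ = 1
    exact Eq.trans (by unfold Fx.pr5 cf; group) h.pi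
  · show 1 * x * f * x * f⁻¹ * x * f * x * f⁻¹ * x * f * x * f⁻¹ * x * f * x * f⁻¹ = 1
    exact Eq.trans (by unfold cf; group) (h.toT3.vsq c0)
  · show 1 * x * f * x * f⁻¹ * x * f * f * x * f⁻¹ * x * f * x * f⁻¹ * f⁻¹ *
      x * f * x * f⁻¹ * x * f * f * x * f⁻¹ * x * f * x * f⁻¹ * f⁻¹ = 1
    exact Eq.trans (by simp [cf, mul_assoc, xa]) (ck 1)
  · show 1 * x * f * x * f⁻¹ * x * f * x * f * x * f * x * f⁻¹ * x * f * x * f⁻¹ * f⁻¹ * f⁻¹ *
      x * f * x * f⁻¹ * x * f * x * f * x * f * x * f⁻¹ * x * f * x * f⁻¹ * f⁻¹ * f⁻¹ = 1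
    exact Eq.trans (by simp [cf, mul_assoc, pow_two]) (ck 2)

theorem hV (h : Fy S z y f j e x) (s : G) : gen (hh (lt6 e f x s)) 5 ≤ Vz z y := by
  have hR := h.rel s
  have n := Vz_norm z y h.fP
  have v3 : hh (lt6 e f x s) 3 ∈ Vz z y := h.toFx.c0 s ▸ h.toFx.wV 1
  have v4 : hh (lt6 e f x s) 4 ∈ Vz z y := by
    have := fconj hR (i := 3) (by decide) (by decide) (by decide)
    rw [show nth 0 imf 3 = 16 by decide +kernel, el_pow' _ 4, h13] at this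
    exact this ▸ conj_mem_of_norm n v3
  have v2 : hh (lt6 e f x s) 2 ∈ Vz z y := by
    have := fconj hR (i := 4) (by decide) (by decide) (by decide)
    rw [show nth 0 imf 4 = 4 by decide +kernel, el_pow' _ 2, h13] at this
    exact this ▸ conj_mem_of_norm n v4
  refine gen_le.2 fun k hk => ?_
  interval_cases k
  · have := eq1 hR (W := [0]) (W' := [4, 5, 4, 5]) (by decide +kernel)
    simp only [evA_cons, evA_nil, one_mul, h5] at this
    have h2 := mul_mem (conj_mem_of_norm (Vz_norm z y (Qz_le z h.xQ)) v4) v4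
    rwa [inv_of_sq h.toFx.xx, ← this] at h2
  · have := eq1 hR (W := [1]) (W' := [13, 3, 4, 14]) (by decide +kernel)
    simp only [evA_cons, evA_nil, one_mul, hF hR, h13] at this
    rw [this, mul_assoc f⁻¹]
    exact conj_mem_of_norm' n (mul_mem v4 v3)
  exacts [v2, v3, v4]

theorem h0Z (h : Fy S z y f j e x) (s : G) : hh (lt6 e f x s) 0 ∈ zpowers z :=
  h.toFr.mZ (h.hV s (mem_gen _ (by decide))) (mem_cent1.2 (by
    have := z_cent (h.rel s) (hh_mem _ (by decide : 13 < 15))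
    rw [h13] at this; exact this.symm))

theorem a1 (h : Fy S z y f j e x) (s : G) : A1 (lt6 e f x s) := by
  refine ⟨h.rel s, fun e0 => h.toT3.x_not h.xV' h.xV ?_⟩
  have h1 : gen (hh (lt6 e f x s)) 5 ≤ C[x] := gen_le.2 fun k hk => by
    have h2 : ∀ k < 5, eq1c [k, 5] [5, k] = 0 ∨ eq1c [k, 5] [5, k, 0] = 0 := by decide +kernel
    rcases h2 k hk with h3 | h3 <;> have h4 := eq1 (h.rel s) h3 <;>
      simp only [evA_cons, evA_nil, one_mul, h5, e0] at h4 <;> exact mem_cent1.2 h4.symm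
  have hn : f ∈ N(zpowers z ⊔ gen (hh (lt6 e f x s)) 5) := zpowers_le.1 (norms_sup
    (zpowers_le.2 (cent1_le_norm_zpowers z h.fP)) (zpowers_le.2 (mem_norm_of_cj_le fun _ ha => by
      obtain ⟨a, ha', rfl⟩ := mem_cj'.1 ha
      have := V_conj (h.rel s) (hh_mem _ (by decide : 13 < 15)) ha'
      rwa [h13] at this)))
  rcases h.toFr.irr le_sup_left (sup_le (T3.Z_le z y) (h.hV s)) hn with e1 | e1
  · refine absurd (T3.Z'_le y z (e1.le (mem_sup_right (mem_gen _ (by decide : 3 < 5))))) ?_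
    rw [h.toFx.c0]; exact h.toFx.wV' (by decide)
  · exact le_cent1_iff.1 (e1.ge.trans (sup_le
      (zpowers_le.2 (mem_cent1_symm.1 (Qz_le z h.xQ))) h1))

theorem h0 (h : Fy S z y f j e x) (s : G) : hh (lt6 e f x s) 0 = z :=
  ((zp2 h.z_sq).1 (h.h0Z s)).resolve_left (h.a1 s).nz

theorem V_eq (h : Fy S z y f j e x) (s : G) : gen (hh (lt6 e f x s)) 5 = Vz z y :=
  eq_of_le_of_card_eq (h.hV s) (by rw [(h.a1 s).card_gen (by decide), h.cardV]; rfl)

theorem h1 (h : Fy S z y f j e x) (s : G) : hh (lt6 e f x s) 1 = y := by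
  have h2 := h.toT3.ja h.toFx.eeV h.toFx.eeQ (h.toFx.wV 1)
    (h.toT3.Cx h.xV' h.xV (h.toFx.wV 1) (h.toFx.wx 1)) (h.toFx.wV' (by decide))
  have h3 := eq1 (h.rel s) (W := [3, 8]) (W' := [8, 3, 1]) (by decide +kernel)
  simp only [evA_cons, evA_nil, one_mul, h8] at h3
  rw [← h.toFx.c0 s, h3] at h2
  rw [← h2]; group

theorem S_le (h : Fy S z y f j e x) (s : G) : gen (hh (lt6 e f x s)) 11 ≤ S := gen_le.2 fun k hk => by
  by_cases a : k = 8
  · rw [a, h8]; exact pow_mem h.eS 2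
  by_cases b : k = 9
  · rw [b, h9]; exact h.eS
  exact h.toB0.Q_le (h.toFx.hQ s hk a b)

theorem P_le (h : Fy S z y f j e x) (s : G) : gen (lt6 e f x s) 5 ≤ C[z] := fun _ hp =>
  mem_cent1.2 (h.h0 s ▸ z_cent (h.rel s) hp)

theorem mem_S (h : Fy S z y f j e x) (s : G) (ha : a ∈ S) (hp : a ∈ gen (lt6 e f x s) 5) :
    a ∈ gen (hh (lt6 e f x s)) 11 := by
  obtain ⟨k, hk, u, -, rfl⟩ := dec (h.rel s) hp
  have := (mul_mem_cancel_right (h.S_le s (el_memS _ u))).1 ha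
  rw [h13] at this
  obtain rfl : k = 0 := by by_contra hc; exact h.toFr.fS (by omega) this
  rw [pow_zero, one_mul]; exact el_memS _ u

theorem elQ (h : Fy S z y f j e x) (s : G) {u : ℕ} (hu : Nat.land u 768 = 0) :
    el (lt6 e f x s) u ∈ Qz z := elN_mem fun i hi hb =>
  h.toFx.hQ s hi (by rintro rfl; cases land_bit hu hb) (by rintro rfl; cases land_bit hu hb)

theorem Qdec (h : Fy S z y f j e x) (s : G) (hq : q ∈ Qz z) :
    ∃ p ∈ gen (hh (lt6 e f x s)) 11, p ∈ Qz z ∧ p⁻¹ * q ∈ C(Vz z y) := by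
  have hR := h.rel s
  have key : ∀ i < 4, ∃ b < 2, q * hh (lt6 e f x s) (i + 1) * q⁻¹ =
      el (lt6 e f x s) b * hh (lt6 e f x s) (i + 1) := fun i hi => by
    rcases (zp2 h.z_sq).1 (h.toB0.VQ hq (h.hV s (mem_gen _ (by omega : i + 1 < 5)))) with e1 | e1
    · exact ⟨0, by decide, by rw [el_zero]; exact eq_mul_of_mul_inv_eq e1⟩
    · exact ⟨1, by decide, by rw [el_pow' _ 0, h.h0]; exact eq_mul_of_mul_inv_eq e1⟩
  obtain ⟨b0, l0, e0⟩ := key 0 (by decide)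
  obtain ⟨b1, l1, e1⟩ := key 1 (by decide)
  obtain ⟨b2, l2, e2⟩ := key 2 (by decide)
  obtain ⟨b3, l3, e3⟩ := key 3 (by decide)
  obtain ⟨w, h1, h2⟩ : ∃ w, (w < 2048 ∧ Nat.land w 768 = 0) ∧ ∀ i < 4,
      mu w (2 ^ (i + 1)) = mu ([b0, b1, b2, b3].getD i 0) (mu (2 ^ (i + 1)) w) := by
    refine ⟨nth 0 [0, 1248, 224, 1024, 96, 1152, 128, 1120, 32, 1216, 192, 1056, 64, 1184, 160, 1088]
      (b0 + 2 * b1 + 4 * b2 + 8 * b3), ?_⟩
    clear e0 e1 e2 e3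
    interval_cases b0 <;> interval_cases b1 <;> interval_cases b2 <;> interval_cases b3 <;>
      decide +kernel
  have wQ := h.elQ s h1.2
  refine ⟨_, el_memS _ w, wQ, le_cent1_iff.1 ((h.V_eq s).ge.trans (gen_le.2 fun k hk => ?_))⟩
  rcases k with _ | i
  · rw [h.h0]; exact mem_cent1_symm.1 (Qz_le z (mul_mem (inv_mem wQ) hq))
  have h3 := congrArg (el (lt6 e f x s)) (h2 i (by omega))
  have l : 2 ^ (i + 1) < 2048 := Nat.pow_lt_pow_right (by decide) (show i + 1 < 11 by omega)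
  rw [el_mu hR _ l, el_mu hR _ (mu_lt _ h1.1), el_mu hR _ h1.1, el_pow _ (by omega), ← mul_assoc] at h3
  have h4 : q * hh (lt6 e f x s) (i + 1) * q⁻¹ =
      el (lt6 e f x s) ([b0, b1, b2, b3].getD i 0) * hh (lt6 e f x s) (i + 1) := by
    have : i < 4 := by omega
    interval_cases i
    exacts [e0, e1, e2, e3]
  refine mem_cent1_symm.1 (cent_of_conj ?_)
  rw [show ∀ a b : G, a⁻¹ * q * b * (a⁻¹ * q)⁻¹ = a⁻¹ * (q * b * q⁻¹ * a) by intros; group, h4, ← h3]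
  group

theorem Sdec (h : Fy S z y f j e x) (s : G) (ha : a ∈ S) :
    ∃ p ∈ gen (hh (lt6 e f x s)) 11, ∃ k ∈ C(Vz z y), k ∈ C[f] ∧ a = p * k := by
  obtain ⟨i, -, h1⟩ := h.cov a ha
  obtain ⟨p, hp, -, h2⟩ := h.Qdec s h1
  obtain ⟨v, hv, h3⟩ := h.toFr.decC h2
  refine ⟨e ^ i * p * v⁻¹, mul_mem (mul_mem (pow_mem ?_ i) hp) (inv_mem (gen_mono _ (by decide)
    ((h.V_eq s).ge hv))), _, mul_mem (comm_iff_le_cent.1 h.ab hv) h2, h3, by group⟩
  have := mem_gen (hh (lt6 e f x s)) (by decide : 9 < 11)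
  rwa [h9] at this

theorem V'_le (h : Fy S z y f j e x) (s : G) : Vz y z ≤ gen (hh (lt6 e f x s)) 9 := by
  have a5 := mem_gen (hh (lt6 e f x s)) (by decide : 5 < 9)
  have a8 := mem_gen (hh (lt6 e f x s)) (by decide : 8 < 9)
  have hV : Vz z y ≤ gen (hh (lt6 e f x s)) 9 := (h.V_eq s).ge.trans (gen_mono _ (by decide))
  rw [h5] at a5; rw [h8] at a8
  exact h.toFr.CV'_of h.xV' h.xQ h.xV (inf_le_left.trans hV) a5
    ((mul_mem_cancel_right a8).1 (hV (T3.Z_le z y h.toFx.eeZ)))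

end Fy

theorem Fr.mulK (h : Fr S z y f j e) (hq : k ∈ Qz z) (hf : k ∈ C[f]) : Fr S z y f j (e * k) := by
  have ef : e * k * f * (e * k)⁻¹ = f ^ 2 := by
    rw [show e * k * f * (e * k)⁻¹ = e * (k * f * k⁻¹) * e⁻¹ by group, conj_of_cent hf, h.ef]
  have eS := mul_mem h.eS (h.toB0.Q_le hq)
  refine { h with eS := eS, ef := ef, cov := fun a ha => ?_ }
  obtain ⟨i, hi, h1⟩ := h.cov a ha
  refine ⟨i, hi, ?_⟩
  convert mul_mem (h.cq _ (mul_mem (inv_mem (pow_mem eS i)) (pow_mem h.eS i)) ?_) h1 using 1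
  · group
  · rw [show ((e * k) ^ i)⁻¹ * e ^ i * f * (((e * k) ^ i)⁻¹ * e ^ i)⁻¹ =
      ((e * k) ^ i)⁻¹ * (e ^ i * f * (e ^ i)⁻¹) * (e * k) ^ i by group, conj_pow_two h.ef,
      ← conj_pow_two ef]
    group

theorem Fy.mulZ (h : Fy S z y f j e x) (hk : k ∈ zpowers z) : Fy S z y f j (e * k) x :=
  ⟨⟨h.toFr.mulK (zpowers_le.2 h.toB0.z_mem_Q hk) (zpowers_le.2 (mem_cent1_symm.1 h.fP) hk),
    h.xV', h.xQ, h.xV⟩, by
      rw [show e * k * x * (e * k)⁻¹ = e * (k * x * k⁻¹) * e⁻¹ by group, conj_of_cent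
        (zpowers_le.2 (mem_cent1_symm.1 (Qz_le z h.xQ)) hk), h.ex], h.pi⟩

/-- an element of order three inverted by a given involution of `S` outside `C(y)` -/
theorem B0.rho (h : B0 S z y) (hq : q ∈ S) (h2 : q * q = 1) (e : q * y * q⁻¹ = z * y) :
    ∃ r ∈ N(Ln z y), r ^ 3 = 1 ∧ q * r * q⁻¹ = r⁻¹ ∧ r * z * r⁻¹ = z * y ∧ r * y * r⁻¹ = z := by
  obtain ⟨s, hs, e1, e2⟩ := h.swap
  have qz := conj_of_cent (h.z_cent hq)
  have cm : ∀ g a b : G, g * (a * b) * g⁻¹ = g * a * g⁻¹ * (g * b * g⁻¹) := by intros; group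
  have cc : ∀ g k a : G, g * k * a * (g * k)⁻¹ = g * (k * a * k⁻¹) * g⁻¹ := by intros; group
  have a1 : s * q * s⁻¹ * y * (s * q * s⁻¹)⁻¹ = y := by
    nth_rewrite 1 [← e1]
    rw [show s * q * s⁻¹ * (s * z * s⁻¹) * (s * q * s⁻¹)⁻¹ = s * (q * z * q⁻¹) * s⁻¹ by group, qz, e1]
  have a2 : s * q * s⁻¹ * z * (s * q * s⁻¹)⁻¹ = z * y := by
    nth_rewrite 1 [← e2]
    rw [show s * q * s⁻¹ * (s * y * s⁻¹) * (s * q * s⁻¹)⁻¹ = s * (q * y * q⁻¹) * s⁻¹ by group, e, cm,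
      e1, e2, h.comm]
  have a3 := sq_conj h2 s
  have a4 := mul_mem (mul_mem hs (h.norm hq)) (inv_mem hs)
  generalize s * q * s⁻¹ = t at a1 a2 a3 a4
  have r1 : q * t * z * (q * t)⁻¹ = y := by rw [cc, a2, cm, qz, e, h.zzy]
  have r2 : q * t * y * (q * t)⁻¹ = z * y := by rw [cc, a1, e]
  have r3 : q * (q * t) * q⁻¹ = (q * t)⁻¹ := by
    rw [← mul_assoc, h2, one_mul, mul_inv_rev, inv_of_sq a3]
  have r4 := mul_mem (h.norm hq) a4
  generalize q * t = r at r1 r2 r3 r4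
  have s1 : ∀ i, r ^ (3 * i + 2) * z * (r ^ (3 * i + 2))⁻¹ = z * y ∧
      r ^ (3 * i + 2) * y * (r ^ (3 * i + 2))⁻¹ = z := by
    have t1 : r * r * z * (r * r)⁻¹ = z * y := by rw [cc, r1, r2]
    have t2 : r * r * y * (r * r)⁻¹ = z := by
      rw [cc, r2, cm, r1, r2, h.comm, h.yya]
    intro i
    induction i with
    | zero => simpa [pow_two] using And.intro t1 t2
    | succ i ih =>
      rw [show r ^ (3 * (i + 1) + 2) = r * r * (r * r ^ (3 * i + 2)) by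
        rw [← pow_succ', ← pow_two, ← pow_add]; congr 1; omega]
      constructor
      · rw [cc (r * r), cc r (r ^ _), ih.1, cm r z y, r1, r2, h.comm, h.yya, t1, h.comm]
      · rw [cc (r * r), cc r (r ^ _), ih.2, r1, t2]
  obtain ⟨n, hn⟩ := h.syl.pi.exists_card
  obtain ⟨i, hi⟩ : ∃ i, 2 ^ (2 * n + 1) = 3 * i + 2 := by
    refine ⟨2 ^ (2 * n + 1) / 3, ?_⟩
    have : 2 ^ (2 * n + 1) % 3 = 2 := by rw [pow_succ, pow_mul, Nat.mul_mod, Nat.pow_mod]; simp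
    omega
  refine ⟨r ^ (3 * i + 2), pow_mem r4 _, ?_, by rw [← conj_pow, r3, inv_pow], s1 i⟩
  rw [← hi, ← pow_mul]
  refine orderOf_dvd_iff_pow_eq_one.1 ((orderOf_dvd_card' r4).trans ?_)
  rw [h.cardM, hn, mul_comm]
  exact Nat.mul_dvd_mul_right (pow_dvd_pow 2 (by omega)) 3

end H18.NT
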