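import Cfsg.Agent.H18.NTm.C0
import Cfsg.Agent.H18.NTm.C1

/-! Generated by tools/h16 (computation kit). -/

set_option maxRecDepth 100000
set_option maxHeartbeats 0

namespace H18.NT

open H16

theorem m0_0 : ∀ i < 1755, (m0e (nat_lit 0)) i = 0 := allZ_sound0 m0_0_0
theorem m0_1 : ∀ i < 1755, (m0e (nat_lit 1)) i = 0 := allZ_sound0 m0_1_0
theorem m0_2 : ∀ i < 1755, (m0e (nat_lit 2)) i = 0 := allZ_sound0 m0_2_0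
theorem m0_3 : ∀ i < 1755, (m0e (nat_lit 3)) i = 0 := allZ_sound0 m0_3_0
theorem m0_4 : ∀ i < 1755, (m0e (nat_lit 4)) i = 0 := allZ_sound0 m0_4_0
theorem m0_5 : ∀ i < 1755, (m0e (nat_lit 5)) i = 0 := allZ_sound0 m0_5_0
theorem m0 : ∀ k < 6, ∀ i < 1755, (m0e) k i = 0 :=
  letters_glue (letters_glue (letters_glue (letters_glue (letters_glue (letters_glue (letters_nil) m0_0) m0_1) m0_2) m0_3) m0_4) m0_5
theorem m1_0 : ∀ i < 1755, (m1e (nat_lit 0)) i = 0 := allZ_sound0 m1_0_0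
theorem m1_1 : ∀ i < 1755, (m1e (nat_lit 1)) i = 0 := allZ_sound0 m1_1_0
theorem m1_2 : ∀ i < 1755, (m1e (nat_lit 2)) i = 0 := allZ_sound0 m1_2_0
theorem m1_3 : ∀ i < 1755, (m1e (nat_lit 3)) i = 0 := allZ_sound0 m1_3_0
theorem m1_4 : ∀ i < 1755, (m1e (nat_lit 4)) i = 0 := allZ_sound0 m1_4_0
theorem m1_5 : ∀ i < 1755, (m1e (nat_lit 5)) i = 0 := allZ_sound0 m1_5_0
theorem m1_6 : ∀ i < 1755, (m1e (nat_lit 6)) i = 0 := allZ_sound0 m1_6_0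
theorem m1_7 : ∀ i < 1755, (m1e (nat_lit 7)) i = 0 := allZ_sound0 m1_7_0
theorem m1_8 : ∀ i < 1755, (m1e (nat_lit 8)) i = 0 := allZ_sound0 m1_8_0
theorem m1_9 : ∀ i < 1755, (m1e (nat_lit 9)) i = 0 := allZ_sound0 m1_9_0
theorem m1_10 : ∀ i < 1755, (m1e (nat_lit 10)) i = 0 := allZ_sound0 m1_10_0
theorem m1_11 : ∀ i < 1755, (m1e (nat_lit 11)) i = 0 := allZ_sound0 m1_11_0
theorem m1_12 : ∀ i < 1755, (m1e (nat_lit 12)) i = 0 := allZ_sound0 m1_12_0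
theorem m1_13 : ∀ i < 1755, (m1e (nat_lit 13)) i = 0 := allZ_sound0 m1_13_0
theorem m1_14 : ∀ i < 1755, (m1e (nat_lit 14)) i = 0 := allZ_sound0 m1_14_0
theorem m1_15 : ∀ i < 1755, (m1e (nat_lit 15)) i = 0 := allZ_sound0 m1_15_0
theorem m1 : ∀ k < 16, ∀ i < 1755, (m1e) k i = 0 :=
  letters_glue (letters_glue (letters_glue (letters_glue (letters_glue (letters_glue (letters_glue (letters_glue (letters_glue (letters_glue (letters_glue (letters_glue (letters_glue (letters_glue (letters_glue (letters_glue (letters_nil) m1_0) m1_1) m1_2) m1_3) m1_4) m1_5) m1_6) m1_7) m1_8) m1_9) m1_10) m1_11) m1_12) m1_13) m1_14) m1_15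
theorem tca2e : ∀ k < 2, ∀ i < 4, (ent2 Ta2 Ea2 (selR RLa2 Ia2) Da2 (nat_lit 3) (nat_lit 4) (nat_lit 4) (nat_lit 4) (nat_lit 2) (nat_lit 15) (nat_lit 0)) k i = 0 := allZ2_sound tca2e_a
theorem tca2p : ∀ i < 0, (eps2 Ta2 Ea2 Ja2 Wa2 RLa2 (nat_lit 3) (nat_lit 4) (nat_lit 4) (nat_lit 2) (nat_lit 0)) i = 0 := allZ_sound0 tca2p_0
theorem tca2 : ca2.OK R1 5 := ⟨tca2n, iv1, tca2r, tca2e, fun i h => tca2p i (lt_of_lt_of_eq h tca2q)⟩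
theorem bda2 : Bound R1 2 4 := Bound.step2 (Bound.zero R1) tca2 sta2
theorem tca4e : ∀ k < 4, ∀ i < 6, (ent2 Ta4 Ea4 (selR RLa4 Ia4) Da4 (nat_lit 7) (nat_lit 5) (nat_lit 5) (nat_lit 6) (nat_lit 4) (nat_lit 31) (nat_lit 1)) k i = 0 := allZ2_sound tca4e_a
theorem tca4p : ∀ i < 1, (eps2 Ta4 Ea4 Ja4 Wa4 RLa4 (nat_lit 7) (nat_lit 5) (nat_lit 6) (nat_lit 4) (nat_lit 1)) i = 0 := allZ_sound0 tca4p_0
theorem tca4 : ca4.OK R1 5 := ⟨tca4n, iv1, tca4r, tca4e, fun i h => tca4p i (lt_of_lt_of_eq h tca4q)⟩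
theorem bda4 : Bound R1 4 20 := Bound.step2 (bda2) tca4 sta4
theorem tca5e : ∀ k < 5, ∀ i < 513, (ent2 Ta5 Ea5 (selR RLa5 Ia5) Da5 (nat_lit 1023) (nat_lit 512) (nat_lit 512) (nat_lit 513) (nat_lit 5) (nat_lit 4095) (nat_lit 1)) k i = 0 := allZ2_sound tca5e_a
theorem tca5p : ∀ i < 1, (eps2 Ta5 Ea5 Ja5 Wa5 RLa5 (nat_lit 1023) (nat_lit 512) (nat_lit 513) (nat_lit 5) (nat_lit 1)) i = 0 := allZ_sound0 tca5p_0
theorem tca5 : ca5.OK R1 5 := ⟨tca5n, iv1, tca5r, tca5e, fun i h => tca5p i (lt_of_lt_of_eq h tca5q)⟩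
theorem bda5 : Bound R1 5 10240 := Bound.step2 (bda4) tca5 sta5
theorem tT_0_g0 : ∀ i < 1664, (tEnt (nat_lit 0)) i = 0 := allZ_sound0 tT_0_0
theorem tT_0 : ∀ i < 2048, (tEnt (nat_lit 0)) i = 0 := range_glue tT_0_g0 tT_0_1
theorem tT_1_g0 : ∀ i < 1664, (tEnt (nat_lit 1)) i = 0 := allZ_sound0 tT_1_0
theorem tT_1 : ∀ i < 2048, (tEnt (nat_lit 1)) i = 0 := range_glue tT_1_g0 tT_1_1
theorem tT_2_g0 : ∀ i < 1664, (tEnt (nat_lit 2)) i = 0 := allZ_sound0 tT_2_0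
theorem tT_2 : ∀ i < 2048, (tEnt (nat_lit 2)) i = 0 := range_glue tT_2_g0 tT_2_1
theorem tT_3_g0 : ∀ i < 1664, (tEnt (nat_lit 3)) i = 0 := allZ_sound0 tT_3_0
theorem tT_3 : ∀ i < 2048, (tEnt (nat_lit 3)) i = 0 := range_glue tT_3_g0 tT_3_1
theorem tT_4_g0 : ∀ i < 1664, (tEnt (nat_lit 4)) i = 0 := allZ_sound0 tT_4_0
theorem tT_4 : ∀ i < 2048, (tEnt (nat_lit 4)) i = 0 := range_glue tT_4_g0 tT_4_1
theorem tT_5_g0 : ∀ i < 1664, (tEnt (nat_lit 5)) i = 0 := allZ_sound0 tT_5_0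
theorem tT_5 : ∀ i < 2048, (tEnt (nat_lit 5)) i = 0 := range_glue tT_5_g0 tT_5_1
theorem tT_6_g0 : ∀ i < 1664, (tEnt (nat_lit 6)) i = 0 := allZ_sound0 tT_6_0
theorem tT_6 : ∀ i < 2048, (tEnt (nat_lit 6)) i = 0 := range_glue tT_6_g0 tT_6_1
theorem tT_7_g0 : ∀ i < 1664, (tEnt (nat_lit 7)) i = 0 := allZ_sound0 tT_7_0
theorem tT_7 : ∀ i < 2048, (tEnt (nat_lit 7)) i = 0 := range_glue tT_7_g0 tT_7_1
theorem tT_8_g0 : ∀ i < 1664, (tEnt (nat_lit 8)) i = 0 := allZ_sound0 tT_8_0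
theorem tT_8 : ∀ i < 2048, (tEnt (nat_lit 8)) i = 0 := range_glue tT_8_g0 tT_8_1
theorem tT_9_g0 : ∀ i < 1664, (tEnt (nat_lit 9)) i = 0 := allZ_sound0 tT_9_0
theorem tT_9 : ∀ i < 2048, (tEnt (nat_lit 9)) i = 0 := range_glue tT_9_g0 tT_9_1
theorem tT_10_g0 : ∀ i < 1664, (tEnt (nat_lit 10)) i = 0 := allZ_sound0 tT_10_0
theorem tT_10 : ∀ i < 2048, (tEnt (nat_lit 10)) i = 0 := range_glue tT_10_g0 tT_10_1
theorem tT : ∀ k < 11, ∀ i < 2048, (tEnt) k i = 0 :=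
  letters_glue (letters_glue (letters_glue (letters_glue (letters_glue (letters_glue (letters_glue (letters_glue (letters_glue (letters_glue (letters_glue (letters_nil) tT_0) tT_1) tT_2) tT_3) tT_4) tT_5) tT_6) tT_7) tT_8) tT_9) tT_10
theorem iT_g0 : ∀ i < 1664, (iEnt) i = 0 := allZ_sound0 iT_0
theorem iT : ∀ i < 2048, (iEnt) i = 0 := range_glue iT_g0 iT_1
theorem nT_g0 : ∀ i < 960, (nEnt) i = 0 := allZ_sound0 nT_0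
theorem nT_g1 : ∀ i < 1920, (nEnt) i = 0 := range_glue nT_g0 nT_1
theorem nT : ∀ i < 2048, (nEnt) i = 0 := range_glue nT_g1 nT_2
theorem cT : ∀ i < 2048, (cEnt) i = 0 := allZ_sound0 cT_0
theorem pT_g0 : ∀ i < 384, (pEnt) i = 0 := allZ_sound0 pT_0
theorem pT_g1 : ∀ i < 768, (pEnt) i = 0 := range_glue pT_g0 pT_1
theorem pT : ∀ i < 1024, (pEnt) i = 0 := range_glue pT_g1 pT_2
theorem tcb2e : ∀ k < 2, ∀ i < 4, (ent2 Tb2 Eb2 (selR RLb2 Ib2) Db2 (nat_lit 3) (nat_lit 4) (nat_lit 4) (nat_lit 4) (nat_lit 2) (nat_lit 15) (nat_lit 0)) k i = 0 := allZ2_sound tcb2e_a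
theorem tcb2p : ∀ i < 0, (eps2 Tb2 Eb2 Jb2 Wb2 RLb2 (nat_lit 3) (nat_lit 4) (nat_lit 4) (nat_lit 2) (nat_lit 0)) i = 0 := allZ_sound0 tcb2p_0
theorem tcb2 : cb2.OK R2 6 := ⟨tcb2n, iv2, tcb2r, tcb2e, fun i h => tcb2p i (lt_of_lt_of_eq h tcb2q)⟩
theorem bdb2 : Bound R2 2 4 := Bound.step2 (Bound.zero R2) tcb2 stb2
theorem tcb4e : ∀ k < 4, ∀ i < 256, (ent2 Tb4 Eb4 (selR RLb4 Ib4) Db4 (nat_lit 255) (nat_lit 256) (nat_lit 256) (nat_lit 256) (nat_lit 4) (nat_lit 2047) (nat_lit 0)) k i = 0 := allZ2_sound tcb4e_a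
theorem tcb4p : ∀ i < 0, (eps2 Tb4 Eb4 Jb4 Wb4 RLb4 (nat_lit 255) (nat_lit 256) (nat_lit 256) (nat_lit 4) (nat_lit 0)) i = 0 := allZ_sound0 tcb4p_0
theorem tcb4 : cb4.OK R2 6 := ⟨tcb4n, iv2, tcb4r, tcb4e, fun i h => tcb4p i (lt_of_lt_of_eq h tcb4q)⟩
theorem bdb4 : Bound R2 4 1024 := Bound.step2 (bdb2) tcb4 stb4
theorem tcb5e : ∀ k < 5, ∀ i < 2, (ent2 Tb5 Eb5 (selR RLb5 Ib5) Db5 (nat_lit 1) (nat_lit 2) (nat_lit 2) (nat_lit 2) (nat_lit 5) (nat_lit 15) (nat_lit 0)) k i = 0 := allZ2_sound tcb5e_a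
theorem tcb5p : ∀ i < 0, (eps2 Tb5 Eb5 Jb5 Wb5 RLb5 (nat_lit 1) (nat_lit 2) (nat_lit 2) (nat_lit 5) (nat_lit 0)) i = 0 := allZ_sound0 tcb5p_0
theorem tcb5 : cb5.OK R2 6 := ⟨tcb5n, iv2, tcb5r, tcb5e, fun i h => tcb5p i (lt_of_lt_of_eq h tcb5q)⟩
theorem bdb5 : Bound R2 5 2048 := Bound.step2 (bdb4) tcb5 stb5
theorem tcb6e : ∀ k < 6, ∀ i < 3, (ent2 Tb6 Eb6 (selR RLb6 Ib6) Db6 (nat_lit 3) (nat_lit 3) (nat_lit 3) (nat_lit 3) (nat_lit 6) (nat_lit 31) (nat_lit 0)) k i = 0 := allZ2_sound tcb6e_a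
theorem tcb6p : ∀ i < 0, (eps2 Tb6 Eb6 Jb6 Wb6 RLb6 (nat_lit 3) (nat_lit 3) (nat_lit 3) (nat_lit 6) (nat_lit 0)) i = 0 := allZ_sound0 tcb6p_0
theorem tcb6 : cb6.OK R2 6 := ⟨tcb6n, iv2, tcb6r, tcb6e, fun i h => tcb6p i (lt_of_lt_of_eq h tcb6q)⟩
theorem bdb6 : Bound R2 6 6144 := Bound.step2 (bdb5) tcb6 stb6
theorem bT : ∀ i < 2048, (bEnt) i = 0 := allZ_sound0 bT_0
theorem tck0e : ∀ k < 9, ∀ i < 1088, (ent2 Tk0 Ek0 (selR RLk0 Ik0) Dk0 (nat_lit 2047) (nat_lit 517) (nat_lit 0) (nat_lit 1088) (nat_lit 9) (nat_lit 16383) (nat_lit 6)) k i = 0 := allZ2_sound tck0e_a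
theorem tck0p : ∀ i < 571, (eps2 Tk0 Ek0 Jk0 Wk0 RLk0 (nat_lit 2047) (nat_lit 517) (nat_lit 1088) (nat_lit 9) (nat_lit 6)) i = 0 := allZ_sound0 tck0p_0
theorem tck0 : ck0.OK RT0x 9 := ⟨tck0n, ivT0, tck0r, tck0e, fun i h => tck0p i (lt_of_lt_of_eq h tck0q)⟩
theorem tct2e : ∀ k < 2, ∀ i < 4, (ent2 Tt2 Et2 (selR RLt2 It2) Dt2 (nat_lit 3) (nat_lit 4) (nat_lit 4) (nat_lit 4) (nat_lit 2) (nat_lit 15) (nat_lit 0)) k i = 0 := allZ2_sound tct2e_a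
theorem tct2p : ∀ i < 0, (eps2 Tt2 Et2 Jt2 Wt2 RLt2 (nat_lit 3) (nat_lit 4) (nat_lit 4) (nat_lit 2) (nat_lit 0)) i = 0 := allZ_sound0 tct2p_0
theorem tct2 : ct2.OK RT1x 9 := ⟨tct2n, ivT1, tct2r, tct2e, fun i h => tct2p i (lt_of_lt_of_eq h tct2q)⟩
theorem bdt2 : Bound RT1x 2 4 := Bound.step2 (Bound.zero RT1x) tct2 stt2
theorem tct4e : ∀ k < 4, ∀ i < 6, (ent2 Tt4 Et4 (selR RLt4 It4) Dt4 (nat_lit 7) (nat_lit 5) (nat_lit 5) (nat_lit 6) (nat_lit 4) (nat_lit 31) (nat_lit 1)) k i = 0 := allZ2_sound tct4e_a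
theorem tct4p : ∀ i < 1, (eps2 Tt4 Et4 Jt4 Wt4 RLt4 (nat_lit 7) (nat_lit 5) (nat_lit 6) (nat_lit 4) (nat_lit 1)) i = 0 := allZ_sound0 tct4p_0
theorem tct4 : ct4.OK RT1x 9 := ⟨tct4n, ivT1, tct4r, tct4e, fun i h => tct4p i (lt_of_lt_of_eq h tct4q)⟩
theorem bdt4 : Bound RT1x 4 20 := Bound.step2 (bdt2) tct4 stt4
theorem tct8e : ∀ k < 8, ∀ i < 552, (ent2 Tt8 Et8 (selR RLt8 It8) Dt8 (nat_lit 1023) (nat_lit 512) (nat_lit 512) (nat_lit 552) (nat_lit 8) (nat_lit 8191) (nat_lit 2)) k i = 0 := allZ2_sound tct8e_a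
theorem tct8p : ∀ i < 40, (eps2 Tt8 Et8 Jt8 Wt8 RLt8 (nat_lit 1023) (nat_lit 512) (nat_lit 552) (nat_lit 8) (nat_lit 2)) i = 0 := allZ_sound0 tct8p_0
theorem tct8 : ct8.OK RT1x 9 := ⟨tct8n, ivT1, tct8r, tct8e, fun i h => tct8p i (lt_of_lt_of_eq h tct8q)⟩
theorem bdt8 : Bound RT1x 8 10240 := Bound.step2 (bdt4) tct8 stt8
theorem tct9e_0 : ∀ i < 2975, (ent2 Tt9 Et9 (selR RLt9 It9) Dt9 (nat_lit 4095) (nat_lit 1755) (nat_lit 1755) (nat_lit 2975) (nat_lit 9) (nat_lit 32767) (nat_lit 3) (nat_lit 0)) i = 0 := allZ_sound0 tct9e_0_0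
theorem tct9e_1 : ∀ i < 2975, (ent2 Tt9 Et9 (selR RLt9 It9) Dt9 (nat_lit 4095) (nat_lit 1755) (nat_lit 1755) (nat_lit 2975) (nat_lit 9) (nat_lit 32767) (nat_lit 3) (nat_lit 1)) i = 0 := allZ_sound0 tct9e_1_0
theorem tct9e_2 : ∀ i < 2975, (ent2 Tt9 Et9 (selR RLt9 It9) Dt9 (nat_lit 4095) (nat_lit 1755) (nat_lit 1755) (nat_lit 2975) (nat_lit 9) (nat_lit 32767) (nat_lit 3) (nat_lit 2)) i = 0 := allZ_sound0 tct9e_2_0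
theorem tct9e_3 : ∀ i < 2975, (ent2 Tt9 Et9 (selR RLt9 It9) Dt9 (nat_lit 4095) (nat_lit 1755) (nat_lit 1755) (nat_lit 2975) (nat_lit 9) (nat_lit 32767) (nat_lit 3) (nat_lit 3)) i = 0 := allZ_sound0 tct9e_3_0
theorem tct9e_4 : ∀ i < 2975, (ent2 Tt9 Et9 (selR RLt9 It9) Dt9 (nat_lit 4095) (nat_lit 1755) (nat_lit 1755) (nat_lit 2975) (nat_lit 9) (nat_lit 32767) (nat_lit 3) (nat_lit 4)) i = 0 := allZ_sound0 tct9e_4_0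
theorem tct9e_5 : ∀ i < 2975, (ent2 Tt9 Et9 (selR RLt9 It9) Dt9 (nat_lit 4095) (nat_lit 1755) (nat_lit 1755) (nat_lit 2975) (nat_lit 9) (nat_lit 32767) (nat_lit 3) (nat_lit 5)) i = 0 := allZ_sound0 tct9e_5_0
theorem tct9e_6 : ∀ i < 2975, (ent2 Tt9 Et9 (selR RLt9 It9) Dt9 (nat_lit 4095) (nat_lit 1755) (nat_lit 1755) (nat_lit 2975) (nat_lit 9) (nat_lit 32767) (nat_lit 3) (nat_lit 6)) i = 0 := allZ_sound0 tct9e_6_0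
theorem tct9e_7 : ∀ i < 2975, (ent2 Tt9 Et9 (selR RLt9 It9) Dt9 (nat_lit 4095) (nat_lit 1755) (nat_lit 1755) (nat_lit 2975) (nat_lit 9) (nat_lit 32767) (nat_lit 3) (nat_lit 7)) i = 0 := allZ_sound0 tct9e_7_0
theorem tct9e_8 : ∀ i < 2975, (ent2 Tt9 Et9 (selR RLt9 It9) Dt9 (nat_lit 4095) (nat_lit 1755) (nat_lit 1755) (nat_lit 2975) (nat_lit 9) (nat_lit 32767) (nat_lit 3) (nat_lit 8)) i = 0 := allZ_sound0 tct9e_8_0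
theorem tct9e : ∀ k < 9, ∀ i < 2975, (ent2 Tt9 Et9 (selR RLt9 It9) Dt9 (nat_lit 4095) (nat_lit 1755) (nat_lit 1755) (nat_lit 2975) (nat_lit 9) (nat_lit 32767) (nat_lit 3)) k i = 0 :=
  letters_glue (letters_glue (letters_glue (letters_glue (letters_glue (letters_glue (letters_glue (letters_glue (letters_glue (letters_nil) tct9e_0) tct9e_1) tct9e_2) tct9e_3) tct9e_4) tct9e_5) tct9e_6) tct9e_7) tct9e_8
theorem tct9p : ∀ i < 1220, (eps2 Tt9 Et9 Jt9 Wt9 RLt9 (nat_lit 4095) (nat_lit 1755) (nat_lit 2975) (nat_lit 9) (nat_lit 3)) i = 0 := allZ_sound0 tct9p_0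
theorem tct9 : ct9.OK RT1x 9 := ⟨tct9n, ivT1, tct9r, tct9e, fun i h => tct9p i (lt_of_lt_of_eq h tct9q)⟩
theorem bdt9 : Bound RT1x 9 17971200 := Bound.step2 (bdt8) tct9 stt9
theorem tck2e : ∀ k < 9, ∀ i < 1205, (ent2 Tk2 Ek2 (selR RLk2 Ik2) Dk2 (nat_lit 2047) (nat_lit 681) (nat_lit 0) (nat_lit 1205) (nat_lit 9) (nat_lit 16383) (nat_lit 11)) k i = 0 := allZ2_sound tck2e_a
theorem tck2p : ∀ i < 524, (eps2 Tk2 Ek2 Jk2 Wk2 RLk2 (nat_lit 2047) (nat_lit 681) (nat_lit 1205) (nat_lit 9) (nat_lit 11)) i = 0 := allZ_sound0 tck2p_0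
theorem tck2 : ck2.OK RT2x 9 := ⟨tck2n, ivT2, tck2r, tck2e, fun i h => tck2p i (lt_of_lt_of_eq h tck2q)⟩
theorem tck3e : ∀ k < 9, ∀ i < 1113, (ent2 Tk3 Ek3 (selR RLk3 Ik3) Dk3 (nat_lit 2047) (nat_lit 674) (nat_lit 0) (nat_lit 1113) (nat_lit 9) (nat_lit 16383) (nat_lit 5)) k i = 0 := allZ2_sound tck3e_a
theorem tck3p : ∀ i < 439, (eps2 Tk3 Ek3 Jk3 Wk3 RLk3 (nat_lit 2047) (nat_lit 674) (nat_lit 1113) (nat_lit 9) (nat_lit 5)) i = 0 := allZ_sound0 tck3p_0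
theorem tck3 : ck3.OK RT3x 9 := ⟨tck3n, ivT3, tck3r, tck3e, fun i h => tck3p i (lt_of_lt_of_eq h tck3q)⟩
theorem eT : ∀ i < 2048, (eEnt) i = 0 := allZ_sound0 eT_0
theorem thB0_g0 : ∀ i < 1664, (thE0) i = 0 := allZ_sound0 thB0_0
theorem thB0 : ∀ i < 2048, (thE0) i = 0 := range_glue thB0_g0 thB0_1
theorem thB1_g0 : ∀ i < 1664, (thE1) i = 0 := allZ_sound0 thB1_0
theorem thB1 : ∀ i < 2048, (thE1) i = 0 := range_glue thB1_g0 thB1_1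
theorem beT : ∀ i < 2048, (beE) i = 0 := allZ_sound0 beT_0

end H18.NT
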