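import Cfsg.Agent.H18.NTl

/-! The Tits configuration: the case `C(V) = V`. -/

set_option autoImplicit false

namespace H18.NT

open H16 Subgroup H19 H28.NG

variable {G : Type*} [Group G] {g : ℕ → G} {S R X : Subgroup G} {z y a b c d e f j k p q s u v w x : G}

theorem sumL_of {α : Type} {φ : α → ℕ} {L : List α} (h : ∀ a ∈ L, φ a = 0) : sumL φ L = 0 := by
  induction L with
  | nil => rfl
  | cons a L ih =>
    exact Nat.add_eq_zero_iff.2 ⟨h a List.mem_cons_self, ih fun b hb => h b (List.mem_cons_of_mem _ hb)⟩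

theorem nth_map {φ : List ℕ → ℕ} {L : List (List ℕ)} {i : ℕ} (hi : i < L.length) :
    nth 0 (L.map φ) i = φ (nth [] L i) := by
  simp [nth_eq_getD, List.getD_eq_getElem?_getD, hi]

theorem shr_lt {a n : ℕ} (h : Nat.shiftRight a n = 0) : a < 2 ^ n := by
  have : a >>> n = 0 := h
  rw [Nat.shiftRight_eq_div_pow, Nat.div_eq_zero_iff] at this
  exact this.resolve_left (by positivity)

/-- the adjustment of the involution of the second parabolic -/
theorem psi (h : A1 g) (ss : s * s = 1) (br : (hh g 10 * s) ^ 3 = 1) {u : ℕ} (hu : u < 1024)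
    (su : s * hh g 7 * s⁻¹ = el g u) (h9 : ¬ u < 512)
    (c5 : el g u * hh g 5 * (el g u)⁻¹ * (hh g 5)⁻¹ ∈ gen (hh g) 2)
    (c8 : el g u * hh g 8 * (el g u)⁻¹ * (hh g 8)⁻¹ ∈ gen (hh g) 2) :
    ∃ m < 1024, ∃ t < 2, el g m * s * (el g m * s) = 1 ∧ (hh g 10 * (el g m * s)) ^ 3 = 1 ∧
      el g m * s * hh g 7 * (el g m * s) = hh g 9 * el g t := by
  have hR := h.rel
  have hu' : u < 2048 := by omega
  have si := inv_of_sq ss
  have yi := inv_of_sq (yy hR)
  have sh : ∀ k, k < 11 → el g u * hh g k * (el g u)⁻¹ * (hh g k)⁻¹ ∈ gen (hh g) 2 →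
      sh2 u (2 ^ k) = 0 := fun k hk hc => by
    have l : 2 ^ k < 2048 := Nat.pow_lt_pow_right (by decide) hk
    refine xor_eq_zero.2 (h.shift_eq (n := 2) (by decide) (mu_lt _ l) (mu_lt _ hu') ?_)
    rw [el_mu hR _ l, el_mu hR _ hu', el_pow g hk, mul_inv_rev, ← mul_assoc]; exact hc
  have h1 := pT u hu
  unfold pEnt at h1
  simp only [force_eq, ifz_eq] at h1
  rw [if_neg fun e => h9 (shr_lt e), if_pos (show Nat.add (sh2 u 32) (sh2 u 256) = 0 from
    Nat.add_eq_zero_iff.2 ⟨sh 5 (by decide) c5, sh 8 (by decide) c8⟩)] at h1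
  obtain ⟨h1, h2⟩ := Nat.add_eq_zero_iff.1 h1
  obtain ⟨h1, h3⟩ := Nat.add_eq_zero_iff.1 h1
  have cube : ∀ {a : G} {v : ℕ}, v < 2048 → a ^ 4 = 1 → el g v = s * a * s⁻¹ →
      el g (mu v (mu v v)) = s * a⁻¹ * s⁻¹ := fun {a v} hv h4 e => by
    rw [el_mu hR _ (mu_lt _ hv), el_mu hR _ hv, e, inv_eq_of_mul_eq_one_left
      (show a ^ 3 * a = 1 by rw [← pow_succ, h4]), ← conj_pow]
    simp only [pow_succ, pow_zero, one_mul, mul_assoc]
  have a4 : hh g 7 ^ 4 = 1 :=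
    (evA_rep _ _ _).symm.trans (eq_one1 hR (W := List.replicate 4 7) (by decide +kernel))
  have e4 : hh g 9 ^ 4 = 1 :=
    (evA_rep _ _ _).symm.trans (eq_one1 hR (W := List.replicate 4 9) (by decide +kernel))
  have hU := cube hu' a4 su.symm
  generalize mu u (mu u u) = U at hU h2 h3
  have sst : ∀ a : G, s * (s * a * s⁻¹) * s⁻¹ = a := fun a => by
    rw [si, ← mul_assoc, ← mul_assoc, ss, one_mul, mul_assoc, ss, mul_one]
  have hW := ltAll_zero h1
  generalize nth [] EW (pos u) = W at hW h2 h3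
  have e1 := (evI_sound hR (φ := fun k => el g (nth 0 [128, 144, u, U] k)) (fun _ _ => rfl) hW).2
  rw [xor_zero h3, el_pow' g 9] at e1
  obtain ⟨l2, e2⟩ := evI_sound hR (im := [u, U, 128, 144])
    (φ := fun k => (MulAut.conj s).toMonoidHom (el g (nth 0 [128, 144, u, U] k))) (fun k hk => by
      interval_cases k
      · exact (congrArg (fun a => s * a * s⁻¹) (el_pow' g 7 (u := 128))).trans su
      · show s * el g 144 * s⁻¹ = el g U
        rw [hU, el_144 hR, hA hR]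
      · show s * el g u * s⁻¹ = el g 128
        rw [← su, sst, el_pow' g 7]
      · show s * el g U * s⁻¹ = el g 144
        rw [hU, sst, el_144 hR, hA hR]) hW
  rw [← map_evA, ← e1] at e2
  generalize evI [u, U, 128, 144] W = e' at l2 e2 h2
  have hE' := cube l2 e4 e2
  unfold pRel at h2
  rw [force_eq] at h2
  generalize mu e' (mu e' e') = E' at hE' h2
  have hq : ∀ k < 4, (MulAut.conj s).toMonoidHom (q4 g k) = el g (nth 0 [e', E', u, U] k) := by
    intro k hk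
    interval_cases k
    · exact e2.symm
    · show s * hh g 11 * s⁻¹ = el g E'
      rw [hE', hE hR]
    · exact su
    · show s * hh g 12 * s⁻¹ = el g U
      rw [hU, hA hR]
  rw [ifz_eq, if_pos (sumL_of fun r hr => by
    obtain ⟨r1, r2⟩ := rq_eq hR hr
    obtain ⟨r3, r4⟩ := map_q4 hR _ hq r1
    exact h.eq_zero r3 (by rw [r4, r2, map_one])), fl_eq] at h2
  have sv : ∀ v < 1024, homR (TW.map (evI [e', E', u, U])) v < 2048 ∧
      el g (homR (TW.map (evI [e', E', u, U])) v) = s * el g v * s⁻¹ := fun v hv =>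
    homR_sound hR (MulAut.conj s).toMonoidHom fun i _ hb => by
      have hi := testBit_lt (n := 10) hv hb
      rw [nth_map (by exact hi), (map_q4 hR _ hq (tw_lt hi)).2, ← tw_eq hR hi]
  generalize TW.map (evI [e', E', u, U]) = im at sv h2
  unfold pBr at h2
  rw [force_eq] at h2
  obtain ⟨h4, h2⟩ := Nat.add_eq_zero_iff.1 h2
  have yay : hh g 10 * hh g 7 * hh g 10 = (hh g 7)⁻¹ := by
    simpa [hA hR] using eq1 hR (W := [10, 7, 10]) (W' := [12]) (by decide +kernel)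
  have sys : s * hh g 10 * s = hh g 10 * s * hh g 10 := by
    have : hh g 10 * s * hh g 10 * (s * hh g 10 * s) = 1 := by
      rw [← br]; simp only [pow_succ, pow_zero, one_mul, mul_assoc]
    rw [eq_inv_of_mul_eq_one_right this, mul_inv_rev, mul_inv_rev, si, yi, mul_assoc]
  rw [ifz_eq, if_pos (xor_eq_zero.2 (h.inj (sv _ (shr_lt h4)).1 (io_sound hR U).1 (by
    rw [(sv _ (shr_lt h4)).2, (io_sound hR u).2, (io_sound hR U).2, hU, ← su, ← yay, si]
    calc _ = s * hh g 10 * s * hh g 7 * (s * hh g 10 * s) := by group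
      _ = _ := by rw [sys]; group)))] at h2
  unfold pGood at h2
  simp only [force_eq] at h2
  generalize mm (pos u) = m at h2
  generalize tau (pos u) = t at h2
  obtain ⟨h2, h5⟩ := Nat.add_eq_zero_iff.1 h2
  obtain ⟨h2, h6⟩ := Nat.add_eq_zero_iff.1 h2
  obtain ⟨lm, lt⟩ := Nat.add_eq_zero_iff.1 h2
  obtain ⟨ln, ln1⟩ := Nat.add_eq_zero_iff.1 h6
  obtain ⟨h5, h7⟩ := Nat.add_eq_zero_iff.1 h5
  obtain ⟨h5, h8⟩ := Nat.add_eq_zero_iff.1 h5
  have lm' : m < 1024 := shr_lt lm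
  have lm2 : m < 2048 := by omega
  have k1 : el g m * s * (el g m * s) = 1 := by
    have := congrArg (el g) h8
    rw [el_mu hR _ (sv m lm').1, (sv m lm').2, el_zero, si] at this
    rw [← this]; group
  refine ⟨m, lm', t, shr_lt lt, k1, ?_, ?_⟩
  · have a3 := congrArg (el g) h7
    rw [el_mu hR _ (mu_lt _ (io_sound hR _).1), el_mu hR _ (io_sound hR _).1, (io_sound hR _).2,
      (io_sound hR _).2, (io_sound hR _).2, (sv _ (shr_lt ln1)).2, (io_sound hR _).2,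
      (sv _ (shr_lt ln)).2, (io_sound hR _).2, el_zero] at a3
    rw [show hh g 10 * (el g m * s) = hh g 10 * el g m * (hh g 10)⁻¹ * (hh g 10 * s) by group,
      NT.cube, br, mul_one, ← a3, mul_inv_rev, yi]
    group
  · have := congrArg (el g) (xor_zero h5)
    rw [el_mu hR _ hu', el_mu hR _ (mu_lt _ lm2), el_mu hR _ lm2, el_pow' g 9 (u := 512), ← su] at this
    rw [← inv_of_sq k1]
    nth_rewrite 1 [inv_of_sq k1]
    calc _ = el g m * (s * hh g 7 * s⁻¹) * (el g m)⁻¹ := by group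
      _ = _ := by rw [this]; group

variable [Finite G]

/-- the centralizer of `t` in characteristic two -/
theorem AM.cent_t (h : AM g) (hyp : Hyp G) (syl : Syl 2 (gen (hh g) 11) ⊤)
    (cz : C[hh g 0] ≤ gen g 5) : C[hh g 2] ≤ P2 g := by
  have hR := h.rel
  have m0 : hh g 0 ∈ gen (hh g) 11 := mem_gen _ (by decide)
  have m1 : hh g 1 ∈ gen (hh g) 11 := mem_gen _ (by decide)
  have rt : rho g ∈ C[hh g 2] := mem_cent1.2 h.rho_t
  have zt : hh g 0 ∈ C[hh g 2] := mem_cent1.2 (z_cent hR (hh_mem g (by decide))).symm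
  have z1t : hh g 1 ∈ C[hh g 2] :=
    mem_cent1.2 (V_comm hR (mem_gen _ (by decide)) (mem_gen _ (by decide)))
  have zS : hh g 0 ∈ C(gen (hh g) 11) := mem_cent.2 fun a ha => z_cent hR (S_le g ha)
  have fin : ∀ {c : G} {i : ℕ}, c * hh g 0 * c⁻¹ = rho g ^ i * hh g 0 * (rho g ^ i)⁻¹ →
      (rho g ^ i)⁻¹ * c ∈ gen g 5 := fun {c i} e => cz (cent_of_conj (by
    rw [show (rho g ^ i)⁻¹ * c * hh g 0 * ((rho g ^ i)⁻¹ * c)⁻¹ =
      (rho g ^ i)⁻¹ * (c * hh g 0 * c⁻¹) * rho g ^ i by group, e]; group))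
  have hT : Syl 2 (gen (hh g) 11 ⊓ C[hh g 2]) C[hh g 2] := by
    by_contra hn
    obtain ⟨U, h1, h2, h3, h4⟩ := (syl.pi.infl C[hh g 2]).exists_lt_norm inf_le_right hn
    obtain ⟨c, hc, hn⟩ := SetLike.exists_of_lt h1
    have w1 := conj_mem_of_norm (h4 hc) (show hh g 0 ∈ _ from ⟨m0, zt⟩)
    have w2 := conj_mem_of_norm (norm_le_norm_cent _ (h4 hc)) (cent_mono inf_le_left zS)
    obtain ⟨a1, a2⟩ := h.zline cz w1.1 (isConj_iff.2 ⟨c, rfl⟩) (mem_cent.1 w2 _ ⟨m1, z1t⟩).symm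
    obtain ⟨i, e⟩ := a2 (mem_cent.1 w2 _
      (mem_inf.2 ⟨a1, mul_mem (mul_mem rt (mem_inf.1 w1).2) (inv_mem rt)⟩)).symm
    have a3 := h.ct (mem_cent1.1 (h3 hc)) (fin e)
    have a4 : (rho g ^ i)⁻¹ * c ∈ gen (hh g) 11 ⊓ C[hh g 2] :=
      mem_inf.2 ⟨a3, mul_mem (inv_mem (pow_mem rt i)) (h3 hc)⟩
    have a5 : rho g ^ i ∈ U := inv_mem_iff.1 ((mul_mem_cancel_right hc).1 (h1.le a4))
    have a6 : rho g ^ i = 1 := orderOf_eq_one_iff.1 (Nat.eq_one_of_dvd_coprimes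
      (h2.coprime (n := 3) (PiN.of_not_dvd (by decide))) (orderOf_dvd_card' a5)
      (orderOf_dvd_of_pow_eq_one (by rw [← pow_mul, mul_comm, pow_mul, h.rho3, one_pow])))
    rw [a6, inv_one, one_mul] at a4
    exact hn a4
  have hN : N(zpowers (hh g 2)) = C[hh g 2] :=
    le_antisymm (norm_zp2 (tt hR)) (cent1_le_norm_zpowers _)
  have ch := hyp.chr _ (ne_bot_of_mem (mem_zpowers _) h.toA1.t_ne) (pg_of_sq (tt hR))
  rw [hN] at ch
  have hO := Oc_le_hall hT
  have z0 : hh g 0 ∈ Z(Oc {2} C[hh g 2]) :=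
    ⟨ch ⟨zt, cent_mono (hO.trans inf_le_left) zS⟩, cent_mono (hO.trans inf_le_left) zS⟩
  have n := (Oc_norm {2} C[hh g 2]).trans (norm_le_norm_center _)
  intro c hc
  have w1 := conj_mem_of_norm (n hc) z0
  have w2 : hh g 1 ∈ Z(Oc {2} C[hh g 2]) := by
    have := conj_mem_of_norm' (n rt) z0
    rwa [← h.rho_z1, show ∀ a b : G, a⁻¹ * (a * b * a⁻¹) * a = b by intros; group] at this
  obtain ⟨-, a2⟩ := h.zline cz (hO w1.1).1 (isConj_iff.2 ⟨c, rfl⟩) (mem_cent.1 w1.2 _ w2.1).symm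
  obtain ⟨i, e⟩ := a2 (mem_cent.1 w1.2 _ (conj_mem_of_norm (n rt) w1).1).symm
  exact h.ct2 (mem_cent1.1 hc) (fin e)

theorem Fy.S_eq (h : Fy S z y f j e x) (hK : ∀ k ∈ C(Vz z y), k ∈ C[f] → k ∈ zpowers z) (s : G) :
    gen (hh (lt6 e f x s)) 11 = S := le_antisymm (h.S_le s) fun a ha => by
  obtain ⟨p, hp, k, h1, h2, rfl⟩ := h.Sdec s ha
  exact mul_mem hp (gen_mono _ (by decide) ((h.V_eq s).ge (T3.Z_le z y (hK k h1 h2))))

theorem Fy.caseA (h : Fy S z y f j e x) (hK : ∀ k ∈ C(Vz z y), k ∈ C[f] → k ∈ zpowers z) :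
    Nonempty (G ≃* gen H15.Tits.g 6) := by
  obtain ⟨_, h'⟩ := h.toT3.sw
  have q1 := h.toFr.xQ h.xQ 1
  have qq := sq_conj h.toFx.xx (f ^ 1)
  have qy := h.toFr.xk h.xV' h.xQ h.xV (m := 1) (by decide)
  obtain ⟨r, r1, r2, r3, r4, r5⟩ := h.toB0.rho (h.toB0.Q_le q1) qq qy
  obtain ⟨s, ss, br, sz, sy⟩ : ∃ s : G, s * s = 1 ∧ (cf f x 1 * s) ^ 3 = 1 ∧ s * z * s⁻¹ = y ∧
      s * y * s⁻¹ = z := by
    have qz := conj_of_cent (Qz_le z q1)
    have qi := h.toFx.xm 1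
    change cf f x 1 * cf f x 1 = 1 at qq
    generalize cf f x 1 = q at *
    refine ⟨q * r, ?_, by rw [← mul_assoc, qq, one_mul, r2], ?_, ?_⟩
    · rw [show q * r * (q * r) = q * r * q⁻¹ * r by rw [qi]; group, r3, inv_mul_cancel]
    · rw [show q * r * z * (q * r)⁻¹ = q * (r * z * r⁻¹) * q⁻¹ by group, r4,
        show q * (z * y) * q⁻¹ = q * z * q⁻¹ * (q * y * q⁻¹) by group, qz, qy, h.toB0.zzy]
    · rw [show q * r * y * (q * r)⁻¹ = q * (r * y * r⁻¹) * q⁻¹ by group, r5, qz]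
  have a1 := h.a1 s
  have hR := a1.rel
  have aQ := h.toFx.hQ s (i := 7) (by decide) (by decide) (by decide)
  have sQ : ∀ {a : G}, a ∈ Qz z → s * a * s⁻¹ ∈ Qz y := fun ha => by
    rw [← sz, ← cj_Qz]; exact conj_mem_cj.2 ha
  have ay : hh (lt6 e f x s) 7 ∈ C[y] := by
    have := eq1 hR (W := [1, 7]) (W' := [7, 1]) (by decide +kernel)
    simp only [evA_cons, evA_nil, one_mul, h.h1] at this
    exact mem_cent1.2 this
  have a'y := Qz_le y (sQ aQ)
  obtain ⟨u, hu, eu⟩ := exists_elS hR ((h.S_eq hK s).ge (h.toB0.Q2_le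
    (by rw [← sy, ← cj_cent1]; exact conj_mem_cj.2 ay) a'y))
  have hu' : u < 1024 := (by decide +kernel : ∀ u < 2048, com u 2 = 0 → u < 1024) u hu
    ((a1.com_iff hu (by decide)).2 (by
      rw [el_pow' _ 1 (u := 2), h.h1, ← eu]; exact mem_cent1.1 a'y))
  have y2 : zpowers y ≤ gen (hh (lt6 e f x s)) 2 :=
    zpowers_le.2 (h.h1 s ▸ mem_gen _ (by decide))
  obtain ⟨m, hm, t, ht, k1, k2, k3⟩ := psi a1 ss (by rw [h10]; exact br) hu' eu (fun h9 => by
      have h1 := pT u hu'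
      unfold pEnt at h1
      rw [force_eq, ifz_eq, if_pos (show Nat.shiftRight u 9 = 0 from
        Nat.shiftRight_eq_zero _ _ h9)] at h1
      have h2 := sQ (h.elQ s ((by decide +kernel : ∀ v < 256, Nat.land v 768 = 0) _ (shr_lt h1)))
      rw [el_mu hR _ hu, ← eu, show ∀ a : G, s * (s * a * s⁻¹ * (s * a * s⁻¹)) * s⁻¹ =
        s * s * (a * a) * (s * s)⁻¹ by intros; group, ss, one_mul, inv_one, mul_one,
        ← el_pow' _ 7 (u := 128), ← el_mu hR _ (by decide)] at h2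
      have h3 := h'.toB0.VQ h2 h.toFx.eeV
      rw [← h8 e f x s, ← el_pow' _ 8 (u := 256)] at h3
      have h4 := mul_inv_eq_iff_eq_mul.1 (mul_inv_eq_iff_eq_mul.1
        (rfl : el (lt6 e f x s) (mu 128 128) * el (lt6 e f x s) 256 *
          (el (lt6 e f x s) (mu 128 128))⁻¹ * (el (lt6 e f x s) 256)⁻¹ = _))
      rcases (zp2 h.y_sq).1 h3 with e1 | e1 <;> rw [e1] at h4
      · rw [one_mul] at h4
        exact absurd ((a1.com_iff (by decide +kernel) (by decide)).2 h4) (by decide +kernel)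
      · rw [← h.h1 s, ← el_pow' _ 1 (u := 2), ← el_mu hR 2 (by decide),
          ← el_mu hR (mu 2 256) (by decide +kernel)] at h4
        exact absurd (a1.mu_eq (by decide) (by decide +kernel) h4) (by decide +kernel))
    (by rw [← eu, h5]; exact y2 (h'.toB0.VQ (sQ aQ) h.xV'))
    (by rw [← eu, h8]; exact y2 (h'.toB0.VQ (sQ aQ) h.toFx.eeV))
  have tZ : el (lt6 e f x s) t ∈ zpowers z := by
    interval_cases t
    · rw [el_zero]; exact one_mem _
    · rw [el_pow' _ 0, h.h0]; exact mem_zpowers z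
  rw [h10] at k2
  rw [h7, h9] at k3
  generalize el (lt6 e f x s) m * s = s' at k1 k2 k3
  have h2 := h.mulZ tZ
  generalize e * el (lt6 e f x s) t = e' at k3 h2
  have am : AM (lt6 e' f x s') :=
    ⟨h2.a1 s', by rw [h15, k1], by rw [h10, h15, k2], by rw [h15, h7, h9, k3]⟩
  have sy2 : Syl 2 (gen (hh (lt6 e' f x s')) 11) ⊤ := by rw [h2.S_eq hK]; exact h.syl
  have cz : C[hh (lt6 e' f x s') 0] ≤ gen (lt6 e' f x s') 5 := fun p hp => by
    rw [h2.h0] at hp
    obtain ⟨k, -, a, ha, rfl⟩ := h.dec p hp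
    have := hh_mem (lt6 e' f x s') (by decide : 13 < 15)
    rw [h13] at this
    exact mul_mem (pow_mem this k) (NT.S_le _ ((h2.S_eq hK s').ge ha))
  exact AD.equiv ⟨am, sy2, cz, am.cent_t h.toHyp sy2 cz⟩

end H18.NT
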