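import Cfsg.Agent.H18.NTn
import Cfsg.Agent.S1241

/-! The Tits configuration: the case `C(V) ≠ V` and the recognition theorem. -/

set_option autoImplicit false

namespace H18.NT

open H16 Subgroup H19 H28.NG

variable {G : Type*} [Group G] {g : ℕ → G} {S R X : Subgroup G}
  {z y a b c d e f j k p q s u v w x x' : G}

theorem theta (hR : Rels g R1) {U : List (List ℕ)} {im : List ℕ}
    (hU : ∀ k < 5, u * g k * u⁻¹ = evA (hh g) (nth [] U k))
    (hc : ∀ i < 11, eq1c (subW U (nth [] Ws i)) (wdN (nth 0 im i) 11) = 0) (q : ℕ) :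
    homR im q < 2048 ∧ el g (homR im q) = u * el g q * u⁻¹ :=
  homR_sound hR (MulAut.conj u).toMonoidHom fun i hi _ => by
    rw [← eq_el hR (hc i hi), evA_subW]
    exact (map_evA g _ _).trans (evA_congr _ fun k hk =>
      hU k (ltAll_zero (allZ_sound0 W0lt.2.2.2 i (by omega)) k hk))

/-- the properties of the tables of the outer automorphism -/
def Th (im : List ℕ) : Prop := ∀ q < 2048, mu q (homR im q) ≠ 1 ∧
  ¬ (mu q (homR im q) = 0 ∧ mu q (homR im 32) = mu 32 q ∧ mu q (homR im 256) = mu 256 q)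

theorem th0 : Th imt0 := by unfold Th; decide +kernel
theorem th1 : Th imt1 := by unfold Th; decide +kernel

theorem cls_conj (hR : Rels g R1) {q i : ℕ} (hq : q < 2048) (h0 : q ≠ 0) (h2 : mu q q = 0)
    (hi : nth [] RW (cls q) = [i]) : ∃ p ∈ gen g 5, el g q = p * hh g i * p⁻¹ := by
  obtain ⟨-, p, hp, e⟩ := inv_cls hR hq h0 h2
  exact ⟨p, hp, by rw [e, hi]; simp⟩

variable [Finite G]

theorem T3.CC (h : Fx S z y f j e x) (h1 : c ∈ C(Vz z y)) (h2 : d ∈ C(Vz z y)) (h3 : c ∉ Vz z y)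
    (h4 : d ∉ Vz z y) : c * d ∈ Vz z y := by
  obtain ⟨v, hv, a1⟩ := h.toFr.decC h1
  obtain ⟨w, hw, a2⟩ := h.toFr.decC h2
  have := T3.Z_le z y (h.kk (mul_mem (comm_iff_le_cent.1 h.ab hv) h1) a1
    (fun hc => h3 ((mul_mem_cancel_left hv).1 (T3.Z_le z y hc)))
    (mul_mem (comm_iff_le_cent.1 h.ab hw) h2) a2
    (fun hc => h4 ((mul_mem_cancel_left hw).1 (T3.Z_le z y hc))))
  rw [mul_assoc, ← mul_assoc c, ← mem_cent.1 h1 w hw, mul_assoc] at this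
  exact (mul_mem_cancel_left hw).1 ((mul_mem_cancel_left hv).1 this)

theorem Fx.pt (h : Fx S z y f j e x) (hp : p ∈ C[z]) (hS : p ∉ S) :
    ∃ k, k % 5 ≠ 0 ∧ p * y * p⁻¹ * (cf f y k)⁻¹ ∈ zpowers z := by
  obtain ⟨k, hk, a, ha, rfl⟩ := h.dec p hp
  refine ⟨k, fun e0 => hS (by rw [show k = 0 by omega, pow_zero, one_mul]; exact ha), ?_⟩
  rw [show f ^ k * a * y * (f ^ k * a)⁻¹ * (cf f y k)⁻¹ = f ^ k * (a * y * a⁻¹ * y⁻¹) * (f ^ k)⁻¹ by
    unfold cf; group]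
  refine conj_mem_of_norm (cent1_le_norm_zpowers z (pow_mem h.fP k)) ?_
  rcases h.toB0.conj_y ha with e1 | e1 <;> rw [e1] <;> simp

theorem Fx.pt' (h : Fx S z y f j e x) (hp : p ∈ C[z]) (hy : p * y * p⁻¹ ∈ Vz y z) : p ∈ S := by
  by_contra hS
  obtain ⟨_, h'⟩ := h.toT3.sw
  obtain ⟨k, hk, h1⟩ := h.pt hp hS
  exact h.toFr.xy h.xV' h.xQ h.xV hk (mem_cent1.2 (h'.vc h.xV' (inv_mem_iff.1
    ((mul_mem_cancel_left hy).1 (T3.Z'_le y z h1)))))

theorem Fx.far (h : Fx S z y f j e x) (hp : p ∈ C[z]) (hS : p ∉ S) (hd : d ∈ Vz y z)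
    (hc : d ∈ C[p * y * p⁻¹]) : d ∈ Vz z y := by
  obtain ⟨_, h'⟩ := h.toT3.sw
  by_cases hQ : d ∈ Qz z
  · by_contra hV
    obtain ⟨k, hk, h1⟩ := h.pt hp hS
    exact h.toFr.xy hd hQ hV hk (mem_cent1_symm.1 (inv_mem_iff.1 ((mul_mem_cancel_left
      (mem_cent1_symm.1 hc)).1 (zpowers_le.2 (mem_cent1_symm.1 (h'.Vy hd)) h1))))
  · exact absurd (h.pt' hp (h.toT3.Y1 hd hQ (conj_mem_of_norm (Vz_norm z y hp) (y_mem_Vz z y))
      (by rw [conj_of_cent hc, mul_inv_cancel]; exact one_mem _))) hS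

namespace Fy

theorem exV (h : Fy S z y f j e x) (s : G) (hv : v ∈ Vz z y) : ∃ q < 32, v = el (lt6 e f x s) q :=
  exists_el (h.rel s) (n := 5) (by decide) ((h.V_eq s).ge hv)

theorem com_iff (h : Fy S z y f j e x) (s : G) {q : ℕ} (hq : q < 2048) (k : ℕ)
    (hk : k < 11 := by decide) : com q (2 ^ k) = 0 ↔ el (lt6 e f x s) q ∈ C[hh (lt6 e f x s) k] := by
  rw [(h.a1 s).com_iff hq (Nat.pow_lt_pow_right (by decide) hk : 2 ^ k < 2 ^ 11), el_pow _ hk,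
    mem_cent1]

theorem CVS (h : Fy S z y f j e x) (s : G) (hc : c ∈ C(Vz z y)) (hp : c ∈ gen (lt6 e f x s) 5) :
    c ∈ Vz z y := by
  obtain ⟨q, hq, rfl⟩ := exists_elS (h.rel s) (h.mem_S s (h.toT3.CV_S hc) hp)
  have key := fun k (hk : k < 5) => (h.com_iff s hq k (by omega)).2
    (cent_le_cent1 (h.hV s (mem_gen _ hk)) hc)
  exact h.hV s (el_mem _ ((by decide +kernel : ∀ q < 2048, com q (2 ^ 1) = 0 → com q (2 ^ 2) = 0 →
    com q (2 ^ 3) = 0 → com q (2 ^ 4) = 0 → q < 2 ^ 5) q hq (key 1 (by decide)) (key 2 (by decide))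
    (key 3 (by decide)) (key 4 (by decide))))

theorem tV' (h : Fy S z y f j e x) (s : G) : hh (lt6 e f x s) 2 ∈ Vz y z := by
  refine h.toT3.Y1 h.toFx.eeV h.toFx.eeQ (h.hV s (mem_gen _ (by decide))) ?_
  have := eq1 (h.rel s) (W := [2, 8]) (W' := [8, 2]) (by decide +kernel)
  simp only [evA_cons, evA_nil, one_mul, h8] at this
  rw [this]; simp

theorem not_t (h : Fy S z y f j e x) (s : G) : ¬ IsConj z (hh (lt6 e f x s) 2) := fun hc => by
  obtain ⟨_, h'⟩ := h.toT3.sw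
  obtain ⟨r, -, r2, -, r4, r5⟩ := h.toB0.rho (h.toB0.Q_le (h.toFr.xQ h.xQ 1))
    (sq_conj h.toFx.xx (f ^ 1)) (h.toFr.xk h.xV' h.xQ h.xV (m := 1) (by decide))
  have h1 := card_modEq Nat.prime_three r2 (X := Vz z y ⊓ Vz y z) (mem_norm_of_le_cj fun v hv => by
    rw [cj_inf, cj_Vz, cj_Vz, r4, r5, Vz_third]
    exact ⟨h.toT3.Y5 hv.1 hv.2, hv.1⟩)
  have h2 : ∀ v ∈ Vz z y ⊓ Vz y z, ∃ q < 8, v = el (lt6 e f x s) q := fun v hv => by
    obtain ⟨q, hq, rfl⟩ := h.exV s hv.1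
    exact ⟨q, (by decide +kernel : ∀ q < 32, com q (2 ^ 8) = 0 → q < 8) q hq
      ((h.com_iff s (by omega) 8).2 (by rw [h8]; exact mem_cent1.2 (h'.vc hv.2 h.toFx.eeV))), rfl⟩
  have h3 : #(Vz z y ⊓ Vz y z) = 8 := le_antisymm ((card_le fun v hv => by
    obtain ⟨q, hq, rfl⟩ := h2 v hv
    exact el_mem _ (n := 3) hq).trans ((h.a1 s).card_gen (n := 3) (by decide)).le) h.toT3.Y8
  obtain ⟨t, ht, t1⟩ := exists_ne_one (H := Vz z y ⊓ Vz y z ⊓ C[r]) fun e0 => by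
    rw [h3, e0, card_bot] at h1; exact absurd h1 (by decide)
  obtain ⟨q, hq, rfl⟩ := h2 t ht.1
  have h4 : IsConj z (el (lt6 e f x s) q) := by
    have q0 : q ≠ 0 := fun e0 => t1 (by rw [e0, el_zero])
    obtain ⟨a1, i, hi, a2⟩ := (by decide +kernel : ∀ q < 8, q ≠ 0 → mu q q = 0 ∧
      ∃ i < 3, nth [] RW (cls q) = [i]) q hq q0
    obtain ⟨p, -, a3⟩ := cls_conj (h.rel s) (by omega) q0 a1 a2
    refine IsConj.trans ?_ (isConj_iff.2 ⟨p, a3.symm⟩)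
    interval_cases i
    · rw [h.h0]
    · rw [h.h1]; exact (isConj_iff.2 ⟨r, r5⟩).symm
    · exact hc
  obtain ⟨c, e1⟩ := isConj_iff.1 h4
  have h5 : r ∈ cj c C[z] := by rw [cj_cent1, e1]; exact mem_cent1_symm.1 ht.2
  have h6 := orderOf_dvd_card' h5
  rw [card_cj, h.cardC, orderOf_of_pow Nat.prime_three r2 fun e0 =>
    h.toB0.zy_ne_z (by rw [← r4, e0]; simp)] at h6
  exact absurd (h.syl.pi.mem Nat.prime_three
    ((Nat.Coprime.dvd_of_dvd_mul_left (by decide) h6))) (by decide)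

theorem not_cls (h : Fy S z y f j e x) (s : G) {q : ℕ} (hq : q < 32) (h2 : cls q = 2) (h0 : q ≠ 0) :
    ¬ IsConj z (el (lt6 e f x s) q) := fun hc => by
  obtain ⟨p, -, a3⟩ := cls_conj (h.rel s) (by omega) h0
    ((by decide +kernel : ∀ q < 32, mu q q = 0) q hq) (i := 2) (by rw [h2]; decide +kernel)
  exact h.not_t s (hc.trans (isConj_iff.2 ⟨p, a3.symm⟩).symm)

theorem not_x (h : Fy S z y f j e x) : ¬ IsConj z x := fun hc => by
  obtain ⟨_, h'⟩ := h.toT3.sw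
  obtain ⟨s, -, e1, e2⟩ := h.toB0.swap
  have a1 := conj_mem_cj (g := s).2 h.xV'
  have a2 := conj_mem_cj (g := s).2 h.xQ
  have a3 := mt (conj_mem_cj (g := s)).1 h.xV
  rw [cj_Vz, e1, e2] at a1 a3
  rw [cj_Qz, e1] at a2
  obtain ⟨q, hq, e3⟩ := h.exV s a1
  have a4 := inv_mem (h'.toB0.VQ a2 h.xV')
  rw [show ∀ a : G, (a * x * a⁻¹ * x⁻¹)⁻¹ = x * a * x⁻¹ * a⁻¹ by intros; group] at a4
  have a5 := mem_cent1_symm.1 (cent_of_conj (mul_inv_eq_one.1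
    (h.toB0.zp_inf (h.toB0.VQ h.xQ a1) a4)))
  obtain ⟨b1, b2⟩ := (by decide +kernel : ∀ q < 32, com q (2 ^ 5) = 0 → com q (2 ^ 8) ≠ 0 →
    cls q = 2 ∧ q ≠ 0) q hq ((h.com_iff s (by omega) 5).2 (by rwa [h5, ← e3])) fun hc => a3
      (h.toT3.Y1 h.toFx.eeV h.toFx.eeQ a1 (by
        have := (h.com_iff s (by omega) 8).1 hc
        rw [h8, ← e3] at this
        rw [conj_of_cent (mem_cent1_symm.1 this), mul_inv_cancel]; exact one_mem _))
  exact h.not_cls s hq b1 b2 (e3 ▸ hc.trans (isConj_iff.2 ⟨s, rfl⟩))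

section
variable (h : Fy S z y f j e x) (uC : u ∈ C(Vz z y)) (uf : u ∈ C[f]) (uZ : u ∉ zpowers z)
include h uC uf uZ

theorem u_not (s : G) : u ∉ gen (lt6 e f x s) 5 := fun hc => uZ (h.toFr.mZ (h.CVS s uC hc) uf)

theorem exth (s : G) : ∃ im, Th im ∧ ∀ q, homR im q < 2048 ∧
    el (lt6 e f x s) (homR im q) = u * el (lt6 e f x s) q * u⁻¹ := by
  obtain ⟨_, h'⟩ := h.toT3.sw
  have hR := h.rel s
  have ez := h.z_cent h.eS
  have h1 : u * (e * u⁻¹ * e⁻¹) ∈ zpowers z := by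
    refine h.toFx.kk uC uf uZ (conj_mem_of_norm (norms_cent (Vz_norm z y) ez) (inv_mem uC)) ?_
      fun hc => uZ ?_
    · rw [← cent_zpowers] at uf ⊢
      refine conj_mem_of_norm (norm_le_norm_cent _ (mem_norm_of_cj_le ?_)) (inv_mem uf)
      rw [cj_zpowers, h.ef]; exact zpowers_le.2 (pow_mem (mem_zpowers f) 2)
    · simpa [mul_assoc] using inv_mem (conj_mem_of_norm' (cent1_le_norm_zpowers z ez) hc)
  have key : ∀ {U : List (List ℕ)}, u * e * u⁻¹ = evA (hh (lt6 e f x s)) (nth [] U 0) →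
      u * e⁻¹ * u⁻¹ = evA (hh (lt6 e f x s)) (nth [] U 1) → nth [] U 2 = [13] → nth [] U 3 = [14] →
      nth [] U 4 = [1, 5] → ∀ k < 5,
      u * lt6 e f x s k * u⁻¹ = evA (hh (lt6 e f x s)) (nth [] U k) := fun a0 a1 a2 a3 a4 k hk => by
    interval_cases k
    · exact a0
    · exact a1
    · rw [a2]
      show u * f * u⁻¹ = 1 * hh _ 13
      rw [one_mul, h13, conj_of_cent uf]
    · rw [a3]
      show u * f⁻¹ * u⁻¹ = 1 * hh _ 14
      rw [one_mul, hF hR, h13, ← conj_inv, conj_of_cent uf]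
    · rw [a4]
      simp only [evA_cons, evA_nil, one_mul, h5, h.h1]
      rw [h'.vc h.xV' (z_mem_Vz y z)]
      exact eq_mul_of_mul_inv_eq (h.toFx.kx uC uf uZ)
  rcases (zp2 h.z_sq).1 h1 with e1 | e1
  · have e2 : u * e * u⁻¹ = e := mul_inv_eq_one.1 (by rw [← e1]; group)
    refine ⟨imt0, th0, theta hR (U := Ut0) (key (by simpa [Ut0, h9] using e2) ?_ rfl rfl rfl)
      fun i hi => (Nat.add_eq_zero_iff.1 (allZ_sound0 thA0 i hi)).2⟩
    show _ = 1 * hh _ 11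
    rw [one_mul, hE hR, h9, ← conj_inv, e2]
  · have e2 : u * e * u⁻¹ = e * z := by rw [mem_cent1.1 ez, ← e1]; group
    refine ⟨imt1, th1, theta hR (U := Ut1) (key (by simpa [Ut1, h9, h.h0] using e2) ?_ rfl rfl rfl)
      fun i hi => (Nat.add_eq_zero_iff.1 (allZ_sound0 thA1 i hi)).2⟩
    show _ = 1 * hh _ 11 * hh _ 0
    rw [one_mul, hE hR, h9, h.h0, ← conj_inv, e2, mem_cent1.1 ez, mul_inv_rev, inv_of_sq h.z_sq]

theorem two (s : G) (ha : a ∈ S) :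
    a ∈ gen (hh (lt6 e f x s)) 11 ∨ ∃ q < 2048, a = el (lt6 e f x s) q * u := by
  obtain ⟨p, hp, k, h1, h2, rfl⟩ := h.Sdec s ha
  have zS : zpowers z ≤ gen (hh (lt6 e f x s)) 11 :=
    (T3.Z_le z y).trans ((h.V_eq s).ge.trans (gen_mono _ (by decide)))
  by_cases hk : k ∈ zpowers z
  · exact Or.inl (mul_mem hp (zS hk))
  · obtain ⟨q, hq, e1⟩ := exists_elS (h.rel s) (mul_mem hp (zS (h.toFx.kk h1 h2 hk (inv_mem uC)
      (inv_mem uf) fun hc => uZ (inv_mem_iff.1 hc))))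
    exact Or.inr ⟨q, hq, by rw [← e1]; group⟩

theorem uu : u * u = z := by
  refine ((zp2 h.z_sq).1 (h.toFx.cc uC)).resolve_left fun e0 => ?_
  obtain ⟨_, h'⟩ := h.toT3.sw
  obtain ⟨s, -, e1, e2⟩ := h.toB0.swap
  have a1 := conj_mem_cj (g := s).2 uC
  have a3 := mt (conj_mem_cj (g := s)).1 fun hc => uZ (h.toFr.mZ hc uf)
  rw [cj_cent, cj_Vz, e1, e2] at a1
  rw [cj_Vz, e1, e2] at a3
  have a2 := sq_conj e0 s
  generalize s * u * s⁻¹ = b at a1 a2 a3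
  have hR := h.rel s
  rcases h.two uC uf uZ s (h.toB0.Q2_le (cent_le_cent1 (y_mem_Vz y z) a1)
    (cent_le_cent1 (z_mem_Vz y z) a1)) with h1 | ⟨q, hq, rfl⟩
  · obtain ⟨q, hq, rfl⟩ := exists_elS hR h1
    have h2 := (by decide +kernel : ∀ q < 2048, mu q q = 0 → com q (2 ^ 2) = 0 → com q (2 ^ 5) = 0 →
      com q (2 ^ 8) = 0 → Nat.land q 1752 = 0) q hq
      ((h.a1 s).mu_eq hq (by decide) (by rw [a2, el_zero]))
      ((h.com_iff s hq 2).2 (cent_le_cent1 (h.tV' s) a1))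
      ((h.com_iff s hq 5).2 (by rw [h5]; exact cent_le_cent1 h.xV' a1))
      ((h.com_iff s hq 8).2 (by rw [h8]; exact cent_le_cent1 h.toFx.eeV a1))
    refine a3 (elN_mem fun i hi hb => ?_)
    rcases (by decide : ∀ i < 11, Nat.testBit 1752 i = false → i = 0 ∨ i = 1 ∨ i = 2 ∨ i = 5 ∨ i = 8)
      i hi (land_bit h2 hb) with rfl | rfl | rfl | rfl | rfl
    · rw [h.h0]; exact y_mem_Vz y z
    · rw [h.h1]; exact z_mem_Vz y z
    · exact h.tV' s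
    · rw [h5]; exact h.xV'
    · rw [h8]; exact h.toFx.eeV
  · obtain ⟨im, t1, t2⟩ := h.exth uC uf uZ s
    have key : ∀ v < 2048, el (lt6 e f x s) v ∈ Vz y z → mu q (homR im v) = mu v q :=
      fun v hv hV => (h.a1 s).mu_eq (t2 v).1 (mu_lt _ hq) (by
        rw [(t2 v).2, el_mu hR _ hq, ← mul_assoc, ← mul_assoc, ← mem_cent.1 a1 _ hV]; group)
    refine (t1 q hq).2 ⟨(h.a1 s).mu_eq (t2 q).1 (by decide) ?_,
      key 32 (by decide) (by rw [el_pow' _ 5, h5]; exact h.xV'),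
      key 256 (by decide) (by rw [el_pow' _ 8, h8]; exact h.toFx.eeV)⟩
    rw [(t2 q).2, el_zero, ← a2, inv_of_sq e0]; group

theorem invS (s : G) (ha : a ∈ S) (h2 : a * a = 1) : a ∈ gen (hh (lt6 e f x s)) 11 := by
  refine (h.two uC uf uZ s ha).resolve_right ?_
  rintro ⟨q, hq, rfl⟩
  obtain ⟨im, t1, t2⟩ := h.exth uC uf uZ s
  refine (t1 q hq).1 ((h.a1 s).mu_eq (t2 q).1 (by decide) ?_)
  rw [(t2 q).2, el_pow' _ 0 (u := 1), h.h0, ← inv_of_sq h.z_sq, ← h.uu uC uf uZ, ← one_mul (u * u)⁻¹, ← h2]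
  group

theorem transfer [IsSimpleGroup G] (s : G) :
    ∃ a, ∃ b ∈ C(Vz z y), b * b = z ∧ a * b * a⁻¹ ∈ gen (hh (lt6 e f x s)) 11 := by
  by_contra hc
  have uu := h.uu uC uf uZ
  have uS := h.toT3.CV_S uC
  have un : u ∉ gen (hh (lt6 e f x s)) 11 := fun hc => h.u_not uC uf uZ s (NT.S_le _ hc)
  have zS : zpowers z ≤ gen (hh (lt6 e f x s)) 11 :=
    (T3.Z_le z y).trans ((h.V_eq s).ge.trans (gen_mono _ (by decide)))
  have i2 : ((gen (hh (lt6 e f x s)) 11).subgroupOf S).index = 2 :=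
    relIndex_eq_two_iff_exists_notMem_and.2 ⟨u, uS, un, fun b hb => by
      rcases h.two uC uf uZ s hb with h1 | ⟨q, -, rfl⟩
      · exact Or.inr h1
      · exact Or.inl (by rw [mul_assoc, uu]; exact mul_mem (el_memS _ q) (zS (mem_zpowers z)))⟩
  have mm : ∀ {a b : G}, a ∈ S → b ∈ S → (a * b ∈ gen (hh (lt6 e f x s)) 11 ↔
      (a ∈ gen (hh (lt6 e f x s)) 11 ↔ b ∈ gen (hh (lt6 e f x s)) 11)) := fun ha hb =>
    mul_mem_iff_of_index_two i2 (a := ⟨_, ha⟩) (b := ⟨_, hb⟩)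
  haveI : Fact (Nat.Prime 2) := ⟨Nat.prime_two⟩
  refine Cfsg.Agent.S1241.result (p := 2) S _ (h.S_le s) (normal_of_index_eq_two i2)
    (fun a ha b hb => ?_) ?_ u uS un ?_ (fun m a ha => ?_) ?_
  · rw [mm (mul_mem (mul_mem ha hb) (inv_mem ha)) (inv_mem hb), mm (mul_mem ha hb) (inv_mem ha),
      mm ha hb, inv_mem_iff, inv_mem_iff]
    tauto
  · rw [← relIndex_top_right]; exact (h.syl.idx.coprime_prime Nat.prime_two).symm
  · exact ((h.syl.pi.dvd (orderOf_dvd_card' uS)).exists_pow (orderOf_pos u).ne')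
  · have hm : ∀ n : ℤ, u ^ (2 * n) ∈ zpowers z := fun n => by
      rw [zpow_mul, zpow_two, uu]; exact zpow_mem (mem_zpowers z) n
    rw [mm ha (inv_mem (zpow_mem uS m)), inv_mem_iff]
    rcases Int.even_or_odd' m with ⟨n, rfl | rfl⟩
    · refine iff_of_true (h.invS uC uf uZ s ha (sq_conj ?_ a)) (zS (hm n))
      rcases (zp2 h.z_sq).1 (hm n) with e1 | e1 <;> rw [e1]
      exacts [mul_one 1, h.z_sq]
    · refine iff_of_false (fun h1 => hc ⟨a, _, zpow_mem uC _, ?_, h1⟩) fun h1 => un ?_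
      · rw [zpow_add, zpow_one]
        rcases (zp2 h.z_sq).1 (hm n) with e1 | e1 <;> rw [e1]
        · rw [one_mul, uu]
        · rw [← uu, show u * u * u * (u * u * u) = u * u * (u * u) * (u * u) by group, uu, h.z_sq,
            one_mul]
      · rwa [zpow_add, zpow_one, mul_mem_cancel_left (zS (hm n))] at h1
  · rcases (inferInstance : (commutator G).Normal).eq_bot_or_eq_top with e1 | e1
    · have h1 := commutator_mem_commutator (mem_top e) (mem_top f)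
      rw [← _root_.commutator_def, e1, mem_bot, commutatorElement_def, h.ef] at h1
      exact absurd (by rwa [pow_two, mul_inv_cancel_right] at h1) h.f1
    · rw [e1]; exact mem_top u

theorem fuse [IsSimpleGroup G] (s : G) : ∃ a, ∃ b ∈ C(Vz z y), b * b = z ∧
    j * (a * z * a⁻¹) ∈ zpowers z ∧ a * b * a⁻¹ ∈ gen (lt6 e f x s) 5 := by
  obtain ⟨a, b, h1, h2, h3⟩ := h.transfer uC uf uZ s
  have hR := h.rel s
  have sq : ∀ a : G, a * b * a⁻¹ * (a * b * a⁻¹) = a * z * a⁻¹ := fun a => by rw [← h2]; group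
  obtain ⟨v, hv, e1⟩ := exists_elS hR (sq a ▸ mul_mem h3 h3)
  obtain ⟨l, p, hp, e2⟩ := inv_cls hR hv (fun e0 => h.z_ne (by
    rwa [e0, el_zero, conj_eq_one_iff] at e1))
    ((h.a1 s).mu_eq hv (by decide) (by rw [← e1, sq_conj h.z_sq, el_zero]))
  have h4 : p⁻¹ * a * b * (p⁻¹ * a)⁻¹ ∈ gen (lt6 e f x s) 5 := by
    convert mul_mem (mul_mem (inv_mem hp) (NT.S_le _ h3)) hp using 1; group
  have e3 : p⁻¹ * a * z * (p⁻¹ * a)⁻¹ = evA (hh (lt6 e f x s)) (nth [] RW (cls v)) := by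
    rw [show p⁻¹ * a * z * (p⁻¹ * a)⁻¹ = p⁻¹ * (a * z * a⁻¹) * p by group, e1, e2]; group
  generalize p⁻¹ * a = c at h4 e3
  generalize cls v = i at l e3
  have r : ∀ j < 5, nth [] RW j = [[0, 1, 2, 5, 8].getD j 0] := by decide +kernel
  interval_cases i
  · rw [r 0 (by decide)] at e3
    have e4 : c * z * c⁻¹ = z := by simpa [h.h0] using e3
    have := h.toT3.vsq (h.CVS s (conj_mem_of_norm (norms_cent (Vz_norm z y) (cent_of_conj e4)) h1) h4)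
    rw [sq, e4] at this
    exact absurd this h.z_ne
  · rw [r 1 (by decide)] at e3
    have e4 : c * z * c⁻¹ = y := by simpa [h.h1] using e3
    obtain ⟨s', -, e5, e6⟩ := h.toB0.swap
    have h5' : c * b * c⁻¹ ∈ C(Vz y z) := by
      have := conj_mem_cj (g := s').2 (conj_mem_of_norm (norms_cent (Vz_norm z y)
        (cent_of_conj (g := s'⁻¹ * c) (by
          rw [show s'⁻¹ * c * z * (s'⁻¹ * c)⁻¹ = s'⁻¹ * (c * z * c⁻¹) * s' by group, e4, ← e5]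
          group))) h1)
      rw [cj_cent, cj_Vz, e5, e6] at this
      convert this using 1; group
    obtain ⟨q, hq, e7⟩ := exists_elS hR (h.mem_S s (h.toB0.Q2_le (cent_le_cent1 (y_mem_Vz y z) h5')
      (cent_le_cent1 (z_mem_Vz y z) h5')) h4)
    rw [e7] at h5'
    exact absurd ((h.a1 s).mu_eq hq (by decide) (by rw [← e7, sq, e4, el_pow' _ 1 (u := 2), h.h1]))
      ((by decide +kernel : ∀ q < 2048, com q (2 ^ 2) = 0 → com q (2 ^ 5) = 0 →
        com q (2 ^ 8) = 0 → mu q q ≠ 2) q hq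
      ((h.com_iff s hq 2).2 (cent_le_cent1 (h.tV' s) h5'))
      ((h.com_iff s hq 5).2 (by rw [h5]; exact cent_le_cent1 h.xV' h5'))
      ((h.com_iff s hq 8).2 (by rw [h8]; exact cent_le_cent1 h.toFx.eeV h5')))
  · rw [r 2 (by decide)] at e3
    exact absurd (isConj_iff.2 ⟨c, by simpa using e3⟩) (h.not_t s)
  · rw [r 3 (by decide)] at e3
    exact absurd (isConj_iff.2 ⟨c, by simpa [h5] using e3⟩) h.not_x
  · rw [r 4 (by decide)] at e3
    exact ⟨c, b, h1, h2, by rw [e3]; simpa [h8] using h.toFx.eeZ, h4⟩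
  · rw [show nth [] RW 5 = [0, 8] by decide +kernel] at e3
    refine ⟨c, b, h1, h2, ?_, h4⟩
    rw [e3]
    simpa [h8, h.h0, mul_assoc] using mul_mem h.toFx.eeZ (mem_zpowers z)

theorem caseB [IsSimpleGroup G] : False := by
  obtain ⟨_, h'⟩ := h.toT3.sw
  obtain ⟨s, -, e1, e2⟩ := h.toB0.swap
  obtain ⟨x', g2⟩ := (h.toFr.mulK (h.toT3.CV_le uC) uf).fy
  obtain ⟨a, b, b1, b2, b3, b4⟩ := h.fuse uC uf uZ s
  obtain ⟨c, d, d1, d2, d3, d4⟩ := g2.fuse uC uf uZ s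
  have hR := h.rel s
  have wV : ∀ {w : G}, j * w ∈ zpowers z → w ∈ Vz y z ∧ w ∉ Qz z := fun hw =>
    ⟨(mul_mem_cancel_left h.jV).1 (T3.Z'_le y z hw), fun hc => h.jQ
      ((mul_mem_cancel_right hc).1 (zpowers_le.2 h.toB0.z_mem_Q hw))⟩
  have a1 := conj_mem_cj (g := s).2 (wV b3).1
  have a2 := mt (conj_mem_cj (g := s)).1 (wV b3).2
  rw [cj_Vz, e1, e2] at a1
  rw [cj_Qz, e1] at a2
  obtain ⟨v, hv, e3⟩ := h.exV s a1
  have a3 : el (lt6 e f x s) v ∉ C[x] := fun hc => a2 (h.toT3.Cx h.xV' h.xV a1 (e3 ▸ hc))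
  obtain ⟨v0, v1, v2⟩ := (by decide +kernel : ∀ v < 32, com v (2 ^ 5) ≠ 0 → (v ≠ 0 ∧ mu v v = 0) ∧
    (cls v = 2 ∨ nth [] RW (cls v) = [1]) ∧ (cls v = 2 ∨ mu 2 v < 32 ∧ cls (mu 2 v) = 2 ∧ mu 2 v ≠ 0))
    v hv fun hc => a3 (by simpa only [h5] using (h.com_iff s (by omega) 5).1 hc)
  have a4 : cls v ≠ 2 := fun hc => h.not_cls s hv hc v0.1
    (e3 ▸ (isConj_iff.2 ⟨a, rfl⟩).trans (isConj_iff.2 ⟨s, rfl⟩))
  have a5 : c * z * c⁻¹ = a * z * a⁻¹ := by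
    have := mul_mem (inv_mem b3) d3
    rw [show (j * (a * z * a⁻¹))⁻¹ * (j * (c * z * c⁻¹)) = (a * z * a⁻¹)⁻¹ * (c * z * c⁻¹) by group]
      at this
    rcases (zp2 h.z_sq).1 this with e4 | e4
    · exact (inv_mul_eq_one.1 e4).symm
    · obtain ⟨l1, l2, l3⟩ := v2.resolve_left a4
      refine absurd ((isConj_iff.2 ⟨c, rfl⟩).trans (isConj_iff.2 ⟨s, ?_⟩)) (h.not_cls s l1 l2 l3)
      rw [el_mu hR _ (by omega), el_pow' _ 1 (u := 2), h.h1, ← e3, eq_mul_of_inv_mul_eq e4,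
        h.toT3.vc (y_mem_Vz z y) a1, ← e1]
      group
  obtain ⟨p, hp, e4⟩ := cls_conj hR (by omega) v0.1 v0.2 (v1.resolve_left a4)
  rw [h.h1] at e4
  have pz := h.P_le s hp
  have n := Vz_norm z y
  have c1 : a⁻¹ * c ∈ C[z] := cent_of_conj (by
    rw [show a⁻¹ * c * z * (a⁻¹ * c)⁻¹ = a⁻¹ * (c * z * c⁻¹) * a by group, a5]; group)
  have nV : ∀ {b : G}, b * b = z → b ∉ Vz z y := fun e0 hc => h.z_ne (e0.symm.trans (h.toT3.vsq hc))
  have c2 := T3.CC h.toFx (inv_mem b1) (conj_mem_of_norm (norms_cent n c1) d1)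
    (fun hc => nV b2 (inv_mem_iff.1 hc)) (nV (by
      rw [← conj_of_cent c1, ← d2]; group))
  have c3 : s⁻¹ * (p⁻¹ * s * a) ∈ C[z] := cent_of_conj (by
    rw [show s⁻¹ * (p⁻¹ * s * a) * z * (s⁻¹ * (p⁻¹ * s * a))⁻¹ =
      s⁻¹ * (p⁻¹ * (s * (a * z * a⁻¹) * s⁻¹) * p) * s by group, e3, e4, ← e1]; group)
  have c4 := conj_mem_cj (g := s).2 (conj_mem_of_norm (n c3) c2)
  rw [cj_Vz, e1, e2, show s * (s⁻¹ * (p⁻¹ * s * a) * (b⁻¹ * (a⁻¹ * c * d * (a⁻¹ * c)⁻¹)) *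
    (s⁻¹ * (p⁻¹ * s * a))⁻¹) * s⁻¹ = p⁻¹ * (s * ((a * b * a⁻¹)⁻¹ * (c * d * c⁻¹)) * s⁻¹) * p by group]
    at c4
  have c5 := mul_mem (inv_mem (h.P_le s b4)) (g2.P_le s d4)
  have c6 := conj_mem_of_norm (n pz) (h.toFx.far (inv_mem pz) (fun hc => a3 (by
    rw [e4]
    exact mem_cent1.2 (h'.vc (Ln_le_Vz y z (Ln_comm z y ▸ conj_mem_of_norm (h.norm (inv_mem_iff.1 hc))
      (y_mem_Ln z y))) h.xV'))) c4 (by
    have := conj_mem_cj (g := p⁻¹).2 (conj_mem_cj (g := s).2 c5)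
    rw [cj_cent1, cj_cent1, e1] at this
    simpa only [inv_inv] using this))
  have c7 : (a * b * a⁻¹)⁻¹ * (c * d * c⁻¹) ∈ Vz y z := by
    rw [← conj_mem_cj (g := s), cj_Vz, e1, e2]
    convert c6 using 1; group
  have V5 : Vz y z ≤ gen (lt6 e f x s) 5 := (h.V'_le s).trans ((gen_mono _ (by decide)).trans (NT.S_le _))
  have c8 := (mul_mem_cancel_left (inv_mem b4)).1 (V5 c7)
  have sq : c * d * c⁻¹ * (c * d * c⁻¹) = c * z * c⁻¹ := by rw [← d2]; group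
  have c9 : c * d * c⁻¹ ∈ S := h.toFx.pt' (g2.P_le s d4) (h.toT3.Y1 (wV d3).1 (wV d3).2
    (conj_mem_of_norm (n (g2.P_le s d4)) (y_mem_Vz z y)) (by
      have w1 := conj_of_cent (mem_cent1.2 (h'.vc (wV d3).1 (z_mem_Vz y z)))
      rw [← sq] at w1 ⊢
      generalize c * d * c⁻¹ = r at w1
      rw [show r * r * (r * y * r⁻¹) * (r * r)⁻¹ = r * (r * r * y * (r * r)⁻¹) * r⁻¹ by group, w1,
        mul_inv_cancel]
      exact one_mem _))
  obtain ⟨q, hq, e5⟩ := exists_elS (g2.rel s) (g2.mem_S s c9 d4)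
  have k1 : ∀ i < 11, i ≠ 9 → hh (lt6 (e * u) f x' s) i ∈ gen (lt6 e f x s) 5 := fun i hi h9 => by
    by_cases h8' : i = 8
    · rw [h8', h8]; exact V5 g2.toFx.eeV
    have f5 := mem_gen (lt6 e f x s) (by decide : 2 < 5)
    refine evA_mem _ fun k hk => ?_
    obtain ⟨l1, l2⟩ := (by decide +kernel : ∀ i < 11, i ≠ 8 → i ≠ 9 → ∀ k ∈ nth [] Ws i,
      2 ≤ k ∧ k ≤ 4) i hi h8' h9 k hk
    interval_cases k
    exacts [f5, inv_mem f5, V5 g2.xV']
  have k2 : gen (hh (lt6 (e * u) f x' s)) 9 ≤ gen (lt6 e f x s) 5 :=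
    gen_le.2 fun i hi => k1 i (by omega) (by omega)
  have k3 : mu q q = 256 ∨ mu q q = 257 := by
    have := mul_mem (inv_mem g2.toFx.eeZ) d3
    rw [show ∀ a : G, (j * a)⁻¹ * (j * (c * z * c⁻¹)) = a⁻¹ * (c * z * c⁻¹) by intros; group, ← sq,
      e5, ← h8 _ f x' s] at this
    refine ((zp2 h.z_sq).1 this).imp (fun e6 => (g2.a1 s).mu_eq hq (by decide) ?_)
      fun e6 => (g2.a1 s).mu_eq hq (by decide) ?_
    · rw [el_pow' _ 8 (u := 256)]; exact (inv_mul_eq_one.1 e6).symm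
    · rw [eq_mul_of_inv_mul_eq e6, show 257 = T 8 1 by decide +kernel,
        ← tab (g2.rel s) (by decide) (by decide), el_pow' _ 0 (u := 1), g2.h0]
  have k4 : hh (lt6 (e * u) f x' s) 9 ∈ gen (lt6 e f x s) 5 := by
    rw [e5] at c8
    rcases (by decide +kernel : ∀ q < 2048, mu q q = 256 ∨ mu q q = 257 →
      q >>> 9 = 512 >>> 9 ∨ q >>> 9 = T 10 512 >>> 9) q hq k3 with e6 | e6 <;>
      have k5 := inv_mem_iff.1 ((mul_mem_cancel_right c8).1 (k2 (shift_mem _ (by decide) e6)))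
    · rwa [el_pow' _ 9 (u := 512)] at k5
    · rwa [← tab (g2.rel s) (by decide) (by decide), el_pow' _ 9 (u := 512),
        mul_mem_cancel_left (k1 10 (by decide) (by decide))] at k5
  rw [h9] at k4
  exact h.u_not uC uf uZ s ((mul_mem_cancel_left (mem_gen (lt6 e f x s) (by decide : 0 < 5))).1 k4)

end

end Fy

/-- **Recognition of the Tits group** from the end configuration of the N-group analysis. -/
theorem tits [IsSimpleGroup G] (h : CfT S z y) : Nonempty (G ≃* gen H15.Tits.g 6) := by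
  obtain ⟨j, hj, hjQ⟩ := (T3.of h).exj
  obtain ⟨f, e, fr⟩ := (T3.of h).fr hj hjQ
  obtain ⟨x, fy⟩ := fr.fy
  refine fy.caseA fun k h1 h2 => ?_
  by_contra h3
  exact fy.caseB h1 h2 h3

end H18.NT
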