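import Cfsg.Agent.H18.NTo
import Cfsg.Agent.H27.Triangle
import Cfsg.Prelude.Def_Exceptional

/-! The Tits model: order, simplicity and a subgroup `A₅`. -/

set_option autoImplicit false

namespace H18.NT
open H16

theorem tits_chk : fixL H15.Tits.P 6 H15.Tits.B [0, 0, 0, 0] = 0 ∧
    fixL H15.Tits.P 6 H15.Tits.B [4, 5, 4, 5, 4, 5] = 0 ∧
    fixL H15.Tits.P 6 H15.Tits.B [4, 5, 0, 0, 4, 5, 0, 0, 4, 5, 0, 0, 4, 5, 0, 0, 4, 5, 0, 0] = 0 ∧
    (ltAll 6 [0, 0] = 0 ∧ 4 < 1755 ∧ apW H15.Tits.P [0, 0] 4 ≠ 4) := by decide +kernel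

/-- the Tits model contains `A₅` -/
theorem tits_a5 : ∃ φ : alternatingGroup (Fin 5) →* gen H15.Tits.g 6, Function.Injective φ := by
  obtain ⟨h1, h2, h3, h4⟩ := tits_chk
  have e1 := fixL_eq_one H15.Tits.act H15.Tits.Blt H15.Tits.isBase h1
  have e2 := fixL_eq_one H15.Tits.act H15.Tits.Blt H15.Tits.isBase h2
  have e3 := fixL_eq_one H15.Tits.act H15.Tits.Blt H15.Tits.isBase h3
  have e4 := H15.Tits.act.ne_one (ptF_inj 1755) h4
  simp only [evA_cons, evA_nil, one_mul] at e1 e2 e3 e4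
  generalize H15.Tits.g = g at e1 e2 e3 e4 ⊢
  let a : gen g 6 := ⟨g 0 * g 0, mul_mem (mem_gen g (by decide)) (mem_gen g (by decide))⟩
  let b : gen g 6 := ⟨g 5 * g 4, mul_mem (mem_gen g (by decide)) (mem_gen g (by decide))⟩
  obtain ⟨φ, ha, -⟩ := H27.exists_hom_A5 (a := a) (b := b)
    (Subtype.ext (Eq.trans (by
      simp only [a, pow_succ, pow_zero, one_mul, mul_assoc, Subgroup.coe_mul]) e1))
    (Subtype.ext (Eq.trans (by
      simp only [b, pow_succ, pow_zero, one_mul, mul_assoc, Subgroup.coe_mul]) e2))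
    (Subtype.ext (Eq.trans (by
      simp only [a, b, pow_succ, pow_zero, one_mul, mul_assoc, Subgroup.coe_mul]) e3))
  refine ⟨φ, (MonoidHom.ker_eq_bot_iff φ).1 ?_⟩
  rcases (MonoidHom.normal_ker φ).eq_bot_or_eq_top with h | h
  · exact h
  · exfalso
    have : φ H27.a5a = 1 := (MonoidHom.mem_ker).1 (h ▸ Subgroup.mem_top _)
    rw [ha] at this
    exact e4 (Subtype.ext_iff.1 this)

/-- a group isomorphic to the Tits model has a proper non-solvable subgroup -/
theorem tits_sub {G : Type*} [Group G] (e : G ≃* gen H15.Tits.g 6) :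
    ∃ H : Subgroup G, H ≠ ⊤ ∧ ¬ Group.IsSolvable H := by
  obtain ⟨φ, hφ⟩ := tits_a5
  let ψ := e.symm.toMonoidHom.comp φ
  have hψ : Function.Injective ψ := e.symm.injective.comp hφ
  have e' := MonoidHom.ofInjective hψ
  refine ⟨ψ.range, fun h => ?_, fun h => ?_⟩
  · have c1 : Nat.card ψ.range = 60 := (Nat.card_congr e'.toEquiv).symm.trans H27.card_A5
    rw [h, Subgroup.card_top, Nat.card_congr e.toEquiv, H15.Tits.card] at c1
    omega
  · haveI := h
    haveI : Group.IsSolvable (alternatingGroup (Fin 5)) :=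
      Group.isSolvable_of_isSolvable_injective (f := e'.toMonoidHom) e'.injective
    have := IsSimpleGroup.comm_iff_isSolvable (G := alternatingGroup (Fin 5)) |>.2 inferInstance
    revert this
    decide +kernel

theorem tits_isTits {G : Type*} [Group G] (e : G ≃* gen H15.Tits.g 6) : Cfsg.IsTits G :=
  haveI := H15.Tits.simple
  ⟨e.isSimpleGroup, (Nat.card_congr e.toEquiv).trans H15.Tits.card⟩

end H18.NT
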