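import Cfsg.Agent.H1.PA0
import Cfsg.Agent.H15.MX4

/-! S2198: the calculus of the two code words. -/

set_option autoImplicit false
set_option linter.unusedSectionVars false

namespace H18.PR
open Cfsg H15 H19 H0 H0.Mo H0.Y H15.ML H15.MX H1.PA Subgroup Function
open scoped commutatorElement symmDiff Pointwise

/-- the pattern of an even vector -/
def Pt (v : Lam) (D : Finset GolayPt) : Prop := ∀ i, cf v i % 4 = if i ∈ D then 2 else 0

section
variable {v w : Lam} {C C' D D' : Finset GolayPt}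

theorem ex_pt {i : GolayPt} (h : 2 ∣ cf v i) : ∃ D ∈ cw, Pt v D := by
  obtain ⟨m, c, l⟩ := mem_leech.1 v.2
  have a : cf v i % 4 = _ := l.res i
  have := l.par
  obtain rfl : m = 0 := by split_ifs at a <;> omega
  exact ⟨c, l.cw, fun j => (l.res j).trans (zero_add _)⟩

theorem Pt.cw (h : Pt v D) : D ∈ cw := by
  obtain ⟨c, a, b⟩ := ex_pt (v := v) (i := none) (by have := h none; split_ifs at this <;> omega)
  convert a
  ext i
  have := (h i).symm.trans (b i)
  split_ifs at this <;> simp_all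

theorem Pt.add (h : Pt v D) (k : Pt w D') : Pt (v + w) (D ∆ D') := fun i => by
  have a := h i
  have b := k i
  change (cf v i + cf w i) % 4 = _
  simp only [Finset.mem_symmDiff]
  by_cases c : i ∈ D <;> by_cases d : i ∈ D' <;> simp only [c, d, if_true, if_false, not_true, not_false_iff, and_self, or_self,
    and_true, and_false, or_false, or_true] at a b ⊢ <;> omega

theorem Pt.sgn (h : Pt v D) (hC : C ∈ H15.cw) : Pt (sgn hC • v) D := fun i => by
  have a := h i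
  rw [cf_sgn]
  split_ifs at a ⊢ <;> omega

theorem Pt.prm (h : Pt v D) (σ : M24) : Pt (prmH σ • v) (σ.1 • D) := fun i =>
  (congrArg (· % 4) (cf_prm' σ.2 v i)).trans ((h _).trans (if_congr (Finset.inv_smul_mem_iff (a := σ.1) (b := i)) rfl rfl))

theorem Pt.ev (h : Pt v D) (t : Tr D) : Ev v := t.imp (by rintro rfl i; simpa using h i) (by rintro rfl i; simpa using h i)

theorem pt_uo (hC : C ∈ cw) (j : GolayPt) : Pt (sgn hC • uo j + uo j) Cᶜ := fun i => by
  change (cf (sgn hC • uo j) i + cf (uo j) i) % 4 = _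
  rw [cf_sgn, cf_uo]
  by_cases a : i ∈ C <;> by_cases b : i = j <;> simp [a, b]
  all_goals simp [← b, a]

theorem half {y : GolayPt → ℤ} (h : Cg v 0 ∨ Cg v lE) (e : ∀ i, cf v i = 2 * y i) (k : ∀ i, y i % 4 = if i ∈ D then 2 else 0) :
    D ∈ cw := by
  rcases h with ⟨u, h⟩ | ⟨u, h⟩ <;> refine Pt.cw (v := u) fun i => ?_
  · have : cf v i - 0 = 2 • cf u i := congrFun (congrArg cf h) i
    rw [two_nsmul, e] at this
    rw [← k]; omega
  · have : cf v i - cf lE i = 2 • cf u i := congrFun (congrArg cf h) i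
    rw [two_nsmul, e, cf_e8, Pi.single_apply] at this
    rw [← k]; split_ifs at this <;> omega

theorem sgn_cen (hC : C ∈ cw) : sgn hC ∈ center Co0 ↔ Tr C := by
  refine ⟨fun k => (H15.mem_center_iff.1 k).imp (fun e => Finset.eq_empty_of_forall_notMem fun i a => ?_)
    fun e => Finset.eq_univ_of_forall fun i => by_contra fun a => ?_, ?_⟩
  · simpa [e, a, cf_e8] using cf_sgn hC (e8 i 1) i
  · have k2 := cf_sgn hC (e8 i 1) i
    rw [e, coN_smul] at k2
    change -cf (e8 i 1) i = _ at k2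
    simp [a, cf_e8] at k2
  · rintro (rfl | rfl)
    exacts [sgn_empty ▸ one_mem _, coN_mem_center]

theorem mono_sgn {σ : Equiv.Perm GolayPt} (hσ : σ ∈ M24) (hk : D ∈ cw) (hC : C ∈ cw) :
    mono hσ hk * sgn hC * (mono hσ hk)⁻¹ = sgn ((smul_mem_cw_iff hσ).2 hC) := by
  rw [mono_eq ⟨σ, hσ⟩, mul_inv_rev, ← mul_assoc, mul_assoc (sgn hk), mul_assoc (sgn hk), prm_sgn ⟨σ, hσ⟩,
    EE_comm ⟨D, hk, rfl⟩ ⟨_, _, rfl⟩, mul_inv_cancel_right]

theorem tr_compl (h : Tr (C ∆ D)) : Tr (D ∆ Cᶜ) := by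
  refine h.symm.imp (fun e => Finset.eq_empty_of_forall_notMem fun i => ?_) fun e => Finset.eq_univ_of_forall fun i => ?_ <;>
    have := Finset.ext_iff.1 e i <;> simp only [Finset.mem_symmDiff, Finset.mem_compl, Finset.mem_univ, Finset.notMem_empty] at * <;> tauto
end

section
variable {G : Type} [Group G] [Finite G] {z s : G} {f : C[z] →* Spor.Co1} {R : G → Lam → Prop}
  (h : MG z) (M : MT (Qo z) z f R) (r : R s lE)
include h M r

theorem ex_o (j : GolayPt) : ∃ o, R o (uo j) ∧ o * s * o⁻¹ = s * z := by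
  obtain ⟨p, rp⟩ := M.sur (uo j)
  have L := (bs0 h M r).2
  refine ⟨p, rp, M.le.es.conj_eq (M.mem rp) L.tQ fun t => ?_⟩
  have := (M.comm_iff L rp r).1 t
  rw [dotInt_comm, dot_e8, cf_uo] at this
  split_ifs at this <;> omega

theorem cg_of {x y c : G} {v : Lam} (a : R x v) (hy : y ∈ zpowers s) (hc : c ∈ zpowers z) (e : x * y = c) : Cg v 0 ∨ Cg v lE := by
  rcases (bs0 h M r).2.r.es.mem_zp.1 hy with rfl | rfl
  · exact .inl ((M.rk a).1 (mul_one x ▸ e ▸ hc))
  · exact .inr (Cg.add_zero.1 ((M.rk (M.mul a r)).1 (e ▸ hc)))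
end

theorem cdk : CDK := fun G _ _ z s f R h M r => by
  obtain ⟨b, L⟩ := bs0 h M r
  have zc : ∀ {c x}, c ∈ zpowers z → x ∈ C[z] → x * c = c * x := fun hc hx =>
    mem_cent1.1 (cent1_le_cent1_of_mem_zpowers hc hx)
  refine ⟨fun a ha => ?_, ?_, ⟨cw_empty, cw_empty, z, 1, 0, M.zero (mem_zpowers z) (.refl 0), one_mem _,
    .one (sgn_empty ▸ one_mem _), (mul_one z).symm, fun i => rfl⟩, ?_, ?_, ?_, ?_, ?_, ?_, ?_, ?_, fun x hx => ?_⟩
  · obtain ⟨q, hq, p, hp, rfl⟩ := (mem_sup_of_norm (le_sup_left.trans (L.R_le.trans L.cent_norm_P))).1 (by rw [sup_comm]; exact ha)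
    obtain ⟨g, a⟩ := A.tot (f := f) hp.2
    obtain ⟨C, hC, rfl⟩ := (M.img_EE L r).le (mem_img.2 ⟨p, hp, a⟩)
    obtain ⟨v, c⟩ := M.tot q hq.1
    have := (M.comm_iff L c r).1 (mem_cent1.1 hq.2)
    rw [dotInt_comm, dot_e8] at this
    obtain ⟨D, d, e⟩ := ex_pt (v := v) (i := pt 23) (by omega)
    exact ⟨C, D, d, hC, q, p, v, c, hp.1, a, rfl, e⟩
  · rintro _ _ C D C' D' ⟨d, c, q, p, v, a1, a2, a3, rfl, a4⟩ ⟨d', c', q', p', v', b1, b2, b3, rfl, b4⟩
    exact ⟨cw_symmDiff d d', _, _, p * p', _, M.mul a1 (M.act a3 b1), mul_mem a2 b2, sgn_mul c c' ▸ a3.mul b3, by group,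
      Pt.add a4 (Pt.sgn b4 c)⟩
  · rintro c σ k hσ hk c1 c2 _ C D ⟨d, hC, q, p, v, a1, a2, a3, rfl, a4⟩
    refine ⟨(smul_mem_cw_iff hσ).2 d, (smul_mem_cw_iff hσ).2 hC, _, c * p * c⁻¹, _, M.act c2 a1, conj_mem_of_norm (L.r.norm c1) a2,
      mono_sgn hσ hk hC ▸ (c2.mul a3).mul c2.inv, by group, ?_⟩
    rw [mono_eq ⟨σ, hσ⟩, mul_smul]; exact (Pt.prm a4 ⟨σ, hσ⟩).sgn hk
  · rintro _ C D ⟨-, hC, q, p, v, a1, -, a3, rfl, -⟩ t
    exact mul_mem (M.mem a1) ((M.aker a3).2 ((sgn_cen hC).2 t))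
  · rintro _ C D ⟨-, hC, q, p, v, a1, a2, -, rfl, a4⟩ t
    exact mul_mem (inA h M r a1 (evT h M r (Pt.ev a4 t))).2 a2
  · rintro _ C D ⟨-, hC, q, p, v, a1, a2, a3, rfl, a4⟩ t
    obtain ⟨o, ro, e⟩ := ex_o h M r none
    have := mul_mem (inf_le_mul h (.refl z) b L.tQ L.ne (inA h M r (M.mul a1 (M.comm a3 ro))
      (evT h M r ((Pt.add a4 (pt_uo hC _)).ev (tr_compl t))))) (e ▸ Qo_conj a2 o)
    rwa [show q * ⁅p, o⁆ * (o * p * o⁻¹) = q * p by rw [commutatorElement_def]; group] at this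
  · rintro C D ⟨-, hC, q, p, v, a1, a2, a3, e, a4⟩
    obtain rfl := eq_inv_of_mul_eq_one_left e.symm
    refine ⟨(sgn_cen hC).1 ((M.aker a3).1 (inv_mem_iff.1 (M.mem a1))), ?_⟩
    have k : ∀ i j, i ∈ D → j ∈ D := fun i j c => by_contra fun d => by
      obtain ⟨x, c1, c2⟩ := evT h M r (v := ML.dd i j) (.inl fun p => by rw [cf_dd]; split_ifs <;> rfl)
      have := (M.comm_iff L c2 a1).1 (mul_comm_of_comm L.abelem_E.1 c1 (mem_inf.2 ⟨M.mem a1, inv_mem a2⟩))
      change 16 ∣ dotInt (Pi.single i 4 + Pi.single j 4) _ at this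
      rw [H15.dotInt_add_left, dotInt_single_left, dotInt_single_left] at this
      have e1 := a4 i
      have e2 := a4 j
      rw [if_pos c] at e1
      rw [if_neg d] at e2
      omega
    exact D.eq_empty_or_nonempty.imp_right fun ⟨i, c⟩ => Finset.eq_univ_of_forall fun j => k i j c
  · rintro _ C D ⟨d, hC, q, p, v, a1, a2, a3, rfl, a4⟩ e
    have := half (D := D \ C) (y := fun i => if i ∈ C then 0 else cf v i)
      (cg_of h M r (M.mul a1 (M.act a3 a1)) (L.r.es.sq_mem a2) e (by group)) (fun i => by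
        change cf v i + cf (sgn hC • v) i = _
        rw [cf_sgn]; split_ifs <;> omega) fun i => by
        have := a4 i
        by_cases c : i ∈ C <;> simp [c, this]
    convert cw_symmDiff d this using 1
    ext i; simp only [Finset.mem_symmDiff, Finset.mem_inter, Finset.mem_sdiff]; tauto
  · rintro _ _ C D C' D' ⟨d, hC, q, p, v, a1, a2, a3, rfl, a4⟩ ⟨d', hC', q', p', v', b1, b2, b3, rfl, b4⟩ e
    have c1 := M.mul (M.mul (M.inv (M.act b3 a1)) (M.inv b1)) (M.mul a1 (M.act a3 b1))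
    have c2 := zc e (M.le.es.le_cent (M.mem (M.mul b1 (M.act b3 a1))))
    have := half (D := (D \ C') ∆ (D' \ C)) (y := fun i => (if i ∈ C' then 0 else cf v i) + if i ∈ C then 0 else cf v' i)
      (cg_of h M r c1 (L.r.es.comm_mem a2 b2) e (by
        rw [← mul_inv_rev, mul_assoc, inv_mul_eq_iff_eq_mul, c2]; simp only [commutatorElement_def]; group)) (fun i => by
        change cf (sgn hC' • v) i + cf v' i + (cf v i + cf (sgn hC • v') i) = _
        rw [cf_sgn, cf_sgn]; split_ifs <;> omega) fun i => by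
        have e1 := a4 i
        have e2 := b4 i
        by_cases c : i ∈ C <;> by_cases c' : i ∈ C' <;> by_cases k : i ∈ D <;> by_cases k' : i ∈ D' <;>
          simp [c, c', k, k', Finset.mem_symmDiff] at e1 e2 ⊢ <;> omega
    convert cw_symmDiff (cw_symmDiff d d') this using 1
    ext i; simp only [Finset.mem_symmDiff, Finset.mem_inter, Finset.mem_sdiff]; tauto
  · intro a C hC a1 t e
    obtain ⟨j, hj⟩ := C.eq_empty_or_nonempty.resolve_left fun e => t (.inl e)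
    obtain ⟨i, hi⟩ := not_forall.1 fun e => t (.inr (Finset.eq_univ_of_forall e))
    obtain ⟨x, c⟩ := M.sur (ML.dd i j)
    have d : sgn hC • ML.dd i j + ML.dd i j = e8 i 1 := Subtype.ext (funext fun p => by
      show cf (sgn hC • ML.dd i j) p + cf (ML.dd i j) p = cf (e8 i 1) p
      rw [cf_sgn, cf_dd, cf_e8, Pi.single_apply]
      by_cases p1 : p = i <;> by_cases p2 : p = j <;> simp_all)
    have k : a * ⁅a, x⁆ * a⁻¹ = ⁅a, x⁆⁻¹ := by
      have := zc e (M.le.es.le_cent (M.mem c))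
      calc _ = (a * a) * x * (a * a)⁻¹ * (a * x⁻¹ * a⁻¹) := by rw [commutatorElement_def]; group
        _ = _ := by rw [← this, commutatorElement_def]; group
    refine mem_R M L r (mem_cent1.2 (mul_inv_eq_iff_eq_mul.1 ?_)) ⟨C, hC, rfl⟩ a1
    rcases (M.uniq r (d ▸ M.comm a1 c)).1 (cong_e8 _ _ (.inl rfl) (.inl rfl)) with l | l <;> rw [l] at k
    · rw [k, L.r.es.zinv]
    · rw [mul_inv_rev, L.r.es.zinv, L.l.es.zinv, L.comm, ← mul_assoc, mul_assoc _ z, ← mem_cent1.1 (inv_mem a1.1), ← mul_assoc] at k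
      exact mul_right_cancel k
  · obtain ⟨o, ro, e⟩ := ex_o h M r none
    have a1 : o⁻¹ * x * o⁻¹⁻¹ ∈ Qo s := by
      have := Qo_conj hx.1 o⁻¹
      rwa [← e, show o⁻¹ * (o * s * o⁻¹) * o⁻¹⁻¹ = s by group] at this
    have a2 := M.le.es.le_cent (M.mem ro)
    have a3 : o⁻¹ * x * o⁻¹⁻¹ ∈ C[z] := mul_mem (mul_mem (inv_mem a2) hx.2) (by simpa using a2)
    have a4 : x ∈ C[s] := mem_cent1.2 (mul_right_cancel (b := z) (by
      rw [mul_assoc, mem_cent1.1 ((es h (e ▸ cjB b o)).le_cent hx.1), mul_assoc, mul_assoc, mem_cent1.1 hx.2]))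
    rw [show x = (o⁻¹ * x * o⁻¹⁻¹) * ⁅x⁻¹, o⁻¹⁆⁻¹ by rw [commutatorElement_def]; group]
    refine mul_mem_sup ⟨a1, a3⟩ (inv_mem (L.comm_P (mem_inf.2 ⟨inv_mem (mem_inf.1 hx).2, inv_mem a4⟩) (inv_mem (M.mem ro))))

end H18.PR
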