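import Cfsg.Agent.H18.PR1

/-! S2198: three local obstructions for the third Janko group. -/

set_option autoImplicit false
set_option linter.unusedSectionVars false

namespace H18.PR
open Cfsg H15 H19 H0 H0.Mo H0.Y H15.ML H15.MX H1.PA Subgroup Function
open scoped commutatorElement symmDiff Pointwise

section
variable {G : Type} [Group G] {z t x u g : G} {s : Fin 5 → G} {a : Fin 4 → G} {f y e ρ : G} {π : Fin 5 → Fin 5} {H : Subgroup G}
  {φ : C[z] →* Spor.Co1} {R : G → Lam → Prop} {C D : Finset GolayPt}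

theorem ac_mem (c : Ac z s g π) (n : g ∈ N(H)) (hz : z ∈ H) {i : Fin 5} (h : s i ∈ H) : s (π i) ∈ H := by
  have := conj_mem_of_norm n h
  rcases c.2 i with k | k <;> rw [k] at this
  exacts [this, (mul_mem_cancel_right hz).1 this]

theorem ac_mem2 (J : JP z s a f y e ρ) (c : Ac z s g π) (n : g ∈ N(H)) (hz : z ∈ H) {i j : Fin 5} (h : s i * s j ∈ H) :
    s (π i) * s (π j) ∈ H := by
  have := conj_mem_of_norm n h
  rw [← conj_mul] at this
  rcases c.2 i with k | k <;> rcases c.2 j with l | l <;> rw [k, l] at this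
  · exact this
  · exact (mul_mem_cancel_right hz).1 (mul_assoc _ _ z ▸ this)
  · rwa [mul_assoc, ← J.sz, ← mul_assoc, mul_mem_cancel_right hz] at this
  · rwa [mul_assoc, ← mul_assoc z, ← J.sz, mul_assoc, J.zz, mul_one] at this

theorem sq2 (J : JP z s a f y e ρ) {i j : Fin 5} (h : i ≠ j) : s i * s j * (s i * s j) = z := by
  calc _ = s i * (s j * s i) * s j := by group
    _ = s i * z * s i * (s j * s j) := by rw [J.an j i h.symm]; group
    _ = z := by rw [J.ss, mul_one, J.sz, mul_assoc, J.ss, mul_one]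

theorem cm2 (J : JP z s a f y e ρ) {i j : Fin 5} (h : i ≠ j) : ⁅s i, s j⁆ = z := by
  rw [commutatorElement_def, inv_eq_of_mul_eq_one_right (J.ss i), inv_eq_of_mul_eq_one_right (J.ss j), mul_assoc, sq2 J h]

theorem cd_z (K : Cdk φ R t) (h : CD φ R t x C D) (k : x = u ∨ x = u * z) (zz : z * z = 1) : CD φ R t u C D := by
  rcases k with rfl | rfl
  · exact h
  · have := K.mul h K.cz
    rwa [mul_assoc, zz, mul_one, ← Finset.bot_eq_empty, symmDiff_bot, symmDiff_bot] at this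

theorem cd_A [Finite G] (M : MT (Qo z) z φ R) (h : CD φ R t x C D) : ∃ hC : C ∈ cw, A φ x (sgn hC) :=
  let ⟨_, hC, _, _, _, a1, _, a3, a4, _⟩ := h; ⟨hC, by simpa [a4] using (M.aQ (M.mem a1)).mul a3⟩

theorem tri (K : Cdk φ R t) (h : CD φ R t x C D) (h0 : x * x ∈ zpowers z) (h1 : x ∉ Qo z) (h2 : x ∉ Qo t) (h3 : x ∉ Qo (t * z)) :
    Tri C D :=
  ⟨h.2.1, h.1, K.sq h h0, mt (K.k1 h) h1, mt (K.k2 h) h2, mt (K.k3 h) h3⟩
end

theorem n32 {C : Finset GolayPt} (hC : C ∈ cw) (h : C.card = 8 ∨ C.card = 16) {v : Lam} (o : ¬ 2 ∣ cf v (pt 23)) :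
    32 ∣ sqNorm (cf (sgn hC • v + v)) := by
  have a : ∑ i, (if i ∈ C then 0 else 4 : ℤ) = 4 * (24 - C.card) := by
    rw [Finset.sum_ite, Finset.sum_const_zero, Finset.sum_const, Finset.filter_notMem_eq_sdiff, Finset.card_univ_diff, card_pt]
    rcases h with h | h <;> simp [h]
  have b : 32 ∣ ∑ i, (cf (sgn hC • v + v) i ^ 2 - if i ∈ C then 0 else 4) := Finset.dvd_sum fun i _ => by
    change 32 ∣ (cf (sgn hC • v) i + cf v i) ^ 2 - _
    rw [cf_sgn]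
    split_ifs
    · simp
    obtain ⟨k, e⟩ : Odd (cf v i) := Int.odd_iff.2 (by_contra fun c => by
      obtain ⟨D, -, d⟩ := ex_pt (v := v) (i := i) (by omega)
      have := d (pt 23)
      split_ifs at this <;> omega)
    obtain ⟨m, c⟩ := Int.even_mul_succ_self k
    exact ⟨m, by rw [e]; linear_combination 16 * c⟩
  rw [Finset.sum_sub_distrib, a] at b
  change 32 ∣ sqNorm _ - _ at b
  omega

theorem j1 (cdk : CDK) (gc : GC1) : J1 := fun G _ _ z s a f y e ρ h J m => by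
  obtain ⟨⟨φ, R, M⟩, -⟩ := id h
  have E := M.le.es
  have n := fun {i} => ac_mem J.af (M.le.norm (mem_cent1.2 J.af.1)) E.zQ (i := i)
  have m1 : s 1 ∈ Qo z := n m
  have m2 : s 2 ∈ Qo z := n m1
  have m3 : s 3 ∈ Qo z := n m2
  have m5 : closure (Set.range s) ≤ Qo z := (closure_le _).2 (by
    rintro _ ⟨i, rfl⟩; fin_cases i; exacts [m, m1, m2, m3, n m3])
  have L := h.lp m (isConj_iff.2 ⟨ρ, J.ρ1⟩) fun c => E.z1 (by rw [← cm2 J (i := 1) (j := 0) (by decide), c, comm_eq_one, J.sz])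
  obtain ⟨g, r⟩ := M.typ4 L
  have M := M.twist g
  have K := cdk G z _ _ _ h M r
  obtain ⟨x, x1, x', x2, x3, x4⟩ := J.dec
  obtain ⟨C, D, c⟩ := K.ex (a 0) (by
    rw [x4]
    refine mul_mem (mem_sup_right ⟨m5 x1, mem_cent1.2 x3⟩) (mem_sup_left ⟨J.ρ1 ▸ Qo_conj (m5 x2) ρ, ?_⟩)
    exact (mul_mem_cancel_left (E.le_cent (m5 x1))).1 (x4 ▸ mem_cent1.2 (J.az 0)))
  have k : ∀ {u w}, IsConj z u → w ∈ Qo u → ⁅a 0, w⁆ ^ 2 ≠ 1 → a 0 ∉ Qo u := fun b c d e => d (by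
    rcases (es h b).comm _ e _ c with l | l <;> rw [l, pow_two]
    exacts [one_mul _, (es h b).zz])
  have k2 : ⁅a 0, s 1⁆ * ⁅a 0, s 1⁆ = z := by
    rw [commutatorElement_def, inv_eq_of_mul_eq_one_right (J.ss 1)]
    rcases J.aa.2 1 with l | l <;> rw [l]
    · exact sq2 J (by decide)
    · change s 2 * z * s 1 * (s 2 * z * s 1) = z
      calc _ = s 2 * (z * s 1) * (s 2 * z * s 1) := by group
        _ = s 2 * s 1 * (z * s 2) * z * s 1 := by rw [← J.sz]; group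
        _ = s 2 * s 1 * s 2 * (z * z) * s 1 := by rw [← J.sz]; group
        _ = z := by rw [J.zz, mul_one, mul_assoc _ (s 2)]; exact sq2 J (by decide)
  have b : IsConj z (s 0) := isConj_iff.2 ⟨ρ, J.ρ1⟩
  have T := tri K c (J.a2 0 ▸ one_mem _) (fun l => k (.refl z) m1 (by rw [pow_two, k2]; exact E.z1) l)
    (k b (J.ρ1 ▸ Qo_conj m1 ρ) J.w1) (k (J.ρ2 ▸ cjB b ρ) (J.ρ2 ▸ Qo_conj (J.ρ1 ▸ Qo_conj m1 ρ) ρ) J.w2)
  obtain ⟨hC, c⟩ := cd_A M c
  obtain ⟨v, rv⟩ := M.tot _ m1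
  refine E.z1 (k2.symm.trans ((M.sq_iff L (M.comm c rv)).2 (n32 hC (gc C D T) fun o => E.z1 ?_)))
  rw [← cm2 J (i := 1) (j := 0) (by decide), comm_eq_one, M.comm_iff L rv r, dotInt_comm, dot_e8]
  omega

theorem jf (cdk : CDK) (gc : GC3) : JF := fun G _ _ z s a f y e ρ h J m t tQ b tz yt m2 m3 m4 => by
  obtain ⟨⟨φ, R, M⟩, -⟩ := id h
  have E := M.le.es
  have L := h.lp tQ b tz
  obtain ⟨g, r⟩ := M.typ4 L
  have M := M.twist g
  have K := cdk G z _ _ _ h M r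
  have n := fun {i} => ac_mem J.af (M.le.norm (mem_cent1.2 J.af.1)) E.zQ (i := i)
  have n2 := fun {i j} => ac_mem2 J J.af (M.le.norm (mem_cent1.2 J.af.1)) E.zQ (i := i) (j := j)
  have q4 : s 4 ∉ Qo z := fun c => m (n c)
  have q23 : s 2 * s 3 ∉ Qo z := fun c => q4 ((mul_mem_cancel_left (mul_mem (n2 (n2 (n2 c))) c)).1
    (show s 0 * s 1 * (s 2 * s 3) * s 4 ∈ _ by rw [← mul_assoc, J.pr]; exact one_mem _))
  have e1 : s 2 * s 3 * s 4 = (s 0 * s 1)⁻¹ := eq_inv_of_mul_eq_one_right (by rw [← J.pr]; group)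
  have yz := mem_cent1.2 J.ay.1
  have k : ∀ u, u = t ∨ u = t * z → s 2 ∉ Qo u ∧ s 2 * s 3 ∉ Qo u ∧ s 2 * s 3 * s 4 ∉ Qo u := fun u c => by
    obtain ⟨o, -, d⟩ := E.exists_conj tQ L.notMem
    obtain ⟨c1, c2, c3, c4⟩ : IsConj z u ∧ u ∈ Qo z ∧ u ≠ z ∧ y ∈ C[u] := by
      rcases c with rfl | rfl
      exacts [⟨b, tQ, tz, yt⟩, ⟨d ▸ cjB b o, mul_mem tQ E.zQ, by simpa using L.r.es.z1, mem_cent1.2 (by
        rw [← mul_assoc, mem_cent1.1 yt, mul_assoc, J.ay.1, mul_assoc])⟩]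
    have F := es h c1
    have nz : z ∉ zpowers u := fun c => (F.mem_zp.1 c).elim E.z1 c3.symm
    exact ⟨fun c => nz (cm2 J (i := 2) (j := 3) (by decide) ▸ F.comm_mem c (ac_mem J.ay (nQ h c1 c4) (symm h (.refl z) c1 c2) c)),
      fun c => nz (sq2 J (i := 2) (j := 3) (by decide) ▸ F.sq_mem c),
      fun c => nz (sq2 J (i := 0) (j := 1) (by decide) ▸ F.sq_mem (inv_mem_iff.1 (e1 ▸ c)))⟩
  obtain ⟨C, D, c2⟩ := K.ex _ m2
  obtain ⟨γ, ay⟩ := A.tot yz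
  obtain ⟨σ, hσ, p, hp, rfl⟩ := exists_mono ((M.img_NN L r).le (mem_img.2 ⟨y, yt, ay⟩))
  have c3 := cd_z K (K.cj hσ hp yt ay c2) (J.ay.2 2) J.zz
  have c4 := cd_z K (K.cj hσ hp yt ay c3) (J.ay.2 3) J.zz
  have c5 := K.one (J.ss 2 ▸ K.mul c2 (cd_z K (K.cj hσ hp yt ay c4) (J.ay.2 4) J.zz))
  have c6 := K.mul (K.mul c2 c3) c4
  rcases gc σ hσ C D (tri K c2 (J.ss 2 ▸ one_mem _) (fun c => m (n (n (n c)))) (k _ (.inl rfl)).1 (k _ (.inr rfl)).1)
    (tri K (K.mul c2 c3) (sq2 J (i := 2) (j := 3) (by decide) ▸ mem_zpowers z) q23 (k _ (.inl rfl)).2.1 (k _ (.inr rfl)).2.1)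
    (K.cm c2 c3 (cm2 J (i := 2) (j := 3) (by decide) ▸ mem_zpowers z)) c5.1 c5.2 with l | l | l
  · exact q23 (n2 (i := 1) (j := 2) (n2 (i := 0) (j := 1) (inv_mem_iff.1 (e1 ▸ K.k1 c6 l))))
  · exact (k _ (.inl rfl)).2.2 (K.k2 c6 l)
  · exact (k _ (.inr rfl)).2.2 (K.k3 c6 l)

end H18.PR
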