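import Cfsg.Agent.H18.PR2

/-! S2198: the dodecad case for the third Janko group. -/

set_option autoImplicit false
set_option linter.unusedSectionVars false

namespace H18.PR
open Cfsg H15 H19 H0 H0.Mo H0.Y H15.ML H15.MX H1.PA Subgroup Function
open scoped commutatorElement symmDiff Pointwise

section
variable {H : Type} [Group H] {b : Fin 4 → H} (h1 : ∀ k, b k * b k = 1) (h2 : ∀ k l, Commute (b k) (b l))
include h2

theorem wd_mul (i j k l i' j' k' l' : ℕ) : wd b (i + i') (j + j') (k + k') (l + l') = wd b i j k l * wd b i' j' k' l' := by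
  have c := fun k l i j x => ((h2 k l).pow_pow i j).left_comm x
  simp only [H1.PA.wd, pow_add, mul_assoc, c 3 0, c 2 0, c 1 0, c 3 1, c 2 1, c 3 2]

include h1
theorem wd_sq (i j k l : ℕ) : wd b i j k l * wd b i j k l = 1 := by
  simp only [← wd_mul h2, ← two_mul]
  simp only [H1.PA.wd, pow_mul, pow_two, h1, one_pow, one_mul]

theorem wd_grp (h3 : ∀ i < 2, ∀ j < 2, ∀ k < 2, ∀ l < 2, i + j + k + l ≠ 0 → wd b i j k l ≠ 1) :
    ∃ A : Subgroup H, #A = 16 ∧ ∀ x ∈ A, ∃ i j k l, x = wd b i j k l := by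
  let ψ : Multiplicative (ZMod 2 × ZMod 2 × ZMod 2 × ZMod 2) →* H := MonoidHom.mk'
    (fun v => wd b v.toAdd.1.val v.toAdd.2.1.val v.toAdd.2.2.1.val v.toAdd.2.2.2.val) fun v w => by
      rw [← wd_mul h2]
      simp only [H1.PA.wd, toAdd_mul, Prod.fst_add, Prod.snd_add, ZMod.val_add, ← pow_eq_pow_mod _ ((pow_two _).trans (h1 _))]
  refine ⟨ψ.range, ?_, by rintro _ ⟨v, rfl⟩; exact ⟨_, _, _, _, rfl⟩⟩
  rw [← Nat.card_congr (MonoidHom.ofInjective ((injective_iff_map_eq_one ψ).2 fun v e => by_contra fun n =>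
    h3 _ (ZMod.val_lt _) _ (ZMod.val_lt _) _ (ZMod.val_lt _) _ (ZMod.val_lt _) (by clear e; revert v; decide) e)).toEquiv]
  simp
end

theorem jc (tk : TR) (m12 : M12) : JC := fun G _ _ z s a f y e ρ φ R h M J ⟨w, b, wQ, wz, sw, h1, h2, _⟩ D0 hD0 k d0 as => by
  have E := M.le.es
  have L := h.lp wQ b wz
  have F := L.r.es
  obtain ⟨g, r⟩ := M.typ4 L
  obtain ⟨φ, R, M, r, as⟩ : ∃ φ R, MT (Qo z) z φ R ∧ R w lE ∧ A φ (s 0) (g⁻¹ * (k * sgn hD0 * k⁻¹) * g) := ⟨_, _, M.twist g, r, twA as g⟩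
  obtain ⟨D, hD, e0⟩ := (M.img_EE L r).le (mem_img.2 ⟨_, ⟨sw, as.1⟩, as⟩)
  have d : D.card = 12 := by
    have := tk.cj g⁻¹ (k * sgn hD0 * k⁻¹)
    rw [inv_inv, e0, tk.cj, tk.sgn, tk.sgn, d0] at this
    exact_mod_cast (show (D.card : ℝ) = 12 by push_cast at this; linarith)
  rw [e0] at as
  have sQ : s 0 ∉ Qo z := fun c => sgn_nc hD d ((M.aker as).1 c)
  obtain ⟨⟨j, hj⟩, i, hi⟩ := ex_in hD d
  have si := fun i => inv_eq_of_mul_eq_one_right (J.ss i)
  have s1 : s 1 * w * (s 1)⁻¹ = w := by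
    obtain ⟨o, ro⟩ := M.sur (uo j)
    have rc := M.comm as ro
    have wc : s 0 * ⁅s 0, o⁆⁻¹ = ⁅s 0, o⁆ * s 0 := by
      rw [commutatorElement_inv, commutatorElement_def, commutatorElement_def, si]
      simp only [← mul_assoc, J.ss, one_mul, mul_assoc _ (s 0) (s 0), mul_one]
    generalize ⁅s 0, o⁆ = c at rc wc
    have cc : c * c = z := (E.sq c (M.mem rc)).resolve_left fun t => by
      have := (M.sq_iff L rc).1 t
      rw [norm_q hD d hj] at this
      omega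
    have a1 : s 1 * s 0 * (s 1)⁻¹ = z * s 0 := by rw [J.an 1 0 (by decide), ← mul_assoc, mul_inv_cancel_right]
    have a2 : c * s 1 * w = w * (c * s 1) := mem_cent1.1 (h1 ⟨mul_mem (E.le_cent (M.mem rc)) (mem_cent1.2 (J.sz 1)),
      mem_cent1.2 (mul_inv_eq_iff_eq_mul.1 (by
        calc _ = c * (s 1 * s 0 * (s 1)⁻¹) * c⁻¹ := by group
          _ = _ := by rw [a1, ← mul_assoc, E.cent c (M.mem rc), mul_assoc, mul_assoc, wc, ← mul_assoc c, cc, ← mul_assoc, E.zz, one_mul]))⟩)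
    have a3 : s 1 * w * (s 1)⁻¹ = c⁻¹ * w * c⁻¹⁻¹ := by
      calc _ = c⁻¹ * (c * s 1 * w) * (s 1)⁻¹ := by group
        _ = _ := by rw [a2]; group
    refine ((a3 ▸ E.conj_cases (inv_mem (M.mem rc)) wQ : _ ∨ _)).resolve_right fun t => sQ ?_
    have b' : IsConj z (w * z) := t ▸ cjB b _
    have k1 := Qo_conj sw (s 1)
    rw [t, a1, mul_mem_cancel_left (symm h (.refl z) b' (mul_mem wQ E.zQ))] at k1
    have k2 := inf_le_mul h b b' (mul_mem F.zQ L.zQ) (by simpa using E.z1) ⟨sw, k1⟩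
    rwa [mul_assoc, L.comm, ← mul_assoc, F.zz, one_mul] at k2
  obtain ⟨π, p1, -⟩ := pi0 M L r
  let X : Subgroup G := C[z] ⊓ C[s 0]
  obtain ⟨π, p1⟩ : ∃ π : X →* M24, ∀ c, ∃ p, ∃ hp : p ∈ cw, A φ c.1 (mono (π c).2 hp) :=
    ⟨π.comp (inclusion (le_inf inf_le_left h1)), fun c => p1 (inclusion (le_inf inf_le_left h1) c)⟩
  have pE : ∀ c : X, ∀ e ∈ EE, A φ c.1 e → π c = 1 := fun c e he ae => by
    obtain ⟨p, hp, ap⟩ := p1 c
    have := center_le_EE (mul_inv_cancel c.1 ▸ ap.mul ae.inv).cen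
    rw [mono_eq, mul_mem_cancel_right (inv_mem he), mul_mem_cancel_left (show sgn hp ∈ EE from ⟨p, hp, rfl⟩)] at this
    exact eq_one_of_prmH this
  have ker : ∀ c : X, π c = 1 → c.1 ∈ Qo w := fun c t => by
    obtain ⟨p, hp, ap⟩ := p1 c
    rw [mono_eq, t, map_one, mul_one] at ap
    obtain ⟨u, hu, v, hv, t⟩ := (mem_sup_of_norm' (le_sup_left.trans (L.R_le.trans L.cent_norm_P))).1
      (mem_R M L r (h1 c.2) ⟨p, hp, rfl⟩ ap)
    rw [t, mul_mem_cancel_left (mem_inf.1 hu).1]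
    have t1 : s 0 * u * (s 0)⁻¹ * (s 0 * v * (s 0)⁻¹) = u * v := by rw [conj_mul, ← t, ← mem_cent1.1 c.2.2, mul_inv_cancel_right]
    rcases F.conj_cases sw hu.1 with l | l <;> rw [l] at t1
    · exact h2 ⟨hv.1, mem_cent1.2 (mul_inv_eq_iff_eq_mul.1 (mul_left_cancel t1)).symm⟩
    obtain ⟨x, c1, c2⟩ := evT h M r (v := ML.dd i j) (.inl fun p => by rw [cf_dd]; split_ifs <;> rfl)
    have d : sgn hD • ML.dd i j + ML.dd i j = e8 i 1 := Subtype.ext (funext fun p => by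
      show cf (sgn hD • ML.dd i j) p + cf (ML.dd i j) p = cf (e8 i 1) p
      rw [cf_sgn, cf_dd, cf_e8, Pi.single_apply]
      by_cases p1 : p = i <;> by_cases p2 : p = j <;> simp_all)
    have t2 := (F.conj_cases sw c1.2).resolve_left fun l => not_cg_zero (by rw [norm_e8]; norm_num) (norm_e8 i).le
      ((M.rk (d ▸ M.comm as c2)).1 (by rw [commutatorElement_def, l, mul_inv_cancel]; exact one_mem _))
    refine (mul_mem_cancel_left (mem_inf.1 c1).2).1 (h2 ⟨mul_mem c1.1 hv.1, mem_cent1.2 (mul_inv_eq_iff_eq_mul.1 ?_).symm⟩)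
    rw [← conj_mul, t2, mul_assoc x, mul_left_cancel ((mul_assoc u w _).symm.trans t1)]
  have N4 : ∀ {x}, x ∈ closure {z, s 0} → x = 1 ∨ x = z ∨ x = s 0 ∨ x = z * s 0 := fun c =>
    (mem_four E.zz (J.ss 0) (J.sz 0).symm).1 (closure_pair_eq z _ ▸ c)
  have pN : ∀ c : X, c.1 ∈ closure {z, s 0} → π c = 1 := fun c t => by
    have az := M.aQ E.zQ
    rcases N4 t with t | t | t | t
    exacts [pE c 1 (one_mem _) (by rw [t]; exact .one (one_mem _)), pE c 1 (one_mem _) (by rw [t]; exact az),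
      pE c _ ⟨D, hD, rfl⟩ (by rw [t]; exact as), pE c _ ⟨D, hD, rfl⟩ (by rw [t]; simpa using az.mul as)]
  have q1 : ∀ x ∈ Qo w, x ^ 2 ∈ closure {z, s 0} → x ^ 2 = 1 := fun x c t => by
    rw [pow_two] at t ⊢
    refine (F.sq x c).resolve_right fun l => ?_
    rcases N4 (l ▸ t) with t | t | t | t
    exacts [F.z1 t, wz t, sQ (t ▸ wQ), sQ ((mul_mem_cancel_left E.zQ).1 (t ▸ wQ))]
  let α : Fin 4 → X := fun k => ⟨a k, mem_cent1.2 (J.az k), mem_cent1.2 (J.as k)⟩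
  let η : X := ⟨y, mem_cent1.2 J.ay.1, mem_cent1.2 J.ys⟩
  have α2 : ∀ k, α k * α k = 1 := fun k => Subtype.ext (J.a2 k)
  have hw : ∀ {H : Type} [Group H] (θ : X →* H), (∀ c : X, c.1 ∈ closure {z, s 0} → θ c = 1) → (∀ k, θ (α k) * θ (α k) = 1) ∧
      (∀ k l, Commute (θ (α k)) (θ (α l))) ∧ ∀ i j k l, wd (fun k => θ (α k)) i j k l = θ (wd α i j k l) := fun θ c =>
    ⟨fun k => by rw [← map_mul, α2, map_one], fun k l => commutatorElement_eq_one_iff_commute.1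
      ((map_commutatorElement ..).symm.trans (c _ (J.ac k l))), fun i j k l => by simp [H1.PA.wd]⟩
  have : ((closure {z, s 0}).subgroupOf X).Normal := ⟨fun n c g => by
    have : closure {z, s 0} ≤ C[g.1] := (closure_le _).2 (by
      rintro _ (rfl | rfl); exacts [mem_cent1_symm.1 g.2.1, mem_cent1_symm.1 g.2.2])
    refine mem_subgroupOf.2 (show g.1 * n * g.1⁻¹ ∈ _ from ?_)
    rwa [← mem_cent1.1 (this (mem_subgroupOf.1 c)), mul_inv_cancel_right]⟩
  obtain ⟨n1, n2, n3⟩ := hw (QuotientGroup.mk' ((closure {z, s 0}).subgroupOf X)) fun c t => (QuotientGroup.eq_one_iff c).2 t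
  obtain ⟨b1, b2, b3⟩ := hw π pN
  obtain ⟨B, c1, c2⟩ := wd_grp b1 b2 fun i hi j hj k hk l hl n t => by
    have u : wd a i j k l ∈ Qo w := by simpa [H1.PA.wd, α] using ker _ ((b3 ..).symm.trans t)
    refine (J.nz i hi j hj k hk l hl n).elim (fun c => c (q1 _ u ?_)) fun c =>
      c.1 (q1 _ (mul_mem u (s1 ▸ Qo_conj u (s 1))) c.2)
    have := wd_sq n1 n2 i j k l
    rw [n3, ← map_mul] at this
    simpa [H1.PA.wd, α, pow_two, mem_subgroupOf] using (QuotientGroup.eq_one_iff _).1 this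
  have S : ∀ c : X, π c • D = D ∨ π c • D = Dᶜ := fun c => by
    obtain ⟨p, hp, ap⟩ := p1 c
    have := ((ap.mul as).mul ap.inv).mul as
    rw [mem_cent1.1 c.2.2, mul_inv_cancel_right, J.ss, mono_sgn, sgn_mul] at this
    refine ((sgn_cen _).1 this.cen).imp (fun t => Finset.ext fun i => ?_) fun t => Finset.ext fun i => ?_ <;>
      have := Finset.ext_iff.1 t i <;> change i ∈ (π c).1 • D ↔ _ <;>
      simp only [Finset.mem_symmDiff, Finset.mem_compl, Finset.mem_univ, Finset.notMem_empty] at * <;> tauto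
  have nD : Dᶜ ≠ D := fun t => by simpa [hj] using Finset.ext_iff.1 t j
  have P : ∀ c c' : X, π (c * c') • D = D ↔ (π c • D = D ↔ π c' • D = D) := fun c c' => by
    have t : π c • Dᶜ = (π c • D)ᶜ := by
      simp only [Finset.compl_eq_univ_sdiff, Finset.smul_finset_sdiff, Finset.smul_finset_univ]
    rw [map_mul, mul_smul]
    rcases S c' with l | l <;> rw [l] <;> rcases S c with l' | l' <;> simp [t, l', nD]
  have Q : ∀ k l, y * a k * y⁻¹ = a l → y * a l * y⁻¹ * (a k * a l)⁻¹ ∈ closure {z, s 0} → π (α k) • D = D ∧ π (α l) • D = D :=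
    fun k l t1 t2 => by
      have u1 : η * α k = α l * η := Subtype.ext (mul_inv_eq_iff_eq_mul.1 t1)
      have u2 : π (η * α l) = π (α k * α l * η) := by
        have := pN (η * α l * η⁻¹ * (α k * α l)⁻¹) t2
        rwa [map_mul, map_mul, map_inv, map_inv, mul_inv_eq_one, mul_inv_eq_iff_eq_mul, ← map_mul] at this
      have v1 := P η (α k)
      have v2 := P η (α l)
      rw [u1, P] at v1
      rw [u2, P, P] at v2
      tauto
  have T : ∀ k, π (α k) ∈ MulAction.stabilizer M24 D := fun k => by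
    fin_cases k
    exacts [(Q _ _ J.y0 J.y1).1, (Q _ _ J.y0 J.y1).2, (Q _ _ J.y2 J.y3).1, (Q _ _ J.y2 J.y3).2]
  have := m12 D hD d (B.map M24.subtype) (map_subtype_le _) (by
    rintro _ ⟨x, hx, rfl⟩
    obtain ⟨i, j, k, l, rfl⟩ := c2 x hx
    exact ⟨mul_mem (mul_mem (mul_mem (pow_mem (T 0) i) (pow_mem (T 1) j)) (pow_mem (T 2) k)) (pow_mem (T 3) l),
      congrArg Subtype.val (wd_sq b1 b2 i j k l)⟩)
  rw [card_map_of_injective M24.subtype_injective, c1] at this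
  omega

end H18.PR
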