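import Cfsg.Agent.H1.PA1
import Cfsg.Agent.H9.PA1

/-! S2198: fixed points of elements of odd order, and the Rudvalis group. -/

set_option autoImplicit false
set_option linter.unusedSectionVars false

namespace H18.PR
open Cfsg H15 H19 H0 H0.Mo H0.Y H15.ML H15.MX H1.PA Subgroup Function
open scoped commutatorElement

theorem fixcos {H : Type} [Group H] {W : Subgroup H} (hW : ∀ x ∈ W, x * x = 1) {g d : H} (gN : g ∈ N(W)) {n : ℕ} (hn : Odd n)
    (e : g ^ n = 1) (h : d⁻¹ * (g * d * g⁻¹) ∈ W) : ∃ t ∈ W, g * (d * t) * g⁻¹ = d * t := by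
  have k : ∀ m : ℕ, d⁻¹ * (g ^ m * d * (g ^ m)⁻¹) ∈ W ∧ ∃ t ∈ W,
      g * t * g⁻¹ = (d⁻¹ * (g * d * g⁻¹))⁻¹ ^ m * (t * (d⁻¹ * (g ^ m * d * (g ^ m)⁻¹))) := fun m => by
    induction m with
    | zero => exact ⟨by simp, 1, one_mem _, by simp⟩
    | succ m ih =>
      obtain ⟨a, t, b, c⟩ := ih
      refine ⟨?_, _, mul_mem b a, ?_⟩
      · convert mul_mem h (conj_mem_of_norm gN a) using 1; group
      · have := mem_cent.1 (comm_of_sq hW (mul_mem b a)) _ (inv_mem h)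
        rw [← conj_mul, c, pow_succ, mul_assoc (_ ^ m) _⁻¹, ← mul_assoc (d⁻¹ * (g * d * g⁻¹))⁻¹, this]
        group
  obtain ⟨-, t, a, b⟩ := k n
  obtain ⟨m, rfl⟩ := hn
  rw [e, pow_succ, pow_mul, pow_two, hW _ (inv_mem h)] at b
  exact ⟨t, a, by rw [← conj_mul, b]; group⟩

theorem fpf : FPF := fun G _ _ z w g h wz b b' gz gw o le => by
  obtain ⟨𝒜, X, -⟩ := cx h
  have r := IsConj.refl z
  have E := es h r
  have ww := MX.sq h b
  have wQ : w ∉ Qo z := fun c => (E.mem_zp.1 (le ⟨c, mem_cent1_symm.1 gw⟩)).elim (ne1 h b) fun e => ne1 h b' (e ▸ ww)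
  obtain ⟨F, a, zF, wF⟩ | ⟨s, c, sQ, sz, -, d, -⟩ := X.kind r wz wQ ww
  swap
  · exact (E.mem_zp.1 (le ⟨sQ, mem_cent1_symm.1 (d ⟨gz, gw⟩)⟩)).elim (ne1 h c) sz
  have gN := (X.ark a).e2 z zF r w wF wQ ⟨gz, gw⟩
  obtain ⟨d, dQ, c, cF, rfl⟩ := (X.lc a).dec z zF r w wF ((X.ark a).e3 z zF r w wF wQ ww)
  have gQ := nQ h r gz
  obtain ⟨t, tW, k⟩ := fixcos (W := F ⊓ Qo z) (d := d) (fun x hx => (X.la a).ab x hx.1)
    (norms_inf (zpowers_le.2 gN) (zpowers_le.2 gQ) (mem_zpowers g)) o (pow_orderOf_eq_one g)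
    (mem_inf.2 ⟨by
      convert mul_mem cF (inv_mem (conj_mem_of_norm gN cF)) using 1
      calc _ = d⁻¹ * (g * (d * c) * g⁻¹) * (g * c * g⁻¹)⁻¹ := by group
        _ = _ := by rw [mem_cent1.1 gw]; group, mul_mem (inv_mem (mem_inf.1 dQ).1) (conj_mem_of_norm gQ dQ.1)⟩)
  have wF := mul_mem ((mul_mem_cancel_right (mem_inf.1 tW).1).1 (zpowers_le.2 zF
    (le ⟨mul_mem (mem_inf.1 dQ).1 tW.2, mem_cent1.2 (mul_inv_eq_iff_eq_mul.1 k).symm⟩))) cF
  exact ((X.la a).hyp z zF r _ wF wQ).1 b b'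

theorem ru (fx : FX) : RU := fun G _ _ a v g h J => by
  obtain ⟨𝒜, X, -⟩ := cx h
  obtain ⟨⟨f, R, M⟩, -⟩ := id h
  have r := IsConj.refl a
  have E := es h r
  have ga := mem_cent1.2 J.ga
  have le : Qo a ⊓ C[g] ≤ zpowers a := fun x hx => by_contra fun n => by
    obtain ⟨u, c⟩ := M.tot x hx.1
    obtain ⟨γ, d, e⟩ := A_odd (f := f) (n := 13) (by decide) ga (J.og ▸ pow_orderOf_eq_one g)
    have k := M.act d c
    rw [← mem_cent1.1 hx.2, mul_inv_cancel_right] at k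
    have := Fact.mk (by norm_num : Nat.Prime 13)
    refine (fx γ u ((M.uniq k c).2 (.inl rfl)) fun t => n ((M.rk c).2 t)).1 (orderOf_eq_prime e ?_)
    rintro rfl
    have : g ^ 4 = 1 := by
      rw [show 4 = 2 * 2 from rfl, pow_mul, pow_two, pow_two]
      rcases E.sq g ((M.aker d).2 (one_mem _)) with l | l <;> rw [l]
      exacts [one_mul _, E.zz]
    have := orderOf_dvd_of_pow_eq_one this
    rw [J.og] at this
    omega
  have vQ : v ∉ Qo a := fun c => (E.mem_zp.1 (le ⟨c, mem_cent1.2 J.gv.symm⟩)).elim J.v1 J.va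
  have gv := mem_cent1.2 J.gv
  obtain ⟨F, b, zF, wF⟩ | ⟨s, c, sQ, sz, -, d, -⟩ := X.kind r (mem_cent1.2 J.cm) vQ J.vv
  swap
  · exact (E.mem_zp.1 (le ⟨sQ, mem_cent1_symm.1 (d ⟨ga, gv⟩)⟩)).elim (ne1 h c) sz
  have c := (X.la b).cardW a zF r
  have k := H9.PA.cent_of_num (P := F ⊓ Qo a) (ρ := g) Nat.prime_two (by norm_num : Nat.Prime 13) (by decide)
    (pg_of_sq fun x hx => (X.la b).ab x hx.1)
    (norms_inf (zpowers_le.2 ((X.ark b).e2 a zF r v wF vQ ⟨ga, gv⟩)) (zpowers_le.2 (nQ h r ga)) (mem_zpowers g))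
    (by rw [PiE, J.og]; exact (piN_prime (by norm_num)).2 rfl) fun j h1 h2 => by
      have := (Nat.pow_dvd_pow_iff_le_right' (b := 0)).1 (c ▸ h2)
      interval_cases j <;> decide
  have := card_le ((le_inf inf_le_right (le_cent1_iff.2 k)).trans le)
  rw [c, E.card_zp] at this
  omega

end H18.PR
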