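import Cfsg.Agent.H1.PA1

/-! S2198: singular involutions in large subgroups, and classes fixed by elements of order 7 and 13. -/

set_option autoImplicit false
set_option linter.unusedSectionVars false

namespace H18.PR
open Cfsg H15 H19 H0 H0.Mo H0.Y H15.ML H15.MX H1.PA H25.MX Subgroup Function

section
variable {G : Type} [Group G] [Finite G] {z a : G} {Q D B : Subgroup G} (E : ES Q z) (l : D ≤ Q)
include E l

theorem hf (ha : a ∈ Q) : #D ≤ 2 * #(D ⊓ C[a]) := idx2 fun x hx y hy n m => mem_cent1.2 (mul_inv_eq_iff_eq_mul.1 (by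
  rw [← conj_mul, E.conj_eq ha (l hx) fun e => n (mem_cent1.2 e.symm), E.conj_eq ha (l hy) fun e => m (mem_cent1.2 e.symm),
    mul_assoc, ← mul_assoc z, ← E.cent y (l hy), mul_assoc, E.zz, mul_one])).symm

theorem ex_inv (hz : z ∈ B) (c : 4 * #B < #D) : ∃ a ∈ D, a ∉ B ∧ a * a = 1 := by_contra fun n => by
  have k : ∀ a ∈ D, a ∉ B → a * a = z := fun a b c => (E.sq a (l b)).resolve_left fun e => n ⟨a, b, c, e⟩
  obtain ⟨x, b, d⟩ := SetLike.not_le_iff_exists.1 fun e : D ≤ B => by have := card_le e; omega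
  have m : ∀ y ∈ D ⊓ C[x], ∀ y', x * y * (x * y') = z * (y * y') := fun y e y' => by
    rw [← k x b d, mul_assoc, ← mul_assoc y, mem_cent1.1 e.2]; group
  have m' : ∀ y ∈ D ⊓ C[x], y ∉ B → x * y ∈ B := fun y e f => by_contra fun t =>
    n ⟨_, mul_mem b e.1, t, by rw [m y e, k y e.1 f, E.zz]⟩
  have := idx2 (A := D ⊓ C[x]) (B := B) fun y e y' e' f f' =>
    (mul_mem_cancel_left hz).1 (m y e y' ▸ mul_mem (m' y e f) (m' y' e' f'))
  have := hf E l (l b)
  have := card_le (inf_le_right : D ⊓ C[x] ⊓ B ≤ B)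
  omega
end

theorem x4 : X4 := fun G _ _ z h D l hz c => by_contra fun n => by
  obtain ⟨-, -, T⟩ := cx h
  have E := es h (.refl z)
  have k : ∀ m ≤ 3, ∃ X ≤ D, (∀ x ∈ X, x * x = 1) ∧ z ∉ X ∧ #X = 2 ^ m ∧ #D ≤ 2 ^ m * #(D ⊓ C(X)) := fun m hm => by
    induction m with
    | zero => exact ⟨⊥, bot_le, by simp, E.z1, by simp, by simp⟩
    | succ m ih =>
      obtain ⟨X, a, b, d, e, f⟩ := ih (by omega)
      have zN : z ∈ N(X) := cent_le_norm _ (le_cent1_iff.1 (a.trans (l.trans E.le_cent)))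
      obtain ⟨x, p, q, r⟩ := ex_inv E (D := D ⊓ C(X)) (B := X ⊔ zpowers z) (inf_le_left.trans l) (mem_sup_right (mem_zpowers z)) (by
        rw [card_adj zN E.zz d, e]
        obtain rfl | rfl | rfl : m = 0 ∨ m = 1 ∨ m = 2 := by omega
        all_goals omega)
      have xN := cent_le_norm _ (mem_inf.1 p).2
      refine ⟨X ⊔ zpowers x, sup_le a (zpowers_le.2 p.1), sq_sup b (fun y t => ?_) (cent_zpowers x ▸ le_cent1_iff.2 p.2), fun t => ?_,
        by rw [card_adj xN r fun t => q (mem_sup_left t), e, pow_succ'], ?_⟩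
      · rcases (mem_zpowers_inv r).1 t with rfl | rfl
        exacts [one_mul _, r]
      · exact ((mem_adj xN r).1 t).elim d fun t => q ((mem_adj zN E.zz).2 (.inr (by rwa [E.cent x (l p.1)])))
      · rw [cent_sup, cent_zpowers, ← inf_assoc, pow_succ, mul_assoc]
        exact f.trans (Nat.mul_le_mul_left _ (hf E (inf_le_left.trans l) (l p.1)))
  obtain ⟨X, a, b, d, e, -⟩ := k 3 le_rfl
  have := T.le z (.refl z) X (a.trans l) fun x p q => ⟨b x p, q, fun t => n ⟨x, a p, t, fun t => d (t ▸ p)⟩⟩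
  omega

theorem fx : FX := fun g v h n => by
  have key : ∀ (k : Co0) (u : Lam), Cg v (k • u) → Cg ((k⁻¹ * g * k⁻¹⁻¹) • u) u := fun k u c => by
    rw [inv_inv, mul_smul, mul_smul]
    simpa using (((c.smul g).symm.trans h).trans c).smul k⁻¹
  have o : ∀ k : Co0, orderOf (k⁻¹ * g * k⁻¹⁻¹) = orderOf g := fun k => (MulAut.conj k⁻¹).orderOf_eq g
  have sh : ∀ (k : Co0) (u : Lam), Cg v (k • u) → sqNorm (cf u) < 64 → sMcL ⊓ MulAction.stabilizer Co0 lU' ≤ MulAction.stabilizer Co0 u →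
      ¬ 13 ∣ #(MulAction.stabilizer Co0 u) → ¬ 49 ∣ #(MulAction.stabilizer Co0 u) →
      orderOf g ≠ 13 ∧ (orderOf g = 7 → ∃ k : Co0, Cg (g • k • lE) (k • lE)) := fun k u c a l b1 b2 => by
    have m : Odd (orderOf g) → k⁻¹ * g * k⁻¹⁻¹ ∈ MulAction.stabilizer Co0 u := fun t => by
      obtain ⟨e, e1, e2⟩ := stab_short a (key k u c)
      rcases H15.mem_center_iff.1 e1 with rfl | rfl
      · rwa [one_mul] at e2
      · have := pow_mem e2 (orderOf g)
        rw [N_pow t, ← o k, pow_orderOf_eq_one, mul_one] at this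
        exact (mul_mem_cancel_left this).1 e2
    refine ⟨fun e => b1 (e ▸ o k ▸ orderOf_dvd_natCard _ (m (by rw [e]; decide))), fun e => ?_⟩
    obtain ⟨P, s⟩ := exists_syl 7 (sMcL ⊓ MulAction.stabilizer Co0 lU')
    have d := s.sdvd_card (by norm_num) (by rw [card_sM22]; norm_num)
    obtain ⟨t, -, r⟩ := (syl_mk (s.le.trans l) s.pi fun r => b2 (by
      rw [← card_mul_relIndex (s.le.trans l)]; exact mul_dvd_mul d r)).scj_le (zpowers_le.2 (m (by rw [e]; decide)))
      (piG_zpowers.2 (by rw [PiE, o, e]; exact (piN_prime (by norm_num)).2 rfl))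
    have := s.le (r (mem_cj'.2 ⟨_, mem_zpowers _, rfl⟩))
    have := (stab_E.2 (mem_NN_of_fix (fix_UU'.1 ⟨this.1.2, this.2⟩).1)).smul (k * t⁻¹)
    exact ⟨k * t⁻¹, by simpa [← mul_smul, mul_assoc] using this⟩
  obtain ⟨k, c | c | c⟩ := (std v).resolve_left n
  · exact sh k _ c (by rw [norm_U]; norm_num) (inf_le_left.trans inf_le_right) (by rw [card_sCo2]; norm_num) (by rw [card_sCo2]; norm_num)
  · exact sh k _ c (by rw [norm_V]; norm_num) (inf_le_left.trans inf_le_left) (by rw [card_sCo3]; norm_num) (by rw [card_sCo3]; norm_num)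
  · refine ⟨fun e => ?_, fun _ => ⟨k, ((c.smul g).symm.trans h).trans c⟩⟩
    have := orderOf_dvd_natCard _ (stab_E.1 (key k _ c))
    rw [o, e, card_NN] at this
    omega

end H18.PR
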