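/-
Simple groups with five class sizes and two maximal centralizer orders: these are coprime.
-/
import Cfsg.Agent.H25.R4b

set_option autoImplicit false
set_option linter.unusedSectionVars false

open Cfsg
namespace H18.R5
open H19 Subgroup H5.SC H24 H25.R4

variable {G : Type*} [Group G] [Finite G] {p q r s : ℕ} {g h t u v w x y z x' y' : G}
  {K P : Subgroup G}

/-- at most five centralizer orders -/
def F5 (G : Type*) [Group G] : Prop :=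
  ∃ s : Finset ℕ, s.card ≤ 5 ∧ ∀ g : G, g ≠ 1 → #C[g] ∈ s

theorem F5.six (H : F5 G) (g1 : g ≠ 1) (h1 : h ≠ 1) (u1 : u ≠ 1) (v1 : v ≠ 1) (x1 : x ≠ 1)
    (y1 : y ≠ 1) : #C[g] = #C[h] ∨ #C[g] = #C[u] ∨ #C[g] = #C[v] ∨ #C[g] = #C[x] ∨ #C[g] = #C[y] ∨
      #C[h] = #C[u] ∨ #C[h] = #C[v] ∨ #C[h] = #C[x] ∨ #C[h] = #C[y] ∨ #C[u] = #C[v] ∨ #C[u] = #C[x] ∨
      #C[u] = #C[y] ∨ #C[v] = #C[x] ∨ #C[v] = #C[y] ∨ #C[x] = #C[y] := by
  by_contra! n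
  have n : [#C[g], #C[h], #C[u], #C[v], #C[x], #C[y]].Nodup := by
    simp only [List.nodup_cons, List.mem_cons, List.not_mem_nil, List.nodup_nil, n, or_self,
      not_false_eq_true, and_self]
  obtain ⟨s, hs, m⟩ := H
  have := Finset.card_le_card (s := [#C[g], #C[h], #C[u], #C[v], #C[x], #C[y]].toFinset) (t := s)
    (by intro a; simp only [List.mem_toFinset, List.mem_cons, List.not_mem_nil, or_false]
        rintro (rfl | rfl | rfl | rfl | rfl | rfl) <;> exact m _ ‹_›)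
  rw [List.toFinset_card_of_nodup n] at this
  exact absurd (this.trans hs) (by simp)

/-- two maximal centralizer orders -/
structure Hd2 (x y : G) : Prop where
  hZ : center G = ⊥
  x1 : x ≠ 1
  y1 : y ≠ 1
  dv : ∀ g : G, g ≠ 1 → #C[g] ∣ #C[x] ∨ #C[g] ∣ #C[y]
  f5 : F5 G

theorem grow (hp : p.Prime) (d : p ∣ #K) (n : p ∣ K.index) :
    ∃ g ∈ K, orderOf g = p ∧ ¬ #C[g] ∣ #K := by
  obtain ⟨P, hP⟩ := H19.exists_syl p K
  obtain ⟨Q, l, pQ, -, nQ⟩ := hP.pi.exists_lt_norm le_top fun e =>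
    e.not_dvd_relIndex hp hP.le (by rwa [relIndex_top_right])
  obtain ⟨g, hg, og⟩ := exists_orderOf_eq_prime hp ((hP.pi.infl _).dvd_of_ne_bot
    (hP.pi.meet_cent pQ nQ (hP.sne_bot hp d)))
  exact ⟨g, hP.le hg.1, og, fun e => (card_lt l).not_ge (Nat.le_of_dvd (card_pos _)
    (hP.dvd pQ ((card_dvd (le_cent1_iff.2 hg.2)).trans e)))⟩

theorem into (hp : p.Prime) (n : ¬ p ∣ cs x) (pg : PiE {p} g) : ∃ k, k * g * k⁻¹ ∈ C[x] := by
  obtain ⟨P, hP⟩ := H19.exists_syl p C[x]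
  obtain ⟨k, hk⟩ := conj_into (hP.of_idx le_top (by rw [relIndex_top_right]; exact PiN.of_not_dvd n))
    (mem_top g) pg rfl
  exact ⟨k, hP.le hk⟩

theorem swap_conj {k : G} (h : k * g * k⁻¹ ∈ C[x]) : k⁻¹ * x * k⁻¹⁻¹ ∈ C[g] := by
  rw [mem_cent1] at h ⊢
  calc _ = k⁻¹ * (x * (k * g * k⁻¹)) * k := by group
    _ = _ := by rw [← h]; group

variable [IsSimpleGroup G]

namespace Hd2
variable (H : Hd2 x y)
include H

theorem symm : Hd2 y x := ⟨H.hZ, H.y1, H.x1, fun g g1 => (H.dv g g1).symm, H.f5⟩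

theorem cop : (cs x).Coprime (cs y) := Nat.coprime_of_dvd fun p hp d d' => by
  obtain ⟨w, w1, -, hw⟩ := exists_pcentral hp (d.trans (cs_dvd_card x))
  rcases H.dv w w1 with e | e
  exacts [hw (d.trans (cs_dvd e)), hw (d'.trans (cs_dvd e))]

theorem nd : ¬ #C[x] ∣ #C[y] := fun e =>
  (one_lt_cs H.hZ H.y1).ne' (H.cop.symm.eq_one_of_dvd (cs_dvd e))

theorem ne1 (e : #C[g] = #C[x]) : g ≠ 1 := fun f => by
  have := cs_eq e
  rw [f, cs_one] at this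
  exact (one_lt_cs H.hZ H.x1).ne this

theorem nc (e : #C[g] = #C[x]) (f : #C[h] = #C[y]) : h ∉ C[g] :=
  not_comm_of_coprime H.hZ (H.ne1 e) (H.symm.ne1 f) (by rw [cs_eq e, cs_eq f]; exact H.cop)

theorem repl (e : #C[g] = #C[x]) : Hd2 g y := ⟨H.hZ, H.ne1 e, H.y1, e ▸ H.dv, H.f5⟩

theorem full (g1 : g ≠ 1) (e : #C[x] ∣ #C[g]) : #C[g] = #C[x] :=
  Nat.dvd_antisymm ((H.dv g g1).resolve_right fun f => H.nd (e.trans f)) e

theorem prime : ∃ (r : ℕ) (g : G), r.Prime ∧ orderOf g = r ∧ #C[g] = #C[x] := by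
  obtain ⟨r, hr, d⟩ := exists_prime_dvd_orderOf H.x1
  obtain ⟨g, hg, og⟩ := exists_orderOf_eq_prime (H := zpowers x) hr (by rwa [Nat.card_zpowers])
  exact ⟨r, g, hr, og, H.full (ne_one_of_prime hr og) (card_dvd (cent1_le_cent1_of_mem_zpowers hg))⟩

theorem pd (px : PiE {r} g) (e : #C[g] = #C[x]) : r ∣ cs y := by
  by_contra n
  obtain ⟨k, hk⟩ := into (px.dvd_of_ne_one (by simpa using H.ne1 e)).1 n px
  exact H.nc ((c_conj k g).trans e) rfl (mem_cent1_symm.1 hk)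

theorem tw (pg : PiE {p} g) (g1 : g ≠ 1) (hx : x ∈ C[g]) (hy : y ∈ C[g]) (px : PiE {r} x)
    (py : PiE {s} y) (rp : r ≠ p) (sp : s ≠ p) : ∃ u v : G, u ≠ 1 ∧ v ≠ 1 ∧ #C[u] ∣ #C[g] ∧
      #C[v] ∣ #C[g] ∧ #C[u] ≠ #C[g] ∧ #C[v] ≠ #C[g] ∧ #C[u] ≠ #C[v] := by
  by_contra! n
  have hp := (pg.dvd_of_ne_one (by simpa using g1)).1
  have hr := (px.dvd_of_ne_one (by simpa using H.x1)).1
  have hs := (py.dvd_of_ne_one (by simpa using H.y1)).1
  have k : ∀ z ∈ C[g], PiE {p}ᶜ z → z ∉ C(C[g]) → z * g ≠ 1 ∧ #C[z * g] = #(C[z] ⊓ C[g]) ∧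
      #C[z * g] ∣ #C[g] ∧ #C[z * g] ≠ #C[g] := fun z hz pz nz => by
    have e := cent1_mul pz pg.compl_compl (mem_cent1.1 hz)
    exact ⟨mul_ne pz pg.compl_compl g1, by rw [e], e ▸ card_dvd inf_le_right, fun f => nz
      (le_cent1_iff.1 ((eq_of_le_of_card_eq inf_le_right (e ▸ f)).ge.trans inf_le_left))⟩
  rcases H25.Ito.two_reg' (A := C[g]) hp fun a ha b hb c c' d d' => by
      obtain ⟨a1, a2, a3, a4⟩ := k a ha c d
      obtain ⟨b1, b2, b3, b4⟩ := k b hb c' d'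
      rw [← a2, ← b2]; exact n _ _ a1 b1 a3 b3 a4 b4 with ⟨B, hB, hB'⟩ | ⟨j, -, -, hj⟩
  · obtain ⟨k, hk⟩ := conj_into hB' hx px rp
    obtain ⟨k', hk'⟩ := conj_into hB' hy py sp
    exact H.nc (c_conj k x) (c_conj k' y) (mem_cent1.2 (mul_comm_of_comm hB hk' hk))
  · refine H.nc rfl rfl ?_
    by_cases e : r = j
    · exact mem_cent1_symm.1 (le_cent1_iff.2 (hj s y hy hs sp (fun f => hr.one_lt.ne'
        (Nat.eq_one_of_dvd_coprimes H.cop (e ▸ f ▸ H.symm.pd py rfl) (H.pd px rfl))) py) hx)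
    · exact le_cent1_iff.2 (hj r x hx hr rp e px) hy

theorem mix (hp : p.Prime) (d1 : p ∣ cs y) (d2 : p ∣ #C[y]) :
    ∃ g ∈ C[y], orderOf g = p ∧ ¬ #C[g] ∣ #C[y] ∧ #C[g] ∣ #C[x] ∧ #C[g] ≠ #C[x] := by
  obtain ⟨g, hg, og, n⟩ := grow hp d2 d1
  exact ⟨g, hg, og, n, (H.dv g (ne_one_of_prime hp og)).resolve_right n, fun e =>
    H.nc e rfl (mem_cent1_symm.1 hg)⟩

theorem vals (py : PiE {s} y) (hp : p.Prime) (d1 : p ∣ cs y) (d2 : p ∣ #C[y]) :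
    ∃ g ∈ C[y], orderOf g = p ∧ ¬ #C[g] ∣ #C[y] ∧ #C[g] ∣ #C[x] ∧ #C[g] ≠ #C[x] ∧ ∃ m, m ∣ #C[y] ∧
      ∀ w : G, w ≠ 1 → #C[w] ∣ #C[x] → #C[w] = #C[x] ∨ #C[w] = #C[g] ∨ #C[w] = m := by
  obtain ⟨g, hg, og, n, dg, ng⟩ := H.mix hp d1 d2
  have hs := (py.dvd_of_ne_one (by simpa using H.y1)).1
  have ds := H.symm.pd py rfl
  have sp : s ≠ p := fun e => hp.one_lt.ne' (Nat.eq_one_of_dvd_coprimes H.cop (e ▸ ds) d1)
  have pg := piE_of hp og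
  have e := cent1_mul pg (py.sing_ne sp) (mem_cent1.1 hg)
  obtain ⟨h, -, oh, n', dh, nh⟩ := H.symm.mix hs ds
    ((dvd_c py H.y1 (mem_cent1_symm.1 hg)).trans dg)
  have m1 : #C[g * y] ∣ #C[y] := e ▸ card_dvd inf_le_right
  have m2 : #C[g * y] ∣ #C[x] := (e ▸ card_dvd inf_le_left : _ ∣ #C[g]).trans dg
  refine ⟨g, hg, og, n, dg, ng, _, m1, fun w w1 dw => ?_⟩
  have k := H.f5.six H.x1 H.y1 (ne_one_of_prime hp og) (ne_one_of_prime hs oh)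
    (mul_ne pg (py.sing_ne sp) H.y1) w1
  have : #C[x] ≠ #C[y] := fun e => H.nd e.dvd
  have : #C[g] ≠ #C[y] := fun e => n e.dvd
  have : #C[h] ≠ #C[x] := fun e => n' e.dvd
  have : #C[h] ≠ #C[g] := fun e => n (e ▸ dh)
  have : #C[g * y] ≠ #C[x] := fun e => H.nd (e ▸ m1)
  have : #C[g * y] ≠ #C[y] := fun e => H.symm.nd (e ▸ m2)
  have : #C[g * y] ≠ #C[g] := fun e => n (e ▸ m1)
  have : #C[g * y] ≠ #C[h] := fun e => n' (e ▸ m2)
  have : #C[w] ≠ #C[y] := fun e => H.symm.nd (e ▸ dw)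
  have : #C[w] ≠ #C[h] := fun e => n' (e ▸ dw)
  by_contra! c
  obtain ⟨_, _, _⟩ := c
  rcases k with e | e | e | e | e | e | e | e | e | e | e | e | e | e | e <;>
    first | exact absurd e ‹_› | exact absurd e.symm ‹_›

theorem same (px : PiE {r} x) (py : PiE {s} y) (hp : p.Prime) (d1 : p ∣ cs y) (d2 : p ∣ #C[y]) :
    r = p := by
  by_contra rp
  obtain ⟨g, hg, og, n, dg, ng, m, -, hm⟩ := H.vals py hp d1 d2
  have nx : ¬ p ∣ cs x := fun e => hp.one_lt.ne' (Nat.eq_one_of_dvd_coprimes H.cop e d1)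
  obtain ⟨k, hk⟩ := into hp nx (piE_of hp og)
  obtain ⟨u, v, u1, v1, du, dv, a, b, c⟩ := (H.repl (c_conj k⁻¹ x)).tw (piE_of hp og)
    (ne_one_of_prime hp og) (swap_conj hk) (mem_cent1_symm.1 hg) (px.e_conj _) py rp
    fun e => nx (e ▸ H.symm.pd py rfl)
  have := hm u u1 (du.trans dg); have := hm v v1 (dv.trans dg)
  have : #C[u] ≠ #C[x] := fun e => ng (Nat.dvd_antisymm dg (e ▸ du))
  have : #C[v] ≠ #C[x] := fun e => ng (Nat.dvd_antisymm dg (e ▸ dv))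
  omega

theorem nomix' (px : PiE {r} x) (py : PiE {s} y) (hp : p.Prime) (d1 : p ∣ cs y) :
    ¬ p ∣ #C[y] := fun d2 => by
  obtain rfl := H.same px py hp d1 d2
  obtain ⟨g, hg, og, n, dg, ng, m, dm, hm⟩ := H.vals py hp d1 d2
  obtain ⟨q, hq, dq, ne⟩ := two_primes H.hZ H.y1 hp
  have nq : ¬ q ∣ #C[y] := fun e => ne (H.same px py hq dq e).symm
  have hs := (py.dvd_of_ne_one (by simpa using H.y1)).1
  have ds := H.symm.pd py rfl
  have k : ∀ w : G, w ≠ 1 → q ∣ #C[w] → #C[w] = #C[x] ∨ #C[w] = #C[g] := fun w w1 d => by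
    rcases hm w w1 ((H.dv w w1).resolve_right fun e => nq (d.trans e)) with e | e | e
    exacts [.inl e, .inr e, (nq (d.trans (e ▸ dm))).elim]
  obtain ⟨v, -, ov⟩ := exists_orderOf_eq_prime (H := ⊤) hq (card_top (G := G) ▸ dq.trans (cs_dvd_card y))
  have pv := piE_of hq ov
  have v1 := ne_one_of_prime hq ov
  have qv := dvd_c pv v1 (mem_cent1_self v)
  have ev := (k v v1 qv).resolve_left fun e => ne ((H.repl e).same pv py hp d1 d2)
  obtain ⟨h, hh, oh, nh⟩ := grow (K := C[v]) hs (ev ▸ dvd_c py H.y1 (mem_cent1_symm.1 hg))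
    (ds.trans (cs_dvd (ev ▸ dg)))
  have sq : q ≠ s := fun e => hq.one_lt.ne' (Nat.eq_one_of_dvd_coprimes H.cop (e ▸ ds) dq)
  have h1 := ne_one_of_prime hs oh
  rcases k h h1 (dvd_c pv v1 (mem_cent1_symm.1 hh)) with e | e
  · exact hs.one_lt.ne' (Nat.eq_one_of_dvd_coprimes H.cop ds (H.pd (piE_of hs oh) e))
  · exact nh (e.trans ev.symm).dvd

theorem nomix (hp : p.Prime) (d1 : p ∣ cs y) : ¬ p ∣ #C[y] := by
  obtain ⟨r, x', hr, ox, ex⟩ := H.prime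
  obtain ⟨s, y', hs, oy, ey⟩ := H.symm.prime
  rw [← ey]
  exact ((H.repl ex).symm.repl ey).symm.nomix' (piE_of hr ox) (piE_of hs oy) hp (cs_eq ey ▸ d1)

theorem noneu (hp : p.Prime) (d : p ∣ Nat.card G) : p ∣ cs x ∨ p ∣ cs y := by
  by_contra! n
  obtain ⟨r, x', hr, ox, ex⟩ := H.prime
  obtain ⟨s, y', hs, oy, ey⟩ := H.symm.prime
  obtain ⟨P, hP⟩ := H19.exists_syl p (⊤ : Subgroup G)
  obtain ⟨g, hg, g1⟩ := exists_ne_one (hP.pi.center_ne_bot (hP.sne_bot hp (by rwa [card_top])))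
  have k : ∀ w : G, ¬ p ∣ cs w → ∃ k, k * w * k⁻¹ ∈ C[g] := fun w nw => by
    obtain ⟨Q, hQ⟩ := H19.exists_syl p C[w]
    obtain ⟨k, -, e⟩ := (hQ.of_idx le_top (by
      rw [relIndex_top_right]; exact PiN.of_not_dvd nw)).sconj hP
    exact ⟨k, mem_cent1_symm.1 (cj_cent1 k w ▸ cj_mono k hQ.le (e ▸ hg.1))⟩
  obtain ⟨k', hk'⟩ := k y' (cs_eq ey ▸ n.2)
  obtain ⟨k, hk⟩ := k x' (cs_eq ex ▸ n.1)
  rcases H.dv g g1 with e | e
  · exact H.symm.nomix hs (H.symm.pd (piE_of hs oy) ey) ((dvd_c ((piE_of hs oy).e_conj k')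
      (conj_ne (ne_one_of_prime hs oy) _) hk').trans e)
  · exact H.nomix hr (H.pd (piE_of hr ox) ex) ((dvd_c ((piE_of hr ox).e_conj k)
      (conj_ne (ne_one_of_prime hr ox) _) hk).trans e)

theorem cop' : (#C[x]).Coprime #C[y] := Nat.coprime_of_dvd fun p hp d d' =>
  (H.noneu hp (d.trans (card_subgroup_dvd_card _))).elim (fun e => H.symm.nomix hp e d)
    fun e => H.nomix hp e d'

theorem cs_x : cs x = #C[y] := Nat.dvd_antisymm
  (H.cop.dvd_of_dvd_mul_left (by rw [cs_mul_card]; exact cs_dvd_card x))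
  (H.cop'.symm.dvd_of_dvd_mul_right (by rw [cs_mul_card]; exact card_subgroup_dvd_card _))

end Hd2

end H18.R5
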