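/-
An isolated subgroup whose order is a class size: the exceptional characters.
-/
import Cfsg.Agent.H18.R5a
import Cfsg.Agent.S1534
import Cfsg.Agent.S0852
import Cfsg.Agent.H5.Frobenius
import Cfsg.Agent.H3.ThompsonFpf

set_option autoImplicit false
set_option linter.unusedSectionVars false
set_option linter.style.haveILetI false

open Cfsg
namespace H18.R5
open H19 Subgroup H5 H5.SC H24 H25.R4
open scoped ComplexConjugate

variable {G : Type*} [Group G] [Finite G] {p q : ℕ} {a g k w x y : G} {B : Subgroup G}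

theorem nil_cen (h : Nil B) (hp : p.Prime) (d : p ∣ #B) : ∃ y ∈ Z(B), orderOf y = p := by
  obtain ⟨y, hy, oy⟩ := exists_orderOf_eq_prime hp (((Oc_pi {p} B).infl _).dvd_of_ne_bot
    (nil_meet_center h (Oc_normal _ _) ((nil_Oc_hall h {p}).ne_bot hp rfl d)))
  exact ⟨y, ⟨Oc_le _ _ hy.1, hy.2⟩, oy⟩

/-- an isolated subgroup whose order is the class size of `x` -/
structure Iso (B : Subgroup G) (x : G) : Prop where
  hZ : center G = ⊥
  x1 : x ≠ 1
  hC : ∀ k ∈ B, k ≠ 1 → C[k] ≤ B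
  hx : cs x = #B
  z : Z(B) ≠ ⊥

namespace Iso
variable [IsSimpleGroup G] (H : Iso B x)
include H

theorem ti : ∀ g : G, g ∉ N(B) → ∀ k ∈ B, g * k * g⁻¹ ∈ B → k = 1 := fun g hg k hk e => by
  by_contra k1
  obtain ⟨y, hy, y1⟩ := exists_ne_one H.z
  have : g * y * g⁻¹ ∈ B := H.hC _ e (conj_ne k1 g) (by
    rw [← cj_cent1]; exact H19.conj_mem_cj.2 (cent_le_cent1 hk hy.2))
  exact hg (mem_norm_of_cj_le ((cj_mono g (le_cent1_iff.2 hy.2)).trans
    (cj_cent1 g y ▸ H.hC _ this (conj_ne y1 g))))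

theorem cent (hy : y ∈ Z(B)) (y1 : y ≠ 1) : C[y] = B :=
  le_antisymm (H.hC y hy.1 y1) (le_cent1_iff.2 hy.2)

theorem cop : (#B).Coprime B.index := coprime_card_index_of_centralizer_le H.hC

theorem cx : #C[x] = B.index := Nat.eq_of_mul_eq_mul_left (card_pos B) (by
  rw [B.card_mul_index, ← H.hx, cs_mul_card])

theorem fpf (ha : a ∈ B) (e : k * a * k⁻¹ ∈ C[x]) : a = 1 :=
  orderOf_eq_one_iff.1 (Nat.eq_one_of_dvd_coprimes H.cop (orderOf_dvd_card' ha)
    (by rw [← H.cx, ← H19.orderOf_conj' k]; exact orderOf_dvd_card' e))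

theorem off : Off B x := fun k hk => by
  simpa using H.fpf (k := k⁻¹) hk (by simpa [mul_assoc] using mem_cent1_self x)

theorem lt : B < N(B) := by
  refine lt_of_le_of_ne le_normalizer fun e => ?_
  obtain ⟨M, hM, m, -⟩ := frobenius_kernel B (fun g hg => H.ti g (e ▸ hg))
  rcases hM.eq_bot_or_eq_top with rfl | rfl
  · exact H.x1 (mem_bot.1 ((m x).2 (.inr fun k hk => H.x1 (H.off k hk))))
  · obtain ⟨y, hy, y1⟩ := exists_ne_one H.z
    exact ((m y).1 trivial).elim y1 fun f => f 1 (by simpa using hy.1)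

theorem nil : Nil B := by
  obtain ⟨p, hp, d⟩ := Nat.exists_prime_and_dvd (n := B.relIndex N(B)) fun e =>
    H.lt.not_ge (relIndex_eq_one.1 e)
  obtain ⟨g, hg, og⟩ := exists_orderOf_eq_prime hp (d.trans (relIndex_dvd_card B N(B)))
  refine H3.isNilpotent_of_fpf_prime (zpowers_le.2 hg) (by rwa [Nat.card_zpowers, og])
    (eq_bot_iff.2 fun k hk => by_contra fun k1 => hp.one_lt.ne' (Nat.eq_one_of_dvd_coprimes H.cop
      (og ▸ orderOf_dvd_card' (H.hC k hk.1 k1 (mem_cent1.2 (hk.2 g (mem_zpowers g)))))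
      (d.trans (relIndex_dvd_index_of_le le_normalizer))))

theorem two : ∃ p q : ℕ, p.Prime ∧ q.Prime ∧ q ≠ p ∧ ∃ y ∈ Z(B), ∃ y' ∈ Z(B), orderOf y = p ∧
    orderOf y' = q := by
  obtain ⟨p, hp, dp, -⟩ := two_primes H.hZ H.x1 Nat.prime_two
  obtain ⟨q, hq, dq, ne⟩ := two_primes H.hZ H.x1 hp
  obtain ⟨y, hy, oy⟩ := nil_cen H.nil hp (H.hx ▸ dp)
  obtain ⟨y', hy', oy'⟩ := nil_cen H.nil hq (H.hx ▸ dq)
  exact ⟨p, q, hp, hq, ne, y, hy, y', hy', oy, oy'⟩

theorem copy (hy : y ∈ Z(B)) (y1 : y ≠ 1) : (cs x).Coprime (cs y) := by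
  rw [H.hx, cs, H.cent hy y1]; exact H.cop

theorem exc : ∃ E : IrrCharacter G → Prop, (∀ φ, E φ → φ.1 x = 0) ∧
    (∀ φ ψ, E φ → E ψ → ∀ g, Off B g → φ.1 g * ψ.1 1 = ψ.1 g * φ.1 1) ∧
    ∀ φ, ¬ E φ → ∀ a ∈ B, ∀ b ∈ B, a ≠ 1 → b ≠ 1 → φ.1 a = φ.1 b := by
  classical
  haveI := Fintype.ofFinite G
  haveI := Fintype.ofFinite N(B)
  obtain ⟨p, q, hp, hq, ne, y, hy, y', hy', oy, oy'⟩ := H.two
  have y1 := ne_one_of_prime hp oy
  have y1' := ne_one_of_prime hq oy'
  have B1 : B ≠ ⊥ := ne_bot_of_mem hy.1 y1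
  obtain ⟨⟨α, hα, α0⟩, star, hstar, hext⟩ := ((Cfsg.Agent.S1534.result B B1 H.nil H.ti H.lt
    H.hC).resolve_left (by
      rintro ⟨-, -, r, hr, -, e⟩
      exact ne (((Nat.prime_dvd_prime_iff_eq hq hr).1 (oy' ▸ orderOf_dvd_of_pow_eq_one (e _ hy'.1))).trans
        ((Nat.prime_dvd_prime_iff_eq hp hr).1 (oy ▸ orderOf_dvd_of_pow_eq_one (e _ hy.1))).symm))).resolve_left
    (by
      rintro ⟨e, -⟩
      have pB := PiN.of_card_pow Nat.prime_two e
      exact ne ((pB _ hq (oy' ▸ orderOf_dvd_card' hy'.1)).trans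
        (pB _ hp (oy ▸ orderOf_dvd_card' hy.1)).symm))
  set S := {χ : N(B) → ℂ | IsIrrCharacter N(B) χ ∧ ∃ k : N(B), (k : G) ∈ B ∧ χ k ≠ χ 1} with hS
  have hS' : ∀ χ, χ ∈ S ↔ IsIrrCharacter _ χ ∧ ¬ B.subgroupOf _ ≤ charKer χ := fun χ =>
    and_congr_right fun h => (not_le_charKer_subgroupOf_iff h.isCharacter).symm
  have two : ∃ χ ∈ S, ∃ ξ ∈ S, χ ≠ ξ := by
    by_contra! n
    rcases S.eq_empty_or_nonempty with e | ⟨χ, hχ⟩
    · rw [e] at hα
      exact α0 (by simpa [zspan] using hα.1)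
    · have e : S = {χ} := Set.eq_singleton_iff_unique_mem.2 ⟨hχ, fun ξ hξ => n ξ hξ χ hχ⟩
      rw [e] at hα
      obtain ⟨m, rfl⟩ := Submodule.mem_span_singleton.1 hα.1
      have := hα.2 1 (by simp)
      simp only [Pi.smul_apply, zsmul_eq_mul, mul_eq_zero, Int.cast_eq_zero,
        hχ.1.apply_one_ne_zero, or_false] at this
      exact α0 (by simp [this])
  have ca := fun χ ξ (hχ : χ ∈ S) (hξ : ξ ∈ S) => coherent_apply H.ti H.hC hS' hstar hext hχ hξ
  have off : ∀ χ ∈ S, ∀ ξ ∈ S, ∀ g, Off B g → χ 1 * star ξ g = ξ 1 * star χ g := by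
    intro χ hχ ξ hξ g hg
    have := congrFun (ca χ ξ hχ hξ).1 g
    rw [indFun_eq_zero _ _ fun k hk => ?_] at this
    · exact sub_eq_zero.1 this
    · by_cases m : k * g * k⁻¹ ∈ B
      · obtain rfl := hg k m
        have : (⟨k * 1 * k⁻¹, hk⟩ : N(B)) = 1 := Subtype.ext (by simp)
        rw [this]; simp [mul_comm]
      · simp [hχ.1.apply_eq_zero_of_frob (frob_subgroupOf H.hC _) ((hS' χ).1 hχ).2 (g := ⟨_, hk⟩) m,
          hξ.1.apply_eq_zero_of_frob (frob_subgroupOf H.hC _) ((hS' ξ).1 hξ).2 (g := ⟨_, hk⟩) m]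
  have sp : ∀ χ ∈ S, χ ∈ zspan S := fun χ hχ => Submodule.subset_span hχ
  have irr : ∀ χ ∈ S, IsIrrCharacter G (star χ) ∨ IsIrrCharacter G (-star χ) := fun χ hχ =>
    (hstar.2.2.2 _ (sp χ hχ)).isIrr_or_neg (by
      rw [hstar.2.2.1 _ (sp χ hχ) _ (sp χ hχ), hχ.1.classInner_self])
  have cm : ∀ χ ∈ S, star χ 1 * star χ (x * y) = star χ x * star χ y := fun χ hχ => by
    rcases irr χ hχ with e | e
    · exact chi_mul (H.copy hy y1) ⟨_, e⟩
    · simpa using chi_mul (H.copy hy y1) ⟨_, e⟩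
  have cf : ∀ χ ∈ S, IsClassFunction G (star χ) := fun χ hχ =>
    (hstar.2.2.2 _ (sp χ hχ)).isClassFunction
  have z : ∀ χ ∈ S, star χ x = 0 := fun χ hχ => by
    by_contra z
    have n0 := hχ.1.apply_one_ne_zero
    let Y : N(B) := ⟨y, le_normalizer hy.1⟩
    let Y' : N(B) := ⟨y', le_normalizer hy'.1⟩
    have cN : ∀ {a b : N(B)}, IsConj a b → IsConj (a : G) b := fun h => N(B).subtype.map_isConj h
    obtain ⟨h, h1, h2, c1, c3, hc⟩ : ∃ h : N(B), ¬ IsConj h Y ∧ ¬ IsConj h Y' ∧ ∃ c1 c3 : ℂ,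
        ∀ ξ ∈ S, χ 1 * star χ x * ξ Y = c1 * ξ h + c3 * ξ 1 := by
      have k : ∀ ξ ∈ S, χ 1 * star χ 1 * star ξ (x * y) =
          star χ x * (χ 1 * ξ Y + ξ 1 * (star χ y - χ Y)) := by
        intro ξ hξ
        have a := cm ξ hξ
        have b := off χ hχ ξ hξ 1 off_one
        have c := off χ hχ ξ hξ x H.off
        have d := (ca χ ξ hχ hξ).2 Y hy.1 fun e => y1 (congrArg Subtype.val e)
        have n1 := hξ.1.apply_one_ne_zero
        refine mul_left_cancel₀ n1 ?_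
        linear_combination χ 1 * χ 1 * a - χ 1 * star ξ (x * y) * b + χ 1 * star ξ y * c
          + ξ 1 * star χ x * d
      by_cases o : Off B (x * y)
      · refine ⟨1, fun e => y1 (congrArg Subtype.val (isConj_one_right.1 e)),
          fun e => y1' (congrArg Subtype.val (isConj_one_right.1 e)), 0,
          star χ 1 * star χ (x * y) - star χ x * (star χ y - χ Y), fun ξ hξ => ?_⟩
        have a := k ξ hξ
        have b := off χ hχ ξ hξ _ o
        linear_combination -a + star χ 1 * b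
      · obtain ⟨j, hj⟩ := not_forall.1 o
        obtain ⟨j1, j2⟩ := _root_.not_imp.1 hj
        have nj : cs (j * (x * y) * j⁻¹) ≠ B.index := fun e => by
          rw [cs_conj, ← H.cent hy y1, ← cs_mul_comm] at e
          exact cs_mul_ne_left H.hZ y1 H.x1 (H.copy hy y1).symm e
        let h : N(B) := ⟨_, le_normalizer j1⟩
        refine ⟨h, fun e => nj ((cs_eq_of_isConj (cN e)).trans (congrArg index (H.cent hy y1))),
          fun e => nj ((cs_eq_of_isConj (cN e)).trans (congrArg index (H.cent hy' y1'))),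
          χ 1 * star χ 1, star χ 1 * (star χ h - χ h) - star χ x * (star χ y - χ Y), fun ξ hξ => ?_⟩
        have a := k ξ hξ
        have b := (ca χ ξ hχ hξ).2 h j1 fun e => conj_ne j2 j (congrArg Subtype.val e)
        rw [← cf ξ hξ (x * y) j] at a
        linear_combination -a + star χ 1 * b
    have s : ∑ ξ : IrrCharacter N(B), (χ 1 * star χ x * ξ.1 Y - c1 * ξ.1 h - c3 * ξ.1 1) *
        (conj (ξ.1 Y) - conj (ξ.1 Y')) = 0 := Finset.sum_eq_zero fun ξ _ => by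
      by_cases m : ξ.1 ∈ S
      · rw [hc _ m]; ring
      · have m' : ∀ k : N(B), (k : G) ∈ B → ξ.1 k = ξ.1 1 := fun k hk => by_contra fun e => m ⟨ξ.2, k, hk, e⟩
        rw [m' Y hy.1, m' Y' hy'.1]; ring
    simp only [sub_mul, mul_sub, mul_assoc, Finset.sum_sub_distrib, ← Finset.mul_sum] at s
    rw [sum_irr_mul_conj_of_isConj (IsConj.refl _), sum_irr_mul_conj_of_not_isConj h1,
      sum_irr_mul_conj_of_not_isConj h2, sum_irr_mul_conj_of_not_isConj (g := 1)
        fun e => y1 (congrArg Subtype.val (isConj_one_right.1 e)), sum_irr_mul_conj_of_not_isConj (g := 1)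
        fun e => y1' (congrArg Subtype.val (isConj_one_right.1 e)), sum_irr_mul_conj_of_not_isConj (g := Y)
        fun e => ne (oy'.symm.trans ((orderOf_eq_of_isConj (cN e)).symm.trans oy))] at s
    simp [z, n0, (card_pos _).ne'] at s
  refine ⟨fun φ => ∃ χ ∈ S, φ.1 = star χ ∨ φ.1 = -star χ, ?_, ?_, fun φ hφ a ha b hb a1 b1 => ?_⟩
  · rintro φ ⟨χ, hχ, e | e⟩ <;> simp [e, z χ hχ]
  · rintro φ ψ ⟨χ, hχ, e⟩ ⟨ξ, hξ, f⟩ g hg
    have a := off χ hχ ξ hξ g hg
    have b := off χ hχ ξ hξ 1 off_one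
    refine mul_left_cancel₀ hχ.1.apply_one_ne_zero ?_
    rcases e with e | e <;> rcases f with f | f <;> simp only [e, f, Pi.neg_apply]
    · linear_combination star χ g * b - star χ 1 * a
    · linear_combination -star χ g * b + star χ 1 * a
    · linear_combination -star χ g * b + star χ 1 * a
    · linear_combination star χ g * b - star χ 1 * a
  · by_contra n
    exact hφ ((Cfsg.Agent.S0852.result B H.ti H.lt H.hC S rfl two star hstar hext φ.1 φ.2).2
      ⟨a, ha, b, hb, a1, b1, n⟩)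

end Iso

end H18.R5
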