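/-
An isolated subgroup whose order is a class size: the permutation character on the class.
-/
import Cfsg.Agent.H18.R5b

set_option autoImplicit false
set_option linter.unusedSectionVars false
set_option linter.style.haveILetI false

open Cfsg
namespace H18.R5
open H19 Subgroup H5 H5.SC H24 H25.R4

variable {G : Type*} [Group G] [Finite G] {p q : ℕ} {a g k w x y : G} {B : Subgroup G}

/-- the permutation character on the class of `x` -/
noncomputable def pc (x y : G) : ℕ := Nat.card (MulAction.fixedBy (G ⧸ C[x]) y)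

theorem mem_fix (y k : G) :
    (k : G ⧸ C[x]) ∈ MulAction.fixedBy (G ⧸ C[x]) y ↔ k⁻¹ * y * k ∈ C[x] := by
  rw [MulAction.mem_fixedBy, MulAction.Quotient.smul_mk, smul_eq_mul, eq_comm, QuotientGroup.eq,
    mul_assoc]

theorem pc_one : pc x 1 = cs x := by
  simp only [pc, MulAction.fixedBy_one_eq_univ, Nat.card_univ]; rfl

theorem pc_zero : pc x y = 0 ↔ ∀ k, k⁻¹ * y * k ∉ C[x] := by
  rw [pc, Nat.card_eq_zero, or_iff_left (not_infinite_iff_finite.2 inferInstance)]
  refine ⟨fun h k hk => h.false ⟨_, (mem_fix y k).2 hk⟩, fun h => ⟨fun ⟨q, hq⟩ => ?_⟩⟩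
  obtain ⟨k, rfl⟩ := QuotientGroup.mk_surjective q
  exact h k ((mem_fix y k).1 hq)

theorem pch : IsCharacter G fun y => (pc x y : ℂ) - 1 := isCharacter_perm_sub_one (G := G) (G ⧸ C[x])

theorem sum_cst [Fintype B] {φ : G → ℂ} (hw : w ∈ B) (w1 : w ≠ 1) (s : ∑ a : B, φ a = 0)
    (h : ∀ a ∈ B, ∀ b ∈ B, a ≠ 1 → b ≠ 1 → φ a = φ b) : φ 1 = (#B - 1) * -φ w := by
  classical
  rw [← Finset.add_sum_erase _ _ (Finset.mem_univ 1), Finset.sum_congr rfl
    (g := fun _ => φ w) fun (b : B) hb => h b b.2 w hw (fun e =>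
      Finset.ne_of_mem_erase hb (Subtype.ext e)) w1, Finset.sum_const,
    Finset.card_erase_of_mem (Finset.mem_univ _), Finset.card_univ, ← Nat.card_eq_fintype_card,
    nsmul_eq_mul, Nat.cast_sub (card_pos B)] at s
  simp only [OneMemClass.coe_one, Nat.cast_one] at s
  linear_combination s

namespace Iso
variable [IsSimpleGroup G] (H : Iso B x)
include H

theorem n1 : 1 < #B := H.hx ▸ one_lt_cs H.hZ H.x1

theorem cons [Fintype G] [Fintype B] {φ : IrrCharacter G}
    (h : classInner (fun y => (pc x y : ℂ) - 1) φ.1 ≠ 0) : ∑ a : B, φ.1 a = 0 := by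
  classical
  choose c hc using fun φ : IrrCharacter G => (pch (x := x)).exists_classInner_nat φ.2.isCharacter
  have hc' : ∀ y, (pc x y : ℂ) - 1 = ∑ φ, (c φ : ℂ) * φ.1 y := fun y =>
    ((pch (x := x)).isClassFunction.apply_eq_sum_irr y).trans (by simp only [hc])
  choose m hm using fun φ : IrrCharacter G =>
    (φ.2.isCharacter.restrict B).exists_classInner_nat isCharacter_one
  have n0 : (#B : ℂ) ≠ 0 := Nat.cast_ne_zero.2 (card_ne_zero B)
  have hm' : ∀ φ : IrrCharacter G, ∑ a : B, φ.1 a = #B * m φ := fun φ => by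
    have := hm φ
    rwa [classInner_one_right, inv_mul_eq_iff_eq_mul₀ n0] at this
  have s : ∑ a : B, ((pc x a : ℂ) - 1) = 0 := by
    rw [Finset.sum_sub_distrib, Finset.sum_eq_single 1 (fun b _ b1 => by
      rw [pc_zero.2 fun k hk => b1 (Subtype.ext (H.fpf (k := k⁻¹) b.2 (by rwa [inv_inv]))),
        Nat.cast_zero]) (by simp)]
    simp [pc_one, H.hx, Nat.card_eq_fintype_card]
  simp only [hc'] at s
  rw [Finset.sum_comm] at s
  simp only [← Finset.mul_sum, hm', mul_left_comm _ (#B : ℂ)] at s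
  have s' : ∑ φ, c φ * m φ = 0 := by exact_mod_cast (mul_eq_zero.1 s).resolve_left n0
  rw [hm', (mul_eq_zero.1 (Finset.sum_eq_zero_iff.1 s' φ (Finset.mem_univ _))).resolve_left
    fun e => h (by rw [hc, e, Nat.cast_zero])]
  simp

theorem one [Fintype G] {φ : IrrCharacter G} (h : classInner (fun y => (pc x y : ℂ) - 1) φ.1 ≠ 0)
    {z : ℂ} (hz : IsIntegral ℤ z) (e : φ.1 1 = (#B - 1) * z) : (fun y => (pc x y : ℂ) - 1) = φ.1 := by
  obtain ⟨n, n0, hn⟩ := φ.2.exists_apply_one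
  obtain ⟨m, hm⟩ := (pch.sub_irr φ.2 h).exists_apply_one
  obtain ⟨b, hb⟩ := Nat.exists_eq_add_of_le' H.n1.le
  have b0 : b ≠ 0 := by have := H.n1; omega
  have b0' : (b : ℂ) ≠ 0 := Nat.cast_ne_zero.2 b0
  have : b ∣ n := nat_dvd_of_isIntegral_div b0 (by
    convert hz
    rw [hn, hb] at e
    field_simp
    push_cast at e
    linear_combination e)
  have := Nat.le_of_dvd n0 this
  simp only [Pi.sub_apply, pc_one, H.hx, hb, hn] at hm
  have : b = n + m := by
    push_cast at hm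
    exact_mod_cast (by linear_combination hm : (b : ℂ) = n + m)
  refine pch.eq_irr_of_apply_one φ.2 h ?_
  rw [pc_one, H.hx, hb, hn, show b = n by omega]
  simp

theorem pc_self : pc x x = 1 := by
  classical
  haveI := Fintype.ofFinite G
  haveI := Fintype.ofFinite B
  obtain ⟨E, e1, -, e3⟩ := H.exc
  obtain ⟨w, hw, w1⟩ := exists_ne_one H.z
  have hc' := (pch (x := x)).isClassFunction.apply_eq_sum_irr
  have fin : (pc x x : ℂ) - 1 = -(#B - 1) * (pc x (x * w) - 1) := by
    rw [hc', hc', Finset.mul_sum]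
    refine Finset.sum_congr rfl fun φ _ => ?_
    by_cases e : classInner (fun y => (pc x y : ℂ) - 1) φ.1 = 0
    · simp [e]
    have m := chi_mul (H.copy hw w1) φ
    have d := φ.2.apply_one_ne_zero
    by_cases hφ : E φ
    · rw [e1 φ hφ, zero_mul] at m
      rw [e1 φ hφ, (mul_eq_zero.1 m).resolve_left d]; simp
    · have s := sum_cst hw.1 w1 (H.cons e) (e3 φ hφ)
      have p0 : φ.1 w ≠ 0 := fun e => d (by rw [e] at s; simpa using s)
      have : φ.1 x = -(#B - 1) * φ.1 (x * w) := mul_right_cancel₀ p0 (by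
        linear_combination -m + φ.1 (x * w) * s)
      rw [this]; ring
  have fin' : (pc x x : ℤ) - 1 = -(#B - 1) * (pc x (x * w) - 1) := by exact_mod_cast fin
  have p1 : pc x x ≠ 0 := fun e => pc_zero.1 e 1 (by simpa using mem_cent1_self x)
  have pn : pc x x ≠ #B := fun e => by
    have u : MulAction.fixedBy (G ⧸ C[x]) x = Set.univ :=
      Set.eq_of_subset_of_ncard_le (Set.subset_univ _) (by
        rw [Set.ncard_univ]; exact (H.hx.trans e.symm).le)
    have : C[x] = ⊤ := top_le_of_conj H.x1 fun k => by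
      simpa using (mem_fix x k⁻¹).1 (u ▸ Set.mem_univ _)
    rw [cent_eq_top_iff, H.hZ, mem_bot] at this
    exact H.x1 this
  have : (1 : ℤ) < #B := by exact_mod_cast H.n1
  rcases Nat.lt_or_ge (pc x (x * w)) 2 with l | l
  · interval_cases pc x (x * w)
    · exact absurd (by omega) pn
    · omega
  · have : (2 : ℤ) ≤ pc x (x * w) := by exact_mod_cast l
    have : (0 : ℤ) < pc x x := by omega
    nlinarith

theorem inv (x2 : orderOf x = 2) : False := by
  have := H7.zstar_mem_center (odd_core x2) ⟨x2, fun g hg => ?_⟩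
  · rw [H.hZ] at this
    exact H.x1 this
  have := (Nat.card_eq_one_iff_unique.1 H.pc_self).1.elim
    (⟨((1 : G) : G ⧸ C[x]), (mem_fix x 1).2 (by simpa using mem_cent1_self x)⟩)
    ⟨(g⁻¹ : G), (mem_fix x g⁻¹).2 (by simpa using mem_cent1.2 hg.symm)⟩
  have := QuotientGroup.eq.1 (congrArg Subtype.val this)
  rw [inv_one, one_mul, inv_mem_iff] at this
  rw [mem_cent1.1 this, mul_inv_cancel_right]

theorem ab (hB : Ab B) : False := by
  classical
  haveI := Fintype.ofFinite G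
  haveI := Fintype.ofFinite B
  obtain ⟨E, e1, e2, e3⟩ := H.exc
  obtain ⟨w, hw, w1⟩ := exists_ne_one H.z
  obtain ⟨m, hm⟩ : ∃ m : G, m * x * m⁻¹ ≠ x := by
    by_contra! n
    exact H.x1 (mem_bot.1 (H.hZ ▸ mem_center_iff.2 fun m => mul_inv_eq_iff_eq_mul.1 (n m)))
  obtain ⟨χ, hχ⟩ : ∃ χ : G → ℂ, χ = fun y => (pc x y : ℂ) - 1 := ⟨_, rfl⟩
  have hc' : ∀ g, χ g = _ := (hχ ▸ pch : IsCharacter G χ).isClassFunction.apply_eq_sum_irr
  have A : ∀ φ : IrrCharacter G, classInner χ φ.1 ≠ 0 → ¬ E φ → χ = φ.1 := fun φ h n => by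
    subst hχ
    exact H.one h (φ.2.isCharacter.isIntegral_apply w).neg (sum_cst hw.1 w1 (H.cons h) (e3 φ n))
  obtain ⟨d, hd⟩ : ∃ d, d = m * x * m⁻¹ * x⁻¹ := ⟨_, rfl⟩
  have d0 : pc x d = 0 := by
    have s : ∑ g, classInd x g * χ (g * x⁻¹) = 0 := by
      simp only [hc', Finset.mul_sum, mul_left_comm (classInd x _)]
      rw [Finset.sum_comm]
      refine Finset.sum_eq_zero fun φ _ => ?_
      rw [← Finset.mul_sum, φ.2.sum_mul_apply_mul (isClassFunction_classInd x),
        sum_classInd_mul x φ.2.isClassFunction]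
      by_cases h : classInner χ φ.1 = 0
      · rw [h, zero_mul]
      have : φ.1 x = 0 := by
        by_cases n : E φ
        · exact e1 φ n
        · rw [← A φ h n, hχ]; simp [H.pc_self]
      simp [this]
    simp only [hχ, mul_sub, Finset.sum_sub_distrib] at s
    rw [sum_classInd_mul x (isClassFunction_const _), sub_eq_zero, mul_one] at s
    simp only [classInd, ite_mul, one_mul, zero_mul, ← Finset.sum_filter] at s
    have s' : ∑ g with IsConj x g, pc x (g * x⁻¹) = cs x := by exact_mod_cast s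
    have := Finset.sum_le_sum_of_subset (f := fun g => pc x (g * x⁻¹)) (s := {m * x * m⁻¹, x})
      (t := Finset.univ.filter (IsConj x)) (by
        intro g hg
        simp only [Finset.mem_insert, Finset.mem_singleton] at hg
        rcases hg with rfl | rfl
        exacts [Finset.mem_filter.2 ⟨Finset.mem_univ _, isConj_iff.2 ⟨m, rfl⟩⟩,
          Finset.mem_filter.2 ⟨Finset.mem_univ _, IsConj.refl _⟩])
    rw [Finset.sum_pair hm, s', mul_inv_cancel, pc_one, ← hd] at this
    omega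
  have d1 : d ≠ 1 := fun e => hm (mul_inv_eq_one.1 (hd ▸ e))
  have od : Off B d := fun k hk => by_contra fun _ => by
    have := H.copy ⟨hk, comm_iff_le_cent.1 hB hk⟩ (conj_ne d1 k)
    rw [cs_conj] at this
    exact cs_mul_ne_left H.hZ H.x1 d1 this (by rw [cs_mul_comm, hd, inv_mul_cancel_right, cs_conj])
  have c1 : χ 1 = #B - 1 := by simp only [hχ, pc_one, H.hx]
  have ir : IsIrrCharacter G χ := by
    obtain ⟨φ, h⟩ : ∃ φ : IrrCharacter G, classInner χ φ.1 ≠ 0 := by
      by_contra! n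
      have := hc' 1
      simp only [n, zero_mul, Finset.sum_const_zero, c1, sub_eq_zero, Nat.cast_eq_one] at this
      exact H.n1.ne' this
    by_cases n : ∀ ψ : IrrCharacter G, classInner χ ψ.1 ≠ 0 → E ψ
    · have : χ d * φ.1 1 = φ.1 d * χ 1 := by
        rw [hc', hc', Finset.sum_mul, Finset.mul_sum]
        refine Finset.sum_congr rfl fun ψ _ => ?_
        by_cases k : classInner χ ψ.1 = 0
        · simp [k]
        · rw [mul_assoc, e2 ψ φ (n ψ k) (n φ h) d od]; ring
      rw [c1, show χ d = -1 by simp [hχ, d0]] at this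
      rw [hχ, H.one (hχ ▸ h) (φ.2.isCharacter.isIntegral_apply d).neg (by linear_combination -this)]
      exact φ.2
    · obtain ⟨ψ, k⟩ := not_forall.1 n
      obtain ⟨k1, k2⟩ := Classical.not_imp.1 k
      exact A ψ k1 k2 ▸ ψ.2
  have tr := (isIrr_perm_sub_one_iff (G := G) (G ⧸ C[x]) (H.hx ▸ H.n1 : 1 < cs x)).1 (hχ ▸ ir)
  rw [MulAction.is_two_pretransitive_iff] at tr
  have qe : ∀ j k : G, (j : G ⧸ C[x]) = k ↔ j * x * j⁻¹ = k * x * k⁻¹ := fun j k => by
    rw [QuotientGroup.eq, mem_cent1]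
    exact ⟨fun e => by rw [← mul_inv_cancel_left j (k * x * k⁻¹), ← mul_assoc j⁻¹, ← mul_assoc j⁻¹, e]; group,
      fun e => by rw [mul_assoc, ← inv_mul_cancel_right (k * x) k, ← e]; group⟩
  have fp : ∀ j : G, d ∉ C[j * x * j⁻¹] := fun j hj => pc_zero.1 d0 j (by
    rwa [← cj_cent1, H19.mem_cj] at hj)
  have Dd : C[x] ⊓ C[m * x * m⁻¹] ≤ C[d] := fun u hu =>
    mem_cent1_symm.1 (hd ▸ mul_mem (mem_cent1_symm.1 hu.2) (inv_mem (mem_cent1_symm.1 hu.1)))
  refine fp 1 ((show C[x] ⊓ C[m * x * m⁻¹] ≤ C[1 * x * 1⁻¹] by simp)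
    (H25.Ito.mem_of_primary fun e he p hp pe => ?_))
  by_cases e1 : e = 1
  · exact e1 ▸ one_mem _
  have np : ¬ p ∣ cs x := fun f => by
    obtain ⟨k, hk⟩ := into (x := w) hp (fun f' => hp.one_lt.ne'
      (Nat.eq_one_of_dvd_coprimes (H.copy hw w1) f f')) pe
    rw [H.cent hw w1] at hk
    exact d1 (od k (H.hC _ hk (conj_ne e1 k) (cj_cent1 k e ▸ H19.conj_mem_cj.2
      (cent1_le_cent1_of_mem_zpowers he (mem_cent1_self d)))))
  obtain ⟨U, hU⟩ := H19.exists_syl p (C[x] ⊓ C[m * x * m⁻¹])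
  have Vd : U ⊔ zpowers e ≤ C[d] := sup_le (hU.le.trans Dd) (zpowers_le.2 (mem_cent1_symm.1
    (cent1_le_cent1_of_mem_zpowers he (mem_cent1_self d))))
  have pV : PG p (U ⊔ zpowers e) := hU.pi.sup (piG_zpowers.2 pe) (norms_of_cents (zpowers_le.2
    (le_cent1_iff.1 ((hU.le.trans Dd).trans (cent1_le_cent1_of_mem_zpowers he)))))
  obtain ⟨P, hP⟩ := H19.exists_syl p C[x]
  obtain ⟨j, -, hj⟩ := (hP.of_idx le_top (by
    rw [relIndex_top_right]; exact PiN.of_not_dvd np)).sle_cj le_top pV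
  have l1 : U ⊔ zpowers e ≤ C[j * x * j⁻¹] := cj_cent1 j x ▸ hj.trans (cj_mono j hP.le)
  have l2 : U ⊔ zpowers e ≤ C[d * j * x * (d * j)⁻¹] := by
    rw [← cj_cent1, H19.cj_mul, cj_cent1, ← cj_of_mem_cent (le_cent1_iff.1 Vd)]
    exact cj_mono d l1
  obtain ⟨g, g1, g2⟩ := tr (a := ((1 : G) : G ⧸ C[x])) (b := m) (c := j) (d := (d * j : G))
    (fun f => hm (by simpa using ((qe _ _).1 f).symm)) fun f => fp j (mem_cent1.2 (by
      have := (qe _ _).1 f
      rw [mul_inv_rev, ← mul_assoc, eq_mul_inv_iff_mul_eq] at this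
      rw [this]; group))
  rw [MulAction.Quotient.smul_mk, smul_eq_mul, qe] at g1 g2
  have : #(U ⊔ zpowers e) ∣ #(C[x] ⊓ C[m * x * m⁻¹]) := by
    rw [← H19.card_cj g (_ ⊓ _), H19.cj_inf, cj_cent1, cj_cent1]
    refine card_dvd (le_inf ?_ ?_)
    · rwa [← g1, mul_one] at l1
    · rwa [← g2, show g * m * x * (g * m)⁻¹ = g * (m * x * m⁻¹) * g⁻¹ by group] at l2
  exact hU.le ((eq_of_le_of_card_eq le_sup_left (Nat.dvd_antisymm (card_dvd le_sup_left)
    (hU.dvd pV this))).ge (mem_sup_right (mem_zpowers e)))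

end Iso

end H18.R5
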