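/-
The odd side with two centralizer orders: generalities, and the case of two primes.
-/
import Cfsg.Agent.H18.R5a
import Cfsg.Agent.H18.G3a
import Cfsg.Agent.H20.FT
import Cfsg.Agent.H23.Fpf

set_option autoImplicit false
set_option linter.unusedSectionVars false

open Cfsg
namespace H18.R5
open H19 Subgroup H5.SC H24 H25.R4

variable {G : Type*} [Group G] [Finite G] {a b β n p q r s : ℕ} {g h u v w x y z : G}
  {K M P X Y : Subgroup G}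

theorem red (hM : H19.Sol M) (hK : K ⊴ M) (ne : K ≠ M) : ∃ (j : ℕ) (R : Subgroup G), j.Prime ∧ PG j R ∧
    R ≤ M ∧ ¬ R ≤ K ∧ K ⊔ R ⊴ M ∧ K ⊔ (M ⊓ N(R)) = M := by
  obtain ⟨j, hj, n⟩ := exists_Oc_ne_bot (sol_quo hM K) fun e =>
    ne (le_antisymm hK.le ((quo_eq_bot_iff hK.norm).1 e))
  have hL := qpre_normal hK (Oc_normal {j} (quo K M))
  obtain ⟨R, hR⟩ := H19.exists_syl j (qpre K (Oc {j} (quo K M)))
  have e := hR.sup_eq (le_qpre _) (by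
    rw [← card_quo (qpre_le_norm _), quo_qpre]; exact Oc_pi _ _)
  have l := hR.le.trans hL.le
  refine ⟨j, R, hj, hR.pi, l, fun f => n ?_, e ▸ hL, ?_⟩
  · rw [← quo_qpre (Oc _ _), ← e, sup_eq_left.2 f, quo_self]
  · have := hR.frattini hL
    rwa [← e, sup_assoc, sup_eq_right.2 (le_inf l le_normalizer)] at this

theorem exists_core (B D : Subgroup G) : ∃ O, O ⊴ B ∧ O ≤ D ∧ ∀ L, L ⊴ B → L ≤ D → L ≤ O :=
  ⟨_, normalIn_map_subtype (D.subgroupOf B).normalCore, map_le_iff_le_comap.2 (normalCore_le _),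
    fun L hL l x hx => haveI := hL.subgroupOf
      ⟨⟨x, hL.le hx⟩, normal_le_normalCore.2 (show L.subgroupOf B ≤ _ from comap_mono l) hx, rfl⟩⟩

/-- the centralizers of the `π(b)`-elements have order `b` or `β`, and none of order `b` is isolated -/
structure T3 (G : Type*) [Group G] (a b β n : ℕ) : Prop where
  hZ : center G = ⊥
  card : Nat.card G = a * b
  cop : a.Coprime b
  odd : Odd b
  val : ∀ (g : G) (p : ℕ), g ≠ 1 → p.Prime → p ∣ b → p ∣ #C[g] → #C[g] = b ∨ #C[g] = β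
  hb : b = β * n
  n1 : n ≠ 1
  two : ∀ p, p.Prime → ∃ q, q.Prime ∧ q ∣ b ∧ q ≠ p
  ni : ∀ w : G, #C[w] = b → ∃ g ∈ C[w], g ≠ 1 ∧ ¬ C[g] ≤ C[w]

namespace T3
variable (H : T3 G a b β n)
include H

theorem pos : 0 < a * b := H.card ▸ Nat.card_pos

theorem nd : ¬ b ∣ β := fun e => H.n1 (by
  have b0 : 0 < b := Nat.pos_of_mul_pos_left H.pos
  have β0 : 0 < β := Nat.pos_of_mul_pos_right (H.hb ▸ b0)
  exact Nat.dvd_one.1 (Nat.dvd_of_mul_dvd_mul_left β0 (by rwa [mul_one, ← H.hb])))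

theorem mem (hp : p.Prime) (d : p ∣ n) : p ∈ primes b := ⟨hp, H.hb ▸ d.mul_left _⟩

theorem val' (g1 : g ≠ 1) (pg : PiE (primes b) g) : #C[g] = b ∨ #C[g] = β := by
  obtain ⟨p, hp, d⟩ := exists_prime_dvd_orderOf g1
  exact H.val g p g1 hp (pg p hp d).2 (d.trans (orderOf_dvd_card' (mem_cent1_self g)))

theorem βd : β ∣ b := H.hb ▸ dvd_mul_right _ _

theorem cd (g1 : g ≠ 1) (pg : PiE (primes b) g) : #C[g] ∣ b :=
  (H.val' g1 pg).elim Eq.dvd fun e => e ▸ H.βd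

theorem cpi (g1 : g ≠ 1) (pg : PiE (primes b) g) : PiG (primes b) C[g] := piN_primes.dvd (H.cd g1 pg)

theorem cpi' (g1 : g ≠ 1) (pg : PiE (primes b)ᶜ g) : PiG (primes b)ᶜ C[g] := fun p hp d m =>
  g1 (PiN.e_eq_one (piN_primes.dvd ((orderOf_dvd_card' (mem_cent1_self g)).trans
    ((H.val g p g1 hp m.2 d).elim Eq.dvd fun e => e ▸ H.βd))) pg)

theorem sr (hX : PiG (primes b) X) (hY : PiG (primes b)ᶜ Y) : Semireg X Y := fun _ hy y1 =>
  hX.inf_eq_bot (H.cpi' y1 (hY.elt hy))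

theorem csb (e : #C[g] = b) : cs g = a := Nat.eq_of_mul_eq_mul_right (e ▸ card_pos C[g]) (by
  rw [← H.card, ← cs_mul_card g, e])

theorem csβ (e : #C[g] = β) : cs g = a * n := Nat.eq_of_mul_eq_mul_right (e ▸ card_pos C[g]) (by
  rw [mul_assoc, mul_comm n, ← H.hb, ← H.card, ← cs_mul_card g, e])

theorem ne1 (e : #C[g] = b) : g ≠ 1 := fun f => by
  obtain ⟨p, hp, d, -⟩ := H.two 2 Nat.prime_two
  obtain ⟨w, hw⟩ := H.ni g e
  exact hw.2.2 (by simp [f])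

theorem pib (e : #K = b) : PiG (primes b) K := e ▸ piN_primes

theorem hall (e : #C[g] = b) : Hall (primes b) C[g] ⊤ := ⟨le_top, H.pib e, by
  rw [relIndex_top_right, show C[g].index = a from H.csb e]; exact PiN.of_coprime_pi H.cop⟩

theorem full (g1 : g ≠ 1) (pg : PiE (primes b) g) (d : p ∣ n) (nd : ¬ p ∣ cs g) : #C[g] = b :=
  (H.val' g1 pg).resolve_right fun e => nd (H.csβ e ▸ d.mul_left _)

theorem up (e : #C[g] = b) (w1 : w ≠ 1) (hw : w ∈ C[g]) (l : C[g] ≤ C[w]) : C[w] = C[g] :=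
  (eq_of_le_of_card_eq l (Nat.dvd_antisymm (card_dvd l) (e ▸ H.cd w1 ((H.pib e).elt hw)))).symm

theorem ex (hp : p.Prime) (d : p ∣ n) : ∃ w : G, PiE {p} w ∧ #C[w] = b := by
  obtain ⟨w, w1, pw, nw⟩ := exists_pcentral (G := G) hp (H.card ▸ (H.mem hp d).2.mul_left _)
  exact ⟨w, pw, H.full w1 (pw.sing (H.mem hp d)) d nw⟩

theorem nodd (hX : PiG (primes b) X) (X1 : X ≠ ⊥) : Odd #N(X) := by
  by_contra o
  obtain ⟨i, hi, oi⟩ := exists_orderOf_eq_prime Nat.prime_two (even_iff_two_dvd.1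
    (Nat.not_odd_iff_even.1 o))
  have ii : i * i = 1 := by rw [← pow_two, ← oi, pow_orderOf_eq_one]
  have pi : PiG (primes b)ᶜ C[i] := H.cpi' (ne_one_of_prime Nat.prime_two oi)
    ((piE_of Nat.prime_two oi).sing fun m => H.odd.not_two_dvd_nat m.2)
  have inv : ∀ Y : Subgroup G, PiG (primes b) Y → i ∈ N(Y) → ∀ y ∈ Y, i * y * i⁻¹ = y⁻¹ :=
    fun Y hY hi => H23.inverts_of_fpf ii hi fun y hy e => mem_bot.1 (hY.inf_eq_bot pi ▸
      (⟨hy, mem_cent1.2 (mul_inv_eq_iff_eq_mul.1 e).symm⟩ : y ∈ Y ⊓ C[i]))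
  have inv' : ∀ w : G, w ≠ 1 → PiE (primes b) w → i * w * i⁻¹ = w⁻¹ → ∀ y ∈ C[w], i * y * i⁻¹ = y⁻¹ :=
    fun w w1 pw e => inv _ (H.cpi w1 pw) (by rw [mem_norm_iff_cj, cj_cent1, e, cent_inv])
  obtain ⟨w, hw, w1⟩ := exists_ne_one X1
  have pw := hX.elt hw
  have k := inv' w w1 pw (inv X hX hi w hw)
  have ssc : ∀ y ∈ C[w], y ≠ 1 → C[y] = C[w] := fun y hy y1 => le_antisymm
    (fun z hz => mem_cent1.2 (H23.comm_of_inverts (inv' y y1 ((H.cpi w1 pw).elt hy) (k y hy)) z hz w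
      (mem_cent1_symm.1 hy))) fun z hz => mem_cent1.2 (H23.comm_of_inverts k z hz y hy)
  rcases H.val' w1 pw with e | e
  · obtain ⟨g, hg, g1, ng⟩ := H.ni w e
    exact ng (ssc g hg g1).le
  · obtain ⟨p, hp, d⟩ := Nat.exists_prime_and_dvd H.n1
    obtain ⟨h, -, eh⟩ := H.ex hp d
    obtain ⟨q, hq, dq⟩ := exists_prime_dvd_orderOf w1
    obtain ⟨y, hy, oy⟩ := exists_orderOf_eq_prime (H := zpowers w) hq (by rwa [Nat.card_zpowers])
    obtain ⟨g, hg⟩ := conj_into (H.hall eh) (mem_top y) (piE_of hq oy) (pw q hq dq)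
    have := swap_conj hg
    rw [ssc y (zpowers_le.2 (mem_cent1_self w) hy) (ne_one_of_prime hq oy)] at this
    have := congrArg (fun U : Subgroup G => #U) (ssc _ this (conj_ne (H.ne1 eh) _))
    simp only [c_conj, eh, e] at this
    exact H.nd this.dvd

theorem solb (e : #K = b) : H19.Sol K := H20.sol_of_odd (e ▸ H.odd)

theorem idx (py : PiE {s} y) (e : #C[y] = b) (hw : w ∈ C[y]) (pw : PiE {s}ᶜ w) :
    C[y] ≤ C[w] ∨ #(C[w] ⊓ C[y]) = β := by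
  have f := cent1_mul pw py.compl_compl (mem_cent1.1 hw)
  rcases H.val' (mul_ne pw py.compl_compl (H.ne1 e)) ((H.pib e).elt (mul_mem hw (mem_cent1_self y)))
    with k | k <;> rw [f] at k
  exacts [.inl ((eq_of_le_of_card_eq inf_le_right (k.trans e.symm)).ge.trans inf_le_left), .inr k]

theorem rel (e : #K = b) (f : #(X ⊓ K) = β) : X.relIndex K = n :=
  Nat.eq_of_mul_eq_mul_left (f ▸ card_pos _) (by rw [← H.hb, ← e, ← f, card_inf_mul_relIndex])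

theorem zsyl (py : PiE {s} y) (e : #C[y] = b) (hr : r.Prime) (d : r ∣ n) (hP : H19.Syl r P C[y])
    (hw : w ∈ C[y]) (pw : PiE {s}ᶜ w) (l : P ≤ C[w]) : C[y] ≤ C[w] :=
  (H.idx py e hw pw).resolve_right fun f => hP.not_dvd_relIndex hr l (H.rel e f ▸ d)

theorem zc (e : #C[w] = b) (hr : r.Prime) (d : r ∣ n) : ∃ z : G, orderOf z = r ∧ C[z] = C[w] := by
  obtain ⟨s, hs, ds⟩ := exists_prime_dvd_orderOf (H.ne1 e)
  obtain ⟨y, hy, oy⟩ := exists_orderOf_eq_prime (H := zpowers w) hs (by rwa [Nat.card_zpowers])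
  have ey := H.up e (ne_one_of_prime hs oy) (zpowers_le.2 (mem_cent1_self w) hy)
    (cent1_le_cent1_of_mem_zpowers hy)
  by_cases f : r = s
  · exact ⟨y, f ▸ oy, ey⟩
  rw [← ey] at e ⊢
  obtain ⟨P, hP⟩ := H19.exists_syl r C[y]
  obtain ⟨z, hz, oz⟩ := exists_orderOf_eq_prime hr ((hP.pi.infl _).dvd_of_ne_bot
    (hP.pi.center_ne_bot (hP.sne_bot hr (e ▸ (H.mem hr d).2))))
  exact ⟨z, oz, H.up e (ne_one_of_prime hr oz) (hP.le hz.1) (H.zsyl (piE_of hs oy) e hr d hP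
    (hP.le hz.1) ((piE_of hr oz).sing_ne f) (le_cent1_iff.2 hz.2))⟩

theorem bad (e : #C[y] = b) : ∃ (r : ℕ) (w : G), r.Prime ∧ w ∈ C[y] ∧ orderOf w = r ∧ ¬ C[w] ≤ C[y] := by
  obtain ⟨g, hg, g1, ng⟩ := H.ni y e
  obtain ⟨r, hr, dr⟩ := exists_prime_dvd_orderOf g1
  obtain ⟨w, hw, ow⟩ := exists_orderOf_eq_prime (H := zpowers g) hr (by rwa [Nat.card_zpowers])
  exact ⟨r, w, hr, zpowers_le.2 hg hw, ow, fun l => ng ((cent1_le_cent1_of_mem_zpowers hw).trans l)⟩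

theorem big (hp : p.Prime) (hq : q.Prime) (dp : p ∣ n) (dq : q ∣ n) (ne : q ≠ p) : False := by
  have oth : ∀ r, ∃ s, s.Prime ∧ s ∣ n ∧ r ≠ s := fun r => by
    by_cases e : r = p
    exacts [⟨q, hq, dq, e ▸ ne.symm⟩, ⟨p, hp, dp, e⟩]
  obtain ⟨y, -, ey⟩ := H.ex hp dp
  obtain ⟨r0, w, hr0, hw, ow, nw⟩ := H.bad ey
  have w1 := ne_one_of_prime hr0 ow
  obtain ⟨s0, hs0, ds0, ns0⟩ := oth r0
  obtain ⟨z, oz, ez⟩ := H.zc ey hs0 ds0
  have eD : #(C[w] ⊓ C[y]) = β := by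
    rw [← ez] at ey hw nw ⊢
    exact (H.idx (piE_of hs0 oz) ey hw ((piE_of hr0 ow).sing_ne ns0)).resolve_left fun l =>
      nw (H.up ey w1 hw l).le
  have ew := (H.val' w1 ((H.pib ey).elt hw)).resolve_right fun f =>
    nw ((eq_of_le_of_card_eq inf_le_left (eD.trans f.symm)).ge.trans inf_le_right)
  have zc' : ∀ r, r.Prime → r ∣ n → ∃ u ∈ C[y], PiE {r} u ∧ C[u] = C[w] := fun r hr d => by
    obtain ⟨u, ou, eu⟩ := H.zc ew hr d
    exact ⟨u, ez ▸ mem_cent1_symm.1 (eu ▸ mem_cent1_symm.1 (ez ▸ hw)), piE_of hr ou, eu⟩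
  have FD : Fit C[y] ≤ C[w] := Fit_le_of_Oc fun r hr => by
    by_cases d : r ∣ n
    · obtain ⟨s, hs, ds, ns⟩ := oth r
      obtain ⟨u, hu, pu, eu⟩ := zc' r hr d
      obtain ⟨v, hv, pv, ev⟩ := zc' s hs ds
      have := cents_symm (PxQ (Oc_pi {r} C[y]) (piG_zpowers.2 pu) (piG_zpowers.2 (pv.sing_ne ns.symm))
        (by rw [cent_zpowers, ev, ← eu]; exact zpowers_le.2 (mem_cent1_self u))
        ((zpowers_le.2 hu).trans (Oc_norm _ _)) ((zpowers_le.2 hv).trans (Oc_norm _ _))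
        (by rw [cent_zpowers, cent_zpowers, eu, ev]; exact inf_le_right))
      rwa [cent_zpowers, ev] at this
    · obtain ⟨Q, hQ⟩ := H19.exists_syl r (C[w] ⊓ C[y])
      exact (Oc_le_hall (hQ.of_idx inf_le_right (by
        rw [inf_relIndex_right, H.rel ey eD]; exact PiN.of_not_dvd d))).trans (hQ.le.trans inf_le_left)
  obtain ⟨O, hO, lO, mO⟩ := exists_core C[y] C[w]
  obtain ⟨j, R, hj, pR, lR, nR, hR, -⟩ := red (H.solb ey) hO fun f =>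
    nw (H.up ey w1 hw (f ▸ lO)).le
  obtain ⟨r, hr, dr, nr⟩ := oth j
  obtain ⟨u, hu, pu, eu⟩ := zc' r hr dr
  have uO : u ∈ Z(O) := ⟨mO _ (Fit_normal _) FD (cent_Fit_le (H.solb ey) ⟨hu, le_cent1_iff.1 (eu ▸ FD)⟩),
    le_cent1_iff.1 (eu ▸ lO)⟩
  have uX : u ∈ Oc {r} Z(O) := nil_le_Oc (nil_of_ab (comm_center O)) (zpowers_le.2 uO)
    (piG_zpowers.2 pu) (mem_zpowers u)
  have hX : Oc {r} Z(O) ⊴ C[y] := (⟨inf_le_left.trans hO.le,
    hO.norm.trans (norm_le_norm_center O)⟩ : Z(O) ⊴ C[y]).Oc _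
  set X := Oc {r} Z(O)
  have XO : O ≤ C(X) := cents_symm ((Oc_le _ _).trans inf_le_right)
  have RX : ⁅R, X⁆ ≤ X := commg_le_right (hX.norms lR)
  have WR : ⁅O ⊔ R, X⁆ ≤ ⁅R, X⁆ := commg_sup_left_le (commg_eq_bot.2 XO ▸ bot_le) le_rfl
    (norms_of_cents (XO.trans (cent_mono RX))) (commg_norml _ _)
  have pX : PG r X := Oc_pi _ _
  obtain ⟨P, hP⟩ := H19.exists_syl r C[y]
  obtain ⟨k, hk, k1⟩ := exists_ne_one ((pX.of_le (WR.trans RX)).meet_cent hP.pi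
    ((hR.comm hX).norms hP.le) fun f => nR (le_sup_right.trans (mO _ hR
      (eu ▸ (commg_eq_bot.1 f).trans (cent_le_cent1 uX)))))
  obtain ⟨s, hs, ds, ns⟩ := oth r
  obtain ⟨v, ov, ev⟩ := H.zc ey hs ds
  have kX := RX (WR hk.1)
  have := H.zsyl (piE_of hs ov) (ev ▸ ey) hr dr (ev ▸ hP) (ev ▸ hX.le kX) ((pX.elt kX).sing_ne ns)
    (le_cent1_iff.2 hk.2)
  refine k1 (mem_bot.1 (ab_commg_inf_cent (comm_mono (comm_center O) (Oc_le _ _)) (hX.norms lR)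
    (pX.coprime (pR.sing_ne nr)) ▸ (⟨commutator_comm R X ▸ WR hk.1,
      le_cent1_iff.1 (lR.trans (ev ▸ this))⟩ : k ∈ ⁅X, R⁆ ⊓ C(R))))

end T3

end H18.R5
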