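/-
The odd side with two centralizer orders whose quotient is a prime power: the abelian complement.
-/
import Cfsg.Agent.H18.R5d
import Cfsg.Agent.S4034

set_option autoImplicit false
set_option linter.unusedSectionVars false

open Cfsg
namespace H18.R5
open H19 Subgroup H5.SC H24 H25.R4

variable {G : Type*} [Group G] [Finite G] {a b β n p q r s : ℕ} {g h u v w x y z : G}
  {K L M P U X Y : Subgroup G}

/-- the quotient of the two orders is a power of `s` -/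
structure T4 (G : Type*) [Group G] (a b β n s : ℕ) : Prop extends T3 G a b β n where
  hs : s.Prime
  pn : PiN {s} n

/-- an abelian `s`-complement of a centralizer of order `b` -/
def AU (b s : ℕ) (U : Subgroup G) : Prop := Ab U ∧ ∃ h : G, PiE {s} h ∧ #C[h] = b ∧ Hall {s}ᶜ U C[h]

theorem AU.J (h : AU b s U) (g : G) : AU b s (cj g U) :=
  let ⟨a, x, p, e, k⟩ := h
  ⟨comm_cj.2 a, g * x * g⁻¹, p.e_conj g, (c_conj g x).trans e, cj_cent1 g x ▸ k.J g⟩

namespace T4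
variable (H : T4 G a b β n s)
include H

theorem ds : s ∣ n := (H.pn.dvd_of_ne_one H.n1).2

theorem sm : s ∈ primes b := H.mem H.hs H.ds

theorem abU (ph : PiE {s} h) (e : #C[h] = b) : ∃ U, Ab U ∧ Hall {s}ᶜ U C[h] := by
  obtain ⟨U, hU, nd, k, hk⟩ := (Cfsg.Agent.S4034.result (G := C[h]) H.hs).1 fun x hx => by
    rw [← Nat.card_coe_set_eq, card_carrier_mk, cs_subgroup]
    rcases H.idx ph e x.2 (by rw [PiE, orderOf_coe]; exact PiN.of_coprime hx) with f | f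
    · exact ⟨0, relIndex_eq_one.2 f⟩
    · rw [H.rel e f]; exact H.pn.exists_pow (H.rel e f ▸ relIndex_ne_zero' _ _)
  exact ⟨_, map_isMulCommutative _ _, Hall.map_subtype ⟨le_top, PiN.of_not_dvd nd, by
    rw [relIndex_top_right, hk]; exact (PiN.prime_pow H.hs k).compl_compl⟩⟩

theorem exU : ∃ U : Subgroup G, AU b s U :=
  let ⟨h, ph, e⟩ := H.ex H.hs H.ds
  let ⟨U, a, k⟩ := H.abU ph e
  ⟨U, a, h, ph, e, k⟩

variable (A : AU b s U)
include A

theorem piU : PiG (primes b) U := let ⟨_, _, e, k⟩ := A.2; (H.pib e).of_le k.le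

theorem pU : PiG {s}ᶜ U := let ⟨_, _, _, k⟩ := A.2; k.pi

theorem hallU (l : U ≤ L) (d : #L ∣ b) : Hall {s}ᶜ U L := by
  obtain ⟨h, -, e, k⟩ := A.2
  exact ⟨l, k.pi, k.idx.dvd (Nat.dvd_of_mul_dvd_mul_left (card_pos U) (by
    rwa [card_mul_relIndex l, k.card_mul, e]))⟩

theorem sylU (m : p ∈ primes b) (ne : p ≠ s) : ∃ P, H19.Syl p P ⊤ ∧ P ≤ U := by
  obtain ⟨h, -, e, k⟩ := A.2
  obtain ⟨P, hP, l⟩ := k.exists_syl (p := p) ne
  exact ⟨P, (H.hall e).sub_syl m hP, l⟩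

theorem exp : ∃ p, p ∈ primes b ∧ p ≠ s ∧ p ∣ #U := by
  obtain ⟨p, hp, d, ne⟩ := H.two s H.hs
  obtain ⟨h, -, e, k⟩ := A.2
  exact ⟨p, ⟨hp, d⟩, ne, k.prime_dvd hp ne (e ▸ d)⟩

theorem U1 : U ≠ ⊥ := fun e => by
  obtain ⟨p, hp, -, d⟩ := H.exp A
  rw [e, card_bot, Nat.dvd_one] at d
  exact hp.1.one_lt.ne' d

omit A in
theorem nf (hp : p.Prime) (ne : p ≠ s) (ou : orderOf u = p) : #C[u] ≠ b := fun e => by
  obtain ⟨h, oh, eh⟩ := H.zc e H.hs H.ds
  have ph := piE_of H.hs oh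
  have pu := piE_of hp ou
  obtain ⟨U, aU, hU⟩ := H.abU ph (eh ▸ e)
  have A : AU b s U := ⟨aU, h, ph, eh ▸ e, hU⟩
  rw [eh] at hU
  obtain ⟨S, hS⟩ := H19.exists_syl s C[u]
  have SU : S ≤ C(U) := by
    have := eq_top_of_forall_conj_mem (H := C(U).subgroupOf S) fun w => by
      obtain ⟨g, hg, k⟩ : ∃ g ∈ C[u], cj g U ≤ C[(w : G)] := by
        rcases H.idx pu e (hS.le w.2) ((hS.pi.elt w.2).sing_ne ne.symm) with f | f
        · exact ⟨1, one_mem _, by simpa using hU.le.trans f⟩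
        · obtain ⟨V, hV⟩ := H19.exists_hall {s}ᶜ (sol_mono (H.solb e) (inf_le_right (a := C[(w : G)])))
          obtain ⟨g, hg, k⟩ := hU.conj (hV.of_idx inf_le_right (by
            rw [inf_relIndex_right, H.rel e f]; exact H.pn.compl_compl)) (H.solb e)
          exact ⟨g, hg, k ▸ hV.le.trans inf_le_left⟩
      obtain ⟨j, hj, i, hi, rfl⟩ := H2.facIn_of_coprime_relIndex (hS.idx.coprime hU.idx) g hg
      rw [H19.cj_mul, cj_of_mem hi.1, le_cent1_iff, ← cj_cent, H19.mem_cj] at k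
      exact ⟨⟨j, hj.1⟩, k⟩
    exact subgroupOf_eq_top.1 this
  have UB : C[u] ≤ C(U) := hS.sup_compl hU ▸ sup_le SU (comm_iff_le_cent.1 aU)
  have uU : u ∈ U := hU.mem_of_normal (norms_of_cents UB) (mem_cent1_self u) (pu.sing_ne ne)
  obtain ⟨r, w, hr, hw, ow, nw⟩ := H.bad e
  have w1 := ne_one_of_prime hr ow
  have nl : ¬ C[u] ≤ C[w] := fun l => nw (H.up e w1 hw l).le
  obtain rfl : r = s := by_contra fun f => nl (le_cent1_iff.2 (cents_symm UB
    (hU.mem_of_normal (norms_of_cents UB) hw ((piE_of hr ow).sing_ne f))))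
  have eD := (H.idx pu e hw ((piE_of hr ow).sing_ne ne.symm)).resolve_left nl
  have ew := (H.val' w1 ((H.pib e).elt hw)).resolve_right fun f =>
    nw ((eq_of_le_of_card_eq inf_le_left (eD.trans f.symm)).ge.trans inf_le_right)
  have Uw : U ≤ C[w] := le_cent1_iff.2 (UB hw)
  have hU' := H.hallU A Uw ew.dvd
  have F : Fit C[w] ≤ C(U) := Fit_le_of_Oc fun j hj => by
    by_cases f : j = r
    · exact f ▸ cents_symm (PxQ (Oc_pi {r} C[w]) (piG_zpowers.2 ph) hU.pi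
        (zpowers_le.2 (UB (eh ▸ mem_cent1_self h)))
        ((zpowers_le.2 (mem_cent1_symm.1 (eh ▸ hw))).trans (Oc_norm _ _)) (Uw.trans (Oc_norm _ _))
        (by rw [cent_zpowers, eh]; exact inf_le_right.trans UB))
    · exact (Oc_mono (Set.singleton_subset_iff.2 f) _).trans ((Oc_le_hall hU').trans
        (comm_iff_le_cent.1 aU))
  have eU : U = Oc {r}ᶜ C[w] := le_antisymm (hU.pi.le_Oc_of_le_Fit'
    ((le_inf Uw (cents_symm F)).trans (cent_Fit_le (H.solb ew)))) (Oc_le_hall hU')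
  refine nw ((H.hall e).le_of_norm le_top (H.pib ew) ?_)
  rw [le_antisymm UB (cent_le_cent1 uU)]
  exact norms_cent (eU ▸ Oc_norm _ _)

omit A in
theorem cβ (pg : PiE (primes b) g) (ng : ¬ PiE {s} g) : #C[g] = β := by
  obtain ⟨p, hp, d, ne⟩ : ∃ p, p.Prime ∧ p ∣ orderOf g ∧ p ≠ s := by
    by_contra! k; exact ng k
  obtain ⟨u, hu, ou⟩ := exists_orderOf_eq_prime (H := zpowers g) hp (by rwa [Nat.card_zpowers])
  have := (H.val' (ne_one_of_prime hp ou) (pg.e_of_mem_zpowers hu)).resolve_left (H.nf hp ne ou)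
  exact (H.val' (fun e : g = 1 => ng (by rw [e]; exact PiN.e_one)) pg).resolve_left fun e =>
    H.nd (e ▸ this ▸ card_dvd (cent1_le_cent1_of_mem_zpowers hu))

theorem K0 (hu : u ∈ U) (u1 : u ≠ 1) : #C[u] = β ∧ C[u] = C(U) ∧ Ab C[u] := by
  have pu := (H.pU A).elt hu
  have pu' := (H.piU A).elt hu
  have e := H.cβ pu' fun f => u1 (PiN.e_eq_one f pu)
  obtain ⟨T, hT⟩ := H19.exists_syl s C[u]
  have l : U ≤ C[u] := le_cent1_iff.2 (comm_iff_le_cent.1 A.1 hu)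
  have k : T ≤ C(C[u]) := fun w hw => by
    have f := cent1_mul (hT.pi.elt hw) pu (mem_cent1.1 (hT.le hw))
    have := (H.val' (mul_ne (hT.pi.elt hw) pu u1) ((H.cpi u1 pu').elt (mul_mem (hT.le hw)
      (mem_cent1_self u)))).resolve_left fun j => H.nd (j ▸ e ▸ f ▸ card_dvd inf_le_right)
    rw [f] at this
    exact le_cent1_iff.1 ((eq_of_le_of_card_eq inf_le_right (this.trans e.symm)).ge.trans inf_le_left)
  have m := hT.sup_compl (H.hallU A l (e ▸ H.βd))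
  exact ⟨e, le_antisymm (m ▸ sup_le (k.trans (cent_mono l)) (comm_iff_le_cent.1 A.1)) (cent_le_cent1 hu),
    m ▸ comm_sup (comm_iff_le_cent.2 (k.trans (cent_mono hT.le))) A.1 (k.trans (cent_mono l))⟩

theorem K1 (hu : u ∈ U) (u1 : u ≠ 1) : C[u] = C(U) := (H.K0 A hu u1).2.1

theorem Kc : #C(U) = β ∧ Ab C(U) := by
  obtain ⟨u, hu, u1⟩ := exists_ne_one (H.U1 A)
  obtain ⟨a, b, c⟩ := H.K0 A hu u1
  exact b ▸ ⟨a, c⟩

theorem piK : PiG (primes b) C(U) := piN_primes.dvd ((H.Kc A).1.dvd.trans H.βd)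

theorem sylK : H19.Syl s (Oc {s} C(U)) C(U) := nil_Oc_hall (nil_of_ab (H.Kc A).2) _

theorem K2 (l : Y ≤ U) (Y1 : Y ≠ ⊥) : C(Y) = C(U) := by
  obtain ⟨u, hu, u1⟩ := exists_ne_one Y1
  exact le_antisymm (H.K1 A (l hu) u1 ▸ cent_le_cent1 hu) (cent_mono l)

theorem nK : N(C(U)) ≤ N(U) := nil_hall_norm (nil_of_ab (H.Kc A).2)
  (H.hallU A (comm_iff_le_cent.1 A.1) ((H.Kc A).1 ▸ H.βd))

theorem K3 (l : Y ≤ U) (Y1 : Y ≠ ⊥) : N(Y) ≤ N(U) :=
  (H.K2 A l Y1 ▸ norm_le_norm_cent Y).trans (H.nK A)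

theorem K4 (hg : g ∉ C(U)) : U ⊓ C[g] = ⊥ := eq_bot_iff.2 fun u hu => by_contra fun u1 =>
  hg (H.K1 A hu.1 u1 ▸ mem_cent1_symm.1 hu.2)

theorem big (w1 : w ≠ 1) (hw : w ∈ C(U)) (hg : g ∈ C[w]) (ng : g ∉ C(U)) : #C[w] = b :=
  (H.val' w1 ((H.piK A).elt hw)).resolve_right fun e => ng ((eq_of_le_of_card_eq (le_cent1_iff.2
    (comm_iff_le_cent.1 (H.Kc A).2 hw)) ((H.Kc A).1.trans e.symm)).ge hg)

theorem SK1 : Oc {s} C(U) ≠ ⊥ := by
  obtain ⟨h, ph, e, k⟩ := A.2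
  exact ne_bot_of_mem ((H.sylK A).mem_Oc (le_cent1_iff.1 k.le) ph) (H.ne1 e)

theorem oddN : Odd #N(U) := H.nodd (H.piU A) (H.U1 A)

theorem K5 [IsSimpleGroup G] : ¬ N(U) ≤ C(U) := fun l => by
  obtain ⟨p, m, ne, d⟩ := H.exp A
  obtain ⟨P, hP, k⟩ := H.sylU A m ne
  have d' : ∀ q ∈ primes b, q ∣ #(⊤ : Subgroup G) := fun q m => by
    rw [card_top, H.card]; exact m.2.mul_left _
  have := Burnside_normal_complement hP (inf_le_right.trans ((H.K3 A k (hP.sne_bot m.1 (d' p m))).trans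
    (l.trans (cent_mono k))))
  rcases (Oc_normal {p}ᶜ (⊤ : Subgroup G)).normal.eq_bot_or_eq_top with e | e <;> rw [e] at this
  · exact this.pi'_of_eq_bot s H.hs (d' s H.sm) ne.symm
  · exact this.pi p m.1 (d' p m) rfl

theorem K6 : PiN {s} (C(U).relIndex N(U)) := fun q hq dq => by
  by_contra qs
  have np : ∀ p ∈ primes b, p ≠ s → ¬ p ∣ C(U).relIndex N(U) := fun p m ne => by
    obtain ⟨P, hP, k⟩ := H.sylU A m ne
    exact (hP.of_le (k.trans le_normalizer) le_top).not_dvd_relIndex m.1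
      (k.trans (comm_iff_le_cent.1 A.1))
  have qm : q ∉ primes b := fun m => np q m qs dq
  have dq' := dq.trans (relIndex_dvd_card _ _)
  have pz : ∀ {g : G}, orderOf g = q → PiG (primes b)ᶜ (zpowers g) := fun og =>
    piG_zpowers.2 ((piE_of hq og).sing qm)
  have hK := cent_normal_norm U
  have sK : s ∣ C(U).relIndex N(U) := by
    obtain ⟨g, hg, og⟩ := exists_orderOf_eq_prime hq dq'
    obtain ⟨w, hw, w1⟩ := exists_ne_one (H.SK1 A)
    have d := (card_dvd (cent_le_cent1 hw)).trans (H.cd w1 ((H.piK A).elt (Oc_le _ _ hw)))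
    have nl : Nil C(Oc {s} C(U)) := H3.isNilpotent_of_fpf_prime
      (norms_cent ((hK.Oc _).norms (zpowers_le.2 hg))) (by rwa [Nat.card_zpowers, og])
      ((H.sr (piN_primes.dvd d) (pz og)).cent le_rfl (by simpa using ne_one_of_prime hq og))
    have l : C(U) ≤ C(Oc {s} C(U)) := cents_of_comm (H.Kc A).2 le_rfl (Oc_le _ _)
    have lU := (comm_iff_le_cent.1 A.1).trans l
    obtain ⟨T, hT⟩ := H19.exists_syl s C(Oc {s} C(U))
    have e : C(Oc {s} C(U)) = C(U) := le_antisymm (hT.sup_compl (H.hallU A lU d) ▸ sup_le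
      (nil_cents_pi nl hT.le lU hT.pi (H.pU A)) (comm_iff_le_cent.1 A.1)) l
    obtain ⟨Q, lt, pQ, -, nQ⟩ := (Oc_pi {s} C(U)).exists_lt_norm le_top fun f => by
      obtain ⟨u, hu, u1⟩ := exists_ne_one (H.U1 A)
      refine f.not_dvd_relIndex H.hs (Oc_le _ _) ?_
      rw [relIndex_top_right, ← H.K1 A hu u1]
      exact (H.ds.mul_left a).trans (H.csβ (H.K0 A hu u1).1).symm.dvd
    have QN : Q ≤ N(U) := nQ.trans ((e ▸ norm_le_norm_cent _).trans (H.nK A))
    by_contra f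
    exact lt.not_ge ((H.sylK A).le_Oc (le_of_pi_of_relIndex (hK.norms QN) hK.le QN pQ
      (PiN.of_not_dvd f)) pQ)
  obtain ⟨j, R, hj, pR, lR, nR, -, fr⟩ := red (H20.sol_of_odd (H.oddN A)) hK fun e => by
    rw [e, relIndex_self, Nat.dvd_one] at dq; exact hq.one_lt.ne' dq
  have dv : ∀ p, p.Prime → p ∣ C(U).relIndex N(U) → ∃ g ∈ N(U) ⊓ N(R), orderOf g = p := fun p hp d =>
    exists_orderOf_eq_prime hp (d.trans (by
      conv_lhs => rw [← fr, relIndex_sup_of_norm (hK.norms inf_le_left)]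
      exact relIndex_dvd_card _ _))
  by_cases m : j ∈ primes b
  · obtain rfl : j = s := by_contra fun ne => nR (le_of_pi_of_relIndex (hK.norms lR) hK.le lR pR
      (PiN.of_not_dvd (np j m ne)))
    obtain ⟨g, hg, og⟩ := dv q hq dq
    exact nR (Frobenius_cent_compl' (zpowers_le.2 hg.2) (H.sr (pR.sing m) (pz og)) A.1 lR
      (zpowers_le.2 hg.1) ((H.pU A).coprime' pR) ((H.sr (H.piU A) (pz og)).cent le_rfl
        (by simpa using ne_one_of_prime hq og)))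
  · obtain ⟨w, hw, ow⟩ := dv s H.hs sK
    have pw := (piE_of H.hs ow).sing H.sm
    have pR' : PiG (primes b)ᶜ R := pR.sing m
    refine nR (Frobenius_cent_compl' (zpowers_le.2 hw.2) (H.sr (piG_zpowers.2 pw) pR').symm A.1 lR
      (zpowers_le.2 hw.1) ((H.piU A).coprime pR') ?_)
    rw [cent_zpowers]
    refine H.K4 A fun f => nR ?_
    have := ((H.piK A).infl N(R)).cents_of_norms pR' (norms_inf (hK.norms lR) (norms_of_le le_normalizer))
      inf_le_right ⟨f, hw.2⟩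
    rw [((H.cpi (ne_one_of_prime H.hs ow) pw).of_le (le_cent1_iff.2 this)).eq_bot pR']
    exact bot_le

end T4

end H18.R5
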