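/-
The odd side with two centralizer orders whose quotient is a prime power: fusion.
-/
import Cfsg.Agent.H18.R5e
import Cfsg.Agent.S3071
import Cfsg.Agent.H9.ZJCor

set_option autoImplicit false
set_option linter.unusedSectionVars false
set_option linter.style.haveILetI false

open Cfsg
namespace H18.R5
open H19 Subgroup H5.SC H24 H25.R4

variable {G : Type*} [Group G] [Finite G] {a b β n p q r s : ℕ} {g h u v w x y z : G}
  {K L M P S U X Y : Subgroup G}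

theorem sl2_even [Fact p.Prime] (hp : p ≠ 2) :
    2 ∣ Nat.card (Matrix.SpecialLinearGroup (Fin 2) (ZMod p)) := by
  haveI : Fact (Nat.Prime 2) := ⟨Nat.prime_two⟩
  haveI : Fact (2 < p) := ⟨lt_of_le_of_ne (Fact.out : p.Prime).two_le hp.symm⟩
  have := orderOf_eq_prime (x := (-1 : Matrix.SpecialLinearGroup (Fin 2) (ZMod p))) (p := 2) (by simp)
    fun e => ZMod.neg_one_ne_one (n := p) (by simpa using congrArg (fun A => A.1 0 0) e)
  exact this.symm.dvd.trans (orderOf_dvd_natCard _)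

theorem zj0 (hp : p.Prime) (p2 : p ≠ 2) (hD : Odd #M) (hP : H19.Syl p P M) (O : Oc {p}ᶜ M = ⊥) :
    M ≤ N(H9.ZJ 0 P) := by
  haveI := Fact.mk hp
  haveI : Group.IsSolvable M := H20.sol_of_odd hD
  obtain ⟨S, rfl⟩ := hP.exists_sylow
  have h := H9.pPrimeCore_sup_normalizer_ZJ_of_not_involves p2 (Or.inr rfl)
    (H1.isPConstrained_of_isSolvable inferInstance)
    (H9.not_involves_qd_of_odd p2 (by rwa [Subgroup.card_top])) S
  rw [pPrimeCore_eq hp, O, bot_subgroupOf, bot_sup_eq] at h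
  haveI := normalizer_eq_top_iff.1 h
  have := (normalIn_map_subtype (H9.ZJ 0 (S : Subgroup M))).norm
  rwa [H9.map_ZJ_of_injective M.subtype_injective] at this

theorem card_nt (K : Subgroup G) : Nat.card (nt K) = #K - 1 := by
  rw [Nat.card_coe_set_eq, nt, Set.ncard_sdiff_singleton_of_mem K.one_mem]; rfl

namespace T4
variable [IsSimpleGroup G] (H : T4 G a b β n s)
include H

theorem s2 : s ≠ 2 := fun e => H.odd.not_two_dvd_nat (e ▸ H.sm.2)

theorem S1 (hS : H19.Syl s S ⊤) : S ≠ ⊥ :=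
  hS.sne_bot H.hs (by rw [card_top, H.card]; exact H.sm.2.mul_left _)

theorem ZJ1 (hS : H19.Syl s S ⊤) : H9.ZJ 0 S ≠ ⊥ :=
  haveI := Fact.mk H.hs
  H9.ZJ_ne_bot (Or.inr rfl) hS.pi.isPGroup (H.S1 hS)

theorem fus (hS : H19.Syl s S ⊤) (hx : x ∈ S) (hy : g * x * g⁻¹ ∈ S) :
    ∃ m ∈ N(H9.ZJ 0 S), m * x * m⁻¹ = g * x * g⁻¹ := by
  haveI := Fact.mk H.hs
  obtain ⟨T, rfl⟩ := hS.exists_sylow_top
  rw [← H9.centerThompsonAOf_eq_ZJ]
  refine (Cfsg.Agent.S3071.result H.s2 T ?_ x hx _ hy).1 ⟨g, rfl⟩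
  rintro P l l' ⟨A, B, _, k, ⟨e⟩⟩
  refine (H.nodd ((hS.pi.of_le l').sing H.sm) (ne_bot_mono l (hS.pi.center_ne_bot
    (H.S1 hS)))).not_two_dvd_nat (((sl2_even H.s2).trans ?_).trans (card_dvd k))
  rw [← Nat.card_congr e.toEquiv]
  exact card_quotient_dvd_card _

theorem der (hS : H19.Syl s S ⊤) : S ≤ ⁅N(H9.ZJ 0 S), N(H9.ZJ 0 S)⁆ := by
  have := focal_subgroup_gen hS (L := ⁅N(H9.ZJ 0 S), N(H9.ZJ 0 S)⁆) fun x hx g _ hy => by
    obtain ⟨m, hm, e⟩ := H.fus hS hx hy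
    rw [← e]
    exact commutator_mem_commutator hm (H9.normalizer_le_normalizer_ZJ 0 S (le_normalizer hx))
  rwa [(der_normal (⊤ : Subgroup G)).normal.eq_bot_or_eq_top.resolve_left fun e => H.S1 hS
    (eq_bot_iff.2 fun x _ => H.hZ ▸ mem_center_iff.2 fun g => commg_eq_bot.1 e (mem_top x) g trivial),
    inf_top_eq] at this

theorem nrm' (hS : H19.Syl s S ⊤) (o : Odd #M) (l : S ≤ M) (d : S ≤ ⁅M, M⁆) (Q1 : Oc {s} M ≠ ⊥) :
    M ≤ N(S) := by
  have hQ := Oc_normal {s} M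
  have pQ := Oc_pi {s} M
  generalize eQ : Oc {s} M = Q at *
  suffices S ≤ Q from hS.max this le_top pQ ▸ hQ.norm
  by_contra nS
  obtain ⟨j, R, hj, pR, lR, nR, hR, fr⟩ := red (H20.sol_of_odd o) hQ fun e => nS (e ▸ l)
  have js : j ≠ s := fun e => nR (le_sup_right.trans (eQ ▸ le_Oc hR (pQ.sup (e ▸ pR) (hQ.norms lR))))
  obtain ⟨r0, hr0, r1⟩ := exists_ne_one (H := R) fun e => nR (e ▸ bot_le)
  have nA : M ⊓ N(R) ≤ N(Q) := hQ.norms inf_le_left
  by_cases m : j ∈ primes b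
  · obtain ⟨U, A⟩ := H.exU
    obtain ⟨P, hP, k⟩ := H.sylU A m js
    obtain ⟨g, -, hg⟩ := hP.sle_cj le_top pR
    have A' := A.J g
    have RU := hg.trans (cj_mono g k)
    have e := H.K2 A' RU (ne_bot_of_mem hr0 r1)
    have nC : M ⊓ C(R) ≤ N(Q) := hQ.norms inf_le_left
    have hL : Q ⊔ (M ⊓ C(R)) ⊴ M := ⟨sup_le hQ.le inf_le_left, by
      conv_lhs => rw [← fr]
      exact sup_le (norms_of_le le_sup_left) (norms_sup nA
        (norms_inf (norms_of_le inf_le_left) (norms_cent inf_le_right)))⟩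
    have i : PiN {s} ((Q ⊔ (M ⊓ C(R))).relIndex M) := by
      have lA : M ⊓ C(R) ≤ M ⊓ N(R) := inf_le_inf_left _ (cent_le_norm R)
      have : Q ⊔ (M ⊓ C(R)) ⊔ (M ⊓ N(R)) = M := by rw [sup_assoc, sup_eq_right.2 lA, fr]
      conv => enter [2, 2]; rw [← this]
      rw [relIndex_sup_of_norm (hL.norms inf_le_left)]
      refine ((H.K6 A').dvd (relIndex_dvd_of_norm (H := C(cj g U)) (K := M ⊓ N(R)) ?_
        (cent_le_norm _) ?_)).dvd ?_
      · exact norms_cent (inf_le_right.trans (H.K3 A' RU (ne_bot_of_mem hr0 r1)))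
      · exact inf_le_right.trans (H.K3 A' RU (ne_bot_of_mem hr0 r1))
      · rw [← e, ← inf_relIndex_right C(R)]
        exact relIndex_dvd_left (le_sup_of_le_right
          (le_inf (inf_le_right.trans inf_le_left) inf_le_left)) _
    have ML : M ≤ Q ⊔ (M ⊓ C(R)) := (quo_eq_bot_iff hL.norm).1 (sol_eq_bot_of_le_der
      (sol_quo (H20.sol_of_odd o) _) (by
        rw [← quo_comm hL.norm hL.norm, quo_le_quo_iff hL.norm ((der_le M).trans hL.norm)]
        exact ((hS.of_le l le_top).sup_eq hL.le i).ge.trans (sup_le_sup_left d _)))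
    refine nS (d.trans ((der_mono ML).trans ((der_sup_le nC).trans (sup_le le_rfl ?_))))
    rw [comm_iff_der.1 (comm_mono (H.Kc A').2 (e ▸ inf_le_right))]
    exact bot_le
  · have pR' : PiG (primes b)ᶜ R := pR.sing m
    have c : Cyc R := zgroup_iff.1 (odd_regular_Zgroup (odd_mono o lR) Q1 (hQ.norms lR)
      (H.sr (pQ.sing H.sm) pR')) j R pR le_rfl
    have p' : PiG {s}ᶜ ⁅M ⊓ N(R), M ⊓ N(R)⁆ := ((H.cpi' r1 (pR'.elt hr0)).of_le
      ((der1_cent_cyclic c inf_le_right).trans (cent_le_cent1 hr0))).compl_sing' H.sm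
    have nD := (der_le (M ⊓ N(R))).trans nA
    refine nS (le_of_pi_of_relIndex (hQ.norms l) le_sup_left (d.trans
      ((der_mono fr.ge).trans (der_sup_le nA))) hS.pi ?_)
    rw [relIndex_sup_of_norm nD]
    exact p'.relIndex _

theorem nrm (hS : H19.Syl s S ⊤) : N(H9.ZJ 0 S) ≤ N(S) :=
  H.nrm' hS (H.nodd ((hS.pi.of_le (H9.ZJ_le 0 S)).sing H.sm) (H.ZJ1 hS))
    (le_normalizer.trans (H9.normalizer_le_normalizer_ZJ 0 S)) (H.der hS)
    (ne_bot_mono (le_Oc (normalIn_norm _) (hS.pi.of_le (H9.ZJ_le 0 S))) (H.ZJ1 hS))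

variable (A : AU b s U)
include A

theorem F4 (e : #C[w] = b) (hw : w ∈ C(U)) (pg : PiE {s} g) (hg : g ∈ C[w]) (gN : g ∈ N(U))
    (ng : g ∉ C(U)) : C[w] ≤ N(U) := by
  have l := le_cent1_iff.2 hw
  by_cases O : Oc {s}ᶜ C[w] = ⊥
  · obtain ⟨S, hS, k⟩ := (piG_zpowers.2 pg).exists_syl (zpowers_le.2 hg)
    have := (zj0 H.hs H.s2 (e ▸ H.odd) hS O).trans (H.nrm ((H.hall e).sub_syl H.sm hS))
    exact (ng ((hS.pi.infl N(U)).cents_of_norms (H.pU A) (norms_inf (l.trans this)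
      (norms_of_le le_normalizer)) inf_le_right ⟨k (mem_zpowers g), gN⟩)).elim
  · exact (Oc_norm _ _).trans (H.K3 A (Oc_le_hall (H.hallU A l e.dvd)) O)

theorem K7 : ∃ h : G, h ≠ 1 ∧ h ∈ Oc {s} C(U) ∧ C[h] = N(U) ∧ #C[h] = b := by
  obtain ⟨T, hT⟩ := H19.exists_syl s N(U)
  have hK := cent_normal_norm U
  obtain ⟨h, hh, h1⟩ := exists_ne_one ((Oc_pi {s} C(U)).meet_cent hT.pi ((hK.Oc _).norms hT.le)
    (H.SK1 A))
  have e := hT.sup_eq hK.le (H.K6 A)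
  have hK' := Oc_le _ _ hh.1
  have l : N(U) ≤ C[h] := e ▸ sup_le (le_cent1_iff.2 (comm_iff_le_cent.1 (H.Kc A).2 hK'))
    (le_cent1_iff.2 hh.2)
  obtain ⟨g, hg, ng⟩ := SetLike.not_le_iff_exists.1 fun f : T ≤ C(U) => H.K5 A (e ▸ sup_le le_rfl f)
  have eh := H.big A h1 hK' (l (hT.le hg)) ng
  exact ⟨h, h1, hh.1, le_antisymm (H.F4 A eh hK' (hT.pi.elt hg) (l (hT.le hg)) (hT.le hg) ng) l, eh⟩

omit A in
theorem fin : False := by
  obtain ⟨U, A⟩ := H.exU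
  obtain ⟨h, h1, hh, eB, eh⟩ := H.K7 A
  obtain ⟨S, hS⟩ := H19.exists_syl s N(U)
  have hS' : H19.Syl s S ⊤ := (H.hall eh).sub_syl H.sm (eB ▸ hS)
  have hK := cent_normal_norm U
  have hT := hK.Oc {s}
  have sy := H.sylK A
  set T := Oc {s} C(U)
  have TS : T ≤ S := hS.le_of_norm' hT.le sy.pi (hT.norms hS.le)
  have hU := H.hallU A le_normalizer (eB ▸ eh).dvd
  have nS : ¬ S ≤ C(U) := fun f => H.K5 A (hS.sup_compl hU ▸ sup_le f (comm_iff_le_cent.1 A.1))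
  have MB : ∀ x ∈ N(U), x ∈ N(S) → x ∈ S := fun x hx hx' => by
    rw [← hS.sup_compl hU, sup_comm] at hx
    obtain ⟨u, hu, y, hy, rfl⟩ := (mem_sup_of_norm hS.le).1 hx
    obtain rfl : u = 1 := by_contra fun u1 => nS (H.K1 A hu u1 ▸ le_cent1_iff.2
      (((H.pU A).infl N(S)).cents_of_norms hS.pi.compl_compl (norms_inf hS.le
        (norms_of_le le_normalizer)) inf_le_right
        ⟨hu, (mul_mem_cancel_right (le_normalizer hy)).1 hx'⟩))
    simpa using hy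
  obtain ⟨m, hm, nm⟩ := SetLike.not_le_iff_exists.1 fun f : N(S) ≤ N(U) => H.S1 hS'
    (sol_eq_bot_of_le_der hS.pi.sol ((H.der hS').trans (der_mono fun x hx =>
      MB x (f (H.nrm hS' hx)) (H.nrm hS' hx))))
  have nB : ∀ g : G, cj g N(U) = N(U) → g ∈ N(U) := fun g e => mem_norm_iff_cj.2
    (hU.eq_of_normal le_rfl (e ▸ hU.J g))
  have g1 : m * h * m⁻¹ ∈ S := conj_mem_of_norm hm (TS hh)
  have g2 : m * h * m⁻¹ ∉ C(U) := fun f => by
    have l := le_cent1_iff.2 f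
    rw [← cj_cent1, eB] at l
    exact nm (mem_norm_iff_cj.2 ((hU.J m).eq_of_normal (cj_norm m U).le
      (H.hallU A l (by rw [H19.card_cj, ← eB, eh]))).symm)
  have g3 : S ≤ C[m * h * m⁻¹] := by
    rw [← cj_cent1, eB, ← cj_of_mem_norm hm]; exact cj_mono m hS.le
  have cw : ∀ w ∈ T, w ≠ 1 → C[w] = N(U) := fun w hw w1 => by
    have k := mem_cent1_symm.1 (g3 (TS hw))
    have e := H.big A w1 (sy.le hw) k g2
    exact eq_of_le_of_card_eq (H.F4 A e (sy.le hw) (hS.pi.elt g1) k (hS.le g1) g2) (by rw [e, ← eB, eh])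
  have cv : ∀ w ∈ S, w ≠ 1 → ∃ j ∈ N(S), j * w * j⁻¹ ∈ T := fun w hw w1 => by
    obtain ⟨p, pm, ne, d⟩ := H.exp A
    obtain ⟨P, hP, k⟩ := H.sylU A pm ne
    have pw := hS.pi.elt hw
    have d' : p ∣ β := (H.Kc A).1 ▸ d.trans (card_dvd (comm_iff_le_cent.1 A.1))
    obtain ⟨u, hu, ou⟩ := exists_orderOf_eq_prime (H := C[w]) pm.1 (by
      rcases H.val' w1 (pw.sing H.sm) with e | e <;> rw [e]
      exacts [pm.2, d'])
    obtain ⟨j, hj⟩ := conj_into hP (mem_top u) (piE_of pm.1 ou) rfl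
    have : j * w * j⁻¹ ∈ T := sy.mem_Oc (by
      rw [← H.K1 A (k hj) (conj_ne (ne_one_of_prime pm.1 ou) j), ← cj_cent1]
      exact H19.conj_mem_cj.2 (mem_cent1_symm.1 hu)) (pw.e_conj j)
    obtain ⟨i, hi, e⟩ := H.fus hS' hw (TS this)
    exact ⟨i, H.nrm hS' hi, e ▸ this⟩
  have ti : ∀ (j w : G), w ∈ T → w ≠ 1 → j * w * j⁻¹ ∈ T → j ∈ N(U) := fun j w hw w1 k =>
    nB j (by rw [← cw w hw w1, cj_cent1, cw _ k (conj_ne w1 j), cw w hw w1])
  have aS : Ab S := comm_iff_le_cent.2 fun w hw => by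
    by_cases w1 : w = 1
    · exact w1 ▸ one_mem _
    obtain ⟨j, hj, k⟩ := cv w hw w1
    have := le_cent1_iff.1 (cw _ k (conj_ne w1 j) ▸ hS.le)
    rwa [← cj_of_mem_norm hj, ← cj_cent, H19.conj_mem_cj] at this
  have cy : Cyc (quo T S) := by_contra fun f => H.U1 A (le_bot_iff.1 (le_of_cent1_le_quo aS TS sy.le f
    hS.le ((H.pU A).coprime' hS.pi) fun w hw nw => (H.K4 A fun k => nw (sy.mem_Oc k (hS.pi.elt hw))).le))
  obtain ⟨z, hz⟩ := cyc_iff.1 cy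
  obtain ⟨z, rfl⟩ := qmk_surj T z
  have SN := hT.norms hS.le
  have zS : (z : G) ∈ S := sup_eq_right.2 TS ▸ (qmk_mem_quo SN).1 (hz ▸ mem_zpowers _)
  have ez : S ≤ T ⊔ zpowers (z : G) := (quo_le_quo_iff SN (zpowers_le.2 z.2)).1
    (by rw [quo_zpowers z.2, ← hz])
  have zT : (z : G) ∉ T := fun f => nS (ez.trans (sup_le sy.le ((zpowers_le.2 f).trans sy.le)))
  have z1 : (z : G) ≠ 1 := fun f => zT (f ▸ one_mem _)
  obtain ⟨j, hj, k⟩ := cv _ zS z1
  have lj : cj j⁻¹ T ≤ S := cj_le_of_mem_norm (inv_mem hj) TS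
  have cS : #S = #T * #T := by
    rw [le_antisymm (ez.trans (sup_le_sup_left (zpowers_le.2 (H19.mem_cj_inv.2 k)) _)) (sup_le TS lj),
      card_sup_of_disjoint (lj.trans SN) (eq_bot_iff.2 fun w hw => by_contra fun w1 => zT (by
        simpa [mul_assoc] using conj_mem_of_norm' (hT.norm (ti j w hw.1 w1 (H19.mem_cj_inv.1 hw.2))) k)),
      H19.card_cj]
  obtain ⟨E, hE⟩ := (hS'.of_le le_normalizer le_top).exists_compl le_rfl
  have oE := odd_mono (H.nodd (hS.pi.sing H.sm) (H.S1 hS')) hE.right_le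
  have c := Nat.card_eq_of_bijective (fun x : E × nt T => (⟨x.1 * x.2 * (x.1 : G)⁻¹,
    conj_mem_of_norm (hE.right_le x.1.2) (TS x.2.2.1), conj_ne x.2.2.2 _⟩ : nt S)) ⟨by
      rintro ⟨e, w⟩ ⟨e', w'⟩ f
      have f : (e : G) * w * (e : G)⁻¹ = e' * w' * (e' : G)⁻¹ := congrArg Subtype.val f
      have i := mul_mem (inv_mem e'.2) e.2
      obtain rfl : e' = e := Subtype.ext (inv_mul_eq_one.1 (mem_bot.1 (hE.inf ▸ (⟨MB _ (ti _ w w.2.1
        w.2.2 (by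
          rw [show (e' : G)⁻¹ * e * w * ((e' : G)⁻¹ * e)⁻¹ = (e' : G)⁻¹ * (e * w * (e : G)⁻¹) * e' by
            group, f]
          simpa [mul_assoc] using w'.2.1)) (hE.right_le i), i⟩ : _ ∈ S ⊓ E))))
      exact Prod.ext rfl (Subtype.ext (by simpa using f)), fun w => by
      obtain ⟨i, hi, k⟩ := cv w w.2.1 w.2.2
      obtain ⟨x, hx, e, he, f⟩ := hE.mem (inv_mem hi)
      refine ⟨⟨⟨e, he⟩, ⟨_, k, conj_ne w.2.2 i⟩⟩, Subtype.ext ?_⟩
      show e * (i * w * i⁻¹) * e⁻¹ = w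
      rw [show e = x⁻¹ * i⁻¹ by rw [f]; group]
      calc _ = x⁻¹ * (w * x) := by group
        _ = _ := by rw [mul_comm_of_comm aS w.2.1 hx, inv_mul_cancel_left]⟩
  rw [Nat.card_prod, card_nt, card_nt, cS] at c
  have oT := odd_mono (H.oddN A) hT.le
  obtain ⟨t, ht⟩ := Nat.exists_eq_add_of_le' (ne_bot_iff_one_lt_card.1 (H.SK1 A))
  rw [ht] at c oT
  have : #E = t + 3 := Nat.eq_of_mul_eq_mul_right (Nat.succ_pos t) (by
    have : (t + 2) * (t + 2) = (t + 3) * (t + 1) + 1 := by ring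
    rw [this] at c
    exact c)
  rw [this, Nat.odd_iff] at oE
  rw [Nat.odd_iff] at oT
  omega

end T4

theorem T3.false [IsSimpleGroup G] (H : T3 G a b β n) : False := by
  obtain ⟨s, hs, d⟩ := Nat.exists_prime_and_dvd H.n1
  exact T4.fin ⟨H, hs, fun q hq dq => by_contra fun ne => H.big hs hq d dq ne⟩

end H18.R5
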