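/-
Sims bound (S3694): the core of a point stabilizer of symplectic type.
-/
import Cfsg.Agent.H18.SB2

set_option autoImplicit false
set_option linter.unusedSectionVars false

namespace H18.SB
open H22.SB Matrix Subgroup
open scoped Nat

universe u

section
variable {G : Type*} [Group G] [Finite G]

theorem ex_core (H D : Subgroup G) : ∃ K ≤ H ⊓ D, (∀ h ∈ H, ∀ k ∈ K, h * k * h⁻¹ ∈ K) ∧ Nat.card H ≤ (D.relIndex H)! * Nat.card K := by
  refine ⟨(D.subgroupOf H).normalCore.map H.subtype, ?_, ?_, ?_⟩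
  · rintro _ ⟨x, hx, rfl⟩
    exact ⟨x.2, normalCore_le (D.subgroupOf H) hx⟩
  · rintro h hh _ ⟨x, hx, rfl⟩
    exact ⟨_, (normalCore_normal _).conj_mem x hx ⟨h, hh⟩, rfl⟩
  · rw [card_map_of_injective H.subtype_injective, ← index_mul_card (D.subgroupOf H).normalCore]
    refine Nat.mul_le_mul_right _ (Nat.le_of_dvd (Nat.factorial_pos _) ?_)
    rw [normalCore_eq_ker, index_ker, relIndex, index_eq_card, ← Nat.card_perm]
    exact card_subgroup_dvd_card (MulAction.toPermHom H (H ⧸ D.subgroupOf H)).range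

theorem idx_inv (H : Subgroup G) (t : G) :
    (H.map (MulAut.conj t⁻¹).toMonoidHom).relIndex H = (H.map (MulAut.conj t).toMonoidHom).relIndex H := by
  rw [← relIndex_map_map_of_injective (f := (MulAut.conj t).toMonoidHom) _ _ (MulAut.conj t).injective, Subgroup.map_map,
    show (MulAut.conj t).toMonoidHom.comp (MulAut.conj t⁻¹).toMonoidHom = MonoidHom.id G from MonoidHom.ext fun x => by
      simp [mul_assoc], Subgroup.map_id]
  have a := card_map_of_injective (K := H) (f := (MulAut.conj t).toMonoidHom) (MulAut.conj t).injective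
  generalize H.map (MulAut.conj t).toMonoidHom = K at a ⊢
  have b := relIndex_mul_relIndex ⊥ (H ⊓ K) H bot_le inf_le_left
  have c := relIndex_mul_relIndex ⊥ (H ⊓ K) K bot_le inf_le_right
  rw [relIndex_bot_left, relIndex_bot_left, inf_relIndex_left] at b
  rw [relIndex_bot_left, relIndex_bot_left, inf_relIndex_right, a, ← b] at c
  exact Nat.eq_of_mul_eq_mul_left Nat.card_pos c

omit [Finite G] in
theorem cc {x y w : G} (h1 : x * w * x⁻¹ * w⁻¹ ∈ center G) (h2 : y * w * y⁻¹ * w⁻¹ ∈ center G) :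
    x⁻¹ * y⁻¹ * x * y * w = w * (x⁻¹ * y⁻¹ * x * y) := by
  have a : ∀ {x y : G}, x * w * x⁻¹ * w⁻¹ ∈ center G → x * y * w * (x * y)⁻¹ = x * (y * w * y⁻¹ * w⁻¹) * x⁻¹ * (x * w * x⁻¹ * w⁻¹) * w :=
    fun _ => by group
  have b := a (y := y) h1
  have c := a (y := x) h2
  rw [mem_center_iff.1 h2 x, mul_inv_cancel_right, mem_center_iff.1 h1] at b
  rw [mem_center_iff.1 h1 y, mul_inv_cancel_right, ← b] at c
  calc _ = (y * x)⁻¹ * (x * y * w * (x * y)⁻¹) * (x * y) := by group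
    _ = _ := by rw [← c]; group
end

variable {F : Type} [Field F] [Fintype F] {Φ : Fm F} {G : Type u} [Group G] [Finite G] {n : ℕ} {X : Cx Φ G n} (E : Ex X)
  {x y : Φ.S (Fin n)}

theorem nu_one : E.ν 1 = 0 := (E.νk 1 (one_mem _)).2 sc_one
theorem nu_inv (hx : x ∈ X.R) : E.ν x⁻¹ = -E.ν x :=
  eq_neg_of_add_eq_zero_right (by rw [← E.νm x hx _ (inv_mem hx), mul_inv_cancel, nu_one])
theorem nu_eq (hx : x ∈ X.R) (hy : y ∈ X.R) (h : E.ν x = E.ν y) : X.π x = X.π y := by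
  rw [← mul_inv_eq_one, ← map_inv, ← map_mul, X.ker, ← E.νk _ (mul_mem hx (inv_mem hy)), E.νm x hx _ (inv_mem hy), nu_inv E hy, h,
    add_neg_cancel]
theorem cm_iff (hx : x ∈ X.R) (hy : y ∈ X.R) : x * y = y * x ↔ E.β (E.ν x) (E.ν y) = 0 := by
  refine ⟨fun h => by_contra fun a => om_ne (E := E) a (smul_one_inj X ?_), fun h => mt_inj (by
    rw [mt_mul, E.cm x hx y hy, h, ZMod.val_zero, pow_zero, one_smul, mt_mul])⟩
  have := congrArg (· * mt (y * x)⁻¹) (E.cm x hx y hy)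
  simp only [← mt_mul, h, smul_mul_assoc, mul_inv_cancel, mt_one] at this
  rw [← this, one_smul]
include E in
theorem cm_cen (hx : x ∈ X.R) (hy : y ∈ X.R) (s : Φ.S (Fin n)) :
    s * x * s⁻¹ * (s * y * s⁻¹) * (s * x * s⁻¹)⁻¹ * (s * y * s⁻¹)⁻¹ ∈ center (Φ.S (Fin n)) := by
  rw [show _ * _ = s * (x * y * (y * x)⁻¹) * s⁻¹ by group]
  refine (inferInstance : (center _).Normal).conj_mem _ (mem_center_iff.2 fun g => mt_comm.2 (Sc.comm ((X.ker _).1 ?_) _).symm) s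
  rw [map_mul, map_inv, mul_inv_eq_one]
  exact X.pi_eq.2 ⟨_, E.cm x hx y hy⟩

/-- the classes of a subgroup of `R` -/
def nuS (T : Subgroup (Φ.S (Fin n))) (hT : T ≤ X.R) : Submodule (ZMod X.r) (Fin E.k → ZMod X.r) :=
  AddSubgroup.toZModSubmodule _
    { carrier := E.ν '' T
      add_mem' := by rintro _ _ ⟨x, hx, rfl⟩ ⟨y, hy, rfl⟩; exact ⟨_, mul_mem hx hy, E.νm x (hT hx) y (hT hy)⟩
      zero_mem' := ⟨1, one_mem _, nu_one E⟩
      neg_mem' := by rintro _ ⟨x, hx, rfl⟩; exact ⟨_, inv_mem hx, nu_inv E (hT hx)⟩ }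

theorem core (ec : EC.{u}) (na : X.NoA) (ab : X.Ab) (h : Dch E.β E.Gd) (h6 : X.r = 2 → 6 ≤ E.k) {c : ZMod X.r} (hc : c ≠ 0)
    (tr : E.Tr c) (D : Subgroup G) (hD : D.relIndex X.H = X.d) : X.h ≤ X.d ! * X.A ∨ ∀ x ∈ X.R, X.π x ∈ D := by
  obtain ⟨K, k1, k2, k3⟩ := ex_core X.H D
  have k0 : K ≤ X.H := k1.trans inf_le_left
  by_cases a : ∀ x ∈ X.R, X.π x ∈ K → X.π x = 1
  · refine Or.inl (k3.trans (hD ▸ Nat.mul_le_mul_left _ (le_trans ?_ (relIndex_le_of_le_right k0 FiniteIndex.index_ne_zero))))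
    rw [← inf_relIndex_right, show X.Hs X.H ⊓ K = ⊥ from eq_bot_iff.2 fun g hg => ?_, relIndex_bot_left]
    obtain ⟨y, hy, rfl⟩ := (ec F Φ G n X E ab).2.2 g hg.1 fun x hx => by
      obtain ⟨y, e⟩ := X.conj_range g x
      have := a _ (mul_mem (X.Rinv g (k0 hg.2) x hx y e) (inv_mem hx)) (by
        simpa [e, mul_assoc] using mul_mem hg.2 (k2 _ (X.RH x hx) _ (inv_mem hg.2)))
      rwa [map_mul, map_inv, e, mul_inv_eq_one, mul_inv_eq_iff_eq_mul] at this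
    exact a y hy hg.2
  · push Not at a
    obtain ⟨z, z1, z2, z3⟩ := a
    have b : ∀ g ∈ X.H, ∀ x ∈ X.R ⊓ K.comap X.π, ∃ y ∈ X.R ⊓ K.comap X.π, mt y = X.th g (mt x) := fun g hg x hx => by
      obtain ⟨y, b1, b2, b3, b4⟩ := X.thR hg hx.1
      refine ⟨y, ⟨b1, show X.π y ∈ K from ?_⟩, b2⟩
      by_cases e : X.ε g = 1
      · exact b3 e ▸ k2 g hg _ hx.2
      · exact b4 e ▸ inv_mem (k2 g hg _ hx.2)
    refine Or.inr fun x hx => by_contra fun d => ?_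
    obtain ⟨v, v0, d1, d2, _, ⟨y, hy, rfl⟩, d3⟩ := ia _ _ E.β E.Gd c E.alt E.nd hc h h6 (nuS E (X.R ⊓ K.comap X.π) inf_le_left)
      (fun e => z3 ((X.ker z).2 ((E.νk z z1).1 (e.le ⟨z, ⟨z1, z2⟩, rfl⟩)))) (fun e => by
        obtain ⟨y, hy, f⟩ := e.ge (Submodule.mem_top (x := E.ν x))
        exact d (nu_eq E hy.1 hx f ▸ (k1 hy.2).2)) (by
      rintro _ ⟨y, hy, rfl⟩ e
      refine (E.νk y hy.1).2 (na (X.R ⊓ K.comap X.π ⊓ centralizer ↑(X.R ⊓ K.comap X.π)) (inf_le_left.trans inf_le_left)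
        (fun g hg s hs => ?_) (fun s hs t ht => ht.2 s hs.1) y ⟨hy, fun s hs => ((cm_iff E hy.1 hs.1).2 (e _ ⟨s, hs, rfl⟩)).symm⟩)
      obtain ⟨t, ht, f⟩ := b g hg s hs.1
      refine ⟨t, ⟨ht, fun w hw => mt_comm.2 ?_⟩, f⟩
      obtain ⟨w', hw', f'⟩ := b g⁻¹ (inv_mem hg) w hw
      rw [f, ← X.th_inv' g (mt w), ← f']
      exact X.th_comm g (mt_comm.1 (hs.2 w' hw')))
    obtain ⟨m, m1, m2⟩ := tr v v0 d1 d2
    exact d3 ⟨_, ⟨X.conjR m1 hy.1, by simpa using k2 _ m1 _ hy.2⟩, m2 y hy.1⟩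

theorem e6 (ec : EC.{u}) : E6.{u} := by
  intro F _ _ Φ G _ _ n X E na ab h h6 c hc tr
  refine (core E ec na ab h h6 hc tr _ X.hd).elim Or.inl fun a1 => (core E ec na ab h h6 hc tr _
    ((idx_inv X.H _).trans X.hd)).imp_right fun a2 => ?_
  replace a1 : ∀ x ∈ X.R, X.π (X.s⁻¹ * x * X.s) ∈ X.H := fun x hx => by
    obtain ⟨y, hy, e⟩ := a1 x hx
    simpa [← e, mul_assoc] using hy
  replace a2 : ∀ x ∈ X.R, X.π (X.s * x * X.s⁻¹) ∈ X.H := fun x hx => by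
    obtain ⟨y, hy, e⟩ := a2 x hx
    simpa [← e, mul_assoc] using hy
  let I := X.R ⊓ X.R.comap (MulAut.conj X.s⁻¹).toMonoidHom
  have b0 : ∀ {x}, x ∈ I ↔ x ∈ X.R ∧ X.s⁻¹ * x * X.s ∈ X.R := by simp [I]
  have b1 : ∀ y ∈ X.D, ∀ x ∈ I ⊓ centralizer I, y * x * y⁻¹ ∈ I ⊓ centralizer I := by
    have : ∀ y ∈ X.D, ∀ x ∈ I, y * x * y⁻¹ ∈ I := fun y hy x hx => b0.2 ⟨X.conjR (X.mem_D.1 hy).1 hx.1, by
      simpa [mul_assoc] using X.conjR (X.mem_D.1 hy).2 (b0.1 hx).2⟩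
    refine fun y hy x hx => ⟨this y hy x hx.1, fun w hw => ?_⟩
    have e := hx.2 _ (this _ (inv_mem hy) w hw)
    calc _ = y * (y⁻¹ * w * y⁻¹⁻¹ * x) * y⁻¹ := by group
      _ = _ := by rw [e]; group
  obtain ⟨y, hy, x, hx, b2⟩ : ∃ y ∈ X.R, ∃ x ∈ X.R, X.π (X.s * y * X.s⁻¹) * X.π x ≠ X.π x * X.π (X.s * y * X.s⁻¹) := by
    by_contra! d
    exact X.sH (X.NM _ fun y hy => X.SC _ (d y hy))
  have b3 : x⁻¹ * (X.s * y * X.s⁻¹)⁻¹ * x * (X.s * y * X.s⁻¹) ∈ I ⊓ centralizer I := by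
    refine ⟨b0.2 ⟨?_, ?_⟩, fun w hw => (cc ?_ ?_).symm⟩
    · simpa [mul_assoc] using mul_mem (inv_mem hx) (X.conjR (a2 _ (inv_mem hy)) hx)
    · simpa [mul_assoc] using mul_mem (X.conjR (a1 _ (inv_mem hx)) (inv_mem hy)) hy
    · simpa using cm_cen E hx hw.1 1
    · simpa [mul_assoc] using cm_cen E hy (b0.1 hw).2 X.s
  have b4 : I ⊓ centralizer I ≤ X.R := inf_le_left.trans inf_le_left
  obtain ⟨v, d1, d2⟩ := lb _ _ n E.β E.Gd c E.alt E.nd hc h h6 (ec F Φ G n X E ab).1 (nuS E _ b4) (fun e => b2 (by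
    have := (X.ker _).2 ((E.νk _ (b4 b3)).1 (e.le ⟨_, b3, rfl⟩))
    generalize X.s * y * X.s⁻¹ = z at this
    rw [map_mul, map_mul, map_mul, map_inv, map_inv, ← _root_.mul_inv_rev, mul_assoc, inv_mul_eq_one] at this
    exact this)) (by
      rintro _ ⟨s, hs, rfl⟩ _ ⟨t, ht, rfl⟩
      exact (cm_iff E (b4 hs) (b4 ht)).1 (ht.2 s hs.1))
  refine d2.trans (Nat.add_le_add_right (le_trans ?_ ((X.OB (fun m => (fun x => E.ν (m * x * m⁻¹)) '' (I ⊓ centralizer I : Subgroup _))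
    fun m _ y hy => ?_).trans X.d0_le)) 2)
  · refine Nat.card_mono (Set.toFinite _) ?_
    rintro _ ⟨w, hw, rfl⟩
    obtain ⟨m, m1, m2⟩ := tr w v hw d1
    exact ⟨m, m1, (Set.image_congr fun x hx => m2 x (b4 hx)).trans
      (Set.image_image (fun z => tv E.β c w (tv E.β (-c) v z)) E.ν _).symm⟩
  · ext z
    constructor <;> rintro ⟨x, hx, rfl⟩
    · exact ⟨_, b1 y hy x hx, by simp [mul_assoc]⟩
    · exact ⟨_, b1 _ (inv_mem hy) x hx, by simp [mul_assoc]⟩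

end H18.SB
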