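import Cfsg.Agent.H13.BN2

/-! A group with a `BN`-pair is the amalgamated sum of `N` and its minimal parabolic subgroups,
in the language of graphs of homomorphisms. -/

set_option autoImplicit false

namespace H18.TE
open Cfsg Subgroup H13 H13.BN

variable {A G : Type*} [Group A] [Group G] {P : BNPair A}

theorem mem_B_of {s : P.S} {c n : A} (hc : c ∈ P.parabolic {(s : A)})
    (hl : (I P).len (δ P n) ≤ (I P).len ((I P).σ s * δ P n)) (e : δ P (c * n) = δ P n) : c ∈ P.B := by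
  rcases (mem_parabolic_singleton s c).1 hc with h | h
  · exact δ_eq_one_iff.1 h
  obtain ⟨d, hd, d', hd', rfl⟩ := δ_eq_δ_iff.1 (h.trans (δ_s s).symm)
  rw [mul_assoc, mul_assoc, δ_B_mul hd, δ_s_mul_of_le s _ (by rwa [δ_B_mul hd']), δ_B_mul hd'] at e
  exact absurd (by simpa using e) (σ_ne_one P s)

/-- graphs over the minimal parabolic subgroups, with the braid relations -/
structure Tits (P : BNPair A) (Bh : Subgroup (A × G)) (ν : P.S → A × G) : Prop where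
  hB : Bh.map (MonoidHom.fst A G) = P.B
  hN : ∀ s, (ν s).1 ∈ P.N
  hs : ∀ s : P.S, (s : A)⁻¹ * (ν s).1 ∈ P.B
  fn : ∀ s y, ((1 : A), y) ∈ Bh ⊔ zpowers (ν s) → y = 1
  br : ∀ s t (k : ℕ), ((ν s).1 * (ν t).1) ^ k ∈ P.B → (ν s * ν t) ^ k ∈ Bh

namespace Tits
variable {Bh : Subgroup (A × G)} {ν : P.S → A × G} (h : Tits P Bh ν)
include h

theorem m1 {w : A × G} (hw : w ∈ Bh) : w.1 ∈ P.B := h.hB.le ⟨w, hw, rfl⟩

theorem eq_of {s : P.S} {v w : A × G} (hv : v ∈ Bh ⊔ zpowers (ν s)) (hw : w ∈ Bh ⊔ zpowers (ν s))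
    (e : v.1 = w.1) : v = w :=
  Prod.ext e (mul_inv_eq_one.1 (h.fn s _ (by
    convert mul_mem hv (inv_mem hw) using 1; exact Prod.ext (by simp [e]) rfl)))

theorem back {s : P.S} {w : A × G} (hw : w ∈ Bh ⊔ zpowers (ν s)) (e : w.1 ∈ P.B) : w ∈ Bh := by
  obtain ⟨v, hv, e'⟩ := h.hB.ge e
  exact h.eq_of (mem_sup_left hv) hw e' ▸ hv

theorem δν (s : P.S) : δ P (ν s).1 = (I P).σ s := by
  rw [← mul_inv_cancel_left (s : A) (ν s).1, δ_mul_B (h.hs s), δ_s]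

theorem par {s : P.S} {w : A × G} (hw : w ∈ Bh ⊔ zpowers (ν s)) : w.1 ∈ P.parabolic {(s : A)} :=
  (sup_le (fun _ hv => B_le_parabolic _ (h.m1 hv)) (zpowers_le.2
    ((mem_parabolic_singleton s _).2 (.inr (h.δν s)))) :
    _ ≤ (P.parabolic {(s : A)}).comap (MonoidHom.fst A G)) hw

theorem δmul {a b : A} (ha : a ∈ P.N) (hb : b ∈ P.N) : δ P (a * b) = δ P a * δ P b :=
  (δ_mk (⟨a, ha⟩ * ⟨b, hb⟩ : P.N)).trans (by rw [show δ P a = _ from δ_mk (⟨a, ha⟩ : P.N), show δ P b = _ from δ_mk (⟨b, hb⟩ : P.N)]; rfl)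

theorem sq (s : P.S) : ν s * ν s ∈ Bh :=
  h.back (mul_mem (mem_sup_right (mem_zpowers _)) (mem_sup_right (mem_zpowers _))) (δ_eq_one_iff.1
    (by rw [Prod.fst_mul, h.δmul (h.hN s) (h.hN s), h.δν]; exact (I P).sq s))

variable [Finite A] [Finite G]

theorem exists_N : ∃ Nh : Subgroup (A × G), (∀ s, ν s ∈ Nh) ∧ (∀ w ∈ Nh, w.1 ∈ P.N) ∧
    ∀ w ∈ Nh, w.1 ∈ P.B → w ∈ Bh := by
  let H := Bh ⊓ P.N.comap (MonoidHom.fst A G)
  have hn : ∀ s, ν s ∈ normalizer (H : Set (A × G)) := fun s => mem_normalizer_fintype fun w hw =>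
    ⟨h.back (mul_mem (mul_mem (mem_sup_right (mem_zpowers _)) (mem_sup_left hw.1))
      (inv_mem (mem_sup_right (mem_zpowers _)))) (P.conj_mem _ (h.hN s) _ ⟨h.m1 hw.1, hw.2⟩),
      P.N.mul_mem (P.N.mul_mem (h.hN s) hw.2) (P.N.inv_mem (h.hN s))⟩
  let π := QuotientGroup.mk' (H.subgroupOf (normalizer (H : Set (A × G))))
  have k : ∀ y, π y = 1 ↔ y.1 ∈ H := fun y => QuotientGroup.eq_one_iff y
  obtain ⟨φ, hφ⟩ := (exchange (P := P)).exists_hom (fun s => π ⟨ν s, hn s⟩)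
    (fun s => by rw [← map_mul, k]; exact ⟨h.sq s, mul_mem (h.hN s) (h.hN s)⟩) fun s t m e => by
      rw [← map_mul, ← map_pow, k]
      refine ⟨h.br s t m ((mk_eq_one_iff P ((⟨_, h.hN s⟩ * ⟨_, h.hN t⟩ : P.N) ^ m)).1 ?_),
        pow_mem (mul_mem (h.hN s) (h.hN t)) m⟩
      rw [← e, ← h.δν, ← h.δν, show δ P (ν s).1 = _ from δ_mk (⟨_, h.hN s⟩ : P.N),
        show δ P (ν t).1 = _ from δ_mk (⟨_, h.hN t⟩ : P.N)]; rfl
  have key : ∀ w ∈ closure (Set.range ν), ∃ h1 : w ∈ normalizer (H : Set (A × G)), w.1 ∈ P.N ∧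
      φ (δ P w.1) = π ⟨w, h1⟩ := fun w hw => by
    induction hw using closure_induction with
    | mem w hw => obtain ⟨s, rfl⟩ := hw; exact ⟨hn s, h.hN s, by rw [h.δν, hφ]⟩
    | one => exact ⟨one_mem _, one_mem _, by
        rw [δ_eq_one_iff.2 (show (1 : A × G).1 ∈ P.B from one_mem _), map_one]; exact (map_one π).symm⟩
    | mul a b _ _ ha hb =>
      obtain ⟨a1, a2, a3⟩ := ha
      obtain ⟨b1, b2, b3⟩ := hb
      exact ⟨mul_mem a1 b1, mul_mem a2 b2, by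
        rw [Prod.fst_mul, h.δmul a2 b2, map_mul, a3, b3, ← map_mul]; rfl⟩
    | inv a _ ha =>
      obtain ⟨a1, a2, a3⟩ := ha
      exact ⟨inv_mem a1, inv_mem a2, by rw [Prod.fst_inv, δ_inv, map_inv, a3, ← map_inv]; rfl⟩
  refine ⟨closure (Set.range ν), fun s => subset_closure ⟨s, rfl⟩, fun w hw => (key w hw).2.1,
    fun w hw e => ?_⟩
  obtain ⟨h1, -, h2⟩ := key w hw
  rw [δ_eq_one_iff.2 e, map_one, eq_comm, k] at h2
  exact h2.1

theorem main (s0 : P.S) : (∀ y, ((1 : A), y) ∈ Bh ⊔ closure (Set.range ν) → y = 1) ∧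
    (Bh ⊔ closure (Set.range ν)).map (MonoidHom.fst A G) = ⊤ := by
  obtain ⟨Nh, n1, n2, n3⟩ := h.exists_N
  have zs : ∀ s, ν s ∈ Bh ⊔ zpowers (ν s) := fun s => mem_sup_right (mem_zpowers _)
  have dn : ∀ s, ∀ n ∈ Nh, δ P ((ν s)⁻¹ * n).1 = (I P).σ s * δ P n.1 := fun s n hn => by
    rw [Prod.fst_mul, Prod.fst_inv, h.δmul (inv_mem (h.hN s)) (n2 n hn), δ_inv, h.δν, InvGen.inv_σ]
  have K : ∀ m, ∀ n ∈ Nh, (I P).len (δ P n.1) = m → ∀ b ∈ Bh, (n⁻¹ * b * n).1 ∈ P.B →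
      n⁻¹ * b * n ∈ Bh := fun m => by
    induction m with
    | zero =>
      intro n hn e b hb _
      have := n3 n hn (δ_eq_one_iff.1 ((I P).len_eq_zero e))
      exact mul_mem (mul_mem (inv_mem this) hb) this
    | succ m ih =>
      intro n hn e b hb hc
      obtain ⟨s, w, e1, e2⟩ := (I P).exists_left_descent (w := δ P n.1) fun k => by simp [k] at e
      have e3 := dn s n hn
      rw [e1, InvGen.σ_mul_σ_mul] at e3
      have c := mul_mem (mul_mem (inv_mem (zs s)) (mem_sup_left hb)) (zs s)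
      have := ih _ (mul_mem (inv_mem (n1 s)) hn) (by rw [e3]; omega) _ (h.back c (mem_B_of (h.par c)
        (n := ((ν s)⁻¹ * n).1) (by rw [e3, ← e1]; omega) (by
          rw [← δ_mul_B hc ((ν s)⁻¹ * n).1]; congr 1; simp [mul_assoc]))) (by
          convert hc using 2; group)
      convert this using 1; group
  let R : A × G → Prop := fun w => ∃ b ∈ Bh, ∃ n ∈ Nh, ∃ c ∈ Bh, w = b * n * c
  have RB : ∀ b ∈ Bh, ∀ w, R w → R (b * w) := fun b hb w ⟨d, hd, n, hn, c, hc, e⟩ =>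
    ⟨b * d, mul_mem hb hd, n, hn, c, hc, by rw [e]; group⟩
  have RC : ∀ b ∈ Bh, ∀ w, R w → R (w * b) := fun b hb w ⟨d, hd, n, hn, c, hc, e⟩ =>
    ⟨d, hd, n, hn, c * b, mul_mem hc hb, by rw [e]; group⟩
  have up : ∀ s, ∀ b ∈ Bh, ∀ n ∈ Nh, (I P).len (δ P n.1) ≤ (I P).len ((I P).σ s * δ P n.1) →
      R (ν s * b * n) := fun s b hb n hn hl => by
    have e : δ P (ν s * b * n).1 = δ P (ν s * n).1 := by
      rw [Prod.fst_mul (ν s) n, h.δmul (h.hN s) (n2 n hn), h.δν, Prod.fst_mul, Prod.fst_mul,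
        ← mul_inv_cancel_left (s : A) (ν s).1, mul_assoc, mul_assoc, δ_s_mul_of_le s _ (by
          rwa [δ_B_mul (h.hs s), δ_B_mul (h.m1 hb)]), δ_B_mul (h.hs s), δ_B_mul (h.m1 hb)]
    obtain ⟨c, hc, c', hc', e⟩ := δ_eq_δ_iff.1 e
    obtain ⟨d, hd, rfl⟩ := h.hB.ge hc
    have k := mul_mem (mul_mem (inv_mem (zs s)) (mem_sup_left hd)) (zs s)
    have e' : ((ν s)⁻¹ * d * ν s).1 * n.1 = b.1 * n.1 * c'⁻¹ := by
      simp only [Prod.fst_mul, Prod.fst_inv, MonoidHom.coe_fst] at e ⊢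
      rw [eq_mul_inv_iff_mul_eq, ← mul_left_cancel_iff (a := (ν s).1), ← mul_assoc (ν s).1 b.1, e]; group
    have k1 := h.back k (mem_B_of (h.par k) hl (by rw [e', δ_mul_B (inv_mem hc'), δ_B_mul (h.m1 hb)]))
    refine ⟨d, hd, _, mul_mem (n1 s) hn, _, K _ n hn rfl _ (mul_mem (inv_mem k1) hb) ?_, by group⟩
    convert hc' using 1
    rw [Prod.fst_mul, Prod.fst_mul, Prod.fst_mul, Prod.fst_inv, Prod.fst_inv, mul_assoc, mul_assoc,
      ← inv_mul_cancel_right (b.1 * n.1) c', ← e']; group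
  have st : ∀ s w, R w → R (ν s * w) := by
    rintro s _ ⟨b, hb, n, hn, c, hc, rfl⟩
    rw [← mul_assoc, ← mul_assoc]
    refine RC c hc _ ?_
    by_cases hl : (I P).len (δ P n.1) ≤ (I P).len ((I P).σ s * δ P n.1)
    · exact up s b hb n hn hl
    have k := mul_mem (mul_mem (zs s) (mem_sup_left hb)) (zs s)
    have hn' := mul_mem (inv_mem (n1 s)) hn
    rw [show ν s * b * n = ν s * b * ν s * ((ν s)⁻¹ * n) by group]
    rcases (mem_parabolic_singleton s _).1 (h.par k) with e | e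
    · exact ⟨_, h.back k (δ_eq_one_iff.1 e), _, hn', 1, one_mem _, (mul_one _).symm⟩
    obtain ⟨d0, hd0, d1, hd1, e⟩ := δ_eq_δ_iff.1 (e.trans (h.δν s).symm)
    obtain ⟨d, hd, rfl⟩ := mem_map.1 (h.hB.ge hd0)
    obtain ⟨d', hd', rfl⟩ := mem_map.1 (h.hB.ge hd1)
    rw [h.eq_of k (mul_mem (mul_mem (mem_sup_left hd) (zs s)) (mem_sup_left hd')) e, mul_assoc d, mul_assoc d]
    exact RB d hd _ (up s d' hd' _ hn' (by rw [dn s n hn, InvGen.σ_mul_σ_mul]; omega))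
  constructor
  · intro y hy
    rw [← Bh.closure_eq, ← Subgroup.closure_union] at hy
    obtain ⟨b, hb, n, hn, c, hc, e⟩ : R (1, y) := by
      refine closure_induction_left ⟨1, one_mem _, 1, one_mem _, 1, one_mem _, by simp⟩ ?_ ?_ hy
      · rintro x (hx | ⟨s, rfl⟩) w - ih
        exacts [RB x hx w ih, st s w ih]
      · rintro x (hx | ⟨s, rfl⟩) w - ih
        · exact RB _ (inv_mem hx) w ih
        · simpa [mul_assoc] using RB _ (inv_mem (h.sq s)) _ (st s w ih)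
    have h1 : n ∈ Bh := n3 n hn (by
      have := mul_mem (inv_mem (h.m1 hb)) (inv_mem (h.m1 hc))
      rwa [show b.1⁻¹ * c.1⁻¹ = n.1 by
        rw [inv_mul_eq_iff_eq_mul, inv_eq_iff_mul_eq_one, mul_eq_one_comm]
        exact (congrArg Prod.fst e).symm] at this)
    exact h.fn s0 y (mem_sup_left (e ▸ mul_mem (mul_mem hb h1) hc))
  · rw [eq_top_iff, ← parabolic_S (P := P), parabolic_le_iff]
    refine ⟨h.hB.ge.trans (map_mono le_sup_left), fun s hs => ?_⟩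
    obtain ⟨d, hd, e⟩ := h.hB.ge (h.hs ⟨s, hs⟩)
    exact ⟨_, mul_mem (mem_sup_right (subset_closure ⟨⟨s, hs⟩, rfl⟩)) (inv_mem (mem_sup_left hd)), by
      rw [map_mul, map_inv, e]; simp⟩

end Tits
end H18.TE
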