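import Cfsg.Agent.H0.U.C
import Cfsg.Agent.H16.Basic

/-! Weight spaces of the `3⁴` in a group like `U₆(2)`. -/

set_option autoImplicit false

namespace H18.TE
open Matrix H16
open H0.U (N N_app)

abbrev E4 := Fin 4 → ZMod 3

def MM : Fin 4 → Matrix (Fin 4) (Fin 4) (ZMod 3) :=
  ![!![2,0,1,0;0,1,0,0;0,0,1,0;2,0,2,1], !![2,0,0,0;0,1,0,0;0,0,1,0;0,0,0,1],
    !![0,1,0,0;1,0,0,0;0,0,2,0;0,0,0,2], !![2,0,2,1;0,1,0,0;2,0,2,2;2,0,1,0]]

def l1 : Fin 10 → E4 := ![![0,0,0,1], ![0,0,1,1], ![0,2,1,0], ![0,1,1,0], ![1,0,1,0], ![1,2,1,2], ![1,1,1,2],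
  ![2,0,1,0], ![2,2,1,2], ![2,1,1,2]]
def l2 : Fin 11 → E4 := ![![0,0,1,0], ![1,0,1,2], ![2,0,1,2], ![0,2,2,1], ![2,2,2,2], ![1,2,2,2], ![2,2,1,1],
  ![1,2,1,1], ![0,2,1,2], ![1,2,0,1], ![2,2,0,0]]
def l3 : Fin 11 → E4 := ![![0,0,1,2], ![1,0,1,1], ![2,0,1,1], ![0,2,2,2], ![2,2,2,0], ![1,2,2,0], ![0,2,0,1],
  ![2,0,0,2], ![1,0,0,2], ![0,1,0,1], ![1,1,2,0]]

def rk (v : E4) : ℕ := (0x453342233542433210453342231453342121433544214433544210443344211443342230453544230 >>>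
  (4 * ((v 0).val + 3 * ((v 1).val + 3 * ((v 2).val + 3 * (v 3).val))))) % 16

theorem rk_ck : ∀ v : E4, (v = 0 ∨ v = l1 0 ∨ v = l2 0 ∨ v = l3 0) ∨ ∃ n, rk (MM n *ᵥ v) < rk v := by
  decide +kernel

theorem base {S : E4 → Prop} (h0 : ¬ S 0) (h : ∀ n v, S v → S (MM n *ᵥ v)) :
    ∀ m v, rk v < m → S v → S (l1 0) ∨ S (l2 0) ∨ S (l3 0)
  | 0, _, k, _ => absurd k (Nat.not_lt_zero _)
  | m + 1, v, k, s => by
    rcases rk_ck v with b | ⟨n, a⟩
    · rcases b with b | b | b | b <;> subst b <;> tauto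
    · exact base h0 h m _ (by omega) (h n v s)

def Wk (l : Fin 11 → E4) : Prop := ∀ i : Fin 10, ∃ n, l i.succ = MM n *ᵥ l i.castSucc
def NP {m : ℕ} (l : Fin m → E4) : Prop := ∀ i j, i ≠ j → ∃ a : E4, a ⬝ᵥ l i = 0 ∧ a ⬝ᵥ l j ≠ 0

theorem wk2 : Wk l2 := by unfold Wk; decide +kernel
theorem wk3 : Wk l3 := by unfold Wk; decide +kernel
theorem np1 : NP l1 := by unfold NP; decide +kernel
theorem np2 : NP l2 := by unfold NP; decide +kernel
theorem np3 : NP l3 := by unfold NP; decide +kernel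

theorem Wk.all {l : Fin 11 → E4} (w : Wk l) {S : E4 → Prop} (h : ∀ n v, S v → S (MM n *ᵥ v))
    (s : S (l 0)) : ∀ i, S (l i) :=
  Fin.induction s fun i k => let ⟨n, e⟩ := w i; e ▸ h n _ k

theorem ind {P : E4 → Prop} (h0 : P 0) (h : ∀ a i, P a → P (a + Pi.single i 1)) (a : E4) : P a := by
  have k : ∀ (s : Finset (Fin 4)), P (∑ i ∈ s, Pi.single i (a i)) := fun s => by
    induction s using Finset.induction_on with
    | empty => simpa using h0
    | insert i s hi ih =>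
      rw [Finset.sum_insert hi, add_comm]
      generalize a i = c
      have : c = 0 ∨ c = 1 ∨ c = 1 + 1 := by revert c; decide
      rcases this with rfl | rfl | rfl
      · simpa using ih
      · exact h _ _ ih
      · rw [Pi.single_add, ← add_assoc]; exact h _ _ (h _ _ ih)
  simpa [Finset.univ_sum_single] using k Finset.univ

/-- the torus -/
structure Tor (G : Type*) [Group G] where
  ε : E4 → G
  add : ∀ a b, ε (a + b) = ε a * ε b

variable {G : Type*} [Group G] (D : Tor G) {V : Type*} [AddCommGroup V] [DistribMulAction G V]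

theorem three (a : E4) : a + a + a = 0 := by
  ext i; simp only [Pi.add_apply, Pi.zero_apply]; generalize a i = c; revert c; decide

namespace Tor
theorem zero : D.ε 0 = 1 := by simpa using D.add 0 0
theorem sm (a b : E4) (v : V) : D.ε a • D.ε b • v = D.ε (a + b) • v := by rw [D.add, mul_smul]
theorem cm (a b : E4) (v : V) : D.ε a • D.ε b • v = D.ε b • D.ε a • v := by rw [sm, sm, add_comm]
theorem cube (a : E4) (v : V) : D.ε a • D.ε a • D.ε a • v = v := by
  rw [sm, sm, three, zero, one_smul]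
theorem Ncm (a b : E4) (v : V) : N (D.ε a) (D.ε b • v) = D.ε b • N (D.ε a) v := by
  simp only [N_app, smul_add, D.cm a b]

variable (V) in
def Wt (l : E4) : AddSubgroup V where
  carrier := {v | ∀ a, (a ⬝ᵥ l = 0 → D.ε a • v = v) ∧ (a ⬝ᵥ l ≠ 0 → N (D.ε a) v = 0)}
  zero_mem' := fun a => by simp
  add_mem' := fun h k a => ⟨fun e => by rw [smul_add, (h a).1 e, (k a).1 e],
    fun e => by rw [map_add, (h a).2 e, (k a).2 e, add_zero]⟩
  neg_mem' := fun h a => ⟨fun e => by rw [smul_neg, (h a).1 e], fun e => by rw [map_neg, (h a).2 e, neg_zero]⟩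

variable {D} {l : E4} {v : V}

theorem tw (h : v ∈ D.Wt V l) {g : G} {m : E4} {φ : E4 → E4} (e : ∀ a, D.ε a * g = g * D.ε (φ a))
    (d : ∀ a, a ⬝ᵥ m = 0 ↔ φ a ⬝ᵥ l = 0) : g • v ∈ D.Wt V m := fun a => by
  have e' (u : V) : D.ε a • g • u = g • D.ε (φ a) • u := by rw [← mul_smul, e, mul_smul]
  refine ⟨fun k => by rw [e', (h _).1 ((d a).1 k)], fun k => ?_⟩
  rw [N_app, e', e', ← smul_add, ← smul_add, ← N_app, (h _).2 (mt (d a).2 k), smul_zero]

theorem sm_mem (h : v ∈ D.Wt V l) (b : E4) : D.ε b • v ∈ D.Wt V l :=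
  tw h (φ := id) (fun a => by rw [← D.add, ← D.add, add_comm, id]) fun _ => Iff.rfl

theorem N_mem (h : v ∈ D.Wt V l) (b : E4) : N (D.ε b) v ∈ D.Wt V l := by
  rw [N_app]; exact add_mem (add_mem h (sm_mem h b)) (sm_mem (sm_mem h b) b)

theorem act (h : v ∈ D.Wt V l) {a b : E4} (e : a ⬝ᵥ l = b ⬝ᵥ l) : D.ε a • v = D.ε b • v := by
  rw [← add_sub_cancel b a, ← sm, (h _).1 (by rw [sub_dotProduct, e, sub_self])]

variable (h2 : ∀ v : V, v + v = 0)
include h2

theorem N_fix {g : G} (h : g • v = v) : N g v = v := by rw [N_app, h, h, h2, zero_add]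

theorem nfix (h : v ∈ D.Wt V l) (n : v ≠ 0) {a : E4} (e : a ⬝ᵥ l ≠ 0) : D.ε a • v ≠ v :=
  fun k => n ((N_fix h2 k).symm.trans ((h a).2 e))

theorem eq_of {u : V} (h : u + v = 0) : u = v := by rw [← add_zero u, ← h2 v, ← add_assoc, h, zero_add]

theorem indep {m : ℕ} {l : Fin m → E4} (hl : NP l) (s : Finset (Fin m)) :
    ∀ v : Fin m → V, (∀ i, v i ∈ D.Wt V (l i)) → ∑ i ∈ s, v i = 0 → ∀ i ∈ s, v i = 0 := by
  induction s using Finset.induction_on with
  | empty => simp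
  | insert j s hj ih =>
    intro v hv e
    rw [Finset.sum_insert hj] at e
    have k : ∀ i ∈ s, v i = 0 := fun i hi => by
      obtain ⟨a, a1, a2⟩ := hl i j fun q => hj (q ▸ hi)
      have := congrArg (N (D.ε a)) e
      rw [map_add, (hv j a).2 a2, zero_add, map_sum, map_zero] at this
      exact (N_fix h2 ((hv i a).1 a1)).symm.trans (ih _ (fun i => N_mem (hv i) a) this i hi)
    rw [Finset.sum_eq_zero k, add_zero] at e
    simpa [e] using k

theorem ex {x : E4} {u : V} (hu : D.ε x • u ≠ u) : ∃ l ≠ 0, ∃ v ∈ D.Wt V l, v ≠ 0 := by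
  have st (s : Finset (Fin 4)) : ∃ v : V, v ≠ 0 ∧ N (D.ε x) v = 0 ∧
      ∀ i ∈ s, ∃ c : ZMod 3, D.ε (Pi.single i 1) • v = D.ε (c • x) • v := by
    induction s using Finset.induction_on with
    | empty =>
      refine ⟨D.ε x • u + u, fun k => hu (eq_of h2 k), ?_, by simp⟩
      rw [map_add, N_app, N_app, cube]
      exact (congrArg _ (by abel)).trans (h2 _)
    | insert i s hi ih =>
      have nx (v : V) (c : E4) (n : N (D.ε x) v = 0 ∧ ∀ i ∈ s, ∃ c : ZMod 3, D.ε (Pi.single i 1) • v = D.ε (c • x) • v) :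
          N (D.ε x) (D.ε (Pi.single i 1) • v + D.ε c • v) = 0 ∧ ∀ j ∈ s, ∃ d : ZMod 3, D.ε (Pi.single j 1) •
            (D.ε (Pi.single i 1) • v + D.ε c • v) = D.ε (d • x) • (D.ε (Pi.single i 1) • v + D.ε c • v) :=
        ⟨by rw [map_add, Ncm, Ncm, n.1]; simp, fun j hj => let ⟨d, e⟩ := n.2 j hj
          ⟨d, by rw [smul_add, smul_add, D.cm _ c, D.cm _ c, D.cm (Pi.single j 1), D.cm (d • x), e]⟩⟩
      have fin (v : V) (c : ZMod 3) (n0 : v ≠ 0)
          (n : N (D.ε x) v = 0 ∧ ∀ i ∈ s, ∃ c : ZMod 3, D.ε (Pi.single i 1) • v = D.ε (c • x) • v)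
          (e : D.ε (Pi.single i 1) • v + D.ε (c • x) • v = 0) : ∃ v : V, v ≠ 0 ∧ N (D.ε x) v = 0 ∧
            ∀ j ∈ insert i s, ∃ c : ZMod 3, D.ε (Pi.single j 1) • v = D.ε (c • x) • v :=
        ⟨v, n0, n.1, by simpa using ⟨⟨c, eq_of h2 e⟩, n.2⟩⟩
      obtain ⟨v, n0, n⟩ := ih
      by_cases e0 : D.ε (Pi.single i 1) • v + D.ε ((0 : ZMod 3) • x) • v = 0
      · exact fin v _ n0 n e0
      have n1 := nx v ((0 : ZMod 3) • x) n
      by_cases e1 : D.ε (Pi.single i 1) • (D.ε (Pi.single i 1) • v + D.ε ((0 : ZMod 3) • x) • v) +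
        D.ε ((1 : ZMod 3) • x) • (D.ε (Pi.single i 1) • v + D.ε ((0 : ZMod 3) • x) • v) = 0
      · exact fin _ _ e0 n1 e1
      refine fin _ (1 + 1) e1 (nx _ _ n1) ?_
      have q := n.1
      simp only [zero_smul, one_smul, add_smul, zero, D.add, mul_smul, smul_add, N_app, cube,
        D.cm x (Pi.single i 1)] at q ⊢
      generalize D.ε (Pi.single i 1) = y at *
      have q1 := congrArg (y • ·) q
      have q2 := congrArg (y • ·) q1
      simp only [smul_add, smul_zero] at q1 q2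
      have := congrArg₂ (· + ·) (congrArg₂ (· + ·) (h2 v) q1) q2
      simp only [add_zero] at this
      rw [← this]; abel
  obtain ⟨v, n0, n, h⟩ := st Finset.univ
  choose l hl using fun i => h i (Finset.mem_univ i)
  have e (a : E4) : D.ε a • v = D.ε ((a ⬝ᵥ l) • x) • v := by
    induction a using ind with
    | h0 => simp
    | h a i ih => rw [← sm, hl, cm, ih, sm, add_dotProduct, add_smul, add_comm]; simp
  refine ⟨l, fun k => n0 ?_, v, fun a => ⟨fun k => by rw [e, k, zero_smul, zero, one_smul], fun k => ?_⟩, n0⟩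
  · rw [← n, N_fix h2 (by rw [e, k]; simp [zero])]
  · rw [N_app, e a, cm, e a, sm]
    generalize a ⬝ᵥ l = c at k
    have : c = 1 ∨ c = 1 + 1 := by revert c; decide
    rw [N_app] at n
    rcases this with rfl | rfl
    · rw [one_smul, ← sm, n]
    · simp only [add_smul, one_smul, ← sm, cube]
      rw [← n]; abel

theorem four [Finite V] (h : v ∈ D.Wt V l) (n : v ≠ 0) {a : E4} (e : a ⬝ᵥ l ≠ 0) : 4 ≤ Nat.card (D.Wt V l) ∧
    (Nat.card (D.Wt V l) = 4 → ∀ u ∈ D.Wt V l, u = 0 ∨ u = v ∨ u = D.ε a • v ∨ u = D.ε a • D.ε a • v) := by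
  have n1 := nfix h2 h n e
  have n2 : D.ε a • D.ε a • v ≠ v := fun k => n1 (by rw [← k, cube, k])
  have c : ({0, v, D.ε a • v, D.ε a • D.ε a • v} : Set V).ncard = 4 := by
    rw [Set.ncard_insert_of_notMem (by simp [eq_comm (a := (0 : V)), smul_eq_zero_iff_eq, n]),
      Set.ncard_insert_of_notMem (by simp [n1.symm, n2.symm]), Set.ncard_pair (by simp [n1.symm])]
  have sub : ({0, v, D.ε a • v, D.ε a • D.ε a • v} : Set V) ⊆ D.Wt V l := by
    simp [Set.insert_subset_iff, h, sm_mem]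
  refine ⟨c ▸ Set.ncard_le_ncard sub, fun k u hu => ?_⟩
  have := Set.eq_of_subset_of_ncard_le sub (c ▸ k.le)
  simpa using this.ge hu

/-- the sum map -/
def sumM {m : ℕ} (l : Fin m → E4) : (∀ i, D.Wt V (l i)) →+ V where
  toFun f := ∑ i, (f i : V)
  map_zero' := by simp
  map_add' f g := by simp [Finset.sum_add_distrib]

theorem sum_inj {m : ℕ} {l : Fin m → E4} (h : NP l) : Function.Injective (sumM (D := D) (V := V) l) :=
  (injective_iff_map_eq_zero _).2 fun f e => funext fun i => Subtype.ext <|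
    indep h2 h Finset.univ _ (fun i => (f i).2) e i (Finset.mem_univ i)

end Tor
end H18.TE
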