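import Cfsg.Agent.H18.TE9

/-! The facts on the model. -/

set_option autoImplicit false
set_option linter.unusedSectionVars false

open Cfsg Subgroup
namespace H18.TE
open H19 H16 H0 H0.PM H0.Am H0.Co H0.TR H0.Fi D
open scoped commutatorElement

universe u v w
variable {A : Type v} {B : Type u} {Ω : Type w} [Group A] [Group B] [MulAction B Ω] [Finite A]

/-- the group `U₆(2)` -/
abbrev L6 : Type := gen U62.g 10

theorem mdL : ∃ (_ : MulAction L6 (Fin 672)) (g : ℕ → L6), Md g (ptF 672) U62.P 672 10 U62.B 9196830720 ∧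
    ∀ k < 10, (g k).1 = U62.g k := U.md (MulEquiv.refl _)

namespace AX
variable {a : ℕ → A} {π : A → B} {pt : ℕ → Ω} (X : AX a π pt)
include X

theorem w1 {k : ℕ} (h1 : 30 ≤ k) (h2 : k < 39) : a k ∈ cj (a 66) (Q0 a) ⊓ C[a 53] := by
  obtain ⟨k, rfl⟩ := Nat.exists_eq_add_of_le h1
  obtain ⟨p, q⟩ := Nat.add_eq_zero_iff.1 (D.w1 k (by omega))
  exact ⟨mem_cj'.2 ⟨_, rl_mem p, mul_inv_eq_iff_eq_mul.2 (by simpa [evA_append] using (X.eq q).symm)⟩, X.cz (by omega)⟩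

theorem od : ∀ k ∈ [45, 47, 49, 50], a k ^ (2 * 52 + 1) = 1 ∧ a k * a 66 = a 66 * a k ∧ a k * a 29 = a 29 * a k :=
  fun k hk => ⟨evA_rep a k 105 ▸ X.eq (D.od k hk).1, X.e2 (D.od k hk).2.1, X.e2 (D.od k hk).2.2⟩

theorem lift4 {x y : A} {v : B} (hx : x ∈ C[a 53] ⊓ C[a 10]) (hy : y ∈ C[a 53] ⊓ C[a 10])
    (hv : V4 (π (a 10)) (π (a 29)) v) (e : π y = π x * v) : V4 (a 53) (a 10) (x⁻¹ * y) := by
  have c := mem_inf.1 (mul_mem (inv_mem hx) hy)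
  replace e : v = π (x⁻¹ * y) := by
    rw [X.ph.mul _ (inv_mem hx.1) _ hy.1, X.ph.inv hx.1, e, inv_mul_cancel_left]
  generalize x⁻¹ * y = y at c e
  have z : zpowers (a 53) ≤ C[a 10] := zpowers_le.2 X.cs
  rcases hv with h | h | h | h <;> rw [e] at h
  · exact (X.zp.1 ((X.ph.ker _ c.1).1 h)).imp id .inl
  · rcases X.zp.1 ((X.ph.eq X.cz c.1).1 h.symm) with h | h
    exacts [.inr (.inr (.inl (inv_mul_eq_one.1 h).symm)),
      .inr (.inr (.inr ((inv_mul_eq_iff_eq_mul.1 h).trans (mem_cent1.1 X.cz))))]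
  · exact (X.nts (by simpa using mul_mem c.2 (inv_mem (z ((X.ph.eq X.cz c.1).1 h.symm))))).elim
  · rw [← X.ph.mul _ X.cz _ X.cz] at h
    exact (X.nts (by simpa [mul_assoc] using mul_mem (inv_mem (X.cs (k := 10))) (mul_mem c.2 (inv_mem
      (z ((X.ph.eq (mul_mem X.cz X.cz) c.1).1 h.symm)))))).elim

theorem sqp {k : ℕ} (hk : 10 ≤ k ∧ k < 45 := by decide) : π (a k) * π (a k) = 1 := by
  rw [← X.ph.mul _ (X.cz (by omega)) _ (X.cz (by omega)), X.sq (.inl hk), X.ph.one]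

theorem g51 : ⁅a 28, a 45⁆ = a 51 := by
  rw [commutatorElement_def, ← X.eqs.2.2.2.2.2.2.2.2.2.2.2.2.2.2.1]; group
theorem g52 : ⁅a 38, a 45⁆ = a 52 := by
  rw [commutatorElement_def, ← X.eqs.2.2.2.2.2.2.2.2.2.2.2.2.2.2.2.1]; group
theorem i46 : (a 45)⁻¹ = a 46 := inv_eq_of_mul_eq_one_right X.eqs.2.2.2.2.2.2.2.2.2.2.2.2.1
theorem i48 : (a 47)⁻¹ = a 48 := inv_eq_of_mul_eq_one_right X.eqs.2.2.2.2.2.2.2.2.2.2.2.2.2.1

theorem pw : ∀ i < 3, a (nth 0 [52, 45, 47] i) = wds a U.p_W i := fun i hi => by simpa [wds] using X.eq (D.pw i hi)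

theorem PL : closure {a 52, a 45, a 47} ≤ gen a 10 := by
  have := fun i hi => X.pw i hi ▸ gen_wds_le (g := a) U.p_lt 3 (mem_gen _ hi)
  simp only [closure_le, Set.insert_subset_iff, Set.singleton_subset_iff]
  exact ⟨this 0 (by decide), this 1 (by decide), this 2 (by decide)⟩

theorem LC : gen a 10 ≤ C[a 53] := gen_le.2 fun k hk => X.cz (by omega)

theorem Qc : Q0 a ≤ ⁅Q0 a, C[a 53]⁆ := by
  have z : a 53 ∈ ⁅Q0 a, C[a 53]⁆ := by
    simpa only [commutatorElement_def, X.ts, mul_inv_cancel_right] using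
      commutator_mem_commutator (mq a (k := 29)) (X.cz (k := 10))
  refine gen_le.2 fun j hj => ?_
  obtain ⟨p, q⟩ := D.qc.2 j hj
  have := commutator_mem_commutator (rl_mem (a := a) (σ := σq) p) (X.LC (evA_mem_gen a (ltAll_zero D.qc.1)))
  rw [commutatorElement_def] at this
  rcases orZ_zero q with q | q <;> have q := X.eq q <;> simp only [evA_append, evA_cons, evA_nil, one_mul] at q <;>
    rw [q] at this
  · simpa [mul_assoc, rl] using this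
  · simpa [mul_assoc, rl] using mul_mem this (inv_mem z)

variable (hC : C[a 53] ≤ gen a 10 ⊔ Q0 a)
include hC

theorem L1 (q : A) (hq : q ∈ Q0 a) (h : ∀ j ∈ cj (a 66) (Q0 a) ⊓ C[a 53], ⁅j, q⁆ ∈ zpowers (a 53)) :
    V4 (a 53) (a 10) q := by
  have N := X.md hC
  have := N.fin
  obtain ⟨e, c⟩ := M.c1_eq N
  have k : ∀ x ∈ Q0 a, (∀ j ∈ cj (a 66) (Q0 a) ⊓ C[a 53], ⁅j, x⁆ ∈ zpowers (a 53)) → π x ∈ gen (wds _ M.c1e_W) 1 :=
    fun x hx h => cen_le ⟨e, c⟩ le_rfl fun k hk => by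
      rcases (by decide +kernel : ∀ k < 10, 30 ≤ nth 0 [30, 31, 32, 33, 34, 35, 36, 37, 38, 29] k ∧
        nth 0 [30, 31, 32, 33, 34, 35, 36, 37, 38, 29] k < 39 ∨ k = 9) k hk with p | rfl
      exacts [((X.ph.comm (X.w1 p.1 p.2).2 (X.QC hx)).2 (h _ (X.w1 p.1 p.2))).symm, X.cq hx (mq a (k := 29))]
  have s := k _ (mq a (k := 10)) fun j hj => by
    rw [comm_eq_one.2 (mem_cent1.1 (mul_inv_eq_iff_eq_mul.2 X.eqs.1 ▸ ((X.le0 hC).J _).es.le_cent hj.1))]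
    exact one_mem _
  have := eq_of_le_of_card_ge (zpowers_le.2 s) (by rw [c, Nat.card_zpowers, orderOf_inv2 (X.s1 hC) X.sqp])
  rcases (mem_zpowers_inv X.sqp).1 (this ▸ k q hq h) with p | p
  · exact (X.zp.1 ((X.ph.ker _ (X.QC hq)).1 p)).imp id .inl
  · rcases X.zp.1 ((X.ph.eq X.cz (X.QC hq)).1 p.symm) with h | h
    exacts [.inr (.inr (.inl (inv_mul_eq_one.1 h).symm)),
      .inr (.inr (.inr ((inv_mul_eq_iff_eq_mul.1 h).trans (mem_cent1.1 X.cz))))]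

theorem F1 (y : A) (hy : y ∈ C[a 53]) (h1 : y * a 10 = a 10 * y) (h2 : y * a 45 = a 45 * y) (h3 : y ^ 8 = 1) :
    V4 (a 53) (a 10) y := by
  have N := X.md hC
  have := N.fin
  have cs := X.ph.cm X.cz X.cz (mem_cent1.1 (X.cs (k := 45)))
  have ct := X.ph.cm X.cz X.cz (X.od 45 (by decide)).2.2
  have st := X.cq (mq a (k := 29)) (mq a (k := 10))
  obtain ⟨j, v, hv, e⟩ := v4_of_gen (g := rl [45, 10, 29] fun k => π (a k)) X.sqp X.sqp st cs ct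
    (cen_le (M.cb_eq N) (M.gb N) (a := π y) fun k hk => by
      obtain rfl : k = 0 := by omega
      exact X.ph.cm hy X.cz h2)
  change _ = π (a 45) ^ j * v at e
  change V4 (π (a 10)) (π (a 29)) v at hv
  have vv : v * v = 1 ∧ Commute (π (a 45)) v := by
    rcases hv with rfl | rfl | rfl | rfl
    exacts [by simp, ⟨X.sqp, cs⟩, ⟨X.sqp, ct⟩,
      ⟨by rw [mul_assoc, ← mul_assoc (π (a 29)), st, mul_assoc, X.sqp, mul_one, X.sqp], Commute.mul_right cs ct⟩]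
  have := X.ph.pow hy 8
  rw [h3, X.ph.one, e, (vv.2.pow_left j).mul_pow, ← pow_mul, mul_comm, pow_mul, pow_succ _ 7, ← X.ph.pow X.cz,
    X.eqs.2.2.2.2.2.2.2.2.2.1, X.ph.one, one_mul, pow_mul v 2 4, pow_two, vv.1, one_pow, mul_one] at this
  simpa using X.lift4 (one_mem _) ⟨hy, mem_cent1.2 h1⟩ hv (by rw [e, ← this, X.ph.one])

theorem L4 (d : A) (hd : d ∈ Q0 a ⊓ cj (a 66) (Q0 a)) (h1 : d * a 49 = a 49 * d) (h2 : d * a 50 = a 50 * d) :
    V4 (a 53) (a 10) d := by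
  have N := X.md hC
  have := N.fin
  have L : LP (Q0 a) (a 53) (cj (a 66) (Q0 a)) (a 10) := by
    have e := mul_inv_eq_iff_eq_mul.2 X.eqs.1
    exact e ▸ (X.le0 hC).lp (e ▸ mq a) (e ▸ fun h => X.s1 hC ((X.ph.ker _ X.cz).2 (h ▸ mem_zpowers _)))
  have c : d ∈ C[a 53] ⊓ C[a 10] := ⟨X.QC hd.1, L.r.es.le_cent hd.2⟩
  obtain ⟨j, v, hv, e⟩ := v4_of_gen (g := rl [28, 10, 29] fun k => π (a k)) X.sqp X.sqp
    (X.cq (mq a (k := 29)) (mq a (k := 10))) (X.cq (mq a (k := 28)) (mq a (k := 10)))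
    (X.cq (mq a (k := 28)) (mq a (k := 29))) (gen_le.2 (fun k hk => by
      interval_cases k
      exacts [mem_gen (rl [28, 10, 29] fun k => π (a k)) (k := 1) (by decide),
        mem_gen (rl [28, 10, 29] fun k => π (a k)) (k := 0) (by decide),
        mem_gen (rl [28, 10, 29] fun k => π (a k)) (k := 2) (by decide)])
    (cen_le (M.c4_eq N) (M.g4 N) (a := π d) fun k hk => by
      interval_cases k
      exacts [X.ph.cm c.1 X.cz h1, X.ph.cm c.1 X.cz h2, X.cq hd.1 (mq a (k := 11))]))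
  change _ = π (a 28) ^ j * v at e
  rcases (mem_zpowers_inv (X.sqp (k := 28))).1 (npow_mem_zpowers _ j) with p | p <;> rw [p] at e
  · simpa using X.lift4 (one_mem _) c hv (by rw [e, X.ph.one])
  have := (v4_iff L).2 (X.lift4 ⟨X.cz, X.cs⟩ c hv e)
  replace : a 28 ∈ cj (a 66) (Q0 a) := by
    simpa using mul_mem (mem_inf.1 hd).2 (inv_mem (sup_le (zpowers_le.2 L.zQ) L.r.es.zp_le this))
  rw [mem_cj, X.iv, X.eqs.2.2.2.2.1, mul_assoc, X.sq, mul_one] at this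
  exact (X.n4 hC (X.cq (mq a) this)).elim

theorem m3 (Y : Subgroup A) (hz : a 53 ∈ Y) (hs : a 10 ∈ Y) (h : ∀ x ∈ cj (a 66) (Q0 a) ⊓ C[a 53],
    ∀ j ∈ Q0 a ⊓ C[a 10], ⁅⁅x, j⁆, a 45⁆ ∈ Y) : 2 ^ 11 ≤ #Y := by
  have N := X.md hC
  have := N.fin
  refine le_trans ?_ (card_le_of_le (inf_le_left : Y ⊓ C[a 53] ≤ Y))
  rw [← X.ph.card_im' (zpowers_le.2 (mem_inf.2 ⟨hz, X.cz⟩)) inf_le_right, X.czp, pow_succ']
  refine Nat.mul_le_mul_left 2 ((M.w3 N).trans (card_le_of_le (gen_le.2 fun i hi => ?_)))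
  rcases i with _ | i
  · exact X.ph.mem_im.2 ⟨_, ⟨hs, X.cz⟩, X.cz, (one_mul _).symm⟩
  obtain ⟨p, q, r⟩ := D.m3 i (by omega)
  have c : ∀ k ∈ nth [] M.y3_W (i + 1), a k ∈ C[a 53] := fun k hk => X.cz ((ltAll_zero q k hk).trans (by decide))
  refine X.ph.mem_im.2 ⟨_, ⟨?_, evA_mem a c⟩, evA_mem a c, X.ph.ev c⟩
  replace h : evA a (cw (nth (0, 0) sel i)) ∈ Y := by
    convert h _ (X.w1 p.1 p.2.1) _ ⟨mq a (k := (nth (0, 0) sel i).2) (by omega), X.cs (by omega)⟩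
    simp only [cw, evA_cons, evA_nil, one_mul, commutatorElement_def, mul_inv_rev, X.i46, mul_assoc,
      X.iv (k := (nth (0, 0) sel i).1) (by omega), X.iv (k := (nth (0, 0) sel i).2) (by omega)]
  rcases orZ_zero r with r | r <;> rw [SetLike.mem_coe, X.eq r]
  exacts [h, by rw [evA_append]; exact mul_mem (mul_mem (one_mem _) hz) h]

theorem D0 : C[a 53] ⊓ C[a 10] ≤ gen (nthG [a 53, a 10, a 51, a 52, a 45, a 47]) 6 := by
  have N := X.md hC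
  have := N.fin
  set D := gen (nthG [a 53, a 10, a 51, a 52, a 45, a 47]) 6
  have m := fun k => mem_gen (nthG [a 53, a 10, a 51, a 52, a 45, a 47]) (K := 6) (k := k)
  have le : D ≤ C[a 53] ⊓ C[a 10] := gen_le.2 fun k hk => by interval_cases k <;> exact ⟨X.cz, X.cs⟩
  have z : zpowers (a 53) ≤ C[a 53] ⊓ C[a 10] := zpowers_le.2 ⟨X.cz, X.cs⟩
  refine (eq_of_le_of_card_ge le ?_).ge
  rw [← X.ph.card_im' (zpowers_le.2 (m 0 (by decide))) (le.trans inf_le_left), ← X.ph.card_im' z inf_le_left]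
  refine Nat.mul_le_mul_left _ (le_trans ?_ ((M.dl N).trans (card_le_of_le (X.ph.gen_le_im rfl (le.trans inf_le_left) ?_))))
  · have lt : X.ph.im (C[a 53] ⊓ C[a 10]) < C[π (a 10)] := lt_of_le_of_ne (fun y hy => by
      obtain ⟨x, p, q, rfl⟩ := X.ph.mem_im.1 hy
      exact mem_cent1.2 (X.ph.cm q X.cz (mem_cent1.1 p.2))) fun e => X.nts (X.ph.of_im z X.cz
        (e ▸ mem_cent1.2 (X.cq (mq a) (mq a)))).2
    obtain ⟨k, e⟩ := card_dvd_of_le lt.le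
    have c : #C[π (a 10)] = _ := M.cs_card N
    have : k ≠ 1 := by rintro rfl; exact lt.ne (eq_of_le_of_card_ge lt.le (by omega))
    have : k ≠ 0 := by rintro rfl; omega
    nlinarith [(by omega : 2 ≤ k)]
  · simp only [List.forall_mem_cons, ← X.i46, ← X.i48, inv_mem_iff]
    exact ⟨m 2 (by decide), m 3 (by decide), m 4 (by decide), m 4 (by decide), m 5 (by decide), m 5 (by decide), by simp⟩

theorem exf : ∃ (_ : MulAction L6 (Fin 672)) (g : ℕ → L6) (f : A → L6), Md g (ptF 672) U62.P 672 10 U62.B 9196830720 ∧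
    (∀ k < 10, (g k).1 = U62.g k) ∧ PH C[a 53] (Q0 a) f ∧ ∀ W, (∀ k ∈ W, k < 10) → f (evA a W) = evA g W := by
  obtain ⟨-, -, f, p, q⟩ := X.big hC
  obtain ⟨_, g, N, e⟩ := mdL
  exact ⟨_, g, f, N, e, p, fun W hW => (p.ev fun k hk => X.cz ((hW k hk).trans (by decide))).trans
    (evA_congr _ fun k hk => Subtype.ext ((q k (hW k hk)).trans (e k (hW k hk)).symm))⟩

theorem L5 (F F' : Subgroup A) (h1 : Q0 a ≤ F) (h2 : F ≤ C[a 53]) (h3 : ∀ x ∈ F, x * x ∈ Q0 a) (h4 : 2 ^ 30 ≤ #F)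
    (k1 : Q0 a ≤ F') (k2 : F' ≤ C[a 53]) (k3 : ∀ x ∈ F', x * x ∈ Q0 a) (k4 : 2 ^ 30 ≤ #F') :
    ∃ c ∈ C[a 53], cj c F = F' := by
  obtain ⟨_, g, f, N, -, p, -⟩ := X.exf hC
  have := N.fin
  have k : ∀ F, Q0 a ≤ F → F ≤ C[a 53] → (∀ x ∈ F, x * x ∈ Q0 a) → 2 ^ 30 ≤ #F → ∃ l, cj l (p.im F) = _ :=
    fun F h1 h2 h3 h4 => ea_conj (U.tp N).2 (by rw [N.card]; decide) (U.th N) (fun y hy => by
      obtain ⟨x, r, s, rfl⟩ := p.mem_im.1 hy
      rw [← p.mul _ s _ s, p.ker _ (mul_mem s s)]; exact h3 x r) (by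
      rw [← p.card_im' h1 h2, X.cQ hC] at h4
      rw [card_gen (U.tp N).1 (U.tp N).2 (by decide)]; omega)
  obtain ⟨l, e⟩ := k F h1 h2 h3 h4
  obtain ⟨l', e'⟩ := k F' k1 k2 k3 k4
  obtain ⟨c, hc, r⟩ := p.sur (l'⁻¹ * l)
  exact ⟨c, hc, p.cj_eq h1 h2 k1 k2 hc (by rw [r, cj_mul, e, ← e', ← cj_mul, inv_mul_cancel, cj_one])⟩

theorem QL : Q0 a ⊓ gen a 10 = ⊥ := by
  obtain ⟨_, g, f, N, -, p, q⟩ := X.exf hC
  have c := p.card_im X.LC
  rw [show p.im (gen a 10) = ⊤ from top_le_iff.1 (N.top.ge.trans (gen_le.2 fun k hk => p.mem_im.2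
    ⟨_, mem_gen a hk, X.cz (by omega), by simpa using q [k] (by simpa)⟩)), card_top, N.card] at c
  have := (card_le_of_le (genL a)).trans (U62.bound.le X.rels).2
  have : 0 < #(Q0 a ⊓ gen a 10 : Subgroup A) := Nat.card_pos
  exact card_eq_one.1 (by omega)

theorem idx : ∃ m, #C[a 53] = (2 * m + 1) * #(Q0 a ⊔ closure {a 52, a 45, a 47} : Subgroup A) := by
  obtain ⟨_, g, f, N, -, p, q⟩ := X.exf hC
  have le := sup_le X.QC (X.PL.trans X.LC)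
  obtain ⟨k, e⟩ := card_subgroup_dvd_card (p.im (Q0 a ⊔ closure {a 52, a 45, a 47}))
  obtain ⟨l, e'⟩ := (U.tp N).2 ▸ card_dvd_of_le ((gen_wds_le U.t_lt 15).trans (gen_le.2 fun i hi => p.mem_im.2
    ⟨a (nth 0 [52, 45, 47] i), mem_sup_right (subset_closure (by
      interval_cases i; exacts [.inl rfl, .inr (.inl rfl), .inr (.inr rfl)])),
      X.cz (by interval_cases i <;> decide), (congrArg f (X.pw i hi)).trans (q _ (nth_lt U.p_lt i))⟩) :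
    _ ≤ p.im (Q0 a ⊔ closure {a 52, a 45, a 47}))
  obtain ⟨m, rfl⟩ : Odd k := Nat.not_even_iff_odd.1 fun ⟨m, h⟩ => by
    rw [N.card, e', h, ← two_mul, mul_assoc, mul_left_comm l] at e; omega
  exact ⟨m, by rw [← p.card, ← p.card_im' le_sup_left le, e]; ring⟩

theorem mo : Mo (Q0 a) (U0 a ⊔ zpowers (a 55)) (a 53) (a 10) (a 29) (a 66) (a 54) (a 28) (a 38) (a 45) (a 47) (a 49)
    (a 50) := by
  obtain ⟨e1, e2, -, e4, e5, e6, e7, e8, e9, e10, e11, e12, -⟩ := X.eqs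
  have u := mul_inv_eq_iff_eq_mul.2 e8
  refine ⟨X.le0 hC, X.cQ hC, mq a, mq a, fun h => X.s1 hC ((X.ph.ker _ X.cz).2 (h ▸ mem_zpowers _)),
    mul_inv_eq_iff_eq_mul.2 e1, X.sq, X.sq, X.sq, e2, X.ts, X.cz, mul_inv_eq_iff_eq_mul.2 e4, mul_inv_eq_iff_eq_mul.2 e5,
    mem_cent1.1 X.cs, e6, e7, u ▸ mul_inv_eq_iff_eq_mul.2 e9, u ▸ fun h => M.n2 (X.md hC) (by simp [h]), e10,
    fun h => M.n3 (X.md hC) (by simp [h, X.ph.one]), fun x hx => ?_, ⟨e11, e12⟩, X.L5 hC, X.L1 hC, X.F1 hC, X.m3 hC,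
    X.L4 hC, X.g52 ▸ H19.eq_bot_mono (inf_le_inf_left _ X.PL) (X.QL hC), X.g52 ▸ X.idx hC, X.Qc, X.g51 ▸ X.g52 ▸ X.D0 hC,
    sup_le X.UC (zpowers_le.2 X.cz), sup_le (gen_le.2 fun j hj => ?_) (zpowers_le.2 (mem_sup_right ⟨X.cz, X.cs⟩))⟩
  · obtain ⟨k, hk, rfl⟩ := List.mem_map.1 (show x ∈ [45, 47, 49, 50].map a from hx)
    exact ⟨(X.od k hk).1, (X.od k hk).2.1, (X.od k hk).2.2, mem_cent1.1 (X.cz ((by decide : ∀ k ∈ [45, 47, 49, 50], k < 65) k hk))⟩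
  · interval_cases j
    exacts [mem_sup_left (mem_zpowers _), mem_sup_right ⟨X.cz (k := 38), X.cs (k := 38)⟩,
      mem_sup_right ⟨X.cz (k := 41), X.cs (k := 41)⟩, mem_sup_right ⟨X.cz (k := 42), X.cs (k := 42)⟩,
      mem_sup_right ⟨X.cz (k := 43), X.cs (k := 43)⟩, mem_sup_right ⟨X.cz (k := 44), X.cs (k := 44)⟩,
      mem_sup_right ⟨X.cz (k := 53), X.cs (k := 53)⟩]

end AX

end H18.TE
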