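import Cfsg.Agent.H18.TE10
import Cfsg.Agent.H14.InvE6
import Cfsg.Agent.H14.Aut1

/-! The model inside `²E₆(2)`. -/

set_option autoImplicit false
set_option linter.unusedSectionVars false
set_option maxRecDepth 100000

open Cfsg Subgroup
namespace H18.TE
open H19 H16 H0 H0.Am D H15.XM H15.E6 Cfsg.Lie H14 H14.St H14.PreSt

theorem three_cls {A : Type*} [Group A] (h : (ConjClasses.mk '' {g : A | orderOf g = 2}).ncard = 3) {x y z : A}
    (hx : orderOf x = 2) (hy : orderOf y = 2) (hz : orderOf z = 2) (h1 : ¬ IsConj x y) (h2 : ¬ IsConj x z)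
    (h3 : ¬ IsConj y z) {v : A} (hv : orderOf v = 2) : IsConj x v ∨ IsConj y v ∨ IsConj z v := by
  simp only [← ConjClasses.mk_eq_mk_iff_isConj] at h1 h2 h3 ⊢
  have := Set.eq_of_subset_of_ncard_le (s := {ConjClasses.mk x, .mk y, .mk z})
    (t := ConjClasses.mk '' {g : A | orderOf g = 2})
    (Set.insert_subset ⟨x, hx, rfl⟩ (Set.insert_subset ⟨y, hy, rfl⟩ (Set.singleton_subset_iff.2 ⟨z, hz, rfl⟩)))
    (h.trans (Set.ncard_eq_three.2 ⟨_, _, _, h1, h2, h3, rfl⟩).symm).le (Set.finite_of_ncard_ne_zero (by omega))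
  exact (this.ge ⟨v, hv, rfl⟩).imp Eq.symm (Or.imp Eq.symm Eq.symm)

universe u
variable {K : Type u} [Field K]

/-- the letters -/
noncomputable def aa (w : K) : ℕ → twistedE6 K 2 := wds (GL16 w) AW

theorem aa_eq (w : K) : (aa w 29 = g1 K 46 ∧ aa w 38 = g1 K 39 ∧ aa w 66 = g1 K 46 * g1 K 25 * g1 K 46 ∧
    aa w 54 = g1 K 39 * g1 K 32 * g1 K 39) ∧ (aa w 41 = g2 42 37 1 ∧ aa w 42 = g2 42 37 w ∧ aa w 56 = g2 42 37 (w + 1) ∧
    aa w 59 = g2 29 34 1) ∧ aa w 43 = g2 56 36 1 ∧ aa w 44 = g2 56 36 w ∧ aa w 57 = g2 56 36 (w + 1) ∧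
    aa w 62 = g2 15 35 1 :=
  ⟨⟨one_mul (GL16 w 0), one_mul (GL16 w 1), congrArg (· * GL16 w 8 * GL16 w 0) (one_mul (GL16 w 0)),
    congrArg (· * GL16 w 9 * GL16 w 1) (one_mul (GL16 w 1))⟩, ⟨one_mul (GL16 w 2), one_mul (GL16 w 3), one_mul (GL16 w 4),
    one_mul (GL16 w 10)⟩, one_mul (GL16 w 5), one_mul (GL16 w 6), one_mul (GL16 w 7), one_mul (GL16 w 13)⟩

variable [CharP K 2] {w : K} (hw : w * w = w + 1)

theorem xr {r c : ℕ} (h : chevE6.x (ZMod 2) r 1 = mat IG (ZMod 2) c) : chevE6.x K r 1 = mat2 IG w (c, 0) := by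
  rw [← map_one (ZMod.castHom (dvd_refl 2) K), ← x_map, h]
  ext; simp [mat2, mat, bt, apply_ite]

include hw

theorem haa : ∀ k < 67, ρ K (aa w k) = mat2 IG w (nth (0, 0) AC k) := fun k hk => by
  obtain ⟨a, b⟩ := Nat.add_eq_zero_iff.1 (D.dc k hk)
  rw [← ne2_zero b]; exact mat2_ev IG hw (e1_eq w) _ (hG hw) a

variable {e : twistedE6 K 2 →* chevE6.group K} (he : ∀ x, (e x).1 = x.1)
include he

theorem pw3 : e (aa w 53) = goodE6.pw K [71] ∧ e (aa w 12) = goodE6.pw K [68, 66] ∧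
    e (aa w 15 * aa w 14) = goodE6.pw K [55, 65, 67] := by
  have k : ∀ x y, ρ K x = (y.1 : Matrix _ _ K) → e x = y := fun x y h => Subtype.ext ((he x).trans (Units.ext h))
  have c : ∀ r {x}, r < 72 → chevE6.x (ZMod 2) r 1 = mat IG (ZMod 2) x →
      (goodE6.xn (goodE6.SG K).toPreSt r 1).1.1 = mat2 IG w (x, 0) := fun r _ hr h =>
    ((congrArg (fun g : chevE6.group K => g.1.1) (goodE6.xn_val (goodE6.SG K).toPreSt ⟨r, hr⟩ 1)).trans
      (goodE6.coe_SG_x ⟨r, hr⟩ (1 : K))).trans (xr h)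
  obtain ⟨a1, a2, a3⟩ := D.rr
  refine ⟨k _ _ ?_, k _ _ ?_, k _ _ ?_⟩ <;> simp only [Good.pw, List.map_cons, List.map_nil, List.prod_cons,
    List.prod_nil, mul_one, Subgroup.coe_mul, Units.val_mul, map_mul]
  · exact (haa hw 53 (by decide)).trans ((congrArg _ (ne2_zero a1).symm).trans (c 71 (by decide) D.r71).symm)
  · rw [c 68 (by decide) D.r68, c 66 (by decide) D.r66,
      ← mat2_mul IG hw, ne2_zero a2]
    exact haa hw 12 (by decide)
  · rw [c 55 (by decide) D.r55, c 65 (by decide) D.r65,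
      c 67 (by decide) D.r67, ← mat2_mul IG hw, ← mat2_mul IG hw, ne2_zero a3, mat2_mul IG hw,
      haa hw 15 (by decide), haa hw 14 (by decide)]
    rfl

omit he in
theorem exists_ax [Finite K] (z2 : orderOf (aa w 53) = 2) : ∃ (B : Type u) (_ : Group B) (Ω : Type u)
    (_ : MulAction B Ω) (π : twistedE6 K 2 → B) (pt : ℕ → Ω), AX (aa w) π pt := by
  let _ := actV K
  have E := fun {U V} (h : eqA U V = 0) => eqC_sound hw (haa hw) h
  obtain ⟨B, _, Ω, _, π, pt, p, q⟩ := exists_bar (z := aa w 53)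
    (act_of hw (by decide) (fun k hk => haa hw k (hk.trans (by decide : 53 < 67))) D.ac) (vc_inj hw D.ic) (by decide)
    (fun i hi => by
      change Matrix.mulVec (ρ K _) (vc w (col _ _)) = vc w (col _ _)
      rw [haa hw 53 (by decide)]
      exact (mul_col hw _ _ (Nat.mod_lt _ (by decide))).trans <| congrArg (fun c => vc w (col c _)) (ne2_zero (D.zf _ (Nat.div_lt_of_lt_mul (by omega)))))
    fun k hk => mem_cent1.2 (by simpa using (E (D.cz k (by omega))).symm)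
  exact ⟨B, _, Ω, _, π, pt, E, q, p, z2⟩

omit he in
theorem bn [Fintype K] (hK : Fintype.card K = 4) (hF : ∀ t : K, t = 0 ∨ t = 1 ∨ t = w ∨ t = w + 1) :
    ∃ (B : Type u) (_ : Group B) (Ω : Type u) (_ : MulAction B Ω) (π : twistedE6 K 2 → B) (pt : ℕ → Ω),
      AX (aa w) π pt ∧ #(U0 (aa w)) = 2 ^ 36 ∧ (∀ v, orderOf v = 2 → ∃ q ∈ Q0 (aa w), IsConj q v) ∧
      ∃ R : BNPair (twistedE6 K 2), R.B = U0 (aa w) ⊔ zpowers (aa w 55) ∧ ∀ r : R.S, ∃ x ∈ R.N, r.1⁻¹ * x ∈ R.B ∧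
        (x = aa w 66 ∨ x = aa w 54 ∨ x ∈ gen (aa w) 10 ⊓ C[aa w 10]) := by
  obtain ⟨φ, h2, hφ⟩ := E6.exists_hom (K := K) Nat.prime_two.isPrimePow hK
  have h0 := E6.isTw (h2 := h2) hφ
  have h := h0.emb
  have cK : Nat.card K = 2 ^ 2 := Nat.card_eq_fintype_card.trans hK
  have cU : _ = 2 ^ 36 := (h0.card_U' ▸ h0.card_U Nat.one_pos (E6.card_Up hφ one_lt_two cK) :)
  have cH : 3 * _ = 9 := E6.card_H (h2 := h2) hφ one_lt_two cK
  set e := Subgroup.inclusion h0.le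
  obtain ⟨p1, p2, p3⟩ := pw3 hw (e := e) fun _ => rfl
  have o := fun x L hL (p : e x = goodE6.pw K L) => (orderOf_injective e h.inj x).symm.trans (p ▸ E6.inv_order L hL)
  have s : ∀ {x y}, (∀ k, k * e x * k⁻¹ ≠ e y) → ¬ IsConj x y := fun {x y} p q =>
    let ⟨k, q⟩ := isConj_iff.1 q; p (e k) (by rw [← q, map_mul, map_mul, map_inv])
  have i := E6.inv_sep (K := K)
  simp only [E6.invReps, List.pairwise_cons, List.forall_mem_cons, ← p1, ← p2, ← p3] at i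
  obtain ⟨B, _, Ω, _, π, pt, X⟩ := exists_ax hw (o _ _ (by decide) p1)
  have g : ∀ r s m t, e (g2 r s t m) = (goodE6.SG K).wd [(r, t), (s, φ t)] := fun r s m t => by
    simp only [wd_cons, wd_nil, mul_one, hφ]; rfl
  obtain ⟨⟨l1, l2, l3, l4⟩, ⟨l5, l6, l7, l8⟩, l9, l10, l11, l12⟩ := aa_eq w
  have c : ∀ M : Subgroup (chevE6.group K), #(M.comap e) = #(M ⊓ (E6.T φ h2).fix : Subgroup _) := fun M => by
    rw [← card_map_of_injective h.inj, map_comap_eq, h.range, inf_comm]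
  have x := fun (r : Fin chevE6.nroots) (p : goodE6.R.pos r) t => x_mem_U (S := (goodE6.SG K).toPreSt) (A := {r | goodE6.R.pos r}) p t
  have u : U0 (aa w) = ((goodE6.SG K).U {r | goodE6.R.pos r}).comap e := eq_of_le_of_card_ge (gen_le.2 fun j hj => by
    have y : ∀ r s m t, _ → _ → g2 r s t m ∈ ((goodE6.SG K).U {r | goodE6.R.pos r}).comap e := fun r s m t p q =>
      mem_comap.2 (by rw [g]; exact mul_mem (x r p t) (mul_mem (x s q (φ t)) (one_mem _)))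
    interval_cases j
    exacts [show aa w 29 ∈ _ from l1 ▸ x 46 (by decide) 1, show aa w 38 ∈ _ from l2 ▸ x 39 (by decide) 1,
      show aa w 41 ∈ _ from l5 ▸ y _ _ _ _ (by decide) (by decide),
      show aa w 42 ∈ _ from l6 ▸ y _ _ _ _ (by decide) (by decide),
      show aa w 43 ∈ _ from l9 ▸ y _ _ _ _ (by decide) (by decide),
      show aa w 44 ∈ _ from l10 ▸ y _ _ _ _ (by decide) (by decide),
      mem_comap.2 (Set.mem_of_eq_of_mem (p1.trans ((mul_one _).trans (goodE6.xn_val _ 71 1))) (x 71 (by decide) 1))])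
    (by rw [c, ← Tw.Up_univ, cU]; exact X.cardU)
  have c2 : #(U0 (aa w)) = 2 ^ 36 := by rw [u, c, ← Tw.Up_univ, cU]
  refine ⟨B, _, Ω, _, π, pt, X, c2, fun v hv => ?_, h.bnPair, ?_, ?_⟩
  · rcases three_cls (E6.inv_count (q := 2) hK) X.z2 (o _ _ (by decide) p2) (o _ _ (by decide) p3) (s i.1.1) (s i.1.2.1)
      (s i.2.1.1) hv with q | q | q
    exacts [⟨_, mq _, q⟩, ⟨_, mq _, q⟩, ⟨_, mul_mem (mq _) (mq _), q⟩]
  · have o3 : orderOf (aa w 55) = 3 := orderOf_eq_prime X.eqs.2.2.2.2.2.2.2.2.2.2.2.2.2.2.2.2.1 X.h1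
    refine (eq_of_le_of_card_ge (K := (goodE6.SG K).B.comap e) (sup_le (u ▸ comap_mono U_le_B) (zpowers_le.2 (h.ex.mem_B_of_conj (h.mem _)
      fun y hy => ?_))) ?_).symm
    · obtain ⟨y, rfl⟩ := h.lift hy.2
      simpa using U_le_B (u.le (nrm_conj X.hN (u.ge hy.1)))
    · rw [card_sup_of_disjoint (zpowers_le.2 X.hN) (disjoint_of_coprime_natCard (by rw [c2, Nat.card_zpowers, o3]; norm_num)).eq_bot,
        c2, Nat.card_zpowers, o3]
      exact (c _).le.trans (by rw [Tw.card_B_fix, ← Tw.Up_univ, cU]; omega)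
  rintro ⟨_, j, rfl⟩
  suffices ∃ x, (e x, goodE6.R.w0 ((E6.T φ h2).orb j)) ∈ (goodE6.SG K).NW ∧ _ from let ⟨x, a, b⟩ := this
    ⟨x, NW.mem_N a, H_le_B (by simpa using NW.inv_mul_mem_H (h.rep_NW (Tw.w0_orb_mem _ j)) a), b⟩
  have k : ∀ r s m r' s' m' i, g2 r s 1 m ∈ gen (aa w) 10 ⊓ C[aa w 10] → g2 r s w m ∈ gen (aa w) 10 ⊓ C[aa w 10] →
      g2 r s (w + 1) m ∈ gen (aa w) 10 ⊓ C[aa w 10] → g2 r' s' 1 m' ∈ gen (aa w) 10 ⊓ C[aa w 10] →
      (∀ {x}, x ∈ (E6.T φ h2).Up (E6.orb i) ↔ ∃ t, x = (goodE6.SG K).wd [(r, t), (s, φ t)]) →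
      (∀ {x}, x ∈ (E6.T φ h2).Um (E6.orb i) ↔ ∃ t, x = (goodE6.SG K).wd [(r', t), (s', φ t)]) →
      (goodE6.SG K).wd [(r', 1), (s', φ 1)] ≠ 1 → ∃ x, (e x, goodE6.R.w0 (E6.orb i)) ∈ (goodE6.SG K).NW ∧
        (x = aa w 66 ∨ x = aa w 54 ∨ x ∈ gen (aa w) 10 ⊓ C[aa w 10]) := by
    intro r s m r' s' m' i a1 a2 a3 a4 b1 b2 b3
    have l : ∀ t, g2 r s t m ∈ gen (aa w) 10 ⊓ C[aa w 10] := fun t => by
      rcases hF t with rfl | rfl | rfl | rfl
      exacts [by rw [show g2 r s (0 : K) m = 1 from h.inj (by simp [g])]; exact one_mem _, a1, a2, a3]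
    obtain ⟨u', hu', n, -, hn, u, hu, q⟩ := Tw.exists_n (i := i) (b2.2 ⟨1, rfl⟩) b3
    obtain ⟨t, rfl⟩ := b1.1 hu
    obtain ⟨t', rfl⟩ := b1.1 hu'
    refine ⟨_, ?_, .inr (.inr (mul_mem (mul_mem (inv_mem (l t')) a4) (inv_mem (l t))))⟩
    rwa [map_mul, map_mul, map_inv, map_inv, g, g, g, q, mul_assoc _ n, inv_mul_cancel_left, mul_inv_cancel_right]
  have m : ∀ {k x}, aa w k = x → (k ∈ LV.map Prod.fst) → (k < 65 ∧ 10 ≤ k ∧ k ≠ 29 ∧ k ≠ 54 ∧ k ≠ 58) →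
      x ∈ gen (aa w) 10 ⊓ C[aa w 10] := fun a b c => a ▸ ⟨X.lv b, X.cs c⟩
  have n : ∀ (i : Fin chevE6.rank) (r s : Fin chevE6.nroots) x, goodE6.R.simple i = r → goodE6.R.neg r = s →
      e x = (goodE6.SG K).x r 1 * (goodE6.SG K).x s 1 * (goodE6.SG K).x r 1 → i ∈ E6.orb i →
      (∀ j ∈ E6.orb i, ¬ goodE6.R.pos ([i].foldr goodE6.R.sref (goodE6.R.simple j))) →
      (e x, goodE6.R.w0 (E6.orb i)) ∈ (goodE6.SG K).NW := by
    rintro i _ _ x rfl rfl a b c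
    rw [RootSys.w0_eq_wprod (L := [i]) (by simpa using b) c, a]
    simpa [PreSt.n, CharTwo.neg_eq] using n_mem_NW (S := (goodE6.SG K).toPreSt) (goodE6.R.simple i) (one_ne_zero (α := K))
  refine (E6.T φ h2).forall_orb (P := fun J => ∃ x, (e x, goodE6.R.w0 J) ∈ (goodE6.SG K).NW ∧
    (x = aa w 66 ∨ x = aa w 54 ∨ x ∈ gen (aa w) 10 ⊓ C[aa w 10])) _ E6.reps ?_ j
  simp only [List.forall_mem_cons, List.not_mem_nil, IsEmpty.forall_iff, implies_true, and_true]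
  exact ⟨k 56 36 _ 15 35 _ 0 (m l9 (by decide) (by decide)) (m l10 (by decide) (by decide))
      (m l11 (by decide) (by decide)) (m l12 (by decide) (by decide)) E6.p0 E6.m0
      ((goodE6.SG_sep K).wd_ne_one E6.M0 rfl (p := (15, 1)) (by simp) one_ne_zero),
    ⟨_, n 1 46 25 _ (by decide +kernel) (by decide +kernel) (l3 ▸ rfl) (by decide +kernel) (by decide +kernel), .inl rfl⟩,
    k 42 37 _ 29 34 _ 2 (m l5 (by decide) (by decide)) (m l6 (by decide) (by decide))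
      (m l7 (by decide) (by decide)) (m l8 (by decide) (by decide)) E6.p2 E6.m2
      ((goodE6.SG_sep K).wd_ne_one E6.M2 rfl (p := (29, 1)) (by simp) one_ne_zero),
    ⟨_, n 3 39 32 _ (by decide +kernel) (by decide +kernel) (l4 ▸ rfl) (by decide +kernel) (by decide +kernel), .inr (.inl rfl)⟩⟩

end H18.TE
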