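import Cfsg.Agent.H18.TE11
import Cfsg.Agent.H16.L.U62
import Cfsg.Agent.H11.Congr
import Cfsg.Agent.S1070
import Cfsg.Agent.S1066

/-! The embedding of `²E₆(2)`. -/

set_option autoImplicit false
set_option linter.unusedSectionVars false

open Cfsg Subgroup
namespace H18.TE
open H19 H16 H0 H0.PM H0.Am H0.Co H0.TR D Cfsg.Lie

universe u v

theorem AX.hC {A B Ω : Type*} [Group A] [Group B] [MulAction B Ω] [Finite A] {a : ℕ → A} {π : A → B} {pt : ℕ → Ω}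
    (X : AX a π pt) {R : BNPair A} (hB : R.B = U0 a ⊔ zpowers (a 55)) (μ : ∀ r : R.S, ∃ x ∈ R.N, r.1⁻¹ * x ∈ R.B ∧
      (x = a 66 ∨ x = a 54 ∨ x ∈ gen a 10 ⊓ C[a 10])) : C[a 53] ≤ gen a 10 ⊔ Q0 a := by
  have c : R.B ≤ C[a 53] := hB ▸ sup_le X.UC (zpowers_le.2 X.cz)
  have p : R.B ≤ gen a 10 ⊔ Q0 a := hB ▸ sup_le (gen_le.2 fun j hj => by
    interval_cases j
    exacts [mem_sup_right (mq a (k := 29)), mem_sup_left (X.lv (k := 38)), mem_sup_left (X.lv (k := 41)),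
      mem_sup_left (X.lv (k := 42)), mem_sup_left (X.lv (k := 43)), mem_sup_left (X.lv (k := 44)),
      mem_sup_right (mq a (k := 53))]) (zpowers_le.2 (mem_sup_left X.lv))
  refine (H13.BN.eq_parabolic c).le.trans (H13.BN.parabolic_le_iff.2 ⟨p, fun r hr => ?_⟩)
  obtain ⟨x, -, h1, h2⟩ := μ ⟨r, hr.1⟩
  have : x ∈ gen a 10 := by
    rcases h2 with rfl | rfl | h2
    · have := mem_cent1.1 (mul_mem (show r ∈ _ from hr.2) (c h1))
      rw [mul_inv_cancel_left, X.eqs.1, mul_left_inj] at this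
      exact (X.nts (this ▸ X.cz)).elim
    exacts [X.lv, h2.1]
  simpa using mul_mem (mem_sup_left this) (inv_mem (p h1))

theorem AX.top {A B Ω : Type*} [Group A] [Group B] [MulAction B Ω] [Finite A] {a : ℕ → A} {π : A → B} {pt : ℕ → Ω}
    (X : AX a π pt) {R : BNPair A} (hB : R.B = U0 a ⊔ zpowers (a 55)) (μ : ∀ r : R.S, ∃ x ∈ R.N, r.1⁻¹ * x ∈ R.B ∧
      (x = a 66 ∨ x = a 54 ∨ x ∈ gen a 10 ⊓ C[a 10])) : C[a 53] ⊔ zpowers (a 66) = ⊤ := by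
  have c : R.B ≤ C[a 53] ⊔ zpowers (a 66) := hB ▸ le_sup_of_le_left (sup_le X.UC (zpowers_le.2 X.cz))
  refine top_le_iff.1 ((H13.BN.parabolic_S R).ge.trans (H13.BN.parabolic_le_iff.2 ⟨c, fun r hr => ?_⟩))
  obtain ⟨x, -, h1, h2⟩ := μ ⟨r, hr⟩
  have : x ∈ C[a 53] ⊔ zpowers (a 66) := by
    rcases h2 with rfl | rfl | h2
    exacts [mem_sup_right (mem_zpowers _), mem_sup_left X.cz, mem_sup_left (X.LC h2.1)]
  simpa using mul_mem this (inv_mem (c h1))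

theorem exists_w {K : Type*} [Field K] [Fintype K] (hK : Fintype.card K = 4) :
    CharP K 2 ∧ ∃ w : K, w * w = w + 1 ∧ ∀ t : K, t = 0 ∨ t = 1 ∨ t = w ∨ t = w + 1 := by
  let f : H11.F4 ≃+* K := FiniteField.ringEquivOfCardEq hK.symm
  refine ⟨charP_of_card_eq_prime_pow (f := 2) hK, f H15.E6.om, by
    rw [← map_mul, show H15.E6.om * H15.E6.om = H15.E6.om + 1 by decide, map_add, map_one], fun t => ?_⟩
  obtain ⟨t, rfl⟩ := f.surjective t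
  rcases (by decide : ∀ t : H11.F4, t = 0 ∨ t = 1 ∨ t = H15.E6.om ∨ t = H15.E6.om + 1) t with h | h | h | h <;> simp [h]

theorem psu6 {K : Type*} [Field K] [Fintype K] (hK : Fintype.card K = 4) : Nonempty (PSU 6 K 2 ≃* L6) :=
  ⟨(H11.psuCongr 6 2 (FiniteField.ringEquivOfCardEq (K' := H11.F4) hK)).trans H16.LU62.equiv.some.symm⟩

variable {A : Type v} {G : Type u} [Group A] [Group G] [Finite A] [Finite G]

/-- the conclusion of the construction -/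
structure Em (a : ℕ → A) (Q H : Subgroup G) (z : G) (ι : A →* G) : Prop where
  inj : Function.Injective ι
  hz : ι (a 53) = z
  hQ : (Q0 a).map ι = Q
  hH : H ≤ ι.range
  nf : ∀ v, IsConj z (ι v) → IsConj (a 53) v
  hO : oddCore G = ⊥

theorem AX.em {B Ω : Type*} [Group B] [MulAction B Ω] {a : ℕ → A} {π : A → B} {pt : ℕ → Ω} [IsSimpleGroup A]
    (X : AX a π pt) (cv : ∀ v, orderOf v = 2 → ∃ q ∈ Q0 a, IsConj q v) {R : BNPair A}
    (hB : R.B = U0 a ⊔ zpowers (a 55)) (μ : ∀ r : R.S, ∃ x ∈ R.N, r.1⁻¹ * x ∈ R.B ∧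
      (x = a 66 ∨ x = a 54 ∨ x ∈ gen a 10 ⊓ C[a 10])) {Q H : Subgroup G} {z : G} (h : LE Q z) (c : #Q = 2 ^ 21)
    (hH : H ≤ C[z]) {f : H →* L6} (s : Function.Surjective f) (k : ∀ x, f x = 1 ↔ x.1 ∈ Q)
    (hA : ∀ g, g * z * g⁻¹ ∈ Q → g * z * g⁻¹ ≠ z → cj g Q ⊓ C[z] ≤ H) {g : G} (h1 : g * z * g⁻¹ ∈ Q)
    (h2 : g * z * g⁻¹ ≠ z) : ∃ ι, Em a Q H z ι := by
  have hC := X.hC hB μ
  obtain ⟨_, l, f0, N, -, p, -⟩ := X.exf hC
  obtain ⟨φ, L, e⟩ := lg_of (U.dt N) (top_le_iff.1 (N.top.ge.trans (U.xt N))) (by simpa using U.x0 N) (X.le0 hC) (X.cQ hC)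
    p.hom_sur p.hom_ker h c hH s k
  obtain ⟨ι, a1, a2, a3, a4, a5⟩ := (X.mo hC).main L c R hB (fun r => let ⟨x, p, q, r⟩ := μ r
    ⟨x, p, hB ▸ q, r.imp_right (Or.imp_right fun r => ⟨X.LC r.1, r.2⟩)⟩) (fun g p q x hx => e x (hA g p q hx)) h1 h2
  have hz := a2 _ L.zz
  refine ⟨ι, a1, hz, le_antisymm (map_le_iff_le_comap.2 fun x hx => ?_) fun y hy => ?_,
    fun y hy => let ⟨_, p⟩ := e y hy; a3 _ p, fun v hv => ?_, a5⟩
  · obtain ⟨y, p⟩ := (iso_graph (φ := φ)).tot hx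
    exact mem_comap.2 (a2 _ p ▸ graph_snd p)
  · obtain ⟨x, p⟩ := graph_ex (φ := φ) hy
    exact ⟨x, graph_fst p, a2 _ p⟩
  · obtain ⟨q, p, r⟩ := cv v (by
      obtain ⟨u, e⟩ := hv
      rw [← orderOf_injective ι a1, ← e.orderOf_eq, h.es.ord])
    exact (a4 q p (hv.trans (ι.map_isConj r).symm)).trans r

theorem model (K : Type v) [Field K] [Fintype K] (hK : Fintype.card K = 4) : ∃ (_ : CharP K 2) (w : K)
    (B : Type v) (_ : Group B) (Ω : Type v) (_ : MulAction B Ω) (π : twistedE6 K 2 → B) (pt : ℕ → Ω), AX (aa w) π pt ∧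
    C[aa w 53] ≤ gen (aa w) 10 ⊔ Q0 (aa w) ∧ #(U0 (aa w)) = 2 ^ 36 ∧ C[aa w 53] ⊔ zpowers (aa w 66) = ⊤ ∧
    ∀ {Q H : Subgroup G} {z : G}, LE Q z → #Q = 2 ^ 21 → H ≤ C[z] →
      ∀ f : H →* L6, Function.Surjective f → (∀ x, f x = 1 ↔ x.1 ∈ Q) →
      (∀ g, g * z * g⁻¹ ∈ Q → g * z * g⁻¹ ≠ z → cj g Q ⊓ C[z] ≤ H) → ∀ g, g * z * g⁻¹ ∈ Q → g * z * g⁻¹ ≠ z →
      ∃ ι, Em (aa w) Q H z ι := by
  obtain ⟨_, w, hw, hF⟩ := exists_w hK
  obtain ⟨B, _, Ω, _, π, pt, X, cU, cv, R, hB, μ⟩ := bn hw hK hF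
  have := (Agent.S1070.result (K := K) Nat.prime_two.isPrimePow hK).1
  exact ⟨‹_›, w, B, _, Ω, _, π, pt, X, X.hC hB μ, cU, X.top hB μ, fun h c hH _ s k hA _ h1 h2 => X.em cv hB μ h c hH s k hA h1 h2⟩

theorem odd_idx {Q : Subgroup G} {z : G} (h : LE Q z) : ¬ 2 ∣ C[z].index := fun e =>
  let ⟨T, t⟩ := exists_syl 2 C[z]
  (h.syl_top t).not_dvd Nat.prime_two ((relIndex_top_right T).symm ▸ e.trans (index_dvd_of_le t.le))

theorem cardE (K : Type v) [Field K] [Fintype K] (hK : Fintype.card K = 4) :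
    Nat.card (twistedE6 K 2) = 76532479683774853939200 := by
  have := Agent.S1066.result (K := K) Nat.prime_two.isPrimePow hK
  rw [show Nat.gcd 3 (2 + 1) = 3 from rfl] at this
  omega

theorem setup {z : G} (hz : orderOf z = 2) (hF : generalizedFittingSubgroup C[z] = pCore 2 C[z])
    (hex : IsExtraspecial 2 (pCore 2 C[z])) (hc : #(pCore 2 C[z]) = 2 ^ 21) :
    LE ((pCore 2 C[z]).map C[z].subtype) z ∧ #((pCore 2 C[z]).map C[z].subtype) = 2 ^ 21 :=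
  ⟨LE_of_gf hz ((exists_ES hex).choose_spec.map _ fun x _ hx => Subtype.ext hx).extraspecial (by rw [hF]),
    (card_map_of_injective (subtype_injective _)).trans hc⟩

end H18.TE
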