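import Cfsg.Agent.H18.TE12
import Cfsg.Agent.H18.TEg.V
import Cfsg.Agent.H9.Thompson
import Cfsg.Agent.S0815

/-! Large elementary abelian groups of automorphisms of `U₆(2)` are inner. -/

set_option autoImplicit false
set_option linter.unusedSectionVars false

open Cfsg Subgroup
namespace H18.TE
open H19 H16 H0 H0.PM H0.Am H0.Co H0.TR H0.Fi

theorem chi {B X : Type*} [Group B] [Group X] (L : Subgroup B) [L.Normal] (e : L ≃* X)
    (hc : ∀ x, (∀ y ∈ L, x * y = y * x) → x = 1) : ∃ χ : B →* MulAut X, Function.Injective χ ∧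
      ∀ x, χ x ∈ (MulAut.conj (G := X)).range ↔ x ∈ L := by
  let χ := (MulAut.congr e).toMonoidHom.comp (MulAut.conjNormal (H := L))
  have i : Function.Injective χ := (MulAut.congr e).injective.comp ((injective_iff_map_eq_one _).2 fun x h =>
    hc x fun y hy => mul_inv_eq_iff_eq_mul.1 (congrArg Subtype.val (DFunLike.congr_fun h ⟨y, hy⟩) :))
  have k : ∀ x : L, χ x = MulAut.conj (e x) := fun x => MulEquiv.ext fun y => by
    obtain ⟨y, rfl⟩ := e.surjective y
    simp only [χ, MulAut.conj_apply, ← map_inv, ← map_mul]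
    exact (congrArg (fun t => e (MulAut.conjNormal (H := L) x.1 t)) (e.symm_apply_apply y) :)
  exact ⟨χ, i, fun x => ⟨fun ⟨y, h⟩ => i (h.symm.trans (e.apply_symm_apply y ▸ (k _).symm)) ▸ (e.symm y).2,
    fun h => ⟨_, (k ⟨x, h⟩).symm⟩⟩⟩

theorem cardAut : Nat.card (MulAut L6) = 6 * 9196830720 := by
  obtain ⟨e⟩ := psu6 (K := H11.F4) rfl
  have : Fact (Nat.Prime 2) := ⟨Nat.prime_two⟩
  rw [← Nat.card_congr (MulAut.congr e).toEquiv, Agent.S0815.result 2 1 le_rfl (q := 2) rfl rfl 6 (by decide) (by decide),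
    Nat.card_congr e.toEquiv, U62.card]
  rfl

theorem cenL (x : Equiv.Perm (Fin 672)) (h : ∀ k < 10, x * U62.g k = U62.g k * x) : x = 1 := by
  have c : gen U62.g 10 ≤ C[x] := gen_le.2 fun k hk => mem_cent1.2 (h k hk).symm
  have f : x • ptF 672 0 = ptF 672 0 := by
    generalize e : x • ptF 672 0 = j
    have : ∀ k < 9, U62.P k j = j := fun k hk => ptF_inj 672 _ (U62.act k (by omega) j j.2).1 _ j.2 (by
      have a := (U62.act k (by omega) 0 (by omega)).2
      rw [allZ_sound0 V.fx.2 k hk] at a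
      rw [← (U62.act k (by omega) j j.2).2, ptF_coe, ← e, ← mul_smul, ← h k (by omega), mul_smul, a])
    have q := allZ_sound0 V.fx.1 j j.2
    have l : ∀ n ≤ 9, loop1 (fun k => Nat.xor (U62.P k j) j) 0 n = 0 := fun n hn => by
      induction n with
      | zero => rfl
      | succ n ih => exact Nat.add_eq_zero_iff.2 ⟨by simp [this n hn], ih (by omega)⟩
    simp only [ifz_eq, l 9 le_rfl, if_true] at q
    exact Fin.ext (by_contra fun n => by simp [show j.1 ≠ 0 from n] at q)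
  refine perm_faithful x fun i hi => ?_
  obtain ⟨t, ht, e, -⟩ := U62.maxCert_of' U62.act U62.isBase i hi
  rw [← e, ← mul_smul, ← mem_cent1.1 (c ht), mul_smul, f]

theorem exT' {G Ω : Type*} [Group G] [MulAction G Ω] {g : ℕ → G} {pt : ℕ → Ω} {c : ℕ} (M : Md g pt V.P 672 11 V.B c)
    {ι : G →* Equiv.Perm (Fin 672)} (hι : Function.Injective ι) (e : ∀ k < 10, ι (g k) = U62.g k) :
    ∃ T J : Subgroup (MulAut L6), #T = 2 ^ 16 ∧ thompsonSubgroupOf 2 T = J ∧ #J = 2 ^ 9 ∧
      J ≤ (MulAut.conj (G := L6)).range := by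
  have := M.fin
  have : (gen g 10).Normal := normalizer_eq_top_iff.1 (top_le_iff.1 (M.top.ge.trans (gen_le.2 fun k hk =>
    (Nat.lt_succ_iff_lt_or_eq.1 hk).elim (fun h => le_normalizer (mem_gen g h)) fun h => by rw [h]; exact V.nm M)))
  have m : (gen g 10).map ι = gen U62.g 10 := (map_gen _ g 10).trans (le_antisymm
    (gen_le.2 fun k hk => (e k hk).symm ▸ mem_gen U62.g hk) (gen_le.2 fun k hk => e k hk ▸ mem_gen (fun k => ι (g k)) hk))
  obtain ⟨χ, i, k⟩ := chi (gen g 10) ((equivMapOfInjective _ _ hι).trans (MulEquiv.subgroupCongr m))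
    fun x h => hι ((cenL _ fun k hk => by rw [← e k hk, ← map_mul, h _ (mem_gen g hk), map_mul]).trans ι.map_one.symm)
  refine ⟨_, (gen (wds g V.t_W) 9).map χ, (card_map_of_injective i).trans (V.tp M).2, ?_,
    (card_map_of_injective i).trans (card_gen (V.tp M).1 (V.tp M).2 (by decide)),
    map_le_iff_le_comap.2 (gen_le.2 fun j hj => (k _).2 (evA_mem_gen g (ltAll_zero (allZ_sound0 V.t9 j hj))))⟩
  rw [← V.th M, H9.thompsonSubgroupOf_eq, H9.thompsonSubgroupOf_eq, H9.map_JJ i]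

theorem exT : ∃ T J : Subgroup (MulAut L6), #T = 2 ^ 16 ∧ thompsonSubgroupOf 2 T = J ∧ #J = 2 ^ 9 ∧
    J ≤ (MulAut.conj (G := L6)).range := by
  obtain ⟨_, g, M, e⟩ := exists_md (act_permGen V.pe) (ptF_inj 672) rfl (B := V.B)
    (fun a _ h => perm_faithful a fun i hi => h i (List.mem_range.2 hi)) ⟨by decide +kernel, Nat.card_pos.ne'⟩ (MulEquiv.refl _)
  exact exT' M (subtype_injective _) fun k hk => (e k (by omega)).trans (by
    rw [permGen, V.P, show Nat.beq k 10 = false from Bool.eq_false_iff.2 fun h => hk.ne (Nat.eq_of_beq_eq_true h),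
      cond_false, U62.g, permGen])

theorem autE {B : Type*} [Group B] [Finite B] (L : Subgroup B) [L.Normal] (e : L ≃* L6)
    (hc : ∀ x, (∀ y ∈ L, x * y = y * x) → x = 1) {E : Subgroup B} (hE : ∀ x ∈ E, x * x = 1) (c : 2 ^ 9 ≤ #E) : E ≤ L := by
  obtain ⟨χ, i, k⟩ := chi L e hc
  obtain ⟨T, J, h1, h2, h3, h4⟩ := exT
  obtain ⟨g, q⟩ := ea_conj h1 (by rw [cardAut]; decide) h2 (E := E.map χ) (by
    rintro _ ⟨x, hx, rfl⟩; rw [← map_mul, hE x hx, map_one]) (by rwa [h3, card_map_of_injective i])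
  intro x hx
  obtain ⟨y, p⟩ := h4 (q.le (mem_cj'.2 ⟨_, mem_map_of_mem χ hx, rfl⟩))
  refine (k x).1 ⟨g.symm y, MulEquiv.ext fun t => ?_⟩
  simpa using congrArg g.symm (DFunLike.congr_fun p (g t))

end H18.TE
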