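import Cfsg.Agent.H18.TE13
import Cfsg.Agent.H18.TEg.W

/-! The third centre of the Sylow subgroup. -/

set_option autoImplicit false
set_option linter.unusedSectionVars false

open Cfsg Subgroup
namespace H18.TE
open H19 H16 H0 H0.PM H0.Am H0.Co H0.TR H0.Fi D
open scoped commutatorElement

universe u v w
variable {A : Type v} {B : Type u} {Ω : Type w} [Group A] [Group B] [MulAction B Ω] [Finite A]

/-- the preimage -/
def PH.pre {C K : Subgroup A} {π : A → B} (h : PH C K π) (L : Subgroup B) : Subgroup A := (L.comap h.hom).map C.subtype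

theorem PH.mem_pre {C K : Subgroup A} {π : A → B} (h : PH C K π) {L : Subgroup B} {x : A} :
    x ∈ h.pre L ↔ x ∈ C ∧ π x ∈ L :=
  ⟨by rintro ⟨y, hy, rfl⟩; exact ⟨y.2, hy⟩, fun ⟨p, q⟩ => ⟨⟨x, p⟩, q, rfl⟩⟩

theorem cc {G : Type*} [Group G] (g h x : G) : g * h * x * (g * h)⁻¹ = g * (h * x * h⁻¹) * g⁻¹ := by group

theorem cw_mem {g : ℕ → A} {n : ℕ} (h : ∀ k < n, g k = (g k)⁻¹) {U V : List ℕ} (hU : ∀ k ∈ U, k < n)
    (hV : ∀ k ∈ V, k < n) : evA g (U ++ V ++ U.reverse ++ V.reverse) ∈ ⁅gen g n, gen g n⁆ := by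
  have a := evA_inv (iv := id) fun k hk => h k (hU k hk)
  have b := evA_inv (iv := id) fun k hk => h k (hV k hk)
  rw [List.map_id] at a b
  convert commutator_mem_commutator (inv_mem (evA_mem_gen g hV)) (inv_mem (evA_mem_gen g hU)) using 1
  simp only [evA_append, a, b, commutatorElement_def, inv_inv, mul_assoc]

/-- the third centre -/
noncomputable abbrev V3 (a : ℕ → A) : Subgroup A := gen (rl σq a) 3

namespace AX
variable {a : ℕ → A} {π : A → B} {pt : ℕ → Ω} (X : AX a π pt)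
include X

theorem V3Q : V3 a ≤ Q0 a := gen_mono _ (by decide)
theorem pz : π (a 53) = 1 := (X.ph.ker _ X.cz).2 (mem_zpowers _)

theorem v3c : V3 a ≤ C(V3 a) := gen_le.2 fun i hi => le_cent1_iff.1 (gen_le.2 fun j hj => mem_cent1.2 (by
  have p := mem_cent1.1 (X.cz (k := 10))
  have q := mem_cent1.1 (X.cz (k := 11))
  have r := mem_cent1.1 (X.cs (k := 11))
  interval_cases i <;> interval_cases j
  exacts [rfl, p, q, p.symm, rfl, r, q.symm, r.symm, rfl]))

variable (hC : C[a 53] ≤ gen a 10 ⊔ Q0 a)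
include hC

theorem r6 : π (a 38) * π (a 11) * (π (a 38))⁻¹ = π (a 10) * π (a 11) :=
  mul_inv_eq_iff_eq_mul.2 (by simpa [mul_assoc] using M.r6 (X.md hC))

theorem v3a {w : A} (hw : w ∈ ⁅U0 a, U0 a⁆) {k : ℕ} (hk : k = 10 ∨ k = 11) : ⁅a k, w⁆ ∈ zpowers (a 53) := by
  have N := X.md hC
  have := N.fin
  have c : ∀ j < 7, rl σu a j ∈ C[a 53] := fun j hj => X.UC (mem_gen _ hj)
  have m0 := mem_gen (rl [10, 11] fun k => π (a k)) (by decide : 0 < 2)
  have m1 := mem_gen (rl [10, 11] fun k => π (a k)) (by decide : 1 < 2)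
  have s : ∀ {k}, k < 65 ∧ 10 ≤ k ∧ k ≠ 29 ∧ k ≠ 54 ∧ k ≠ 58 → π (a k) * π (a 10) = π (a 10) * π (a k) :=
    fun h => X.ph.cm (X.cz h.1) X.cz (mem_cent1.1 (X.cs h))
  have u : ∀ k ∈ [29, 41, 42, 43, 44], π (a 10) * π (a k) = π (a k) * π (a 10) →
      π (a k) ∈ C(gen (rl [10, 11] fun k => π (a k)) 2) := fun k hk e => le_cent1_iff.1 (gen_le.2 fun j hj => by
    interval_cases j
    exacts [mem_cent1.2 e, mem_cent1.2 (show π (a 11) * _ = _ * π (a 11) by simpa using (N.eq_of N.act (M.r5_k k hk)).symm)])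
  have k1 : ∀ j < 7, j ≠ 1 → π (rl σu a j) ∈ C(gen (rl [10, 11] fun k => π (a k)) 2) := fun j hj h => by
    interval_cases j
    exacts [u 29 (by decide) (X.cq (mq a) (mq a)), (h rfl).elim, u 41 (by decide) (s (by decide)).symm,
      u 42 (by decide) (s (by decide)).symm, u 43 (by decide) (s (by decide)).symm, u 44 (by decide) (s (by decide)).symm,
      show π (a 53) ∈ _ from X.pz ▸ one_mem _]
  have n : ∀ j < 7, π (rl σu a j) ∈ N(C(gen (rl [10, 11] fun k => π (a k)) 2)) := fun j hj => by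
    obtain rfl | h := eq_or_ne j 1
    · refine norm_le_norm_cent _ (mem_norm_gen fun i hi => ?_)
      interval_cases i
      exacts [Set.mem_of_eq_of_mem (mul_inv_eq_iff_eq_mul.2 (s (k := 38) (by decide))) m0,
        Set.mem_of_eq_of_mem (X.r6 hC) (mul_mem m0 m1)]
    · exact le_normalizer (k1 j hj h)
  have g : ∀ x ∈ U0 a, π x ∈ gen (fun j => π (rl σu a j)) 7 := fun x hx => (X.ph.mem_pre.1 (gen_le.2 (fun j hj =>
    X.ph.mem_pre.2 ⟨c j hj, mem_gen (fun j => π (rl σu a j)) hj⟩) hx)).2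
  obtain ⟨p, q⟩ := (X.ph.mem_pre (L := C(gen (rl [10, 11] fun k => π (a k)) 2))).1 (commutator_le.2 (fun x hx y hy =>
    X.ph.mem_pre.2 ⟨comm_mem_left (le_normalizer (X.UC hy)) (X.UC hx), Set.mem_of_eq_of_mem
      (map_commutatorElement X.ph.hom ⟨x, X.UC hx⟩ ⟨y, X.UC hy⟩) (comm_gen (gen_le.2 n) (fun i hi j hj => by
        obtain rfl | h := eq_or_ne i 1
        · obtain rfl | h := eq_or_ne j 1
          exacts [by simp, comm_mem_right (n _ hi) (k1 j hj h)]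
        · exact comm_mem_left (n j hj) (k1 i hi h)) _ (g x hx) _ (g y hy))⟩) hw)
  rcases hk with rfl | rfl
  exacts [(X.ph.comm X.cz p).1 (q _ m0), (X.ph.comm X.cz p).1 (q _ m1)]

theorem v3b {q : A} (hq : q ∈ C[a 53]) (h : ∀ w ∈ ⁅U0 a, U0 a⁆, ⁅q, w⁆ ∈ zpowers (a 53)) : q ∈ V3 a := by
  have N := X.md hC
  have i : ∀ k < 7, rl σu a k = (rl σu a k)⁻¹ := fun k hk =>
    (X.iv (k := nth 0 σu k) (by revert k; decide +kernel)).symm
  have m : ∀ k < 3, evA a (nth [] M.x5_W k) ∈ ⁅U0 a, U0 a⁆ := fun k hk => by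
    have := fun U V p q => evA_rl a σu _ ▸ cw_mem i (U := U) (V := V) p q
    interval_cases k
    exacts [this [0, 5, 3] [2, 1, 2] (by decide) (by decide), this [2, 1, 3] [3, 5, 1] (by decide) (by decide),
      this [0, 1, 5] [3, 5] (by decide) (by decide)]
  refine X.ph.of_im (zpowers_le.2 (mem_gen (rl σq a) (by decide : 0 < 3))) hq (X.ph.gen_le_im (σ := [10, 11]) rfl
    (X.V3Q.trans X.QC) (fun k hk => ?_) (Am.cen_le (M.c5_eq N) (M.g5 N) fun k hk => ?_))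
  · simp only [List.mem_cons, List.not_mem_nil, or_false] at hk
    rcases hk with rfl | rfl
    exacts [mem_gen (rl σq a) (by decide : 1 < 3), mem_gen (rl σq a) (by decide : 2 < 3)]
  · rw [wds, ← X.ph.ev fun j hj => X.cz ((nth_lt M.x5_lt k j hj).trans (by decide))]
    exact (X.ph.comm hq (X.UC (commutator_le.2 (fun _ p _ q => comm_mem_left (le_normalizer q) p) (m k hk)))).2 (h _ (m k hk))

theorem v3d {q : A} (hq : q ∈ V3 a) : q ∈ zpowers (a 53) ∨ ∃ h ∈ C[a 53], h * a 10 * h⁻¹ = q := by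
  have c := X.QC (X.V3Q hq)
  have k : ∀ h ∈ C[a 53], π (h * a 10 * h⁻¹) = π q → ∃ h ∈ C[a 53], h * a 10 * h⁻¹ = q := fun h hh e => by
    rcases X.zp.1 ((X.ph.eq (mul_mem (mul_mem hh X.cz) (inv_mem hh)) c).1 e) with p | p
    · exact ⟨h, hh, inv_mul_eq_one.1 p⟩
    · refine ⟨h * a 29, mul_mem hh X.cz, ?_⟩
      rw [cc, X.ts, inv_mul_eq_iff_eq_mul.1 p, ← mem_cent1.1 X.cz, mul_assoc _ h⁻¹, mem_cent1.1 (inv_mem hh)]
      group
  have u := mul_inv_eq_iff_eq_mul.2 X.eqs.2.2.2.2.2.2.2.1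
  rcases (mem_four X.sqp X.sqp (X.cq (mq a) (mq a))).1 ((X.ph.mem_pre (L := zpowers (π (a 10)) ⊔
    zpowers (π (a 11)))).1 (gen_le.2 (fun j hj => X.ph.mem_pre.2 ⟨X.QC (X.V3Q (mem_gen _ hj)), by
      interval_cases j
      exacts [show π (a 53) ∈ _ from X.pz ▸ one_mem _, mem_sup_left (mem_zpowers _), mem_sup_right (mem_zpowers _)]⟩)
      hq)).2 with p | p | p | p
  exacts [.inl ((X.ph.ker _ c).1 p), .inr (k 1 (one_mem _) (by simp [p])), .inr (k _ (X.cz (k := 54)) (by rw [u, p])),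
    .inr (k _ (mul_mem (X.cz (k := 38)) (X.cz (k := 54))) (by rw [cc, u, X.ph.cjg X.cz X.cz, X.r6 hC, p]))]

theorem v3n : a 10 ∉ zpowers (a 53) ∧ a 11 ∉ zpowers (a 53) ∧ a 10 * a 11 ∉ zpowers (a 53) :=
  ⟨fun h => X.s1 hC ((X.ph.ker _ X.cz).2 h), fun h => X.n4 hC (by simp [(X.ph.ker _ X.cz).2 h]),
    fun h => M.n2 (X.md hC) (by simpa using ((X.ph.eq X.cz X.cz).2 (by rwa [X.iv])).symm)⟩

end AX
end H18.TE
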