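import Cfsg.Agent.H18.TE14

/-! The extension of `²E₆(2)` of degree two. -/

set_option autoImplicit false
set_option linter.unusedSectionVars false

open Cfsg Subgroup
namespace H18.TE
open H19 H16 H0 H0.PM H0.Am H0.Co H0.TR H0.Fi D
open scoped commutatorElement

universe u v w x
variable {A : Type v} {B : Type x} {Ω : Type w} {G : Type u} [Group A] [Group B] [MulAction B Ω] [Finite A] [Group G]
  [Finite G]

/-- an involution acting on a group of order eight -/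
theorem fix8 {V : Subgroup G} (ab : V ≤ C(V)) {v z s u : G} (vv : v * v = 1) (zz : z * z = 1)
    (hz : z ∈ V) (hs : s ∈ V) (hu : u ∈ V) (ss : s * s = 1) (uu : u * u = 1) (h1 : v * s * v⁻¹ ∈ V) (h2 : v * u * v⁻¹ ∈ V)
    (n1 : s ∉ zpowers z) (n2 : u ∉ zpowers z) (n3 : s * u ∉ zpowers z) : ∃ y ∈ V, y ∉ zpowers z ∧ v * y * v⁻¹ = y := by
  by_contra! n
  have k : ∀ y ∈ V, y * y = 1 → v * y * v⁻¹ ∈ V → y ∉ zpowers z → v * y * v⁻¹ = y * z := fun y a b c d => by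
    have i := inv_eq_of_mul_eq_one_right b
    rcases (mem_zpowers_inv zz).1 (by_contra fun p => n _ (mul_mem a c) p (by
      rw [← conj_mul, ← cc, vv]; simpa using ab a _ c)) with p | p
    exacts [(n y a d (by rw [← inv_eq_of_mul_eq_one_right p, i])).elim, by rw [← p, ← mul_assoc, b, one_mul]]
  exact n _ (mul_mem hs hu) n3 (by
    rw [← conj_mul, k s hs ss h1 n1, k u hu uu h2 n2, mul_assoc, ← mul_assoc z, ab hu z hz, mul_assoc, zz, mul_one])

/-- the situation after the embedding -/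
structure Ex (a : ℕ → A) (π : A → B) (pt : ℕ → Ω) (Q H : Subgroup G) (z : G) (ι : A →* G) : Prop extends Em a Q H z ι where
  X : AX a π pt
  hC : C[a 53] ≤ gen a 10 ⊔ Q0 a
  cU : #(U0 a) = 2 ^ 36
  top : C[a 53] ⊔ zpowers (a 66) = ⊤
  le : LE Q z
  eH : C[a 53].map ι = H
  i2 : H.relIndex C[z] = 2

namespace Ex
variable {a : ℕ → A} {π : A → B} {pt : ℕ → Ω} {Q H : Subgroup G} {z : G} {ι : A →* G} (E : Ex a π pt Q H z ι)
include E

theorem cz {x : A} : ι x ∈ C[z] ↔ x ∈ C[a 53] := by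
  rw [mem_cent1, mem_cent1, ← E.hz, ← map_mul, ← map_mul, E.inj.eq_iff]
theorem HC : H ≤ C[z] := E.eH ▸ map_le_iff_le_comap.2 fun _ => E.cz.2
theorem FC : ι.range ⊓ C[z] = H := (le_inf E.hH E.HC).antisymm' (by
  rintro _ ⟨⟨x, rfl⟩, p⟩; exact E.eH ▸ mem_map_of_mem ι (E.cz.1 p))
theorem nH : C[z] ≤ N(H) := (normal_subgroupOf_iff_le_normalizer E.HC).1 (normal_of_index_eq_two E.i2)
theorem zp {x : A} : ι x ∈ zpowers z ↔ x ∈ zpowers (a 53) := by
  rw [← E.hz, ← MonoidHom.map_zpowers, mem_map_iff_mem E.inj]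

theorem syl : Syl 2 ((U0 a).map ι) H := by
  have c := (card_map_of_injective E.inj).trans E.cU
  have l : (U0 a).map ι ≤ H := E.eH ▸ map_mono E.X.UC
  refine syl_mk l (show PiN _ _ from c ▸ .prime_pow Nat.prime_two _) fun ⟨m, e⟩ => ?_
  obtain ⟨_, _, f, N, -, p, -⟩ := E.X.exf E.hC
  have := card_mul_relIndex l
  rw [c, e, ← E.eH, card_map_of_injective E.inj, ← p.card, N.card, E.X.cQ E.hC] at this
  omega

theorem key {c : G} (h1 : c ∈ C[z]) (h2 : c ∈ N((U0 a).map ι)) {k : ℕ} (hk : k = 10 ∨ k = 11) :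
    ∃ q ∈ V3 a, ι q = c * ι (a k) * c⁻¹ := by
  obtain ⟨q, p, e⟩ := E.hQ.ge (nrm_conj (E.le.norm h1) (E.hQ.le (mem_map_of_mem ι (mq a (k := k) (by omega)))))
  refine ⟨q, E.X.v3b E.hC (E.X.QC p) fun w hw => E.zp.1 ?_, e⟩
  obtain ⟨y, r, f⟩ := (map_commutator _ _ ι).ge (conj_mem_of_norm' (norms_der (zpowers_le.2 h2) (mem_zpowers c))
    ((map_commutator _ _ ι).le (mem_map_of_mem ι hw)))
  convert nrm_conj (cent_le_norm _ (cent_zpowers z ▸ h1)) (E.zp.2 (E.X.v3a E.hC r hk)) using 1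
  rw [map_commutatorElement, map_commutatorElement, e, f, commutatorElement_def, commutatorElement_def]; group

theorem ns : ι (a 66) * z * (ι (a 66))⁻¹ = ι (a 10) := by
  rw [← E.hz, ← map_inv, ← map_mul, ← map_mul, mul_inv_eq_iff_eq_mul.2 E.X.eqs.1]

theorem FE : ι.range = H ⊔ cj (ι (a 66)) Q := by
  have q : Q ≤ H := E.hQ ▸ E.eH ▸ map_mono E.X.QC
  refine le_antisymm ?_ (sup_le E.hH (cj_le_iff.2 ((q.trans E.hH).trans (cj_of_mem (inv_mem (MonoidHom.mem_range.2 ⟨_, rfl⟩))).ge)))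
  rw [MonoidHom.range_eq_map, ← E.top, Subgroup.map_sup, E.eH, MonoidHom.map_zpowers]
  have t := E.hQ.le (mem_map_of_mem ι (mq a (k := 29)))
  refine sup_le le_sup_left (zpowers_le.2 (Set.mem_of_eq_of_mem ?_ (mul_mem (mul_mem (mem_sup_left (q t))
    (mem_sup_right (mem_cj'.2 ⟨_, t, rfl⟩))) (mem_sup_left (q t)))))
  simp only [← map_inv, ← map_mul, E.X.iv (k := 66)]
  exact congrArg ι ((eq_inv_of_mul_eq_one_right (by
    rw [← E.X.eqs.2.1]; simp only [pow_three', mul_assoc])).trans E.X.iv).symm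

theorem nF : C[z] ≤ N(ι.range) := fun c hc => by
  obtain ⟨h, p, e⟩ := (cj_of_mem_norm (E.nH hc) ▸ E.syl.J c).sconj E.syl
  have d := mul_mem (E.HC p) hc
  obtain ⟨q, q1, q2⟩ := E.key d (mem_norm_iff_cj.2 ((cj_mul _ _ _).trans e)) (.inl rfl)
  obtain r | ⟨r, r1, rfl⟩ := E.X.v3d E.hC q1
  · refine ((E.X.v3n E.hC).1 (E.zp.1 ?_)).elim
    convert conj_mem_of_norm' (cent_le_norm _ (cent_zpowers z ▸ d)) (E.zp.2 r) using 1
    rw [q2]; group
  have k : (ι r)⁻¹ * (h * c) ∈ N(ι.range) := by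
    rw [E.FE]
    refine norms_sup (inf_le_left.trans E.nH) (inf_le_right.trans (E.le.J _).norm)
      (mem_inf.2 ⟨mul_mem (inv_mem (E.cz.2 r1)) d, mem_cent1.2 ?_⟩)
    rw [E.ns, mul_assoc, mul_inv_eq_iff_eq_mul.1 q2.symm, map_mul, map_mul, map_inv]; group
  simpa using mul_mem (le_normalizer (inv_mem (E.hH p))) (mul_mem (le_normalizer (⟨r, rfl⟩ : ι r ∈ ι.range)) k)

theorem cls {g : G} (h : g * z * g⁻¹ ∈ ι.range) : ∃ b, (ι b)⁻¹ * g ∈ C[z] := by
  obtain ⟨x, e⟩ := h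
  obtain ⟨b, rfl⟩ := isConj_iff.1 (E.nf x (isConj_iff.2 ⟨g, e.symm⟩))
  refine ⟨b, mem_cent1.2 ?_⟩
  rw [mul_assoc, mul_inv_eq_iff_eq_mul.1 e.symm, map_mul, map_mul, map_inv, E.hz]; group

theorem clN {g : G} (h : g * z * g⁻¹ ∈ ι.range) : g ∈ N(ι.range) :=
  let ⟨b, p⟩ := E.cls h
  (mul_mem_cancel_left (le_normalizer (inv_mem (⟨b, rfl⟩ : ι b ∈ ι.range)))).1 (E.nF p)

theorem excl {g : G} (h1 : g * z * g⁻¹ ∈ C[z]) (h2 : g * z * g⁻¹ ∈ N((U0 a).map ι)) : g * z * g⁻¹ ∈ ι.range := by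
  by_contra n
  have zF : z ∈ ι.range := ⟨_, E.hz⟩
  have k : ∀ k, k * z * k⁻¹ ∈ ι.range → g⁻¹ * (k * z * k⁻¹) * g ∉ H := fun k p q =>
    n (nrm_conj (by simpa using mul_mem (E.clN p) (inv_mem (E.clN (g := g⁻¹ * k) (by
      simpa [mul_assoc] using E.hH q)))) zF)
  have l : ∀ y ∈ V3 a, y ∉ zpowers (a 53) → g⁻¹ * ι y * g ∉ H := fun y p q => by
    obtain ⟨r, -, rfl⟩ := (E.X.v3d E.hC p).resolve_left q
    have := k (ι r * ι (a 66))
    rw [cc, E.ns, ← map_inv, ← map_mul, ← map_mul] at this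
    exact this ⟨_, rfl⟩
  have m := fun k (hk : k < 3) => mem_map_of_mem ι (mem_gen (rl σq a) hk)
  have sq : ∀ {k}, 10 ≤ k ∧ k < 45 → ι (a k) * ι (a k) = 1 := fun h => by rw [← map_mul, E.X.sq (.inl h), map_one]
  obtain ⟨_, ⟨y, y1, rfl⟩, y2, y3⟩ := fix8 (V := (V3 a).map ι) (map_le_iff_le_comap.2 fun x hx => by
      rintro _ ⟨y, hy, rfl⟩; rw [← map_mul, E.X.v3c hx y hy, map_mul])
    (by rw [conj_mul, E.le.es.zz]; simp) E.le.es.zz (E.hz ▸ m 0 (by decide)) (m 1 (by decide))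
    (m 2 (by decide)) (sq (by decide)) (sq (by decide)) (E.key h1 h2 (.inl rfl)) (E.key h1 h2 (.inr rfl))
    (mt E.zp.1 (E.X.v3n E.hC).1) (mt E.zp.1 (E.X.v3n E.hC).2.1) (map_mul ι _ _ ▸ mt E.zp.1 (E.X.v3n E.hC).2.2)
  have c : ∀ x, g * z * g⁻¹ * x = x * (g * z * g⁻¹) → g⁻¹ * x * g ∈ C[z] := fun x e =>
    mem_cj.1 (cj_cent1 g z ▸ mem_cent1.2 e.symm)
  have := (mul_mem_iff_of_index_two E.i2 (a := ⟨_, c _ (mul_inv_eq_iff_eq_mul.1 y3)⟩) (b := ⟨_, c z (mem_cent1.1 h1)⟩)).2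
    (iff_of_false (l y y1 (mt E.zp.2 y2)) (by simpa [mem_subgroupOf] using k 1 (by simpa using zF)))
  exact l _ (mul_mem y1 (mem_gen (rl σq a) (by decide : 0 < 3))) (fun p => y2 (E.zp.2
    ((mul_mem_cancel_right (mem_zpowers _)).1 p))) (by
      simpa [mem_subgroupOf, mul_assoc, show ι (rl σq a 0) = z from E.hz] using this)

theorem main [IsSimpleGroup A] (hn : ¬ IsMulCommutative A) (na : 1 < Nat.card A ∧ ∀ n : ℕ, 2 * Nat.card A ≠ n.factorial) :
    generalizedFittingSubgroup G = ι.range ∧ ι.range.index = 2 := by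
  let e := MonoidHom.ofInjective E.inj
  have s : H17.GS.Sim ι.range := ⟨e.symm.isSimpleGroup, fun h => hn ⟨⟨fun a b => e.injective (by
    rw [map_mul, map_mul, h.1.1])⟩⟩⟩
  have cF : C(ι.range) ≤ ι.range := (cent_mono (E.hQ ▸ map_le_range _ _)).trans (E.le.cent.trans (E.hQ ▸ map_le_range _ _))
  have cm : H17.GS.Comp ι.range N(ι.range) := ⟨H1.SubnIn.of_le_normalizer le_normalizer le_rfl, s.qs⟩
  obtain ⟨T, t, l⟩ := E.syl.pi.exists_syl (E.syl.le.trans E.HC)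
  have tN : T ≤ N((U0 a).map ι) := E.syl.max (le_inf l E.syl.le) inf_le_right (t.pi.infl _) ▸
    norms_inf le_normalizer (t.le.trans E.nH)
  have tP := (E.le.syl_top t).of_le (t.le.trans E.nF) le_top
  have zT := E.le.le_syl t E.le.es.zQ
  have q := H17.HT.holt_gf ((Oc_top_p' Nat.prime_two).trans E.hO) le_top (le_antisymm (le_sup_of_le_left cm.le_Lay)
    (sup_le (H17.GS.Lay_le_iff.2 fun J hJ => (eq_or_ne J _).elim le_of_eq fun n => (hJ.cents cm n).trans cF)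
      ((cents_symm cm.cents_Fit).trans cF))) s (fun n ⟨e'⟩ => by
    rw [Nat.card_congr (e.trans e').toEquiv] at na
    rcases subsingleton_or_nontrivial (Fin n) with _ | _
    · exact na.1.ne' Nat.card_unique
    · exact na.2 n (by rw [two_mul_nat_card_alternatingGroup, Nat.card_perm, Nat.card_fin])) tP ⟨zT, _, E.hz⟩ t.le
    E.le.es.zz (inf_le_right.trans E.nF) fun g _ h => by
      obtain ⟨p, p1, p2⟩ := tP.scj_le (zpowers_le.2 h) (pg_zpowers (by rw [conj_mul, E.le.es.zz]; simp))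
      have := p2 (mem_cj'.2 ⟨_, mem_zpowers _, rfl⟩)
      rw [← cc] at this
      obtain ⟨b, r⟩ := E.cls (g := g) (by
        simpa [mul_assoc] using conj_mem_of_norm' p1 (E.excl (t.le this) (tN this)))
      exact ⟨ι b, ⟨b, rfl⟩, by
        conv_lhs => rw [← mul_inv_eq_iff_eq_mul.2 (mem_cent1.1 r)]
        group⟩
  refine ⟨by rw [← H1.gfOf_top, H17.GS.gf_eq, q], ?_⟩
  have : ι.range ⊔ C[z] = ⊤ := eq_top_iff.2 fun g _ => by
    obtain ⟨b, r⟩ := E.cls (nrm_conj ((q ▸ norms_sup H17.GS.Lay_normal.norm (Fit_norm ⊤) : ⊤ ≤ N(ι.range)) (mem_top g)) ⟨_, E.hz⟩)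
    simpa using mul_mem_sup (MonoidHom.mem_range.2 ⟨b, rfl⟩ : ι b ∈ ι.range) r
  rw [← relIndex_top_right, ← this, relIndex_sup_of_norm E.nF, ← inf_relIndex_right, E.FC, E.i2]

end Ex

theorem Em.eH {a : ℕ → A} {π : A → B} {pt : ℕ → Ω} {Q H : Subgroup G} {z : G} {ι : A →* G} (E : Em a Q H z ι)
    (X : AX a π pt) (hC : C[a 53] ≤ gen a 10 ⊔ Q0 a) (c : #Q = 2 ^ 21) (hH : H ≤ C[z]) (l : Q ≤ H) {f : H →* L6}
    (s : Function.Surjective f) (k : ∀ x, f x = 1 ↔ x.1 ∈ Q) : C[a 53].map ι = H := by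
  obtain ⟨_, p, -⟩ := ph_of f s k l
  obtain ⟨_, _, _, -, -, q, -⟩ := X.exf hC
  refine (eq_of_le_of_card_ge (fun y hy => ?_) (by
    rw [card_map_of_injective E.inj, ← p.card, ← q.card, c, X.cQ hC])).symm
  obtain ⟨x, rfl⟩ := E.hH hy
  exact mem_map_of_mem ι (mem_cent1.2 (E.inj (by rw [map_mul, map_mul, E.hz]; exact mem_cent1.1 (hH hy))))

theorem le_two (L : Subgroup G) (i : L.index = 2) (e : L ≃* L6) (h : pCore 2 G = ⊥) {E : Subgroup G}
    (hE : ∀ x ∈ E, x * x = 1) (c : 2 ^ 9 ≤ #E) : E ≤ L := by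
  have := normal_of_index_eq_two i
  have k : ∀ x : L, x.1 ∈ C(L) → x = 1 := fun x p => e.injective ((Subtype.ext (cenL _ fun k hk => by
    obtain ⟨y, q⟩ := e.surjective ⟨_, mem_gen U62.g hk⟩
    have := congrArg (fun t => (e t).1) (show x * y = y * x from Subtype.ext (p y y.2).symm)
    simpa [q] using this)).trans e.map_one.symm)
  exact autE L e (fun x hx => mem_bot.1 (h ▸ H1.le_pCore normal_centralizer (fun x => ⟨1, Subtype.ext
    (congrArg Subtype.val (k ⟨_, sq_mem_of_index_two i x.1⟩ (pow_mem x.2 2)) :)⟩) fun y hy => (hx y hy).symm)) hE c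

theorem hA {z : G} (h : LE ((pCore 2 C[z]).map C[z].subtype) z) (c : #((pCore 2 C[z]).map C[z].subtype) = 2 ^ 21)
    {H : Subgroup C[z]} (i : H.index = 2) (l : pCore 2 C[z] ≤ H) [((pCore 2 C[z]).subgroupOf H).Normal]
    (e : H ⧸ (pCore 2 C[z]).subgroupOf H ≃* L6) (g : G) (h1 : g * z * g⁻¹ ∈ (pCore 2 C[z]).map C[z].subtype)
    (h2 : g * z * g⁻¹ ≠ z) : cj g ((pCore 2 C[z]).map C[z].subtype) ⊓ C[z] ≤ H.map C[z].subtype := by
  have L := h.lp h1 h2
  obtain ⟨π, p, q⟩ := ph_of (K := (pCore 2 C[z]).map C[z].subtype) (QuotientGroup.mk' (pCore 2 C[z]))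
    (QuotientGroup.mk'_surjective _) (fun x => (QuotientGroup.eq_one_iff x).trans
      (mem_map_iff_mem (subtype_injective _)).symm) h.es.le_cent
  let φ := (QuotientGroup.mk' (pCore 2 C[z])).comp H.subtype
  have r : φ.range = H.map (QuotientGroup.mk' _) := by rw [MonoidHom.range_comp, range_subtype]
  have c2 := p.card_im' le_sup_right (J_le L)
  have c3 := cardJ L c
  have := le_two φ.range (by rw [r, index_map_eq _ (QuotientGroup.mk'_surjective _) (by rwa [QuotientGroup.ker_mk']), i])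
    ((QuotientGroup.quotientKerEquivRange φ).symm.trans ((QuotientGroup.quotientMulEquivOfEq (by
      rw [← MonoidHom.comap_ker, QuotientGroup.ker_mk']; rfl)).trans e)) H1.pCore_quotient_pCore
    (E := p.im (cj g ((pCore 2 C[z]).map C[z].subtype) ⊓ C[z] ⊔ (pCore 2 C[z]).map C[z].subtype)) (fun x hx => by
      obtain ⟨x, a, b, rfl⟩ := p.mem_im.1 hx
      rw [← p.mul _ b _ b, p.ker _ (mul_mem b b)]; exact sqJ L a) (by rw [c] at c2; omega)
  intro x hx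
  obtain ⟨y, e⟩ := this (p.to_im (mem_sup_left hx) hx.2)
  exact (mul_mem_cancel_left (inv_mem (mem_map_of_mem _ y.2))).1 (map_mono l ((p.eq y.1.2 hx.2).1 ((q _).trans e)))

end H18.TE
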