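import Cfsg.Agent.H18.TE1

/-! Uniqueness of the `20`-dimensional module of `U₆(2)` over `𝔽₂`. -/

set_option autoImplicit false
set_option linter.unusedSectionVars false

namespace H18.TE
open Matrix H16
open H0.U (N N_app)
open H0.U.Dat (Cm)
attribute [local simp] smul_eq_zero_iff_eq

def pj : Fin 4 → Fin 10 → Fin 10 := ![![0, 4, 5, 6, 1, 2, 3, 7, 8, 9], ![0, 1, 2, 3, 7, 8, 9, 4, 5, 6],
  ![0, 1, 4, 7, 2, 5, 8, 3, 6, 9], ![7, 1, 6, 5, 4, 3, 2, 0, 8, 9]]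
def sg : Fin 10 → List ℕ := ![[], [7, 5, 4], [7, 5, 6], [7, 6], [7, 5], [7, 6, 7], [7, 6, 4], [7], [7, 6, 4, 6],
  [7, 6, 4, 5]]
def hw : Fin 4 → Fin 10 → List ℕ :=
  ![![[4], [], [4, 5, 6, 5, 4], [], [], [4, 5, 6, 5, 4], [], [4], [4], [6, 5, 6]],
    ![[5], [4], [6, 5, 6], [6, 5, 6], [], [5, 4, 6, 4, 5, 6], [], [], [4, 5, 6, 5, 4, 6], []],
    ![[6], [5, 4, 6, 4, 5], [], [], [], [6], [], [], [], [5, 4, 6, 4, 5]],
    ![[], [5], [4, 5, 6, 5, 4], [], [5], [], [4, 5, 6, 5, 4], [], [6, 4, 6], [4, 5, 4]]]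
def sF : Fin 10 → List (Fin 4) := ![[], [3, 1, 0], [3, 1, 2], [3, 2], [3, 1], [3, 2, 3], [3, 2, 0], [3], [3, 2, 0, 2],
  [3, 2, 0, 1]]
def Uw (k i : Fin 4) : List (Fin 4) := (List.finRange 4).flatMap fun j => List.replicate (MM k i j).val j
def xv (j : Fin 10) : E4 := if j = 0 then Pi.single 3 1 else Pi.single 2 1
def hl : Fin 5 → List ℕ := ![[0], [1], [2], [4, 5], [6, 4, 5, 6]]
def gw : Fin 5 → List ℕ := ![[0], [6, 4, 5, 6], [2], [4, 5], [1, 1]]

/-- the relations -/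
structure Dt {G : Type*} [Group G] (x : ℕ → G) : Prop where
  cm : ∀ i j : Fin 4, evA x [i, j] = evA x [j, i]
  cb : ∀ i : Fin 4, evA x [i, i, i] = evA x []
  hu : ∀ k i : Fin 4, evA x [k + 4, i] = evA x ((Uw k i).map Fin.val ++ [k.val + 4])
  uu : ∀ k : Fin 4, evA x [k + 4, k + 4] = evA x []
  rl : ∀ (k : Fin 4) j, evA x (sg j ++ [k.val + 4]) = evA x (hw k j ++ sg (pj k j))
  g4 : evA x [8, 8, 8, 8] = evA x []
  tg : evA x [8, 3, 8, 3, 8, 3] = evA x []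
  gh : ∀ i, evA x (8 :: hl i) = evA x (gw i ++ [8])
  zc : evA x [4, 5, 2] = evA x [2, 4, 5] ∧ evA x [6, 4, 5, 6, 2] = evA x [2, 6, 4, 5, 6]

variable {G : Type*} [Group G] {x : ℕ → G} {D : Tor G}

structure Nm (x : ℕ → G) (D : Tor G) : Prop where
  dt : Dt x
  e : ∀ i : Fin 4, D.ε (Pi.single i 1) = x i
  hu : ∀ (k : Fin 4) a, D.ε a * x (k + 4) = x (k + 4) * D.ε (a ᵥ* MM k)

theorem Dt.nm (h : Dt x) : ∃ D, Nm x D := by
  have hc (i j : Fin 4) : Commute (x i) (x j) := by simpa [Commute, SemiconjBy] using h.cm j i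
  let ϕ (i : Fin 4) : Multiplicative (ZMod 3) →* G := MonoidHom.mk' (fun c => x i ^ c.toAdd.val) fun a b => by
    rw [toAdd_mul, ZMod.val_add, ← pow_add, ← pow_eq_pow_mod _ (by simpa [pow_succ] using h.cb i)]
  let f := MonoidHom.noncommPiCoprod ϕ fun i j _ a b => (hc i j).pow_pow _ _
  let D : Tor G := ⟨fun a => f fun i => .ofAdd (a i), fun a b => f.map_mul _ _⟩
  have ei (i : Fin 4) : D.ε (Pi.single i 1) = x i := by
    have := MonoidHom.noncommPiCoprod_mulSingle ϕ (hcomm := fun i j _ a b => (hc i j).pow_pow _ _) i (.ofAdd 1)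
    refine (congrArg f ?_).trans (this.trans (pow_one _))
    ext j; by_cases e : j = i <;> simp [e]
  have ev (U : List (Fin 4)) : D.ε (U.map fun j => (Pi.single j 1 : E4)).sum = evA x (U.map Fin.val) := by
    induction U with
    | nil => simpa using D.zero
    | cons k U ih => rw [List.map_cons, List.sum_cons, add_comm, D.add, ih, ei]; rfl
  refine ⟨D, h, ei, fun k a => ?_⟩
  induction a using ind with
  | h0 => simp [D.zero]
  | h a i ih =>
    rw [D.add, mul_assoc, ei, add_vecMul, D.add, single_one_vecMul, ← mul_assoc (x (k + 4)), ← ih, mul_assoc]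
    congr 1
    have := h.hu k i
    rw [evA_append, ← ev, show _ = (MM k).row i from (by decide +kernel : ∀ k i,
      ((Uw k i).map fun j => (Pi.single j 1 : E4)).sum = (fun j => MM k i j : E4)) k i] at this
    simpa using this

variable {V : Type*} [AddCommGroup V] [DistribMulAction G V] (h2 : ∀ v : V, v + v = 0)
open Tor

theorem hx (j : Fin 10) : xv j ⬝ᵥ l1 j = 1 := by revert j; decide +kernel
theorem x0 (j : Fin 10) : xv j ⬝ᵥ l1 j ≠ 0 := by rw [hx]; decide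

theorem Nm.u_mem (n : Nm x D) (k : Fin 4) {j : Fin 10} {v : V} (h : v ∈ D.Wt V (l1 j)) :
    x (k + 4) • v ∈ D.Wt V (l1 (pj k j)) :=
  tw h (n.hu k) ((by decide +kernel : ∀ k j (a : E4), a ⬝ᵥ l1 (pj k j) = 0 ↔ (a ᵥ* MM k) ⬝ᵥ l1 j = 0) k j)

theorem Nm.sm (n : Nm x D) (k : Fin 4) (a : E4) (v : V) :
    x (k + 4) • D.ε a • v = D.ε (a ᵥ* MM k) • x (k + 4) • v := by
  rw [← mul_smul, ← mul_smul, n.hu, vecMul_vecMul, (by decide +kernel : ∀ k, MM k * MM k = 1), vecMul_one]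

theorem Nm.uu (n : Nm x D) (k : Fin 4) (v : V) : x (k + 4) • x (k + 4) • v = v := by
  rw [← mul_smul, show x (k + 4) * x (k + 4) = 1 by simpa using n.dt.uu k, one_smul]

variable (D V) in
/-- the canonical vectors -/
structure Can (x : ℕ → G) (v : Fin 10 → V) : Prop where
  mem : ∀ j, v j ∈ D.Wt V (l1 j)
  ne : ∀ j, v j ≠ 0
  al : ∀ j, ∀ u ∈ D.Wt V (l1 j), u = 0 ∨ u = v j ∨ u = D.ε (xv j) • v j ∨ u = D.ε (xv j) • D.ε (xv j) • v j
  dec : ∀ u, ∃ f : Fin 10 → V, (∀ i, f i ∈ D.Wt V (l1 i)) ∧ u = ∑ i, f i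
  act : ∀ (k : Fin 4) j, x (k + 4) • v j = v (pj k j)

include h2 in
theorem Nm.can (n : Nm x D) (hc : Nat.card V = 2 ^ 20) {u : V} (hu : x 0 • u ≠ u) : ∃ v, Can D V x v := by
  have : Finite V := Nat.finite_of_card_ne_zero (by rw [hc]; norm_num)
  let S : E4 → Prop := fun l => l ≠ 0 ∧ ∃ v ∈ D.Wt V l, v ≠ 0
  have cl : ∀ k l, S l → S (MM k *ᵥ l) := fun k l ⟨h0, v, hv, hn⟩ =>
    ⟨fun e => h0 (Matrix.eq_zero_of_mulVec_eq_zero ((by decide +kernel : ∀ k, (MM k).det ≠ 0) k) e), _,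
      tw hv (n.hu k) fun a => by rw [dotProduct_mulVec], by simpa using hn⟩
  have f4 : ∀ l, S l → 4 ≤ Nat.card (D.Wt V l) := fun l ⟨h0, v, hv, hn⟩ =>
    let ⟨p, e⟩ := Function.ne_iff.1 h0; (four h2 hv hn (a := Pi.single p 1) (by simpa using e)).1
  have cd {m : ℕ} {l : Fin m → E4} (h : NP l) : ∏ i, Nat.card (D.Wt V (l i)) ≤ 2 ^ 20 := by
    rw [← Nat.card_pi, ← hc]; exact Nat.card_le_card_of_injective _ (sum_inj h2 h)
  have no {l : Fin 11 → E4} (w : Wk l) (h : NP l) : ¬ S (l 0) := fun k => by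
    have := (Finset.pow_card_le_prod _ _ _ fun i _ => f4 _ (w.all cl k i)).trans (cd h)
    simp at this
  obtain ⟨l, l0, hl⟩ := ex (D := D) h2 (x := Pi.single 0 1) (u := u) (by rwa [n.e])
  obtain ⟨-, w, hw, w0⟩ := ((base (fun k => k.1 rfl) cl _ l (Nat.lt_succ_self _) ⟨l0, hl⟩).resolve_right
    (not_or.2 ⟨no wk2 np2, no wk3 np3⟩))
  have mv (U : List (Fin 4)) : ∀ j, ∀ v ∈ D.Wt V (l1 j),
      evA x (U.map (·.val + 4)) • v ∈ D.Wt V (l1 (U.foldl (fun j k => pj k j) j)) := by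
    induction U with
    | nil => simp
    | cons k U ih => exact fun j v hv => by simpa [mul_smul] using ih _ _ (n.u_mem k hv)
  have ms (j : Fin 10) (v : V) (hv : v ∈ D.Wt V (l1 0)) : evA x (sg j) • v ∈ D.Wt V (l1 j) := by
    have := mv (sF j) 0 v hv
    rwa [(by decide : ∀ j, (sF j).map (·.val + 4) = sg j), (by decide : ∀ j, (sF j).foldl (fun j k => pj k j) 0 = j)]
      at this
  have s1 (j : Fin 10) : S (l1 j) := ⟨fun e => x0 j (by simp [e]), _, ms j w hw, by simpa using w0⟩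
  have c4 (j : Fin 10) : Nat.card (D.Wt V (l1 j)) = 4 := by
    by_contra k
    have := Finset.prod_lt_prod (s := Finset.univ) (f := fun _ : Fin 10 => 4) (g := fun i => Nat.card (D.Wt V (l1 i)))
      (by simp) (fun i _ => f4 _ (s1 i)) ⟨j, by simp, (f4 _ (s1 j)).lt_of_ne' k⟩
    have := this.trans_le (cd np1)
    simp at this
  have sj : Function.Surjective (sumM (D := D) (V := V) l1) :=
    ((Nat.bijective_iff_injective_and_card _).2 ⟨sum_inj (D := D) h2 np1, by simp [Nat.card_pi, c4, hc]⟩).2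
  have al {j : Fin 10} {v : V} (hv : v ∈ D.Wt V (l1 j)) (n : v ≠ 0) := (four h2 hv n (x0 j)).2 (c4 j)
  have u6 {v : V} (hv : v ∈ D.Wt V (l1 0)) : x 6 • v ∈ D.Wt V (l1 0) := by
    have := n.u_mem 2 hv
    rwa [show pj 2 0 = 0 from rfl] at this
  have ss (v : V) (hv : v ∈ D.Wt V (l1 0)) : x 6 • D.ε (xv 0) • v = D.ε (xv 0) • D.ε (xv 0) • x 6 • v := by
    rw [D.sm]; exact (n.sm 2 _ v).trans (act (u6 hv) (by decide +kernel))
  obtain ⟨v, hv, v0, e⟩ : ∃ v ∈ D.Wt V (l1 0), v ≠ 0 ∧ x 6 • v = v := by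
    rcases al hw w0 _ (u6 hw) with e | e | e | e
    · exact absurd (by simpa using e) w0
    · exact ⟨w, hw, w0, e⟩
    · exact ⟨_, sm_mem (sm_mem hw (xv 0)) (xv 0), by simpa using w0, by
        rw [ss _ (sm_mem hw _), ss _ hw, e, cube]⟩
    · exact ⟨_, sm_mem hw (xv 0), by simpa using w0, by rw [ss _ hw, e, cube]⟩
  have fx (k : Fin 4) (hk : pj k 0 = 0) (d : (xv 0 ᵥ* MM k) ⬝ᵥ l1 0 = xv 0 ⬝ᵥ l1 0) : x (k + 4) • v = v := by
    have t (v : V) (hv : v ∈ D.Wt V (l1 0)) : x (k + 4) • D.ε (xv 0) • v = D.ε (xv 0) • x (k + 4) • v :=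
      (n.sm k _ v).trans (act (hk ▸ n.u_mem k hv) d)
    have n1 := nfix h2 hv v0 (x0 0)
    have uu := n.uu k v
    rcases al hv v0 _ (hk ▸ n.u_mem k hv) with e | e | e | e
    · exact absurd (by simpa using e) v0
    · exact e
    · rw [e, t _ hv, e] at uu; exact absurd (by rw [← uu, cube, uu]) n1
    · rw [e, t _ (sm_mem hv _), t _ hv, e, cube] at uu; exact absurd uu n1
  refine ⟨fun j => evA x (sg j) • v, fun j => ms j v hv, fun j => by simpa using v0,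
    fun j => al (ms j v hv) (by simpa using v0), fun u => ?_, fun k j => ?_⟩
  · obtain ⟨f, rfl⟩ := sj u
    exact ⟨fun i => f i, fun i => (f i).2, rfl⟩
  · have := congrArg (· • v) (n.dt.rl k j)
    simp only [evA_append, mul_smul, evA_cons, evA_nil, one_smul] at this
    rw [this, show evA x (TE.hw k j) • v = v from evA_mem (A := MulAction.stabilizer G v) x fun i hi => ?_]
    rcases (by decide : ∀ k j, ∀ i ∈ TE.hw k j, i = 4 ∨ i = 5 ∨ i = 6) k j i hi with rfl | rfl | rfl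
    exacts [fx 0 rfl (by decide +kernel), fx 1 rfl (by decide +kernel), e]

variable {v : Fin 10 → V} (c : Can D V x v)
include h2 c

theorem Can.span (P : AddSubgroup V) (h : ∀ j, v j ∈ P ∧ D.ε (xv j) • v j ∈ P) (u : V) : u ∈ P := by
  obtain ⟨f, hf, rfl⟩ := c.dec u
  refine sum_mem fun j _ => ?_
  rcases c.al j _ (hf j) with q | q | q | q <;> rw [q]
  exacts [zero_mem _, (h j).1, (h j).2, by
    rw [← eq_of h2 ((N_app _ _).symm.trans ((c.mem j _).2 (x0 j)))]; exact add_mem (h j).1 (h j).2]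

theorem Can.chr {u : V} {j : Fin 10} (h : ∀ i ≠ j, ∃ a, a ⬝ᵥ l1 i ≠ 0 ∧ D.ε a • u = u ∨
    a ⬝ᵥ l1 i = 0 ∧ N (D.ε a) u = 0) : u ∈ D.Wt V (l1 j) := by
  obtain ⟨f, hf, rfl⟩ := c.dec u
  rw [Finset.sum_eq_single j (fun i _ k => ?_) (by simp)]
  · exact hf j
  obtain ⟨a, ⟨a1, a2⟩ | ⟨a1, a2⟩⟩ := h i k
  · have := indep h2 np1 Finset.univ (fun i => D.ε a • f i + f i) (fun i => add_mem (sm_mem (hf i) a) (hf i))
      (by rw [Finset.sum_add_distrib, ← Finset.smul_sum, a2, h2]) i (Finset.mem_univ i)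
    exact (N_fix h2 (eq_of h2 this)).symm.trans ((hf i a).2 a1)
  · exact (N_fix h2 ((hf i a).1 a1)).symm.trans (indep h2 np1 Finset.univ _ (fun i => N_mem (hf i) a)
      (by rw [← map_sum, a2]) i (Finset.mem_univ i))

theorem Can.g0 (n : Nm x D) {u : V} (hu : u ∈ D.Wt V (l1 0)) : x 8 • u = u := by
  have gz : x 2 * x 8 = x 8 * x 2 := by simpa [hl, gw] using n.dt.gh 2
  have m (u : V) (hu : u ∈ D.Wt V (l1 0)) : x 8 • u ∈ D.Wt V (l1 0) := c.chr h2 fun i hi =>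
    ⟨Pi.single 2 1, .inl ⟨by revert i; decide +kernel, by
      rw [n.e, ← mul_smul, show x (2 : Fin 4) * x 8 = _ from gz, mul_smul, ← show _ = x 2 from n.e 2,
        (hu _).1 (by decide +kernel)]⟩⟩
  let e : Fin 3 → V := fun i => (D.ε (xv 0)) ^ i.val • v 0
  have n1 := nfix h2 (c.mem 0) (c.ne 0) (x0 0)
  have n2 : D.ε (xv 0) • D.ε (xv 0) • v 0 ≠ v 0 := fun k => n1 (by rw [← k, cube, k])
  have inj : Function.Injective e := fun i j h => by
    fin_cases i <;> fin_cases j <;> simp [e, pow_succ, mul_smul, n1, n2, n1.symm, n2.symm] at h ⊢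
  have em (i : Fin 3) : e i ∈ D.Wt V (l1 0) ∧ e i ≠ 0 ∧ x 3 • e i = e (i + 1) := by
    rw [← show D.ε (xv 0) = x 3 from n.e 3]
    fin_cases i <;> simp [e, pow_succ, mul_smul, c.mem, c.ne, sm_mem, cube]
  have al (u : V) (hu : u ∈ D.Wt V (l1 0)) (u0 : u ≠ 0) : ∃ i, u = e i := by
    rcases c.al 0 u hu with q | q | q | q
    exacts [absurd q u0, ⟨0, by simpa [e]⟩, ⟨1, by simpa [e]⟩, ⟨2, by simpa [e, pow_succ, mul_smul]⟩]
  choose β hβ using fun i => al _ (m _ (em i).1) (by simpa using (em i).2.1)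
  have k : ∀ i, β i = i := (by decide : ∀ β : Fin 3 → Fin 3, (∀ i, β (β (β (β i))) = i) →
      (∀ i, β (β (β i + 1) + 1) + 1 = i) → ∀ i, β i = i) β
    (fun i => inj (by simpa [mul_smul, hβ] using congrArg (· • e i) n.dt.g4))
    (fun i => inj (by simpa [mul_smul, hβ, (em _).2.2] using congrArg (· • e i) n.dt.tg))
  by_cases u0 : u = 0
  · simp [u0]
  obtain ⟨i, rfl⟩ := al u hu u0
  rw [hβ, k]

theorem Can.bas (hc : Nat.card V = 2 ^ 20) [Module (ZMod 2) V] :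
    ∃ b : Module.Basis (Fin 10 ⊕ Fin 10) (ZMod 2) V, ∀ j, b (.inl j) = v j ∧ b (.inr j) = D.ε (xv j) • v j := by
  have : Finite V := Nat.finite_of_card_ne_zero (by rw [hc]; norm_num)
  refine ⟨basisOfTopLeSpanOfCardEqFinrank (Sum.elim v fun j => D.ε (xv j) • v j) (fun u _ =>
    c.span h2 (Submodule.span (ZMod 2) (Set.range (Sum.elim v fun j => D.ε (xv j) • v j))).toAddSubgroup
      (fun j => ⟨Submodule.subset_span ⟨.inl j, rfl⟩, Submodule.subset_span ⟨.inr j, rfl⟩⟩) u) ?_,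
    fun j => by rw [coe_basisOfTopLeSpanOfCardEqFinrank]; exact ⟨rfl, rfl⟩⟩
  rw [Module.natCard_eq_pow_finrank (K := ZMod 2), Nat.card_zmod] at hc
  simpa using (Nat.pow_right_injective le_rfl hc).symm

open QuadraticMap in
theorem Can.form [Module (ZMod 2) V] {q : QuadraticForm (ZMod 2) V} (iv : ∀ a u, q (D.ε a • u) = q u)
    (nd : ∀ u, (∀ w, polar q u w = 0) → u = 0) : (∀ i j, i ≠ j → ∀ u ∈ D.Wt V (l1 i), ∀ w ∈ D.Wt V (l1 j),
      polar q u w = 0) ∧ ∀ j, q (v j) = 1 ∧ polar q (v j) (D.ε (xv j) • v j) = 1 := by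
  have pv (a : E4) (u w : V) : polar q (D.ε a • u) (D.ε a • w) = polar q u w := by
    simp only [polar, ← smul_add, iv]
  have o (i j : Fin 10) (k : i ≠ j) (u : V) (hu : u ∈ D.Wt V (l1 i)) (w : V) (hw : w ∈ D.Wt V (l1 j)) :
      polar q u w = 0 := by
    obtain ⟨a, a1, a2⟩ := np1 i j k
    have e (w : V) : polar q u (D.ε a • w) = polar q u w := by rw [← pv a u w, (hu a).1 a1]
    have := congrArg (polar q u) ((hw a).2 a2)
    rwa [N_app, polar_add_right, polar_add_right, e, e, e, add_assoc, CharTwo.add_self_eq_zero, add_zero, polar_zero_right] at this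
  refine ⟨o, fun j => ?_⟩
  have e : polar q (v j) (D.ε (xv j) • v j) = q (v j) := by
    rw [polar, eq_of h2 ((N_app _ _).symm.trans ((c.mem j _).2 (x0 j))), iv, iv]
    generalize q (v j) = t; revert t; decide
  have s (u : V) : polar q u u = 0 := by rw [polar_self, two_nsmul, CharTwo.add_self_eq_zero]
  rw [e, and_self]
  by_contra k
  rw [(by decide : ∀ t : ZMod 2, t ≠ 1 → t = 0) _ k] at e
  refine c.ne j (nd _ fun w => c.span h2 (LinearMap.ker (q.polarBilin (v j))).toAddSubgroup (fun i => ?_) w)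
  by_cases h : j = i
  · subst h; exact ⟨s _, e⟩
  · exact ⟨o _ _ h _ (c.mem _) _ (c.mem _), o _ _ h _ (c.mem _) _ (sm_mem (c.mem _) _)⟩

omit c in
theorem g8 (n : Nm x D) {W : Type*} [AddCommGroup W] [DistribMulAction G W] (w2 : ∀ w : W, w + w = 0)
    {w : Fin 10 → W} (cv : Can D V x v) (cw : Can D W x w) {Φ : W ≃+ V} (f1 : ∀ j, Φ (w j) = v j)
    (f2 : ∀ j, Φ (D.ε (xv j) • w j) = D.ε (xv j) • v j) {S : Subgroup G} (mS : ∀ g, g ∈ S ↔ ∀ w, Φ (g • w) = g • Φ w)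
    (lo : ∀ g g' : G, (∀ j, g • Φ (g' • w j) = v j ∧ g • Φ (g' • D.ε (xv j) • w j) = D.ε (xv j) • v j) →
      ∀ u, g • Φ (g' • u) = Φ u) (s2 : ∀ k < 8, x k ∈ S) :
    ∃ c : ℕ, ∀ u, x 8 • Φ ((x 8)⁻¹ • u) = x 2 ^ c • Φ u := by
  have h := n.dt
  let T : Subgroup G := S.comap (MulAut.conj (x 8)⁻¹).toMonoidHom
  have t1 (i : Fin 5) : evA x (hl i) ∈ T := by
    have := h.gh i
    rw [evA_append, evA_cons] at this
    have k := evA_mem (A := S) x fun k hk => s2 k ((by decide : ∀ i, ∀ k ∈ gw i, k < 8) i k hk)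
    simpa [T, mul_assoc, this] using k
  have tw {a : G} (k : a ∈ T) (u : W) : x 8 • Φ ((x 8)⁻¹ • a • u) = a • x 8 • Φ ((x 8)⁻¹ • u) := by
    simpa [mul_smul, inv_smul_eq_iff, smul_eq_iff_eq_inv_smul (x 8)] using (mS _).1 k ((x 8)⁻¹ • u)
  have t2 (a : E4) : D.ε (a - (Pi.single (3 : Fin 4) (a 3) : E4)) ∈ T := by
    induction a using ind with
    | h0 => simp [D.zero]
    | h a i ih =>
      by_cases e : i = 3
      · simpa [e, Pi.single_add] using ih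
      · have : x i ∈ T := by
          fin_cases i
          exacts [by simpa [hl] using t1 0, by simpa [hl] using t1 1, by simpa [hl] using t1 2, absurd rfl e]
        simpa [Ne.symm e, D.add, add_sub_right_comm, n.e] using mul_mem ih this
  have t3 (a : E4) (h : a 3 = 0) : D.ε a ∈ T := by simpa [h] using t2 a
  have m1 : x 8 • Φ ((x 8)⁻¹ • w 1) ∈ D.Wt V (l1 1) := cv.chr h2 fun i hi => by
    by_cases i0 : i = 0
    · refine ⟨xv 1, .inr ⟨i0 ▸ by decide +kernel, ?_⟩⟩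
      have := congrArg (fun u => x 8 • Φ ((x 8)⁻¹ • u)) ((cw.mem 1 _).2 (x0 1))
      simpa [N_app, tw (t3 (xv 1) rfl)] using this
    · obtain ⟨a, a1, a2, a3⟩ := (by decide +kernel : ∀ i ≠ 1, i ≠ 0 → ∃ a : E4, a 3 = 0 ∧ a ⬝ᵥ l1 1 = 0 ∧
        a ⬝ᵥ l1 i ≠ 0) i hi i0
      exact ⟨a, .inl ⟨a3, by rw [← tw (t3 a a1), (cw.mem 1 a).1 a2]⟩⟩
  have z1 : D.ε (xv 1) = x 2 := n.e 2
  obtain ⟨c, hc⟩ : ∃ c : ℕ, x 8 • Φ ((x 8)⁻¹ • w 1) = x 2 ^ c • v 1 := by
    rcases cv.al 1 _ m1 with q | q | q | q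
    exacts [absurd q (by simpa using cw.ne 1), ⟨0, by simpa using q⟩, ⟨1, by simpa [z1] using q⟩,
      ⟨2, by simpa [z1, pow_two, mul_smul] using q⟩]
  have cl {a : G} (k : a ∈ T) (k' : a ∈ S) (e : Commute (x 2) a) {u : W}
      (h : x 8 • Φ ((x 8)⁻¹ • u) = x 2 ^ c • Φ u) : x 8 • Φ ((x 8)⁻¹ • a • u) = x 2 ^ c • Φ (a • u) := by
    rw [tw k, h, (mS a).1 k', ← mul_smul, ← mul_smul, (e.pow_left c).eq]
  have w1 (u : W) (h : x 8 • Φ ((x 8)⁻¹ • u) = x 2 ^ c • Φ u) := cl (t1 3)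
    (evA_mem x fun k hk => s2 k (by revert k; decide)) (by simpa [hl, Commute, SemiconjBy, mul_assoc] using n.dt.zc.1) h
  have w2' (u : W) (h : x 8 • Φ ((x 8)⁻¹ • u) = x 2 ^ c • Φ u) := cl (t1 4)
    (evA_mem x fun k hk => s2 k (by revert k; decide)) (by simpa [hl, Commute, SemiconjBy, mul_assoc] using n.dt.zc.2) h
  have ac (k : Fin 4) (j) : x (k + 4) • w j = w (pj k j) := cw.act k j
  have p1 (j : Fin 10) : evA x (hl 3) • w j = w (pj 1 (pj 0 j)) := by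
    simp only [hl, Matrix.cons_val, evA_cons, evA_nil, one_mul, mul_smul]; exact (congrArg _ (ac 0 j)).trans (ac 1 _)
  have p2 (j : Fin 10) : evA x (hl 4) • w j = w (pj 2 (pj 1 (pj 0 (pj 2 j)))) := by
    simp only [hl, Matrix.cons_val, evA_cons, evA_nil, one_mul, mul_smul]
    exact (congrArg _ ((congrArg _ ((congrArg _ (ac 2 j)).trans (ac 0 _))).trans (ac 1 _))).trans (ac 2 _)
  have q1 (j) (h : x 8 • Φ ((x 8)⁻¹ • w j) = x 2 ^ c • Φ (w j)) := p1 j ▸ w1 _ h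
  have q2 (j) (h : x 8 • Φ ((x 8)⁻¹ • w j) = x 2 ^ c • Φ (w j)) := p2 j ▸ w2' _ h
  have a1 := f1 1 ▸ hc
  have a3 := q2 _ a1
  have a2 := q2 _ a3
  have z0 {u : W} (hu : u ∈ D.Wt W (l1 0)) (hv : Φ u ∈ D.Wt V (l1 0)) : x 8 • Φ ((x 8)⁻¹ • u) = x 2 ^ c • Φ u := by
    rw [inv_smul_eq_iff.2 (cw.g0 w2 n hu).symm, cv.g0 h2 n hv]
    exact (pow_mem (show x 2 ∈ MulAction.stabilizer G (Φ u) from z1 ▸ (hv _).1 (by decide +kernel)) c).symm
  refine ⟨c, fun u => ?_⟩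
  focus
    rw [← inv_smul_eq_iff, ← mul_smul]
    refine lo _ _ (fun j => ?_) u
    rw [mul_smul, mul_smul, inv_smul_eq_iff, inv_smul_eq_iff, ← f2, ← f1]
    by_cases j0 : j = 0
    · subst j0
      exact ⟨z0 (cw.mem 0) (f1 0 ▸ cv.mem 0), z0 (sm_mem (cw.mem 0) _) (f2 0 ▸ sm_mem (cv.mem 0) _)⟩
    have : x 8 • Φ ((x 8)⁻¹ • w j) = x 2 ^ c • Φ (w j) := by
      fin_cases j
      exacts [absurd rfl j0, a1, a2, a3, q1 _ (q1 _ a1), q1 _ (q1 _ a2), q1 _ (q1 _ a3), q1 _ a1, q1 _ a2, q1 _ a3]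
    rw [show D.ε (xv j) = x 2 from (congrArg _ (if_neg j0)).trans (n.e 2)]
    exact ⟨this, cl (by simpa [hl] using t1 2) (s2 2 (by decide)) (.refl _) this⟩

omit c in
/-- uniqueness of the module -/
theorem uniq (h : Dt x) (top : gen x 9 = ⊤) {W : Type*} [AddCommGroup W] [DistribMulAction G W]
    [Module (ZMod 2) V] [Module (ZMod 2) W] (hc : Nat.card V = 2 ^ 20) {u : V} (hu : x 0 • u ≠ u)
    (w2 : ∀ w : W, w + w = 0) (wc : Nat.card W = 2 ^ 20) {u' : W} (wu : x 0 • u' ≠ u')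
    {q : QuadraticForm (ZMod 2) V} (iv : ∀ (a : G) u, q (a • u) = q u)
    (nd : ∀ u, (∀ w, QuadraticMap.polar q u w = 0) → u = 0)
    {q' : QuadraticForm (ZMod 2) W} (iw : ∀ (a : G) u, q' (a • u) = q' u)
    (nw : ∀ u, (∀ w, QuadraticMap.polar q' u w = 0) → u = 0) :
    ∃ Φ : W ≃ₗ[ZMod 2] V, (∀ (a : G) w, Φ (a • w) = a • Φ w) ∧ ∀ w, q (Φ w) = q' w := by
  obtain ⟨D, n⟩ := h.nm
  obtain ⟨v, cv⟩ := n.can h2 hc hu
  obtain ⟨w, cw⟩ := n.can w2 wc wu
  obtain ⟨b, hb⟩ := cv.bas h2 hc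
  obtain ⟨b', hb'⟩ := cw.bas w2 wc
  let Φ : W ≃ₗ[ZMod 2] V := b'.equiv b (Equiv.refl _)
  have f1 (j : Fin 10) : Φ (w j) = v j := by rw [← (hb j).1, ← (hb' j).1]; exact b'.equiv_apply _ _ _
  have f2 (j : Fin 10) : Φ (D.ε (xv j) • w j) = D.ε (xv j) • v j := by
    rw [← (hb j).2, ← (hb' j).2]; exact b'.equiv_apply _ _ _
  have tri : ∀ c : ZMod 3, c = 0 ∨ c = 1 ∨ c = 1 + 1 := by decide
  have f3 (a : E4) (j : Fin 10) : Φ (D.ε a • w j) = D.ε a • v j := by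
    rcases tri (a ⬝ᵥ l1 j) with e | e | e
    · rw [(cv.mem j a).1 e, (cw.mem j a).1 e, f1]
    · rw [act (cv.mem j) (e.trans (hx j).symm), act (cw.mem j) (e.trans (hx j).symm), f2]
    · have e' : a ⬝ᵥ l1 j = (xv j + xv j) ⬝ᵥ l1 j := by rw [e, add_dotProduct, hx]
      rw [act (cv.mem j) e', act (cw.mem j) e', ← sm, ← sm,
        ← eq_of h2 ((N_app _ _).symm.trans ((cv.mem j _).2 (x0 j))),
        ← eq_of w2 ((N_app _ _).symm.trans ((cw.mem j _).2 (x0 j))), map_add, f1, f2]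
  generalize hS : Cm (G := G) Φ.toAddEquiv.toAddMonoidHom = S
  have mS (g : G) : g ∈ S ↔ ∀ w, Φ (g • w) = g • Φ w := hS ▸ Iff.rfl
  have lo (g g' : G) (h : ∀ j, g • Φ (g' • w j) = v j ∧ g • Φ (g' • D.ε (xv j) • w j) = D.ε (xv j) • v j) (u : W) :
      g • Φ (g' • u) = Φ u := cw.span w2 (AddMonoidHom.eqLocus ((DistribSMul.toAddMonoidHom V g).comp
        (Φ.toAddEquiv.toAddMonoidHom.comp (DistribSMul.toAddMonoidHom W g'))) Φ.toAddEquiv.toAddMonoidHom) (fun j =>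
      ⟨by simpa [AddMonoidHom.eqLocus, f1] using (h j).1, by simpa [AddMonoidHom.eqLocus, f2] using (h j).2⟩) u
  have cr (g : G) (h : ∀ j, Φ (g • w j) = g • v j ∧ Φ (g • D.ε (xv j) • w j) = g • D.ε (xv j) • v j) : g ∈ S :=
    (mS g).2 fun u => by rw [← lo g⁻¹ g (fun j => by simp [h j]) u, smul_inv_smul]
  have s1 (a : E4) : D.ε a ∈ S := cr _ fun j => ⟨f3 _ _, by rw [sm, sm, f3]⟩
  have s2 (k : ℕ) (hk : k < 8) : x k ∈ S := by
    by_cases h4 : k < 4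
    · exact n.e ⟨k, h4⟩ ▸ s1 _
    · obtain ⟨k, rfl⟩ : ∃ j : Fin 4, k = j + 4 := ⟨⟨k - 4, by omega⟩, by simp; omega⟩
      exact cr _ fun j => ⟨by rw [cw.act, cv.act, f1], by rw [n.sm, n.sm, cw.act, cv.act, f3]⟩
  obtain ⟨c, all⟩ := g8 h2 n w2 cv cw (Φ := Φ.toAddEquiv) f1 f2 mS lo s2
  replace all (u) : x 8 • Φ ((x 8)⁻¹ • u) = x 2 ^ c • Φ u := all u
  have s8 : x 8 ∈ S := inv_mem_iff.1 ((mS _).2 fun u => by
    have gz : Commute (x 2 ^ c) (x 8) := Commute.pow_left (show x 2 * x 8 = x 8 * x 2 by simpa [hl, gw] using h.gh 2) c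
    have e (u : W) : Φ ((x 8)⁻¹ • u) = ((x 8)⁻¹ * x 2 ^ c) • Φ u := by rw [mul_smul, ← all, inv_smul_smul]
    have e3 (k : ℕ) : Φ ((x 8)⁻¹ ^ k • u) = ((x 8)⁻¹ * x 2 ^ c) ^ k • Φ u := by
      induction k with
      | zero => simp
      | succ k ih => rw [pow_succ', mul_smul, e, ih, ← mul_smul, ← pow_succ']
    have e4 := e3 4
    rw [gz.symm.inv_left.mul_pow, inv_pow, ← pow_mul, mul_comm c,
      show x 8 ^ 4 = 1 by simpa [pow_succ] using h.g4, pow_mul, pow_succ (x 2) 3,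
      show x 2 ^ 3 = 1 by simpa [pow_succ] using h.cb 2, inv_one, one_smul, one_mul, one_mul] at e4
    rw [e, mul_smul, ← e4])
  refine ⟨Φ, fun a => (mS a).1 ((gen_le.2 fun k hk => ?_ : gen x 9 ≤ S) (top ▸ Subgroup.mem_top a)), fun u => ?_⟩
  · rcases Nat.lt_succ_iff_lt_or_eq.1 hk with e | rfl
    exacts [s2 k e, s8]
  obtain ⟨o1, o2⟩ := cv.form h2 (fun a => iv _) nd
  obtain ⟨o3, o4⟩ := cw.form w2 (fun a => iw _) nw
  have sl (u : V) : QuadraticMap.polar q u u = 0 := by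
    rw [QuadraticMap.polar_self, two_nsmul, CharTwo.add_self_eq_zero]
  have sr (u : W) : QuadraticMap.polar q' u u = 0 := by
    rw [QuadraticMap.polar_self, two_nsmul, CharTwo.add_self_eq_zero]
  have bm (i) : b i ∈ D.Wt V (l1 (i.elim id id)) ∧ b' i ∈ D.Wt W (l1 (i.elim id id)) := by
    rcases i with i | i <;> simp [hb, hb', cv.mem, cw.mem, sm_mem]
  have e (i) : Φ (b' i) = b i := b'.equiv_apply _ _ _
  have : (q.comp Φ.toLinearMap).polarBilin = q'.polarBilin := LinearMap.ext_basis b' b' fun i j => by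
    simp only [QuadraticMap.polarBilin_comp, LinearMap.compl₁₂_apply, LinearEquiv.coe_coe, e,
      QuadraticMap.polarBilin_apply_apply]
    by_cases k : i.elim id id = j.elim id id
    · rcases i with i | i <;> rcases j with j | j <;> obtain rfl : i = j := k <;>
        simp [hb, hb', sl, sr, o2, o4, QuadraticMap.polar_comm _ (D.ε _ • _)]
    · rw [o1 _ _ k _ (bm i).1 _ (bm j).1, o3 _ _ k _ (bm i).2 _ (bm j).2]
  refine cw.span w2 ⟨⟨⟨{u | q (Φ u) = q' u}, fun {a b} ha hb => ?_⟩, by simp⟩, fun ha => by simpa using ha⟩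
    (fun j => ⟨?_, ?_⟩) u
  · have := congrArg (· a b) this
    simp only [QuadraticMap.polarBilin_apply_apply, QuadraticMap.polar, QuadraticMap.comp_apply,
      LinearEquiv.coe_coe] at this
    simpa [show q (Φ a) = _ from ha, show q (Φ b) = _ from hb] using this
  · simp [f1, o2, o4]
  · simp [f2, iv, iw, o2, o4]

end H18.TE
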