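import Cfsg.Agent.H0.Co.B

/-! Extraspecial groups of order `2²¹`: pairs, and the normalizer of a graph. -/

set_option autoImplicit false
set_option linter.unusedSectionVars false

open Cfsg Subgroup
namespace H18.TE
open H19 H16 H0 H0.PM H0.Am
open scoped commutatorElement

universe u v
variable {A : Type v} {G : Type u} [Group A] [Group G]

section
variable [Finite G] {Q Q' : Subgroup G} {z s : G} (L : LP Q z Q' s) (hQ : #Q = 2 ^ 21)
include L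

theorem v4_iff {v : G} : v ∈ zpowers z ⊔ zpowers s ↔ V4 z s v := mem_four L.l.es.zz L.r.es.zz L.comm

theorem sqJ {x : G} (hx : x ∈ Q' ⊓ C[z] ⊔ Q) : x * x ∈ Q := by
  obtain ⟨a, ha, q, hq, rfl⟩ := (mem_sup_of_norm' (inf_le_right.trans L.l.norm)).1 hx
  convert mul_mem (mul_mem (zpowers_le.2 L.tQ (L.r.es.sq_mem ha.1))
    (nrm_conj (inv_mem (L.l.norm ha.2)) hq)) hq using 1
  group

theorem J_le : Q' ⊓ C[z] ⊔ Q ≤ C[z] := sup_le inf_le_right L.l.es.le_cent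

theorem R_iff {x : G} : x ∈ Q' ⊓ C[z] ⊔ Q ⊓ C[s] ↔ x ∈ Q' ⊓ C[z] ⊔ Q ∧ x ∈ C[s] := by
  refine ⟨fun h => ⟨(sup_le_sup_left inf_le_left _ : Q' ⊓ C[z] ⊔ Q ⊓ C[s] ≤ _) h, (L.R_le h).2⟩, fun ⟨h1, h2⟩ => ?_⟩
  obtain ⟨a, ha, q, hq, rfl⟩ := (mem_sup_of_norm' (inf_le_right.trans L.l.norm)).1 h1
  exact mul_mem_sup ha ⟨hq, (mul_mem_cancel_left (L.r.es.le_cent ha.1)).1 h2⟩

theorem mem_R {x : G} (h : x ∈ Q ⊔ Q') (h1 : x * z = z * x) (h2 : x * s = s * x) : x ∈ Q' ⊓ C[z] ⊔ Q ⊓ C[s] :=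
  let ⟨_, _, e, _⟩ := L.exists_quot; e.le ⟨h, mem_cent1.2 h1, mem_cent1.2 h2⟩

theorem sqW {x : G} (h : x ∈ Q ⊓ Q') : x * x = 1 := abelem2_iff.1 L.abelem_E x h

theorem cmW {x y : G} (hx : x ∈ Q ⊓ Q') (hy : y ∈ Q ⊓ Q') : x * y = y * x := by
  rw [← inv_eq_of_mul_eq_one_left (sqW L (mul_mem hy hx)), mul_inv_rev, inv_eq_of_mul_eq_one_left (sqW L hx),
    inv_eq_of_mul_eq_one_left (sqW L hy)]

/-- an element of order three acting trivially modulo the four-group -/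
theorem v4_of {p y : G} (hp : p ∈ Q ⊔ Q') (hy : y ∈ Q ⊓ Q') (e : y * (p * y * p⁻¹) * (p * (p * y * p⁻¹) * p⁻¹) = 1) :
    V4 z s y := by
  have n := L.X_norm_V hp
  have h1 := L.comm_E (commutator_mem_commutator hp hy)
  have e1 : p * y * p⁻¹ = ⁅p, y⁆ * y := by group
  generalize ⁅p, y⁆ = v at h1 e1
  have e2 : y * (v * y) = v := by rw [← mul_assoc, cmW L hy (L.V_le_E h1), mul_assoc, sqW L hy, mul_one]
  rw [e1, e2, ← conj_mul, e1, ← mul_assoc, ← mul_assoc, mul_eq_one_iff_inv_eq] at e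
  exact (v4_iff L).1 (e ▸ inv_mem (mul_mem (mul_mem h1 (nrm_conj n h1)) h1))

include hQ

theorem cardQ' : #Q' = 2 ^ 21 := by obtain ⟨g, -, e⟩ := L.conj; rw [← e, card_cj, hQ]

theorem cardW : #(Q ⊓ Q' : Subgroup G) ≤ 2 ^ 11 :=
  L.l.es.card_le_of_not (L.l.es.not_hasEA (m := 10) hQ) inf_le_left L.abelem_E

theorem cardJ : 2 ^ 30 ≤ #(Q' ⊓ C[z] ⊔ Q : Subgroup G) := by
  have h1 := L.r.es.card_cent (mem_sup_left (mem_zpowers s)) L.symm.V_le
  rw [card_four L.r.es.zz L.l.es.zz L.comm.symm L.r.es.z1 L.l.es.z1 L.ne, cardQ' L hQ, cent_pair] at h1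
  have h2 := card_le_of_le (inf_le_inf_left Q' inf_le_right : Q' ⊓ (C[s] ⊓ C[z]) ≤ _)
  have h3 := card_sup_mul_inf (inf_le_right.trans L.l.norm : Q' ⊓ C[z] ≤ N(Q))
  have h4 := (card_le_of_le (inf_le_inf_left Q inf_le_left : Q ⊓ (Q' ⊓ C[z]) ≤ _)).trans (cardW L hQ)
  rw [hQ, sup_comm] at h3
  have := Nat.mul_le_mul_left #(Q' ⊓ C[z] ⊔ Q : Subgroup G) h4
  omega

theorem cenW1 (hW : #(Q ⊓ Q' : Subgroup G) = 2 ^ 11) {a : G} (ha : a ∈ Q) (h : a ∈ C(Q ⊓ Q')) : a ∈ Q ⊓ Q' := by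
  have h1 := L.l.es.card_cent (L.V_le_E (mem_sup_left (mem_zpowers z))) inf_le_left
  rw [hW, hQ] at h1
  exact (eq_of_le_of_card_ge (le_inf inf_le_left fun x hx => mem_cent.2 fun y hy => cmW L hy hx)
    (by omega) : Q ⊓ Q' = Q ⊓ C(Q ⊓ Q')).ge ⟨ha, h⟩

theorem cenW (hW : #(Q ⊓ Q' : Subgroup G) = 2 ^ 11) {y : G} (hy : y ∈ Q' ⊓ C[z] ⊔ Q ⊓ C[s]) (h : y ∈ C(Q ⊓ Q')) :
    y ∈ Q ⊓ Q' := by
  obtain ⟨a, ha, b, hb, rfl⟩ := (mem_sup_of_norm' (show Q' ⊓ C[z] ≤ N(Q ⊓ C[s]) from fun x hx =>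
    L.cent_norm_P ⟨hx.2, L.r.es.le_cent hx.1⟩)).1 hy
  have k : b ∈ C(Q ⊓ Q') := mem_cent.2 fun w hw => by
    by_contra n
    have e := mem_cent.1 h w hw
    have e1 := L.l.es.conj_eq hb.1 hw.1 (Ne.symm n)
    have e2 : a⁻¹ * w * a⁻¹⁻¹ = w * z := by
      rw [← e1, inv_inv, mul_assoc, inv_mul_eq_iff_eq_mul, ← mul_assoc, ← mul_assoc, ← e]; group
    rcases L.r.es.conj_cases (inv_mem ha.1) hw.2 with q | q <;> rw [e2] at q
    exacts [L.l.es.z1 (by simpa using q), L.ne (by simpa using q.symm)]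
  have := cenW1 L.symm (cardQ' L hQ) (inf_comm Q Q' ▸ hW) ha.1 (inf_comm Q Q' ▸ (mul_mem_cancel_right k).1 h)
  exact mul_mem ⟨this.2, this.1⟩ (cenW1 L hQ hW hb.1 k)

omit hQ
theorem exists_p {t b : G} (ht : t ∈ Q) (hts : t * s * t⁻¹ = z * s)
    (hb : b ∈ C[z] ⊓ C[s]) (tb : t * b = b * t) (br : b ^ 7 = 1) (b1 : b ≠ 1)
    (F : ∀ y ∈ Q' ⊓ C[z] ⊔ Q ⊓ C[s], y * b = b * y → V4 z s y) : ∃ p ∈ Q ⊔ Q', PR z s t b p := by
  have zz := L.l.es.zz
  have ss := L.r.es.zz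
  obtain ⟨u, hu, e0⟩ := L.r.es.exists_conj L.zQ L.symm.notMem
  have sz := L.comm.symm
  have c3 : s * (z * s) = z := by rw [← mul_assoc, sz, mul_assoc, ss, mul_one]
  have c4 : z * (z * s) = s := by rw [← mul_assoc, zz, one_mul]
  have c5 : z * s * s = z := by rw [mul_assoc, ss, mul_one]
  have cc : ∀ {x y : G}, x * y = y * x ↔ MulAut.conj x y = y := mul_inv_eq_iff_eq_mul.symm
  have t1 := cc.1 (L.l.es.cent t ht)
  have t2 : MulAut.conj t s = z * s := hts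
  obtain ⟨y, hy, e1⟩ := conj_coset L.pg_R (by norm_num : Nat.Prime 7) (by omega) (L.cent_norm_R hb)
    (L.comm_X (commutator_mem_commutator (mul_mem_sup ht hu) hb)) (by rw [conj_pow, br]; simp) br b1
  rw [sup_comm] at hy
  obtain ⟨_, ⟨i, rfl⟩, r, hr, rfl⟩ := (mem_sup_of_norm' (zpowers_le.2 (L.cent_norm_R hb))).1 hy
  have gX : r * (t * u) ∈ Q ⊔ Q' := mul_mem (L.R_le_X hr) (mul_mem_sup ht hu)
  have r1 := cc.1 (mem_cent1.1 (L.R_le hr).1)
  have r2 := cc.1 (mem_cent1.1 (L.R_le hr).2)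
  have c0 : Commute (r * (t * u)) b := by
    rw [Commute, SemiconjBy, ← mul_inv_eq_iff_eq_mul]
    calc _ = (b ^ i)⁻¹ * (b ^ i * r * (t * u * b * (t * u)⁻¹) * (b ^ i * r)⁻¹) * b ^ i := by group
      _ = b := by rw [e1]; group
  have c1 : MulAut.conj (r * (t * u)) z = s := by
    rw [map_mul, map_mul, MulAut.mul_apply, MulAut.mul_apply, show MulAut.conj u z = z * s from e0, map_mul, t1, t2,
      c4, r2]
  have c2 : MulAut.conj (r * (t * u)) s = z * s := by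
    rw [map_mul, map_mul, MulAut.mul_apply, MulAut.mul_apply, cc.1 (L.r.es.cent u hu), t2, map_mul, r1, r2]
  generalize r * (t * u) = g at gX c0 c1 c2
  have g3 : g ^ 3 = 1 := by
    have e := cc.1 ((Commute.refl g).pow_right 3).eq
    rcases F (g ^ 3) (mem_R L (pow_mem gX 3) (cc.2 (by simp only [pow_three, map_mul, MulAut.mul_apply, c1, c2, c3]))
      (cc.2 (by simp only [pow_three, map_mul, MulAut.mul_apply, c1, c2, c3]))) (c0.pow_left 3) with q | q | q | q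
    · exact q
    · exact (L.ne (by rwa [q, c1] at e)).elim
    · rw [q, c2] at e; exact (L.l.es.z1 (by simpa using e)).elim
    · rw [q, map_mul, c1, c2, c3] at e; exact (L.r.es.z1 (by simpa using e)).elim
  have k1 : MulAut.conj (t * g) z = z * s := by rw [map_mul, MulAut.mul_apply, c1, t2]
  have k2 : MulAut.conj (t * g) s = s := by rw [map_mul, MulAut.mul_apply, c2, map_mul, t1, t2, c4]
  have k3 : Commute (t * g) b := Commute.mul_left tb c0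
  have tX := mul_mem (mem_sup_left ht) gX
  have e := cc.1 ((Commute.refl (t * g)).mul_right (Commute.refl _)).eq
  rcases F (t * g * (t * g)) (mem_R L (mul_mem tX tX)
    (cc.2 (by rw [map_mul, MulAut.mul_apply, k1, map_mul, k1, k2, c5]))
    (cc.2 (by rw [map_mul, MulAut.mul_apply, k2, k2]))) (k3.mul_left k3) with q | q | q | q
  · exact ⟨g, gX, c1, c2, c0, g3, q⟩
  · rw [q, k1] at e; exact (L.r.es.z1 (by simpa using e)).elim
  · refine ⟨g * z, mul_mem gX (mem_sup_left L.l.es.zQ), ?_, ?_, ?_, ?_, ?_⟩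
    · rw [← c1, MulAut.conj_apply]; group
    · rw [← c2, MulAut.conj_apply, mul_assoc g, ← sz]; group
    · exact Commute.mul_left c0 (mem_cent1.1 hb.1).symm
    · calc _ = MulAut.conj g z * MulAut.conj g (MulAut.conj g z) * g ^ 3 * z := by
            simp only [MulAut.conj_apply, pow_succ]; group
        _ = 1 := by rw [g3, c1, c2, c3, mul_one, zz]
    · calc _ = MulAut.conj (t * g) z * (t * g * (t * g)) * z := by rw [MulAut.conj_apply]; group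
        _ = 1 := by rw [q, k1, c5, zz]
  · rw [q, map_mul (MulAut.conj (t * g)) z, k1, k2, c5] at e; exact (L.r.es.z1 (by simpa using e)).elim
end
end H18.TE
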