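import Cfsg.Agent.H18.TE2
import Cfsg.Agent.H18.TE3

/-! Matching two extraspecial groups of order `2²¹` with the actions on them. -/

set_option autoImplicit false
set_option linter.unusedSectionVars false

open Cfsg Subgroup
namespace H18.TE
open H19 H16 H0 H0.PM H0.Am Module
open scoped commutatorElement

universe u v
variable {A : Type v} {G : Type u} [Group A] [Group G] [Finite A] [Finite G] {Q0 : Subgroup A} {Q : Subgroup G}
  {z0 : A} {z : G} {φ : Q0 ≃* Q}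

theorem lift' {A B C : Type*} [Group A] [Group B] [Monoid C] {f : A →* B} (s : Function.Surjective f) (ρ : A →* C)
    (k : ∀ a, f a = 1 → ρ a = 1) : ∃ τ : B →* C, ∀ h, τ (f h) = ρ h :=
  ⟨(Units.coeHom C).comp (f.liftOfSurjective s ⟨ρ.toHomUnits, fun a h => Units.ext (k a h)⟩), fun h =>
    congrArg Units.val (f.liftOfRightInverse_comp_apply _ _ _ h)⟩

theorem mod_of {L : Type*} [Group L] (h : LE Q z) (c : #Q = 2 ^ 21) {H : Subgroup G} (hH : H ≤ C[z]) {f : H →* L}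
    (s : Function.Surjective f) (k : ∀ x, f x = 1 ↔ x.1 ∈ Q) :
    ∃ (E : Type u) (_ : AddCommGroup E) (_ : Module (ZMod 2) E) (π : G → E) (ρ : N(Q) →* End (ZMod 2) E)
      (q : QuadraticForm (ZMod 2) E) (τ : L →* End (ZMod 2) E), ESM Q z E π ρ q ∧
      (∀ x : H, ∀ y ∈ Q, π (x * y * x.1⁻¹) = τ (f x) (π y)) ∧ Nat.card E = 2 ^ 20 ∧ (∀ a ≠ 1, ∃ u, τ a u ≠ u) ∧
      (∀ a u, q (τ a u) = q u) ∧ ∀ u, (∀ w, QuadraticMap.polar q u w = 0) → u = 0 := by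
  obtain ⟨E, _, _, π, ρ, q, m⟩ := h.es.exists_model
  have S := m.sec
  obtain ⟨τ, hτ⟩ := lift' s (ρ.comp (inclusion (hH.trans h.norm))) fun x hx => S.rho_eq_one ((k x).1 hx) h.es.der_le
  have e (x : H) (y) (hy : y ∈ Q) : π (x * y * x.1⁻¹) = τ (f x) (π y) := by
    rw [hτ]; exact S.conj ⟨x, h.norm (hH x.2)⟩ y hy
  refine ⟨E, _, _, π, ρ, q, τ, m, e, ?_, fun a a1 => ?_, fun a u => ?_, fun u hu => ?_⟩
  · have := S.finite
    have e := m.card_eq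
    rw [c] at e
    rw [Module.natCard_eq_pow_finrank (K := ZMod 2), Nat.card_zmod]
    have := Nat.pow_right_injective le_rfl e
    congr 1; omega
  · by_contra! n
    obtain ⟨x, rfl⟩ := s a
    exact a1 ((k x).2 (h.mem_of_triv (hH x.2) fun y hy =>
      (S.eq_iff (nrm_conj (h.norm (hH x.2)) hy) hy).1 ((e x y hy).trans (n _))))
  · obtain ⟨x, rfl⟩ := s a
    rw [hτ]; exact m.rho_q _ u
  · obtain ⟨y, hy, rfl⟩ := S.surj u
    exact (S.ker y hy).2 (h.es.mem_zp.2 (h.es.ctr y hy fun w hw => (m.B0 hy hw).1 (hu _)))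

/-- the situation after choosing an isomorphism of the extraspecial groups -/
structure Lg (z0 : A) (z : G) (φ : Q0 ≃* Q) : Prop where
  le0 : LE Q0 z0
  le : LE Q z
  tot : ∀ a ∈ C[z0], ∃ x, (a, x) ∈ N(graph φ)

theorem lg_of {L : Type*} [Group L] {x : ℕ → L} (hd : Dt x) (top : gen x 9 = ⊤) (x1 : x 0 ≠ 1) (h0 : LE Q0 z0)
    (c0 : #Q0 = 2 ^ 21) {f0 : C[z0] →* L} (s0 : Function.Surjective f0) (k0 : ∀ a, f0 a = 1 ↔ a.1 ∈ Q0)
    (h : LE Q z) (c : #Q = 2 ^ 21) {H : Subgroup G} (hH : H ≤ C[z]) {f : H →* L} (s : Function.Surjective f)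
    (k : ∀ x, f x = 1 ↔ x.1 ∈ Q) : ∃ φ : Q0 ≃* Q, Lg z0 z φ ∧ ∀ y ∈ H, ∃ a, (a, y) ∈ N(graph φ) := by
  obtain ⟨W, _, _, π0, ρ0, q0, τ0, m0, e0, d0, f1, i0, n0⟩ := mod_of h0 c0 le_rfl s0 k0
  obtain ⟨V, _, _, π, ρ, q, τ, m, e, d, f2, i, n⟩ := mod_of h c hH s k
  let _ : DistribMulAction L W := DistribMulAction.compHom W τ0
  let _ : DistribMulAction L V := DistribMulAction.compHom V τ
  obtain ⟨u0, hu0⟩ := f1 _ x1
  obtain ⟨u, hu⟩ := f2 _ x1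
  obtain ⟨Φ, hΦ, hq⟩ := uniq (V := V) (fun v => by rw [← two_smul (ZMod 2)]; exact zero_smul (ZMod 2) v) hd top d hu
    (W := W) (fun v => by rw [← two_smul (ZMod 2)]; exact zero_smul (ZMod 2) v) d0 hu0 i n i0 n0
  obtain ⟨φ, hφ⟩ := m0.lift m Φ hq
  have key (a : C[z0]) (y : H) (ay : f0 a = f y) : ∃ g ∈ Q, (a.1, g * y.1) ∈ N(graph φ) := by
    let α : Q0 ≃* Q0 := Q0.normalizerMonoidHom ⟨a, h0.norm a.2⟩
    let β : Q ≃* Q := Q.normalizerMonoidHom ⟨y, h.norm (hH y.2)⟩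
    let γ : Q ≃* Q := ((β.symm.trans φ.symm).trans α).trans φ
    have g1 (w : Q0) : γ (β (φ w)) = φ (α w) := by simp [γ]
    obtain ⟨g, hg⟩ := h.es.top.inner_of γ fun w => by
      obtain ⟨w, rfl⟩ := (φ.trans β).surjective w
      have : π (φ (α w)) = π (β (φ w)) := by
        rw [hφ]
        exact ((congrArg Φ (e0 a w w.2)).trans (hΦ _ _)).trans (((e y _ (φ w).2).trans (by rw [hφ, ← ay]; rfl)).symm)
      rcases h.es.mem_zp.1 ((m.sec.eq_iff (φ _).2 (β _).2).1 this) with e | e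
      · exact h.es.top.mem_zp.2 (.inl (Subtype.ext (by rw [← g1] at e; exact e)))
      · exact h.es.top.mem_zp.2 (.inr (Subtype.ext (by rw [← g1] at e; exact e)))
    refine ⟨g, g.2, mem_normalizer_fintype ?_⟩
    rintro _ ⟨w, rfl⟩
    refine ⟨α w, Prod.ext rfl ?_⟩
    have := congrArg Subtype.val ((g1 w).symm.trans (hg _))
    exact this.trans (by show g.1 * (y.1 * φ w * y.1⁻¹) * g.1⁻¹ = g.1 * y.1 * φ w * (g.1 * y.1)⁻¹; group)
  refine ⟨φ, ⟨h0, h, fun a ha => ?_⟩, fun y hy => ?_⟩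
  · obtain ⟨y, e⟩ := s (f0 ⟨a, ha⟩)
    obtain ⟨g, -, e⟩ := key _ y e.symm
    exact ⟨_, e⟩
  · obtain ⟨a, e⟩ := s0 (f ⟨y, hy⟩)
    obtain ⟨g, hg, e⟩ := key a _ e
    obtain ⟨b, hb⟩ := graph_ex (φ := φ) hg
    exact ⟨b⁻¹ * a, by simpa using mul_mem (inv_mem (le_normalizer hb)) e⟩

namespace Lg
variable (h : Lg z0 z φ)
include h

theorem zz : (z0, z) ∈ graph φ := h.le0.es.equiv_z h.le.es φ ▸ mem_graph φ ⟨z0, h.le0.es.zQ⟩

theorem fst {w : A × G} (hw : w ∈ N(graph φ)) : w.1 ∈ C[z0] := by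
  rw [← h.le0.norm_eq]
  exact mem_normalizer_fintype fun q hq => graph_fst (nrm_conj hw (mem_graph φ ⟨q, hq⟩))

theorem snd {w : A × G} (hw : w ∈ N(graph φ)) : w.2 ∈ C[z] := by
  rw [← h.le.norm_eq]
  exact mem_normalizer_fintype fun q hq => let ⟨_, e⟩ := graph_ex (φ := φ) hq; graph_snd (nrm_conj hw e)

theorem ker {y : G} (hy : ((1 : A), y) ∈ N(graph φ)) : y = 1 ∨ y = z :=
  h.le.es.mem_zp.1 (h.le.cent_eq ▸ graph_cent φ hy)

theorem ker' {a : A} (ha : (a, (1 : G)) ∈ N(graph φ)) : a = 1 ∨ a = z0 :=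
  h.le0.es.mem_zp.1 (h.le0.cent_eq ▸ mem_cent.2 fun q hq =>
    (cent_fst (fun _ => graph_one') ha (mem_graph φ ⟨q, hq⟩)).symm)

theorem one_z : ((1 : A), z) ∈ N(graph φ) := mem_normalizer_fintype fun w hw => by
  convert hw using 1
  exact Prod.ext (by simp) (by simp [← h.le.es.cent _ (graph_snd hw)])

theorem two {a : A} {x y : G} (hx : (a, x) ∈ N(graph φ)) (hy : (a, y) ∈ N(graph φ)) : x = y ∨ x = y * z :=
  (h.ker (y := y⁻¹ * x) (by simpa using mul_mem (inv_mem hy) hx)).imp (fun e => (inv_mul_eq_one.1 e).symm)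
    inv_mul_eq_iff_eq_mul.1

theorem two' {a b : A} {x : G} (hx : (a, x) ∈ N(graph φ)) (hy : (b, x) ∈ N(graph φ)) : a = b ∨ a = b * z0 :=
  (h.ker' (a := b⁻¹ * a) (by simpa using mul_mem (inv_mem hy) hx)).imp (fun e => (inv_mul_eq_one.1 e).symm)
    inv_mul_eq_iff_eq_mul.1

theorem memQ {w : A × G} (hw : w ∈ N(graph φ)) (e : w.2 ∈ Q) : w.1 ∈ Q0 := by
  obtain ⟨a, ha⟩ := graph_ex (φ := φ) e
  rcases h.two' (a := w.1) hw (le_normalizer ha) with e | e <;> rw [e]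
  exacts [graph_fst ha, mul_mem (graph_fst ha) h.le0.es.zQ]

theorem odd_z {n : ℕ} : z ^ (2 * n + 1) = z := by rw [pow_succ, pow_mul, pow_two, h.le.es.zz, one_pow, one_mul]

theorem odd {a : A} (ha : a ∈ C[z0]) {n : ℕ} (hn : a ^ (2 * n + 1) = 1) :
    ∃ x, (a, x) ∈ N(graph φ) ∧ x ^ (2 * n + 1) = 1 := by
  obtain ⟨x, hx⟩ := h.tot a ha
  rcases h.ker (y := x ^ (2 * n + 1)) (hn ▸ pow_mem hx _) with e | e
  · exact ⟨x, hx, e⟩
  · refine ⟨x * z, by simpa using mul_mem hx h.one_z, ?_⟩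
    rw [Commute.mul_pow (mem_cent1.1 (h.snd hx)), e, h.odd_z, h.le.es.zz]

theorem comm_odd {v : A × G} {b0 : A} {b : G} (hv : v ∈ N(graph φ)) (hb : (b0, b) ∈ N(graph φ)) {n : ℕ}
    (h1 : b0 ^ (2 * n + 1) = 1) (e : v.2 * b = b * v.2) : v.1 * b0 = b0 * v.1 := by
  rcases h.ker' (a := b0⁻¹ * (v.1 * b0 * v.1⁻¹)) (by
    convert mul_mem (inv_mem hb) (mul_mem (mul_mem hv hb) (inv_mem hv)) using 1
    exact Prod.ext rfl (by simp [e])) with e | e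
  · exact mul_inv_eq_iff_eq_mul.1 (inv_mul_eq_one.1 e).symm
  · have := congrArg (· ^ (2 * n + 1)) (inv_mul_eq_iff_eq_mul.1 e)
    simp only [conj_pow, Commute.mul_pow (mem_cent1.1 (h.fst hb)), h1, pow_succ z0, pow_mul z0,
      h.le0.es.zz, pow_zero, one_mul, mul_one, one_pow, mul_inv_cancel] at this
    exact (h.le0.es.z1 this.symm).elim

theorem v4 {s0 v0 : A} {s : G} (hs : (s0, s) ∈ graph φ) (hv : V4 z0 s0 v0) : ∃ v, V4 z s v ∧ (v0, v) ∈ graph φ := by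
  rcases hv with rfl | rfl | rfl | rfl
  exacts [⟨1, .inl rfl, one_mem _⟩, ⟨z, .inr (.inl rfl), h.zz⟩, ⟨s, .inr (.inr (.inl rfl)), hs⟩,
    ⟨_, .inr (.inr (.inr rfl)), mul_mem h.zz hs⟩]

theorem card_part {J : Subgroup G} (hJ : ∀ x ∈ J, ∃ a, (a, x) ∈ N(graph φ)) :
    #J ≤ #((N(graph φ) ⊓ J.comap (MonoidHom.snd A G)).map (MonoidHom.fst A G)) := by
  set M := N(graph φ) ⊓ J.comap (MonoidHom.snd A G)
  have h1 := card_ker_mul (MonoidHom.fst A G) M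
  have h2 := card_ker_mul (MonoidHom.snd A G) M
  have h3 : #J ≤ #(M.map (MonoidHom.snd A G)) := card_le_of_le fun x hx => let ⟨a, e⟩ := hJ x hx; ⟨(a, x), ⟨e, hx⟩, rfl⟩
  have h4 : 2 ≤ #((MonoidHom.snd A G).ker ⊓ M : Subgroup _) :=
    (one_lt_card_iff_ne_bot _).2 fun e => h.le0.es.z1 (congrArg Prod.fst (mem_bot.1 (e.le (x := (z0, 1))
      ⟨rfl, by simpa [h.le.es.zz] using mul_mem (le_normalizer h.zz) h.one_z, J.one_mem⟩)))
  have h5 : #((MonoidHom.fst A G).ker ⊓ M : Subgroup _) ≤ 2 := by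
    rw [← h.le.es.card_zp, ← card_map_of_injective (f := MonoidHom.inr A G) (Prod.mk_right_injective _)]
    refine card_le_of_le ?_
    rintro ⟨a, y⟩ ⟨rfl : a = 1, e⟩
    exact ⟨y, h.le.es.mem_zp.2 (h.ker e.1), rfl⟩
  have := Nat.mul_le_mul h4 h3
  have := Nat.mul_le_mul_right (#(M.map (MonoidHom.fst A G))) h5
  omega

end Lg
end H18.TE
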