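import Cfsg.Agent.H18.TE4
import Cfsg.Agent.H18.TE0

/-! The facts on the model, and the element of order three. -/

set_option autoImplicit false
set_option linter.unusedSectionVars false

open Cfsg Subgroup
namespace H18.TE
open H19 H16 H0 H0.PM H0.Am H0.Co
open scoped commutatorElement

universe u v
variable {A : Type v} {G : Type u} [Group A] [Group G] [Finite A] [Finite G]

theorem conj_conj {G : Type*} [Group G] (a b c : G) : a * (b * c * b⁻¹) * a⁻¹ = a * b * c * (a * b)⁻¹ := by group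

/-- the facts on the model -/
structure Mo (Q0 B : Subgroup A) (z0 s0 t0 n1 n2 f0 t2 b0 c0 c1 c2 : A) : Prop where
  le0 : LE Q0 z0
  card : #Q0 = 2 ^ 21
  sQ : s0 ∈ Q0
  tQ : t0 ∈ Q0
  sz : s0 ≠ z0
  n1z : n1 * z0 * n1⁻¹ = s0
  n11 : n1 * n1 = 1
  tt : t0 * t0 = 1
  n22 : n2 * n2 = 1
  nt : (n1 * t0) ^ 3 = 1
  ts : t0 * s0 * t0⁻¹ = z0 * s0
  n2C : n2 ∈ C[z0]
  hf : n2 * t0 * n2⁻¹ = f0
  ht : n1 * f0 * n1⁻¹ = t2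
  fs : f0 * s0 = s0 * f0
  nn : (n1 * n2) ^ 3 = 1
  n2t : (n2 * t2) ^ 3 = 1
  nu : n1 * (n2 * s0 * n2⁻¹) * n1⁻¹ = n2 * s0 * n2⁻¹
  us : n2 * s0 * n2⁻¹ ≠ s0
  b7 : b0 ^ 7 = 1
  b1 : b0 ≠ 1
  od : ∀ x ∈ [b0, c0, c1, c2], x ^ (2 * 52 + 1) = 1 ∧ x * n1 = n1 * x ∧ x * t0 = t0 * x ∧ x * z0 = z0 * x
  cf : c1 * f0 = f0 * c1 ∧ c2 * f0 = f0 * c2
  L5 : ∀ F F' : Subgroup A, Q0 ≤ F → F ≤ C[z0] → (∀ x ∈ F, x * x ∈ Q0) → 2 ^ 30 ≤ #F →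
    Q0 ≤ F' → F' ≤ C[z0] → (∀ x ∈ F', x * x ∈ Q0) → 2 ^ 30 ≤ #F' → ∃ c ∈ C[z0], cj c F = F'
  L1 : ∀ q ∈ Q0, (∀ j ∈ cj n1 Q0 ⊓ C[z0], ⁅j, q⁆ ∈ zpowers z0) → V4 z0 s0 q
  F1 : ∀ y ∈ C[z0], y * s0 = s0 * y → y * b0 = b0 * y → y ^ 8 = 1 → V4 z0 s0 y
  m3 : ∀ Y : Subgroup A, z0 ∈ Y → s0 ∈ Y → (∀ a ∈ cj n1 Q0 ⊓ C[z0], ∀ j ∈ Q0 ⊓ C[s0], ⁅⁅a, j⁆, b0⁆ ∈ Y) → 2 ^ 11 ≤ #Y
  L4 : ∀ d ∈ Q0 ⊓ cj n1 Q0, d * c1 = c1 * d → d * c2 = c2 * d → V4 z0 s0 d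
  QP : Q0 ⊓ closure {⁅t2, b0⁆, b0, c0} = ⊥
  idx : ∃ m, #C[z0] = (2 * m + 1) * #(Q0 ⊔ closure {⁅t2, b0⁆, b0, c0} : Subgroup A)
  Qc : Q0 ≤ ⁅Q0, C[z0]⁆
  D0 : C[z0] ⊓ C[s0] ≤ gen (nthG [z0, s0, ⁅f0, b0⁆, ⁅t2, b0⁆, b0, c0]) 6
  BC : B ≤ C[z0]
  BD : B ≤ zpowers t0 ⊔ C[z0] ⊓ C[s0]

variable {Q0 B : Subgroup A} {z0 s0 t0 n1 n2 f0 t2 b0 c0 c1 c2 : A} {Q Q' : Subgroup G} {z s t b p : G} {φ : Q0 ≃* Q}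

theorem Mo.lp (M : Mo Q0 B z0 s0 t0 n1 n2 f0 t2 b0 c0 c1 c2) : LP Q0 z0 (cj n1 Q0) s0 :=
  M.n1z ▸ M.le0.lp (M.n1z ▸ M.sQ) (M.n1z ▸ M.sz)

/-- matched pairs -/
structure Pr (φ : Q0 ≃* Q) (z0 s0 n1 : A) (z s : G) (Q' : Subgroup G) : Prop where
  L : LP Q z Q' s
  hs : (s0, s) ∈ graph φ
  J : ∀ w ∈ N(graph φ), w.1 ∈ cj n1 Q0 ⊓ C[z0] ⊔ Q0 ↔ w.2 ∈ Q' ⊓ C[z] ⊔ Q
  hA : ∀ x ∈ Q' ⊓ C[z] ⊔ Q, ∃ a, (a, x) ∈ N(graph φ)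

theorem lpJ (L : LP Q z Q' s) {w : G} (hw : w ∈ C[z]) : LP Q z (cj w Q') (w * s * w⁻¹) := by
  obtain ⟨g, e1, e2⟩ := L.conj
  have := L.l.lp (g := w * g) (by rw [← conj_conj, e1]; exact nrm_conj (L.l.norm hw) L.tQ) (by
    rw [← conj_conj, e1]; exact fun e => L.ne (by rw [← mul_left_cancel (mul_inv_eq_iff_eq_mul.1 e |>.trans (mem_cent1.1 hw).symm)]))
  rwa [cj_mul, e2, ← conj_conj, e1] at this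

theorem cj_J (L : LP Q z Q' s) {w : G} (hw : w ∈ C[z]) : cj w Q' ⊓ C[z] ⊔ Q = cj w (Q' ⊓ C[z] ⊔ Q) := by
  rw [cj_sup, cj_inf, cj_of_mem hw, cj_of_mem_norm (L.l.norm hw)]

theorem Mo.match (M : Mo Q0 B z0 s0 t0 n1 n2 f0 t2 b0 c0 c1 c2) (h : Lg z0 z φ) (hQ : #Q = 2 ^ 21) {q0 : A} {q : G}
    (hq : (q0, q) ∈ graph φ) (L : LP Q z Q' q) (hA : ∀ x ∈ Q' ⊓ C[z], ∃ a, (a, x) ∈ N(graph φ)) :
    ∃ w ∈ N(graph φ), w.1 * q0 * w.1⁻¹ = s0 ∧ Pr φ z0 s0 n1 z (w.2 * q * w.2⁻¹) (cj w.2 Q') := by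
  have hJ : ∀ x ∈ Q' ⊓ C[z] ⊔ Q, ∃ a, (a, x) ∈ N(graph φ) := fun x hx => by
    obtain ⟨w, hw, rfl⟩ := (sup_le (fun x hx => let ⟨a, e⟩ := hA x hx; ⟨_, e, rfl⟩)
      (fun x hx => let ⟨a, e⟩ := graph_ex (φ := φ) hx; ⟨_, le_normalizer e, rfl⟩) :
        _ ≤ N(graph φ).map (MonoidHom.snd A G)) hx
    exact ⟨w.1, hw⟩
  obtain ⟨c, hc, e⟩ := M.L5 ((N(graph φ) ⊓ (Q' ⊓ C[z] ⊔ Q).comap (MonoidHom.snd A G)).map (MonoidHom.fst A G)) _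
    (fun a ha => ⟨_, ⟨le_normalizer (mem_graph φ ⟨a, ha⟩), mem_sup_right (φ _).2⟩, rfl⟩)
    (by rintro _ ⟨w, hw, rfl⟩; exact h.fst hw.1)
    (by rintro _ ⟨w, hw, rfl⟩; exact h.memQ (mul_mem hw.1 hw.1) (sqJ L hw.2))
    ((cardJ L hQ).trans (h.card_part hJ)) le_sup_right (J_le M.lp) (fun _ => sqJ M.lp) (cardJ M.lp M.card)
  have k : ∀ w ∈ N(graph φ), cj w.1 ((N(graph φ) ⊓ (Q' ⊓ C[z] ⊔ Q).comap (MonoidHom.snd A G)).map (MonoidHom.fst A G)) =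
      cj n1 Q0 ⊓ C[z0] ⊔ Q0 → w.1 * q0 * w.1⁻¹ = s0 →
      ∃ w ∈ N(graph φ), w.1 * q0 * w.1⁻¹ = s0 ∧ Pr φ z0 s0 n1 z (w.2 * q * w.2⁻¹) (cj w.2 Q') := fun w hw e e' => by
    refine ⟨w, hw, e', lpJ L (h.snd hw), e' ▸ nrm_conj hw hq, fun v hv => ?_, fun x hx => ?_⟩
    · have hu := mul_mem (mul_mem (inv_mem hw) hv) hw
      rw [cj_J L (h.snd hw), ← e, mem_cj, mem_cj]
      refine ⟨fun ⟨u, hu', e⟩ => ?_, fun hx => ⟨_, ⟨hu, hx⟩, rfl⟩⟩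
      rcases h.two (a := u.1) (x := (w⁻¹ * v * w).2) (by rw [show u.1 = (w⁻¹ * v * w).1 from e]; exact hu) hu'.1 with e | e
      · exact (show w.2⁻¹ * v.2 * w.2 = _ from e) ▸ hu'.2
      · exact (show w.2⁻¹ * v.2 * w.2 = _ from e) ▸ mul_mem hu'.2 (mem_sup_right h.le.es.zQ)
    · rw [cj_J L (h.snd hw), mem_cj'] at hx
      obtain ⟨y, hy, rfl⟩ := hx
      obtain ⟨a, ha⟩ := hJ y hy
      exact ⟨_, mul_mem (mul_mem hw ha) (inv_mem hw)⟩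
  obtain ⟨w, hw⟩ := h.tot c hc
  have q0Q : q0 ∈ Q0 := graph_fst hq
  rcases M.L1 _ (nrm_conj (M.le0.norm hc) q0Q) (fun j hj => by
    obtain ⟨_, ⟨u, hu, rfl⟩, rfl⟩ := mem_cj'.1 (e.ge (mem_sup_left hj))
    obtain ⟨a, ha, y, hy, e1⟩ := (mem_sup_of_norm' (inf_le_right.trans L.l.norm)).1 hu.2
    have e2 : ⁅u.2, q⁆ ∈ zpowers z := by
      rw [show u.2 = a * y from e1]
      convert nrm_conj (L.l.es.norm_zp (L.l.norm ha.2)) (L.l.es.comm_mem hy L.tQ) using 1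
      calc _ = a * ⁅y, q⁆ * (q * a⁻¹ * q⁻¹) := by group
        _ = _ := by rw [← L.r.es.cent _ (inv_mem ha.1), mul_inv_cancel_right]
    have e3 : (⁅u.1, q0⁆, ⁅u.2, q⁆) ∈ graph φ := comm_mem_right hu.1 hq
    rw [← conjugate_commutatorElement]
    refine nrm_conj (M.le0.es.norm_zp (M.le0.norm hc)) (M.le0.es.mem_zp.2 ?_)
    rcases L.l.es.mem_zp.1 e2 with e | e <;> rw [e] at e3
    exacts [.inl (graph_one' e3), .inr ((iso_graph.eq_iff e3 h.zz).2 rfl)]) with e' | e' | e' | e'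
  · exact (L.r.es.z1 (graph_one φ q (by simpa [conj_eq_one_iff.1 e'] using hq))).elim
  · refine (L.ne ((iso_graph.eq_iff hq h.zz).1 ?_)).elim
    exact mul_left_cancel ((mul_inv_eq_iff_eq_mul.1 e').trans (mem_cent1.1 hc).symm)
  · exact k _ hw e e'
  · refine k ((t0, (φ ⟨t0, M.tQ⟩ : G)) * (c, w)) (mul_mem (le_normalizer (mem_graph φ ⟨t0, M.tQ⟩)) hw) ?_ ?_
    · rw [Prod.fst_mul, cj_mul, e, cj_of_mem (mem_sup_right M.tQ)]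
    · rw [Prod.fst_mul, ← conj_conj, e', ← conj_mul, M.ts, M.le0.es.cent t0 M.tQ, mul_inv_cancel_right, ← mul_assoc,
        M.le0.es.zz, one_mul]

end H18.TE
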