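import Cfsg.Agent.H18.TE5

/-! The missing reflection, and the splitting of the normalizer of the graph. -/

set_option autoImplicit false
set_option linter.unusedSectionVars false

open Cfsg Subgroup
namespace H18.TE
open H19 H16 H0 H0.PM H0.Am H0.Co
open scoped commutatorElement

universe u v
variable {A : Type v} {G : Type u} [Group A] [Group G] [Finite A] [Finite G]
variable {Q0 B : Subgroup A} {z0 s0 t0 n1 n2 f0 t2 b0 c0 c1 c2 : A} {Q Q' : Subgroup G} {z s t b p n f : G}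
  {φ : Q0 ≃* Q}

theorem cmV (L : LP Q z Q' s) {v x : G} (hv : V4 z s v) (hx : x ∈ C[z] ⊓ C[s]) : v * x = x * v :=
  mem_cent.1 (cent_pair z s ▸ hx) v ((v4_iff L).2 hv)

theorem sqV (L : LP Q z Q' s) {v : G} (hv : V4 z s v) : v * v = 1 := sqW L (L.V_le_E ((v4_iff L).2 hv))

theorem X_W (L : LP Q z Q' s) (hp : p ∈ Q ⊔ Q') {w : G} (hw : w ∈ Q ⊓ Q') : p * w * p⁻¹ ∈ Q ⊓ Q' := by
  convert mul_mem (L.V_le_E (L.comm_E (commutator_mem_commutator hp hw))) hw using 1; group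

theorem pfix (L : LP Q z Q' s) (hp : p ∈ Q ⊔ Q') (hb : b ∈ C[z] ⊓ C[s]) (pb : p * b = b * p) {w : G}
    (hw : w ∈ Q ⊓ Q') : p * ⁅w, b⁆ * p⁻¹ = ⁅w, b⁆ := by
  have h1 := (v4_iff L).1 (L.comm_E (commutator_mem_commutator hp hw))
  have e1 : p * w * p⁻¹ = ⁅p, w⁆ * w := by group
  rw [conjugate_commutatorElement, pb, mul_inv_cancel_right, e1, cmW L (L.V_le_E ((v4_iff L).2 h1)) hw]
  calc _ = w * (⁅p, w⁆ * b) * ⁅p, w⁆⁻¹ * w⁻¹ * b⁻¹ := by group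
    _ = _ := by rw [cmV L h1 hb]; group

theorem odd_comm (L : LP Q z Q' s) (hQ : #Q = 2 ^ 21) (hW : #(Q ⊓ Q' : Subgroup G) = 2 ^ 11) (hp : p ∈ Q ⊔ Q')
    (p3 : p ^ 3 = 1) {x : G} (hx : x ∈ C[z] ⊓ C[s]) {k : ℕ} (hk : x ^ (2 * k + 1) = 1) (c : ⁅p, x⁆ ∈ C(Q ⊓ Q')) :
    p * x = x * p := by
  have h1 := cenW L hQ hW (L.comm_X (commutator_mem_commutator hp hx)) c
  have e1 : p * x * p⁻¹ = ⁅p, x⁆ * x := by group
  have h2 := v4_of L hp h1 (by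
    rw [cmW L h1 (X_W L hp h1), cmW L (mul_mem (X_W L hp h1) h1) (X_W L hp (X_W L hp h1))]
    calc _ = p ^ 3 * x * (p ^ 3)⁻¹ * x⁻¹ := by rw [pow_three]; group
      _ = 1 := by rw [p3]; group)
  have := congrArg (· ^ (2 * k + 1)) e1
  simp only [conj_pow, hk, Commute.mul_pow (cmV L h2 hx), pow_succ ⁅p, x⁆, pow_mul ⁅p, x⁆, sqV L h2, pow_zero, one_mul,
    mul_one, one_pow, mul_inv_cancel] at this
  exact comm_eq_one.1 this.symm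

theorem card_fs {S : Subgroup (A × G)} (h : S ≤ graph φ) : #(S.map (MonoidHom.fst A G)) = #(S.map (MonoidHom.snd A G)) := by
  have h1 := card_ker_mul (MonoidHom.fst A G) S
  have h2 := card_ker_mul (MonoidHom.snd A G) S
  rw [show (MonoidHom.fst A G).ker ⊓ S = ⊥ from eq_bot_iff.2 fun w hw => mem_bot.2 (Prod.ext hw.1 (graph_one φ _ (by
    rw [← show w.1 = 1 from hw.1]; exact h hw.2))), card_bot, one_mul] at h1
  rw [show (MonoidHom.snd A G).ker ⊓ S = ⊥ from eq_bot_iff.2 fun w hw => mem_bot.2 (Prod.ext (graph_one' (φ := φ) (by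
    rw [← show w.2 = 1 from hw.1]; exact h hw.2)) hw.1), card_bot, one_mul] at h2
  rw [h1, h2]

/-- the graph over the intersections -/
def Wh (φ : Q0 ≃* Q) (n1 : A) (Q' : Subgroup G) : Subgroup (A × G) := graph φ ⊓ (Q0 ⊓ cj n1 Q0).prod (Q ⊓ Q')

/-- the reflection -/
structure St (φ : Q0 ≃* Q) (t0 n1 : A) (l : List A) (z s : G) (Q' : Subgroup G) (t n : G) : Prop where
  ht : (t0, t) ∈ graph φ
  pX : n * t ∈ Q ⊔ Q'
  nn : n * n = 1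
  p3 : (n * t) ^ 3 = 1
  nz : n * z * n⁻¹ = s
  nW : (n1, n) ∈ N(Wh φ n1 Q')
  fW : ∀ a ∈ Q0 ⊓ cj n1 Q0, ∃ x, (a, x) ∈ Wh φ n1 Q'
  sW : ∀ x ∈ Q ⊓ Q', ∃ a, (a, x) ∈ Wh φ n1 Q'
  cW0 : #(Q0 ⊓ cj n1 Q0 : Subgroup A) = 2 ^ 11
  cW : #(Q ⊓ Q' : Subgroup G) = 2 ^ 11
  od : ∀ a ∈ l, ∃ x, (a, x) ∈ N(graph φ) ∧ x ^ (2 * 52 + 1) = 1 ∧ n * x = x * n

variable (M : Mo Q0 B z0 s0 t0 n1 n2 f0 t2 b0 c0 c1 c2)
include M

theorem Mo.pX : n1 * t0 ∈ Q0 ⊔ cj n1 Q0 := by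
  have : n1 * t0 = t0⁻¹ * (n1 * t0 * n1⁻¹)⁻¹ := by
    rw [← mul_inv_rev, eq_inv_iff_mul_eq_one, inv_eq_of_mul_eq_one_left M.n11, ← M.nt]; simp only [pow_succ]; group
  exact this ▸ mul_mem_sup (inv_mem M.tQ) (inv_mem (mem_cj'.2 ⟨_, M.tQ, rfl⟩))

theorem Mo.n1s : n1 * s0 * n1⁻¹ = z0 := by rw [← M.n1z, conj_conj, M.n11]; group

theorem Mo.odC {x : A} (hx : x ∈ [b0, c0, c1, c2]) : x ∈ C[z0] ⊓ C[s0] :=
  let ⟨_, h1, _, h2⟩ := M.od x hx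
  ⟨mem_cent1.2 h2, mem_cent1.2 (M.n1z ▸ (Commute.mul_right (Commute.mul_right h1 h2) (Commute.inv_right h1)))⟩

theorem Mo.t2A : t2 ∈ cj n1 Q0 ⊓ C[z0] := by
  refine ⟨mem_cj'.2 ⟨_, M.hf ▸ nrm_conj (M.le0.norm M.n2C) M.tQ, M.ht⟩, mem_cent1.2 ?_⟩
  rw [← M.ht, ← M.n1s, conj_mul, conj_mul, M.fs]

variable (h : Lg z0 z φ) (hQ : #Q = 2 ^ 21) (P : Pr φ z0 s0 n1 z s Q')
include h P

theorem Mo.mC {w : A × G} (hw : w ∈ N(graph φ)) (e : w.1 * s0 = s0 * w.1) : w.2 ∈ C[z] ⊓ C[s] :=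
  ⟨h.snd hw, mem_cent1.2 (comm_snd (graph_one φ) hw P.hs e)⟩

theorem Mo.nrmW {w : A × G} (hw : w ∈ N(graph φ)) (e : w.1 * s0 = s0 * w.1) : w ∈ N(Wh φ n1 Q') :=
  mem_normalizer_fintype fun _ hv => ⟨nrm_conj hw hv.1, nrm_conj (M.lp.cent_norm_E ⟨h.fst hw, mem_cent1.2 e⟩) hv.2.1,
    nrm_conj (P.L.cent_norm_E (M.mC h P hw e)) hv.2.2⟩

theorem Mo.nrmW' {w : A × G} (hw : w ∈ graph φ) : w ∈ N(Wh φ n1 Q') :=
  mem_normalizer_fintype fun _ hv => ⟨nrm_conj (le_normalizer hw) hv.1, X_W M.lp (mem_sup_left (graph_fst hw)) hv.2.1,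
    X_W P.L (mem_sup_left (graph_snd hw)) hv.2.2⟩

include hQ
theorem Mo.exists_n : ∃ t n, St φ t0 n1 [b0, c0, c1, c2] z s Q' t n := by
  have ht := mem_graph φ ⟨t0, M.tQ⟩
  generalize (φ ⟨t0, M.tQ⟩ : G) = t at ht
  have bC := M.odC (x := b0) (by simp)
  obtain ⟨-, bn, bt, -⟩ := M.od b0 (by simp)
  obtain ⟨b, hb, b7⟩ := h.odd bC.1 (n := 3) M.b7
  have bD := M.mC h P hb (mem_cent1.1 bC.2)
  have tt : t * t = 1 := graph_one φ _ (M.tt ▸ mul_mem ht ht)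
  have ts : t * s * t⁻¹ = z * s := (iso_graph.eq_iff (nrm_conj (le_normalizer ht) P.hs) (mul_mem h.zz P.hs)).1 M.ts
  obtain ⟨p, pX, R⟩ := exists_p P.L (graph_snd ht) ts bD (comm_snd (graph_one φ) hb ht bt).symm b7
    (fun e => by
      rcases h.ker' (a := b0) (by rwa [show b = 1 from e] at hb) with e | e
      exacts [M.b1 e, M.le0.es.z1 (by have := M.b7; rwa [e, pow_succ, pow_mul _ 2 3, pow_two, M.le0.es.zz, one_pow,
        one_mul] at this)])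
    fun y hy e => by
      obtain ⟨hy, ys⟩ := (R_iff P.L).1 hy
      obtain ⟨a, ha⟩ := P.hA y hy
      obtain ⟨v, hv, e⟩ := h.v4 P.hs (M.F1 a (h.fst ha) (comm_fst (fun _ => graph_one') ha P.hs (mem_cent1.1 ys))
        (h.comm_odd ha hb (n := 3) M.b7 e) (by
          rw [pow_mul _ 2 4, pow_two]; exact M.le0.es.pow4 (sqJ M.lp ((P.J _ ha).2 hy))))
      rcases h.two ha (le_normalizer e) with e | e <;> rw [e]
      exacts [hv, (v4_iff P.L).1 (mul_mem ((v4_iff P.L).2 hv) (mem_sup_left (mem_zpowers z)))]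
  let Y := Wh φ n1 Q' ⊓ (Wh φ n1 Q').comap (MulAut.conj (n1 * t0, p)).toMonoidHom
  have zW : (z0, z) ∈ Wh φ n1 Q' := ⟨h.zz, ⟨M.le0.es.zQ, M.lp.zQ⟩, h.le.es.zQ, P.L.zQ⟩
  have sW : (s0, s) ∈ Wh φ n1 Q' := ⟨P.hs, ⟨M.sQ, M.lp.r.es.zQ⟩, P.L.tQ, P.L.r.es.zQ⟩
  have p1 : n1 * t0 * z0 * (n1 * t0)⁻¹ = s0 := by
    rw [← conj_conj, M.le0.es.cent t0 M.tQ, mul_inv_cancel_right, M.n1z]
  have p2 : n1 * t0 * s0 * (n1 * t0)⁻¹ = z0 * s0 := by rw [← conj_conj, M.ts, ← conj_mul, M.n1z, M.n1s, M.lp.comm]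
  have c1 := M.m3 (Y.map (MonoidHom.fst A G))
    ⟨(z0, z), ⟨zW, mem_comap.2 (Set.mem_of_eq_of_mem (y := (s0, s)) (Prod.ext p1 R.pz) sW)⟩, rfl⟩
    ⟨(s0, s), ⟨sW, mem_comap.2 (Set.mem_of_eq_of_mem (y := (z0, z) * (s0, s)) (Prod.ext p2 R.ps) (mul_mem zW sW))⟩,
      rfl⟩ fun a ha j hj => by
      obtain ⟨x, hx⟩ := h.tot a ha.2
      have as := M.lp.r.es.cent a ha.1
      have hj' := mem_graph φ ⟨j, hj.1⟩
      have w1 : ⁅(a, x), (j, (φ ⟨j, hj.1⟩ : G))⁆ ∈ Wh φ n1 Q' := ⟨comm_mem_right hx hj',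
        M.lp.der_R (commutator_mem_commutator (mem_sup_left ha) (mem_sup_right hj)),
        P.L.der_R (commutator_mem_commutator ((R_iff P.L).2 ⟨(P.J _ hx).1 (mem_sup_left ha), (M.mC h P hx as).2⟩)
          (mem_sup_right ⟨(φ _).2, (M.mC h P (le_normalizer hj') (mem_cent1.1 hj.2)).2⟩))⟩
      have w2 := comm_mem_left (M.nrmW h P hb (mem_cent1.1 bC.2)) w1
      refine ⟨_, ⟨w2, ?_⟩, rfl⟩
      show (n1 * t0, p) * _ * (n1 * t0, p)⁻¹ ∈ Wh φ n1 Q'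
      convert w2 using 1
      exact Prod.ext (pfix M.lp M.pX bC (Commute.mul_left bn.symm bt.symm) w1.2.1) (pfix P.L pX bD R.pb w1.2.2)
  have l1 : Y.map (MonoidHom.fst A G) ≤ Q0 ⊓ cj n1 Q0 := by rintro _ ⟨w, hw, rfl⟩; exact hw.1.2.1
  have l2 : Y.map (MonoidHom.snd A G) ≤ Q ⊓ Q' := by rintro _ ⟨w, hw, rfl⟩; exact hw.1.2.2
  have c2 := card_fs (S := Y) fun w hw => hw.1.1
  have c3 := cardW M.lp M.card
  have c4 := cardW P.L hQ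
  have e1 := eq_of_le_of_card_ge l1 (by omega)
  have e2 := eq_of_le_of_card_ge l2 (by omega)
  have pW : (n1 * t0, p) ∈ N(Wh φ n1 Q') := mem_normalizer_fintype fun w hw => by
    obtain ⟨v, hv, e⟩ := e1.ge hw.2.1
    exact (Prod.ext e ((iso_graph.eq_iff hv.1.1 hw.1).1 e) : v = w) ▸ hv.2
  have sW : ∀ x ∈ Q ⊓ Q', ∃ a, (a, x) ∈ Wh φ n1 Q' := fun x hx => let ⟨v, hv, e⟩ := e2.ge hx; ⟨v.1, e ▸ hv.1⟩
  have cW : #(Q ⊓ Q' : Subgroup G) = 2 ^ 11 := by rw [← e2]; rw [e1, e2] at c2; rw [e1] at c1; rw [e2]; omega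
  refine ⟨t, p * t, ht, by rwa [mul_assoc, tt, mul_one], ?_, by rw [mul_assoc, tt, mul_one, R.p3], ?_, ?_,
    fun a ha => let ⟨v, hv, e⟩ := e1.ge ha; ⟨v.2, e ▸ hv.1⟩, sW, by rw [e1] at c1; omega, cW, fun a ha => ?_⟩
  · calc _ = t⁻¹ * (t * p * (t * p)) * p⁻¹ * (p * t) := by group
      _ = 1 := by rw [R.tp]; group
  · rw [← conj_conj, h.le.es.cent t (graph_snd ht), mul_inv_cancel_right, R.pz]
  · convert mul_mem pW (M.nrmW' h P ht) using 1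
    exact Prod.ext (by simp [mul_assoc, M.tt]) rfl
  obtain ⟨a1, a2, a3, -⟩ := M.od a ha
  have aC := M.odC ha
  obtain ⟨x, hx, e⟩ := h.odd aC.1 a1
  refine ⟨x, hx, e, Commute.mul_left (odd_comm P.L hQ cW pX R.p3 (M.mC h P hx (mem_cent1.1 aC.2)) e
    (mem_cent.2 fun w hw => ?_)) (comm_snd (graph_one φ) hx ht a3).symm⟩
  obtain ⟨a', ha'⟩ := sW w hw
  have xW := M.nrmW h P hx (mem_cent1.1 aC.2)
  refine (cent_snd (S := Wh φ n1 Q') (fun y hy => graph_one φ y hy.1) ?_ ha').symm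
  convert mul_mem (mul_mem (mul_mem pW xW) (inv_mem pW)) (inv_mem xW) using 1
  exact Prod.ext (comm_eq_one.2 (Commute.mul_left a2.symm a3.symm)).symm rfl

theorem Mo.gl {l : List A} (S : St φ t0 n1 l z s Q' t n) (hl : c1 ∈ l ∧ c2 ∈ l) (hf : (f0, f) ∈ graph φ)
    (hb : (b0, b) ∈ N(graph φ)) (nb : n * b = b * n) :
    ∃ v ∈ N(graph φ), (n1, n) * ⁅(f0, f), (b0, b)⁆ * (n1, n)⁻¹ = ⁅v, (b0, b)⁆ := by
  have ns : n * s * n⁻¹ = z := by rw [← S.nz, conj_conj, S.nn]; group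
  have fA : n * f * n⁻¹ ∈ Q' ⊓ C[z] := by
    obtain ⟨g, e1, e2⟩ := P.L.conj
    refine ⟨e2 ▸ h.le.cj_eq (e1.trans S.nz.symm) ▸ mem_cj'.2 ⟨_, graph_snd hf, rfl⟩, mem_cent1.2 ?_⟩
    rw [← ns, conj_mul, conj_mul, (iso_graph.comm hf P.hs).1 M.fs]
  obtain ⟨a, ha⟩ := P.hA _ (mem_sup_left fA)
  have as : a * s0 = s0 * a := comm_fst (fun _ => graph_one') ha P.hs (P.L.r.es.cent _ fA.1)
  have dW : a⁻¹ * t2 ∈ Q0 ⊓ cj n1 Q0 := cenW M.lp M.card S.cW0 (mul_mem (inv_mem ((R_iff M.lp).2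
    ⟨(P.J _ ha).2 (mem_sup_left fA), mem_cent1.2 as⟩)) (mem_sup_left M.t2A)) (mem_cent.2 fun w hw => by
      obtain ⟨x, hx⟩ := S.fW w hw
      refine (cent_fst (S := Wh φ n1 Q') (fun y hy => graph_one' hy.1) ?_ hx).symm
      convert mul_mem (inv_mem (M.nrmW h P ha as)) (mul_mem (mul_mem S.nW (M.nrmW' h P hf)) (inv_mem S.nW)) using 1
      exact Prod.ext (by simp [← M.ht]) (inv_mul_cancel _).symm)
  have k : ∀ c ∈ l, c ∈ [b0, c0, c1, c2] → c * f0 = f0 * c → a⁻¹ * t2 * c = c * (a⁻¹ * t2) := fun c hc hc' cf => by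
    obtain ⟨x, hx, -, nx⟩ := S.od c hc
    obtain ⟨a1, a2, -⟩ := M.od c hc'
    have : Commute a c := h.comm_odd ha hx a1
      (Commute.mul_left (Commute.mul_left nx (comm_snd (graph_one φ) hx hf cf).symm) (Commute.inv_left nx))
    exact Commute.mul_left this.inv_left (M.ht ▸ Commute.mul_left (Commute.mul_left a2.symm cf.symm)
      (Commute.inv_left a2.symm))
  obtain ⟨δ, hδ, e⟩ := h.v4 P.hs (M.L4 _ dW (k _ hl.1 (by simp) M.cf.1) (k _ hl.2 (by simp) M.cf.2))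
  refine ⟨_, mul_mem ha (le_normalizer e), Prod.ext ?_ ?_⟩
  · show n1 * ⁅f0, b0⁆ * n1⁻¹ = ⁅a * (a⁻¹ * t2), b0⁆
    rw [conjugate_commutatorElement, M.ht, ← (M.od b0 (by simp)).2.1, mul_inv_cancel_right, mul_inv_cancel_left]
  · show n * ⁅f, b⁆ * n⁻¹ = ⁅n * f * n⁻¹ * δ, b⁆
    rw [conjugate_commutatorElement, nb, mul_inv_cancel_right]
    calc _ = n * f * n⁻¹ * (b * δ) * δ⁻¹ * (n * f * n⁻¹)⁻¹ * b⁻¹ := by group
      _ = _ := by rw [← cmV P.L hδ (M.mC h P hb (mem_cent1.1 (M.odC (x := b0) (by simp)).2))]; group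

end H18.TE
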