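import Cfsg.Agent.H18.TE6

/-! The embedding of the model. -/

set_option autoImplicit false
set_option linter.unusedSectionVars false

open Cfsg Subgroup
namespace H18.TE
open H19 H16 H0 H0.PM H0.Am H0.Co
open scoped commutatorElement

universe u v
variable {A : Type v} {G : Type u} [Group A] [Group G] [Finite A] [Finite G]
variable {Q0 B : Subgroup A} {z0 s0 t0 n1 n2 f0 t2 b0 c0 c1 c2 : A} {Q Q' : Subgroup G} {z s t b p n f : G}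
  {φ : Q0 ≃* Q}

theorem Lg.split (h : Lg z0 z φ) {K : Subgroup (A × G)} (hK : K ≤ N(graph φ)) (k : ((1 : A), z) ∉ K) {m : ℕ}
    (c : #C[z0] = (2 * m + 1) * #(K.map (MonoidHom.fst A G))) : ∃ S ≤ N(graph φ),
      (∀ v ∈ N(graph φ), ∀ w ∈ N(graph φ), ⁅v, w⁆ ∈ S) ∧ (∀ w ∈ N(graph φ), ∀ j, w ^ (2 * j + 1) = 1 → w ∈ S) ∧
      ((1 : A), z) ∉ S ∧ ∀ w ∈ N(graph φ), w ∈ S ∨ w * (1, z) ∈ S := by
  classical
  let Y := N(graph φ)
  let _ := Fintype.ofFinite (Y ⧸ K.subgroupOf Y)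
  let σ : Y →* ℤˣ := Equiv.Perm.sign.comp (MulAction.toPermHom Y (Y ⧸ K.subgroupOf Y))
  let ζ : Y := ⟨_, h.one_z⟩
  have zz : ζ ^ 2 = 1 := Subtype.ext (Prod.ext (by simp [ζ]) (by simp [ζ, pow_two, h.le.es.zz]))
  have h1 := card_ker_mul (MonoidHom.fst A G) Y
  have h2 := card_ker_mul (MonoidHom.fst A G) K
  rw [show (MonoidHom.fst A G).ker ⊓ Y = (zpowers z).map (MonoidHom.inr A G) from le_antisymm
    (by rintro ⟨a, y⟩ ⟨rfl : a = 1, e⟩; exact ⟨y, h.le.es.mem_zp.2 (h.ker e), rfl⟩)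
    (by rw [MonoidHom.map_zpowers]; exact zpowers_le.2 ⟨rfl, h.one_z⟩),
    card_map_of_injective (Prod.mk_right_injective _), h.le.es.card_zp,
    show Y.map (MonoidHom.fst A G) = C[z0] from le_antisymm (by rintro _ ⟨w, hw, rfl⟩; exact h.fst hw)
      fun a ha => let ⟨x, e⟩ := h.tot a ha; ⟨_, e, rfl⟩] at h1
  rw [show (MonoidHom.fst A G).ker ⊓ K = ⊥ from eq_bot_iff.2 (by
    rintro ⟨a, y⟩ ⟨rfl : a = 1, e⟩
    rcases h.ker (hK e) with rfl | rfl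
    exacts [rfl, (k e).elim]), card_bot, one_mul] at h2
  have h3 := (K.subgroupOf Y).card_mul_index
  rw [Nat.card_congr (subgroupOfEquivOfLe hK).toEquiv, ← h1, c, h2, ← mul_assoc, mul_comm _ #K,
    Nat.mul_right_inj Nat.card_pos.ne'] at h3
  have hσ : σ ζ = -1 := by
    have e : Fintype.card (Function.fixedPoints (MulAction.toPermHom Y (Y ⧸ K.subgroupOf Y) ζ)) = 0 :=
      Fintype.card_eq_zero_iff.2 ⟨fun ⟨x, hx⟩ => by
        obtain ⟨g, rfl⟩ := QuotientGroup.mk_surjective x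
        refine k ?_
        convert mem_subgroupOf.1 (QuotientGroup.eq.1 (Eq.symm hx)) using 1
        exact Prod.ext (by simp [ζ]) (by simp [ζ, ← mem_cent1.1 (h.snd g.2)])⟩
    refine (Equiv.Perm.sign_of_pow_two_eq_one (by rw [← map_pow, zz, map_one])).trans ?_
    rw [e, Fintype.card_eq_nat_card, ← index_eq_card, h3, Nat.sub_zero, Nat.mul_div_cancel_left _ two_pos]
    exact Odd.neg_one_pow ⟨m, rfl⟩
  have mem : ∀ w : Y, w.1 ∈ σ.ker.map Y.subtype ↔ σ w = 1 := fun w => mem_map_iff_mem Y.subtype_injective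
  refine ⟨σ.ker.map Y.subtype, map_subtype_le _, fun v hv w hw => (mem ⁅(⟨v, hv⟩ : Y), ⟨w, hw⟩⁆).2 ?_,
    fun w hw j e => (mem ⟨w, hw⟩).2 ?_, fun e => by simpa [hσ] using (mem ζ).1 e, fun w hw => ?_⟩
  · rw [map_commutatorElement, comm_eq_one, mul_comm]
  · have := congrArg σ (Subtype.ext e : (⟨w, hw⟩ : Y) ^ (2 * j + 1) = 1)
    rwa [map_pow, pow_succ, pow_mul, Int.units_sq, one_pow, one_mul, map_one] at this
  · rcases Int.units_eq_one_or (σ ⟨w, hw⟩) with e | e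
    exacts [.inl ((mem ⟨w, hw⟩).2 e), .inr ((mem (⟨w, hw⟩ * ζ)).2 (by simp [e, hσ]))]

theorem mem_three {x y : G} (h : x ^ 3 = 1) (hy : y ∈ zpowers x) : y = 1 ∨ y = x ∨ y = x * x := by
  obtain ⟨i, rfl⟩ := mem_powers_iff_mem_zpowers.2 hy
  show x ^ i = 1 ∨ x ^ i = x ∨ x ^ i = x * x
  rw [pow_eq_pow_mod i h]
  rcases (by omega : i % 3 = 0 ∨ i % 3 = 1 ∨ i % 3 = 2) with e | e | e <;> simp [e, pow_two]

variable (M : Mo Q0 B z0 s0 t0 n1 n2 f0 t2 b0 c0 c1 c2) (h : Lg z0 z φ) (hQ : #Q = 2 ^ 21) (P : Pr φ z0 s0 n1 z s Q')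
  (T : St φ t0 n1 [b0, c0, c1, c2] z s Q' t n)
include M h hQ P T

theorem Mo.exists_S : ∃ S H, Iso S C[z0] H ∧ graph φ ≤ S ∧ S ≤ N(graph φ) ∧ (∀ w ∈ N(graph φ), w.2 ∈ H) ∧
    (n1, n) ∈ N(Dl S (C[z0] ⊓ C[s0])) := by
  have fQ : f0 ∈ Q0 := M.hf ▸ nrm_conj (M.le0.norm M.n2C) M.tQ
  obtain ⟨f, hf⟩ := iso_graph (φ := φ).tot fQ
  obtain ⟨b, hb, b1, nb⟩ := T.od b0 (by simp)
  obtain ⟨c, hc, c1, nc⟩ := T.od c0 (by simp)
  obtain ⟨b2, bn, -⟩ := M.od b0 (by simp)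
  obtain ⟨c2, cn, -⟩ := M.od c0 (by simp)
  obtain ⟨v, hv, e⟩ := M.gl h hQ P T (by simp) hf hb nb
  have nn : (n1, n) * (n1, n) = 1 := Prod.ext M.n11 T.nn
  have nz : (n1, n) * (z0, z) * (n1, n)⁻¹ = (s0, s) := Prod.ext M.n1z T.nz
  have k2 : ∀ w : A × G, (n1, n) * ((n1, n) * w * (n1, n)⁻¹) * (n1, n)⁻¹ = w := fun w => by rw [conj_conj, nn]; group
  have kb : (n1, n) * (b0, b) * (n1, n)⁻¹ = (b0, b) := mul_inv_eq_iff_eq_mul.2 (Prod.ext bn.symm nb)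
  have kc : (n1, n) * (c0, c) * (n1, n)⁻¹ = (c0, c) := mul_inv_eq_iff_eq_mul.2 (Prod.ext cn.symm nc)
  have gg := comm_mem_left hb hf
  have g1 : ⁅v, (b0, b)⁆.1 = ⁅t2, b0⁆ := by
    rw [← e]; show n1 * ⁅f0, b0⁆ * n1⁻¹ = _
    rw [conjugate_commutatorElement, M.ht, ← bn, mul_inv_cancel_right]
  let U := closure {⁅v, (b0, b)⁆, (b0, b), (c0, c)}
  have U1 : U ≤ N(graph φ) := (closure_le _).2 (by
    rintro _ (rfl | rfl | rfl)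
    exacts [mul_mem (mul_mem (mul_mem hv hb) (inv_mem hv)) (inv_mem hb), hb, hc])
  have U2 : U ≤ N(graph φ).comap (MulAut.conj (n1, n)).toMonoidHom := (closure_le _).2 (by
    rintro _ (rfl | rfl | rfl)
    exacts [mem_comap.2 (Set.mem_of_eq_of_mem (e ▸ k2 _) (le_normalizer gg)), mem_comap.2 (Set.mem_of_eq_of_mem kb hb),
      mem_comap.2 (Set.mem_of_eq_of_mem kc hc)])
  have U3 : U.map (MonoidHom.fst A G) = closure {⁅t2, b0⁆, b0, c0} := by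
    rw [MonoidHom.map_closure, Set.image_insert_eq, Set.image_pair, ← g1]; rfl
  obtain ⟨m, hm⟩ := M.idx
  obtain ⟨S, SN, S1, S2, S3, S4⟩ := h.split (K := U ⊔ graph φ) (sup_le U1 le_normalizer) (fun e => by
    obtain ⟨u, hu, w, hw, e⟩ := (mem_sup_of_norm' U1).1 e
    have u1 : u.1 = 1 := mem_bot.1 (M.QP.le ⟨by
      rw [eq_inv_of_mul_eq_one_left (congrArg Prod.fst e).symm]; exact Q0.inv_mem (graph_fst hw), U3.le ⟨u, hu, rfl⟩⟩)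
    have w1 : w.1 = 1 := by simpa [u1] using (congrArg Prod.fst e).symm
    rw [show w = 1 from Prod.ext w1 (graph_one φ _ (w1 ▸ hw)), mul_one] at e
    rcases h.ker (y := s) (Set.mem_of_eq_of_mem (Prod.ext (by simp) T.nz.symm) (U2 (e ▸ hu))) with e | e
    exacts [P.L.r.es.z1 e, P.L.ne e]) (m := m) (by rw [Subgroup.map_sup, U3, iso_graph.fst, sup_comm, hm])
  have fn : ∀ y, ((1 : A), y) ∈ S → y = 1 := fun y hy => (h.ker (SN hy)).resolve_right fun e => S3 (e ▸ hy)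
  have gS : graph φ ≤ S := fun w hw => by
    obtain ⟨u, hu, e⟩ := ((commutator_le.2 fun q hq a ha => let ⟨x, hx⟩ := h.tot a ha
      ⟨⁅(q, (φ ⟨q, hq⟩ : G)), (a, x)⁆, ⟨comm_mem_left hx (mem_graph φ ⟨q, hq⟩), S1 _ (le_normalizer (mem_graph φ ⟨q, hq⟩)) _ hx⟩,
        rfl⟩ : _ ≤ (graph φ ⊓ S).map (MonoidHom.fst A G))) (M.Qc (graph_fst hw))
    exact (Prod.ext e ((iso_graph.eq_iff hu.1 hw).1 e) : u = w) ▸ hu.2
  have I : Iso S C[z0] (S.map (MonoidHom.snd A G)) := ⟨fn, fun a ha => (h.ker' (SN ha)).resolve_right fun e =>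
    h.le.es.z1 (fn z (by simpa [e] using mul_mem (inv_mem ha) (gS h.zz))), le_antisymm
      (by rintro _ ⟨w, hw, rfl⟩; exact h.fst (SN hw)) fun a ha => let ⟨x, hx⟩ := h.tot a ha
        (S4 _ hx).elim (fun e => ⟨_, e, rfl⟩) fun e => ⟨_, e, mul_one a⟩, rfl⟩
  refine ⟨S, _, I, gS, SN, fun w hw => (S4 w hw).elim (fun e => ⟨_, e, rfl⟩) fun e =>
    ⟨_, mul_mem e (gS h.zz), by simp [mul_assoc, h.le.es.zz]⟩, ?_⟩
  have bS := S2 _ hb 52 (Prod.ext b2 b1)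
  have cS := S2 _ hc 52 (Prod.ext c2 c1)
  let π := nthG [(z0, z), (s0, s), ⁅(f0, f), (b0, b)⁆, ⁅v, (b0, b)⁆, (b0, b), (c0, c)]
  have hπ : ∀ k < 6, π k ∈ S ∧ (n1, n) * π k * (n1, n)⁻¹ ∈ S := fun k hk => by
    interval_cases k
    exacts [⟨gS h.zz, nz ▸ gS P.hs⟩, ⟨gS P.hs, by rw [show π 1 = _ from nz.symm, k2]; exact gS h.zz⟩,
      ⟨gS gg, e ▸ S1 _ hv _ hb⟩, ⟨S1 _ hv _ hb, by rw [show π 3 = _ from e.symm, k2]; exact gS gg⟩, ⟨bS, kb ▸ bS⟩,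
      ⟨cS, kc ▸ cS⟩]
  have nD : n1 ∈ N(C[z0] ⊓ C[s0]) := mem_norm_iff_cj.2 (by rw [cj_inf, cj_cent1, cj_cent1, M.n1z, M.n1s, inf_comm])
  refine I.nrm_gen (fun k hk => (hπ k hk).1) (le_antisymm (M.D0.trans (gen_le.2 fun k hk => ?_))
    (gen_le.2 fun k hk => ?_)) nD fun k hk => (hπ k hk).2
  · refine Set.mem_of_eq_of_mem ?_ (mem_gen (fun k => (π k).1) hk)
    interval_cases k <;> first | rfl | exact g1.symm
  · refine ⟨I.m1 (hπ k hk).1, ?_⟩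
    rw [← M.n1z, ← cj_cent1, ← inv_eq_of_mul_eq_one_left M.n11]
    exact mem_cj_inv.2 (I.m1 (hπ k hk).2)

variable {S : Subgroup (A × G)} {H : Subgroup G} (I : Iso S C[z0] H) (gS : graph φ ≤ S) (SN : S ≤ N(graph φ))
  (nD : (n1, n) ∈ N(Dl S (C[z0] ⊓ C[s0])))
include I gS SN nD

theorem Mo.braid {m : G} (hm : (n2, m) ∈ S) : (m * n) ^ 3 = 1 := by
  have L := P.L
  have mm : m * m = 1 := I.fn _ (M.n22 ▸ mul_mem hm hm)
  have hu : (n2 * s0 * n2⁻¹, m * s * m⁻¹) ∈ graph φ := nrm_conj (SN hm) P.hs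
  have uW : m * s * m⁻¹ ∈ Q ⊓ Q' := by
    obtain ⟨x, hx⟩ := T.fW _ ⟨graph_fst hu, mem_cj'.2 ⟨_, graph_fst hu, M.nu⟩⟩
    exact Set.mem_of_eq_of_mem ((iso_graph.eq_iff hu hx.1).1 rfl) hx.2.2
  have zW := L.V_le_E (mem_sup_left (mem_zpowers z))
  have sW := L.V_le_E (mem_sup_right (mem_zpowers s))
  let D := C[z0] ⊓ C[s0] ⊓ C[n2 * s0 * n2⁻¹]
  have d1 : (n1, n) ∈ N(Dl S D) := Dl_Dl (S := S) (inf_le_left : D ≤ _) ▸ nrm_Dl nD (mem_norm_iff_cj.2 (by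
    rw [cj_inf, cj_inf, cj_cent1, cj_cent1, cj_cent1, M.n1z, M.n1s, M.nu, inf_comm C[s0]]))
  have d2 : (n2, m) ∈ N(Dl S D) := nrm_Dl (le_normalizer hm) (mem_norm_iff_cj.2 (by
    rw [cj_inf, cj_inf, cj_of_mem M.n2C, cj_cent1, cj_cent1, conj_conj, M.n22, one_mul, inv_one, mul_one, inf_right_comm]))
  have d3 : ((1 : A), (m * n) ^ 3) ∈ N(Dl S D) := by
    convert pow_mem (mul_mem d2 d1) 3 using 1
    refine Prod.ext ?_ rfl
    show 1 = (n2 * n1) ^ 3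
    rw [show n2 * n1 = n1⁻¹ * (n1 * n2) * n1⁻¹⁻¹ by group, conj_pow, M.nn]; group
  have gn : n * (m * n) ^ 3 * n⁻¹ = ((m * n) ^ 3)⁻¹ := by
    rw [← inv_pow, mul_inv_rev, ← conj_pow, inv_eq_of_mul_eq_one_left mm, inv_eq_of_mul_eq_one_left T.nn, mul_assoc,
      mul_assoc, T.nn, mul_one]
  have gm : m * (m * n) ^ 3 * m⁻¹ = ((m * n) ^ 3)⁻¹ := by
    rw [← inv_pow, mul_inv_rev, ← conj_pow, ← mul_assoc, mm, one_mul, inv_eq_of_mul_eq_one_left T.nn]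
  have gp : ((m * n) ^ 3 * (n * t)) ^ 3 = 1 := by
    have f1 : (n2, m) * (t0, t) * (n2, m)⁻¹ ∈ graph φ := nrm_conj (SN hm) T.ht
    have f2 := nrm_conj nD ⟨gS f1, M.le0.es.le_cent (graph_fst f1), mem_cent1.2 (by
      have := M.fs; rwa [← M.hf] at this)⟩
    have f3 : (m * (n * (m * t * m⁻¹) * n⁻¹)) ^ 3 = 1 := I.fn _ (by
      convert pow_mem (mul_mem hm f2.1) 3 using 1
      exact Prod.ext (by rw [← M.n2t, ← M.ht, ← M.hf]; rfl) rfl)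
    have : (m * n) ^ 3 * (n * t) = m * n * (m * (n * (m * t * m⁻¹) * n⁻¹)) * (m * n)⁻¹ := by
      calc _ = m * n * (m * (n * (m * (n * n) * t))) := by rw [pow_three]; group
        _ = m * n * (m * (n * (m * t * (m * m)⁻¹))) * (m * ((n * n)⁻¹ * m⁻¹)) := by rw [T.nn, mm]; group
        _ = m * n * (m * (n * (m * t * m⁻¹ * m⁻¹ * m))) * ((n * n)⁻¹ * m⁻¹) := by group
        _ = _ := by group
    rw [this, conj_pow, f3]; group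
  generalize (m * n) ^ 3 = g at d3 gn gm gp
  have cy : ∀ w ∈ Q, w * s = s * w → w * (m * s * m⁻¹) = m * s * m⁻¹ * w → g * w = w * g := fun w hw e1 e2 => by
    obtain ⟨a, ha⟩ := graph_ex (φ := φ) hw
    exact cent_snd (S := Dl S D) (fun y hy => I.fn y hy.1) d3 ⟨gS ha, ⟨M.le0.es.le_cent (graph_fst ha),
      mem_cent1.2 ((iso_graph.comm ha P.hs).2 e1)⟩, mem_cent1.2 ((iso_graph.comm ha hu).2 e2)⟩
  have gW : g ∈ C(Q ⊓ Q') := mem_cent.2 fun w hw => (cy w hw.1 (cmW L hw sW) (cmW L hw uW)).symm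
  have gD : g ∈ C[z] ⊓ C[s] := ⟨mem_cent1.2 (mem_cent.1 gW _ zW).symm, mem_cent1.2 (mem_cent.1 gW _ sW).symm⟩
  have g2 : g * g ∈ Q' ⊓ C[z] ⊔ Q ⊓ C[s] := by
    let E := zpowers z ⊔ zpowers s ⊔ zpowers (m * s * m⁻¹)
    have EW : E ≤ Q ⊓ Q' := sup_le L.V_le_E (zpowers_le.2 uW)
    have zE : z ∈ E := mem_sup_left (mem_sup_left (mem_zpowers z))
    have c1 : ∀ w ∈ Q ⊓ C(E), g * w = w * g := fun w hw => cy w hw.1
      (mem_cent.1 hw.2 _ (mem_sup_left (mem_sup_right (mem_zpowers s)))).symm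
      (mem_cent.1 hw.2 _ (mem_sup_right (mem_zpowers _))).symm
    refine mem_sup_left ((le_inf (zpowers_le.2 L.zQ) (zpowers_le.2 (mem_cent1_self z)) : zpowers z ≤ _)
      (L.l.cent_eq.le (mem_cent.2 fun x hx => ?_)))
    have rW : ⁅g, x⁆ ∈ Q ⊓ Q' := EW ((L.l.es.cent_cent zE (EW.trans inf_le_left)).le ⟨comm_mem_right (L.l.norm gD.1) hx,
      mem_cent.2 fun w hw => by
        have := c1 _ (nrm_conj (L.l.es.norms_of_le (A := Q ⊓ C(E)) ⟨L.l.es.zQ, mem_cent.2 fun v hv => cmW L (EW hv) zW⟩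
          inf_le_left (inv_mem hx)) hw)
        calc _ = (w * g) * x * g⁻¹ * x⁻¹ := by group
          _ = g * x * (g⁻¹ * (g * (x⁻¹ * w * x⁻¹⁻¹)) * g⁻¹) * x⁻¹ := by rw [← c1 w hw]; group
          _ = _ := by rw [this]; group⟩)
    calc _ = ⁅g, x⁆ * ⁅g, x⁆ * x * (g * g) := by rw [sqW L rW, one_mul]
      _ = ⁅g, x⁆ * g * x * g := by group
      _ = _ := by rw [mem_cent.1 gW _ rW]; group
  have nR := L.cent_norm_R gD
  have r1 := L.comm_X (commutator_mem_commutator T.pX gD)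
  have r2 := mul_mem (nrm_conj (L.X_norm_R T.pX) r1) r1
  have p3 := T.p3
  have pX := T.pX
  generalize n * t = p at gp r1 r2 p3 pX
  have g3 : g * (p * g * p⁻¹) * (p * (p * g * p⁻¹) * p⁻¹) = 1 := by
    calc _ = (g * p) ^ 3 * (p ^ 3)⁻¹ := by rw [pow_three, pow_three]; group
      _ = 1 := by rw [gp, p3]; group
  have gR : g ∈ Q' ⊓ C[z] ⊔ Q ⊓ C[s] := by
    convert mul_mem (inv_mem (mul_mem (nrm_conj nR r1) (nrm_conj (mul_mem nR nR) r2))) (inv_mem g2) using 1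
    rw [← mul_inv_rev, eq_inv_iff_mul_eq_one]
    calc _ = g * g * g * (g * (p * g * p⁻¹) * (p * (p * g * p⁻¹) * p⁻¹)) * (g * g * g)⁻¹ := by group
      _ = 1 := by rw [g3]; group
  have gV := v4_of L pX (cenW L hQ T.cW gR gW) g3
  rw [inv_eq_of_mul_eq_one_left (sqV L gV)] at gn gm
  rcases gV with e | e | e | e
  · exact e
  · exact (L.ne (by rwa [e, T.nz] at gn)).elim
  · exact (L.ne (by rw [e, ← T.nz, conj_conj, T.nn, T.nz] at gn; simpa using gn.symm)).elim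
  · rw [e, ← conj_mul, mem_cent1.1 (h.snd (SN hm)), mul_inv_cancel_right] at gm
    exact (M.us ((iso_graph.eq_iff hu P.hs).2 (mul_left_cancel gm))).elim

theorem Mo.gam : ∃ Γ : Subgroup (A × G), (∀ y, ((1 : A), y) ∈ Γ → y = 1) ∧ (n1, n) ∈ Γ ∧ Dl S B ≤ Γ ∧
    Dl S (C[z0] ⊓ C[s0]) ≤ Γ := by
  have zz := M.le0.es.zz
  have tz : t0 * z0 * t0⁻¹ = z0 := mul_inv_eq_iff_eq_mul.2 (M.le0.es.cent t0 M.tQ)
  have c4 : z0 * (z0 * s0) = s0 := by rw [← mul_assoc, zz, one_mul]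
  have tD : (t0, t) ∈ N(Dl S (C[z0] ⊓ C[s0])) := nrm_Dl (le_normalizer (gS T.ht)) (by
    rw [← cent_pair]; exact norm_le_norm_cent _ (M.lp.norm_V M.tQ))
  have tt : (t0, t) * (t0, t) = 1 := Prod.ext M.tt (graph_one φ _ (M.tt ▸ mul_mem T.ht T.ht))
  have p1 : n1 * t0 * z0 * (n1 * t0)⁻¹ = s0 := by rw [← conj_conj, tz, M.n1z]
  have p2 : n1 * t0 * s0 * (n1 * t0)⁻¹ = z0 * s0 := by rw [← conj_conj, M.ts, ← conj_mul, M.n1z, M.n1s, M.lp.comm]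
  have p3 : n1 * t0 * (n1 * t0) * z0 * (n1 * t0 * (n1 * t0))⁻¹ = z0 * s0 := by rw [← conj_conj, p1, p2]
  refine ⟨zpowers (t0, t) ⊔ zpowers ((n1, n) * (t0, t)) ⊔ Dl S (C[z0] ⊓ C[s0]), fun y hy => ?_,
    mem_sup_left ?_, fun w hw => ?_, le_sup_right⟩
  · obtain ⟨σ, hσ, d, hd, e⟩ := (mem_sup_of_norm' (sup_le (zpowers_le.2 tD) (zpowers_le.2 (mul_mem nD tD)))).1 hy
    have σ1 : σ.1 ∈ C[z0] ⊓ C[s0] := by
      rw [eq_inv_of_mul_eq_one_left (congrArg Prod.fst e).symm]; exact inv_mem (s := C[z0] ⊓ C[s0]) hd.2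
    have e1 := mul_inv_eq_iff_eq_mul.2 (mem_cent1.1 σ1.1)
    have e2 := mul_inv_eq_iff_eq_mul.2 (mem_cent1.1 σ1.2)
    obtain ⟨τ, hτ, ρ, hρ, rfl⟩ := (mem_sup_of_norm' (zpowers_le.2 (mem_norm_iff_cj.2 (by
      rw [cj_zpowers, ← zpowers_inv, ← mul_assoc, mul_inv_cancel_right, mul_inv_rev, inv_eq_of_mul_eq_one_left tt,
        inv_eq_of_mul_eq_one_left (Prod.ext M.n11 T.nn : (n1, n) * (n1, n) = 1)])))).1 hσ
    rcases (mem_zpowers_inv tt).1 hτ with rfl | rfl <;>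
      rcases mem_three (Prod.ext M.nt T.p3) hρ with rfl | rfl | rfl <;>
      simp only [Prod.fst_mul, Prod.fst_one, one_mul, mul_one] at e1 e2
    · exact I.fn y (by rw [e]; simpa using hd.1)
    · exact (M.sz (p1.symm.trans e1)).elim
    · exact (M.lp.r.es.z1 (by simpa using p3.symm.trans e1)).elim
    · exact (M.le0.es.z1 (by simpa using M.ts.symm.trans e2)).elim
    · rw [← conj_conj, p1, M.ts] at e1; exact (M.lp.r.es.z1 (by simpa using e1)).elim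
    · rw [← conj_conj, p3, ← conj_mul, tz, M.ts, c4] at e1; exact (M.sz e1).elim
  · exact Set.mem_of_eq_of_mem (mul_inv_cancel_right _ _).symm
      (mul_mem (mem_sup_right (mem_zpowers _)) (inv_mem (mem_sup_left (mem_zpowers (t0, t)))))
  · obtain ⟨v, hv, e⟩ := (sup_le (zpowers_le.2 ⟨_, mem_sup_left (mem_zpowers (t0, t)), rfl⟩) (fun a ha =>
      let ⟨x, hx⟩ := I.tot ha.1; ⟨(a, x), mem_sup_right ⟨hx, ha⟩, rfl⟩) :
        zpowers t0 ⊔ C[z0] ⊓ C[s0] ≤ (zpowers (t0, t) ⊔ Dl S (C[z0] ⊓ C[s0])).map (MonoidHom.fst A G)) (M.BD hw.2)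
    exact (Prod.ext e ((I.eq_iff ((sup_le (zpowers_le.2 (gS T.ht)) inf_le_left : _ ≤ S) hv) hw.1).1 e) : v = w) ▸
      (sup_le_sup_right le_sup_left _ : zpowers (t0, t) ⊔ Dl S (C[z0] ⊓ C[s0]) ≤ _) hv

theorem Mo.emb [hs : IsSimpleGroup A] (R : BNPair A) (hB : R.B = B)
    (μ : ∀ r : R.S, ∃ a ∈ R.N, (r : A)⁻¹ * a ∈ B ∧ (a = n1 ∨ a = n2 ∨ a ∈ C[z0] ⊓ C[s0])) :
    ∃ ι : A →* G, Function.Injective ι ∧ ∀ w ∈ S, ι w.1 = w.2 := by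
  obtain ⟨m, hm⟩ := I.tot M.n2C
  obtain ⟨Γ, fn, nΓ, BΓ, DΓ⟩ := M.gam h hQ P T I gS SN nD
  have n1C : n1 ∉ C[z0] := fun e => M.sz (by rw [← M.n1z, mem_cent1.1 e, mul_inv_cancel_right])
  choose ν h1 h2 h3 using fun r : R.S => show ∃ w : A × G, w.1 ∈ R.N ∧ (r : A)⁻¹ * w.1 ∈ R.B ∧
      (w = (n1, n) ∨ w = (n2, m) ∨ w ∈ Dl S (C[z0] ⊓ C[s0])) by
    obtain ⟨a, a1, a2, rfl | rfl | a3⟩ := μ r
    exacts [⟨_, a1, hB ▸ a2, .inl rfl⟩, ⟨_, a1, hB ▸ a2, .inr (.inl rfl)⟩,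
      let ⟨x, hx⟩ := I.tot a3.1; ⟨(a, x), a1, hB ▸ a2, .inr (.inr ⟨hx, a3⟩)⟩]
  have k1 : ∀ w ∈ Γ, w.1 ∈ R.B → w ∈ Dl S B := fun w hw e => by
    obtain ⟨x, hx⟩ := I.tot (M.BC (hB ▸ e))
    have : (w.1, x) ∈ Dl S B := ⟨hx, hB ▸ e⟩
    convert this using 1
    exact Prod.ext rfl (mul_inv_eq_one.1 (fn _ (Set.mem_of_eq_of_mem (y := w * (w.1, x)⁻¹)
      (Prod.ext (mul_inv_cancel _).symm rfl) (mul_mem hw (inv_mem (BΓ this))))))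
  have k2 : ∀ w : A × G, w ^ 3 = 1 → w.1 ∉ C[z0] → ∀ k : ℕ, w.1 ^ k ∈ R.B → w ^ k ∈ Dl S B := fun w e1 e2 k e => by
    have e3 : (w ^ k).1 ∈ C[z0] := M.BC (hB ▸ e)
    rcases mem_three e1 (npow_mem_zpowers w k) with q | q | q <;> rw [q] at e3 ⊢
    exacts [one_mem _, (e2 e3).elim, (e2 (by
      rw [← inv_mem_iff, inv_eq_of_mul_eq_one_left (b := w.1) (a := (w * w).1) (congrArg Prod.fst (pow_three' w ▸ e1))]
      exact e3)).elim]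
  have b1 : ((n2, m) * (n1, n)) ^ 3 = 1 := Prod.ext (by
    show (n2 * n1) ^ 3 = 1
    rw [show n2 * n1 = n1⁻¹ * (n1 * n2) * n1⁻¹⁻¹ by group, conj_pow, M.nn]; group) (M.braid h hQ P T I gS SN nD hm)
  have t : Tits R (Dl S B) ν := by
    refine ⟨le_antisymm (by rintro _ ⟨w, hw, rfl⟩; exact hB ▸ hw.2) fun a ha =>
      let ⟨x, hx⟩ := I.tot (M.BC (hB ▸ ha)); ⟨(a, x), ⟨hx, hB ▸ ha⟩, rfl⟩, h1, h2, fun r y hy => ?_, fun r r' k e => ?_⟩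
    · rcases h3 r with q | q | q
      exacts [fn y ((sup_le BΓ (zpowers_le.2 (q ▸ nΓ)) : _ ≤ Γ) hy),
        I.fn y ((sup_le inf_le_left (zpowers_le.2 (q ▸ hm)) : _ ≤ S) hy),
        I.fn y ((sup_le inf_le_left (zpowers_le.2 q.1) : _ ≤ S) hy)]
    · have a1 : ν r ∈ Γ → ν r' ∈ Γ → (ν r * ν r') ^ k ∈ Dl S B := fun a b => k1 _ (pow_mem (mul_mem a b) k) e
      have a2 : ν r ∈ S → ν r' ∈ S → (ν r * ν r') ^ k ∈ Dl S B := fun a b => ⟨pow_mem (mul_mem a b) k, hB ▸ e⟩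
      rcases h3 r with q | q | q <;> rcases h3 r' with q' | q' | q'
      exacts [a1 (q ▸ nΓ) (q' ▸ nΓ), k2 _ (by
          rw [q, q', show (n1, n) * (n2, m) = (n1, n) * ((n2, m) * (n1, n)) * (n1, n)⁻¹ by group, conj_pow, b1]; group)
          (by rw [q, q']; exact fun e => n1C ((mul_mem_cancel_right M.n2C).1 e)) k e,
        a1 (q ▸ nΓ) (DΓ q'), k2 _ (by rw [q, q', b1])
          (by rw [q, q']; exact fun e => n1C ((mul_mem_cancel_left M.n2C).1 e)) k e,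
        a2 (q ▸ hm) (q' ▸ hm), a2 (q ▸ hm) q'.1, a1 (DΓ q) (q' ▸ nΓ), a2 q.1 (q' ▸ hm), a2 q.1 q'.1]
  obtain ⟨r0⟩ : Nonempty R.S := by
    by_contra e
    refine n1C (M.BC (hB ▸ (H13.BN.parabolic_le_iff.2 ⟨le_rfl, fun r hr => (e ⟨r, hr⟩).elim⟩ : R.parabolic R.S ≤ R.B) ?_))
    rw [H13.BN.parabolic_S]; trivial
  obtain ⟨fn', top⟩ := t.main r0
  set Γ' := Dl S B ⊔ closure (Set.range ν)
  have hS : S ≤ Γ' := fun w hw => by
    have BΓ' : R.B ≤ (S ⊓ Γ').map (MonoidHom.fst A G) := fun a ha =>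
      let ⟨x, hx⟩ := I.tot (M.BC (hB ▸ ha)); ⟨(a, x), ⟨hx, mem_sup_left ⟨hx, hB ▸ ha⟩⟩, rfl⟩
    obtain ⟨v, hv, e⟩ := (H13.BN.parabolic_le_iff.2 ⟨BΓ', fun r hr => by
      have a : (ν ⟨r, hr.1⟩).1 ∈ C[z0] := Set.mem_of_eq_of_mem (mul_inv_cancel_left r _).symm
        (C[z0].mul_mem hr.2 (M.BC (hB ▸ h2 ⟨r, hr.1⟩)))
      have b : ν ⟨r, hr.1⟩ ∈ S := by
        rcases h3 ⟨r, hr.1⟩ with q | q | q
        exacts [(n1C (by rwa [q] at a)).elim, q ▸ hm, q.1]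
      simpa using mul_mem (⟨_, ⟨b, mem_sup_right (subset_closure ⟨_, rfl⟩)⟩, rfl⟩ :
        (ν ⟨r, hr.1⟩).1 ∈ (S ⊓ Γ').map (MonoidHom.fst A G)) (inv_mem (BΓ' (h2 ⟨r, hr.1⟩)))⟩ : _ ≤ _)
      ((H13.BN.eq_parabolic (hB ▸ M.BC : R.B ≤ C[z0])).le (I.m1 hw))
    exact (Prod.ext e ((I.eq_iff hv.1 hw).1 e) : v = w) ▸ hv.2
  let e := MulEquiv.ofBijective ((MonoidHom.fst A G).comp Γ'.subtype) ⟨
    (injective_iff_map_eq_one _).2 fun w hw => Subtype.ext (Prod.ext hw (fn' _ (hw ▸ w.2 : (_, _) ∈ Γ'))),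
    fun a => let ⟨w, hw, e⟩ := top.ge (mem_top a); ⟨⟨w, hw⟩, e⟩⟩
  let ι := ((MonoidHom.snd A G).comp Γ'.subtype).comp e.symm.toMonoidHom
  have k : ∀ w ∈ S, ι w.1 = w.2 := fun w hw => congrArg (fun v : Γ' => v.1.2) (e.symm_apply_apply ⟨w, hS hw⟩)
  exact ⟨ι, (MonoidHom.ker_eq_bot_iff ι).1 ((hs.eq_bot_or_eq_top_of_normal _ inferInstance).resolve_right
    fun e => h.le.es.z1 ((k _ (gS h.zz)).symm.trans (e.ge (mem_top z0)))), k⟩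

omit P T I gS SN nD

theorem Mo.main [IsSimpleGroup A] (R : BNPair A) (hB : R.B = B)
    (μ : ∀ r : R.S, ∃ a ∈ R.N, (r : A)⁻¹ * a ∈ B ∧ (a = n1 ∨ a = n2 ∨ a ∈ C[z0] ⊓ C[s0]))
    (hA : ∀ g, g * z * g⁻¹ ∈ Q → g * z * g⁻¹ ≠ z → ∀ x ∈ cj g Q ⊓ C[z], ∃ a, (a, x) ∈ N(graph φ))
    {g : G} (h1 : g * z * g⁻¹ ∈ Q) (h2 : g * z * g⁻¹ ≠ z) :
    ∃ ι : A →* G, Function.Injective ι ∧ (∀ w ∈ graph φ, ι w.1 = w.2) ∧ (∀ w ∈ N(graph φ), w.2 ∈ ι.range) ∧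
      (∀ q ∈ Q0, IsConj z (ι q) → IsConj z0 q) ∧ oddCore G = ⊥ := by
  obtain ⟨q0, hq⟩ := graph_ex (φ := φ) h1
  obtain ⟨w, -, -, P⟩ := M.match h hQ hq (h.le.lp h1 h2) (hA g h1 h2)
  obtain ⟨t, n, T⟩ := M.exists_n h hQ P
  obtain ⟨S, H, I, gS, SN, hH, nD⟩ := M.exists_S h hQ P T
  obtain ⟨ι, hι, k⟩ := M.emb h hQ P T I gS SN nD R hB μ
  have kz : ι z0 = z := k _ (gS h.zz)
  refine ⟨ι, hι, fun w hw => k w (gS hw), fun w hw => let ⟨a, ha⟩ := I.sur (hH w hw); ⟨a, k _ ha⟩, fun q hq e => ?_,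
    odd_bot (a := ι n1) (b := ι (t0 * n1)) h.le ?_⟩
  · obtain ⟨g, e⟩ := isConj_iff.1 e
    obtain ⟨x, hx⟩ := iso_graph (φ := φ).tot hq
    obtain rfl : g * z * g⁻¹ = x := e.trans (k _ (gS hx))
    by_cases e' : g * z * g⁻¹ = z
    · rw [show q = z0 from (iso_graph.eq_iff hx h.zz).2 e']
    obtain ⟨w, -, e, -⟩ := M.match h hQ hx (h.le.lp (graph_snd hx) e') (hA g (graph_snd hx) e')
    exact (isConj_iff.2 ⟨n1, M.n1z⟩).trans (isConj_iff.2 ⟨w.1, e⟩).symm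
  · rw [← kz, ← map_inv, ← map_inv, ← map_mul, ← map_mul, ← map_mul, ← map_mul, ← map_mul, ← conj_conj, M.n1z, M.ts]

end H18.TE
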