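import Cfsg.Agent.H18.TE7
import Cfsg.Agent.H18.TEg.A

/-! Partial homomorphisms and other tools for the model. -/

set_option autoImplicit false
set_option linter.unusedSectionVars false

open Cfsg Subgroup
namespace H18.TE
open H19 H16 H0 H0.PM H0.Am H0.Co H0.TR
open scoped commutatorElement

universe u v
variable {A : Type v} {B : Type u} [Group A] [Group B]

/-- a surjection from `C` with kernel `K` -/
structure PH (C K : Subgroup A) (π : A → B) : Prop where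
  mul : ∀ x ∈ C, ∀ y ∈ C, π (x * y) = π x * π y
  sur : ∀ b, ∃ x ∈ C, π x = b
  ker : ∀ x ∈ C, π x = 1 ↔ x ∈ K
  le : K ≤ C

open Classical in
theorem ph_of {C K : Subgroup A} (f : C →* B) (s : Function.Surjective f) (k : ∀ x, f x = 1 ↔ x.1 ∈ K) (le : K ≤ C) :
    ∃ π : A → B, PH C K π ∧ ∀ x : C, π x = f x :=
  ⟨fun x => if h : x ∈ C then f ⟨x, h⟩ else 1, ⟨fun x hx y hy => by
    simp only [dif_pos hx, dif_pos hy, dif_pos (mul_mem hx hy), ← map_mul]; rfl,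
    fun b => let ⟨x, e⟩ := s b; ⟨x, x.2, by simp only [dif_pos x.2, e]⟩,
    fun x hx => by simp only [dif_pos hx, k], le⟩, fun x => dif_pos x.2⟩

namespace PH
variable {C K H : Subgroup A} {π : A → B} (h : PH C K π) {x y : A}
include h

/-- the homomorphism -/
def hom : C →* B := MonoidHom.mk' (fun x => π x) fun x y => h.mul _ x.2 _ y.2

theorem hom_sur : Function.Surjective h.hom := fun b => let ⟨x, hx, e⟩ := h.sur b; ⟨⟨x, hx⟩, e⟩
theorem hom_ker (x : C) : h.hom x = 1 ↔ x.1 ∈ K := h.ker _ x.2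
theorem one : π 1 = 1 := h.hom.map_one
theorem inv (hx : x ∈ C) : π x⁻¹ = (π x)⁻¹ := h.hom.map_inv ⟨x, hx⟩
theorem pow (hx : x ∈ C) (n : ℕ) : π (x ^ n) = π x ^ n := h.hom.map_pow ⟨x, hx⟩ n
theorem cjg (hx : x ∈ C) (hy : y ∈ C) : π (x * y * x⁻¹) = π x * π y * (π x)⁻¹ := by
  rw [h.mul _ (mul_mem hx hy) _ (inv_mem hx), h.mul _ hx _ hy, h.inv hx]
theorem eq (hx : x ∈ C) (hy : y ∈ C) : π x = π y ↔ x⁻¹ * y ∈ K := by
  rw [← h.ker _ (mul_mem (inv_mem hx) hy), h.mul _ (inv_mem hx) _ hy, h.inv hx, inv_mul_eq_one]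
theorem comm (hx : x ∈ C) (hy : y ∈ C) : π x * π y = π y * π x ↔ ⁅x, y⁆ ∈ K := by
  rw [← h.ker _ (commutatorElement_def x y ▸ mul_mem (mul_mem (mul_mem hx hy) (inv_mem hx)) (inv_mem hy)),
    ← comm_eq_one]
  exact (map_commutatorElement h.hom ⟨x, hx⟩ ⟨y, hy⟩).symm ▸ Iff.rfl
theorem cm (hx : x ∈ C) (hy : y ∈ C) (e : x * y = y * x) : π x * π y = π y * π x := by
  rw [← h.mul _ hx _ hy, e, h.mul _ hy _ hx]

theorem ev {a : ℕ → A} {W : List ℕ} (hW : ∀ k ∈ W, a k ∈ C) : π (evA a W) = evA (fun k => π (a k)) W := by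
  induction W with
  | nil => exact h.one
  | cons k W ih =>
    obtain ⟨p, q⟩ := List.forall_mem_cons.1 hW
    rw [evA_cons, evA_cons, h.mul _ (evA_mem a q) _ p, ih q]

/-- the image -/
def im (H : Subgroup A) : Subgroup B := (H.subgroupOf C).map h.hom

theorem mem_im {b : B} : b ∈ h.im H ↔ ∃ x ∈ H, x ∈ C ∧ π x = b :=
  ⟨fun ⟨x, p, q⟩ => ⟨x, p, x.2, q⟩, fun ⟨x, p, q, r⟩ => ⟨⟨x, q⟩, p, r⟩⟩
theorem to_im (hx : x ∈ H) (hc : x ∈ C) : π x ∈ h.im H := h.mem_im.2 ⟨x, hx, hc, rfl⟩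
theorem of_im (hK : K ≤ H) (hc : x ∈ C) (hx : π x ∈ h.im H) : x ∈ H := by
  obtain ⟨y, p, q, r⟩ := h.mem_im.1 hx
  simpa using mul_mem p (hK ((h.eq q hc).1 r))

theorem card_im (hH : H ≤ C) : #(K ⊓ H : Subgroup A) * #(h.im H) = #H := by
  rw [← Nat.card_congr (subgroupOfEquivOfLe hH).toEquiv, ← card_ker_mul h.hom,
    ← Nat.card_congr (subgroupOfEquivOfLe (inf_le_right.trans hH : K ⊓ H ≤ C)).toEquiv]
  congr 3; ext x; simp [mem_subgroupOf, h.hom_ker]
theorem card_im' (hK : K ≤ H) (hH : H ≤ C) : #K * #(h.im H) = #H := by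
  rw [← h.card_im hH, inf_eq_left.2 hK]
theorem card : #K * Nat.card B = #C := by
  rw [← h.card_im' h.le le_rfl, show h.im C = ⊤ from top_le_iff.1 fun b _ => let ⟨x, p, q⟩ := h.sur b
    h.mem_im.2 ⟨x, p, p, q⟩, card_top]

theorem gen_le_im {a : ℕ → A} {σ : List ℕ} {n : ℕ} (hs : σ.length = n) (hH : H ≤ C) (e : ∀ k ∈ σ, a k ∈ H) :
    gen (rl σ fun k => π (a k)) n ≤ h.im H := gen_le.2 fun k hk =>
  have : nth 0 σ k ∈ σ := by rw [nth_eq_getD, List.getD_eq_getElem _ _ (hs ▸ hk)]; exact List.getElem_mem _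
  h.to_im (e _ this) (hH (e _ this))

theorem cj_eq {F F' : Subgroup A} (h1 : K ≤ F) (h2 : F ≤ C) (h3 : K ≤ F') (h4 : F' ≤ C) (hx : x ∈ C)
    (e : cj (π x) (h.im F) = h.im F') : cj x F = F' := by
  ext y
  have c : y ∈ C → π (x⁻¹ * y * x) = (π x)⁻¹ * π y * π x := fun hy => by
    simpa [h.inv hx] using h.cjg (inv_mem hx) hy
  rw [mem_cj]
  refine ⟨fun p => ?_, fun p => ?_⟩
  · have hy : y ∈ C := by simpa [mul_assoc] using mul_mem (mul_mem hx (h2 p)) (inv_mem hx)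
    exact h.of_im h3 hy (by rw [← e, mem_cj, ← c hy]; exact h.to_im p (h2 p))
  · exact h.of_im h1 (mul_mem (mul_mem (inv_mem hx) (h4 p)) hx) (by
      rw [c (h4 p), ← mem_cj, e]; exact h.to_im p (h4 p))

end PH

theorem exists_bar [Finite A] {V : Type u} [MulAction A V] {z : A} {a : ℕ → A} {pt : ℕ → V} {P : ℕ → ℕ → ℕ} {N K : ℕ}
    (h : Act a pt P N K) (inj : PtInj pt N) (h0 : 0 < N) (hz : ∀ i < N, z • pt i = pt i) (hk : ∀ k < K, a k ∈ C[z]) :
    ∃ (B : Type v) (_ : Group B) (Ω : Type u) (_ : MulAction B Ω) (π : A → B) (pt' : ℕ → Ω),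
      AM (fun k => π (a k)) pt' P N K ∧ PH C[z] (zpowers z) π := by
  let Ω := {v : V // z • v = v}
  let _ : MulAction C[z] Ω :=
    { smul := fun c v => ⟨c.1 • v.1, by rw [← mul_smul, ← mem_cent1.1 c.2, mul_smul, v.2]⟩
      one_smul := fun v => Subtype.ext (one_smul A v.1)
      mul_smul := fun c d v => Subtype.ext (mul_smul c.1 d.1 v.1) }
  let Z := (zpowers z).subgroupOf C[z]
  have : Z.Normal := normal_subgroupOf_of_le_normalizer (cent_zpowers z ▸ cent_le_norm _)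
  let ψ := QuotientGroup.lift Z (MulAction.toPermHom C[z] Ω) fun c hc => Equiv.ext fun v => Subtype.ext
    ((zpowers_le (H := MulAction.stabilizer A v.1)).2 v.2 hc)
  let _ := MulAction.compHom Ω ψ
  obtain ⟨π, p, e⟩ := ph_of (K := zpowers z) (QuotientGroup.mk' Z) (QuotientGroup.mk'_surjective Z)
    (fun x => QuotientGroup.eq_one_iff x) (zpowers_le.2 (mem_cent1_self z))
  refine ⟨_, _, Ω, inferInstance, π, fun i => ⟨pt (if i < N then i else 0), hz _ (by split_ifs <;> assumption)⟩,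
    ⟨fun k hk' i hi => ⟨(h k hk' i hi).1, Subtype.ext ?_⟩, fun i hi j hj q => inj i hi j hj ?_, inferInstance⟩, p⟩
  · have := h k hk' i hi
    rw [e ⟨a k, hk k hk'⟩]
    simp only [if_pos hi, if_pos this.1, ← this.2]; rfl
  · simpa only [if_pos hi, if_pos hj] using congrArg Subtype.val q

theorem quot_hom [Finite A] {H R : Subgroup A} (hN : H ≤ N(R)) {Rl : List (List ℕ)} {K c : ℕ}
    (hB : Bound Rl K c) {g₀ : ℕ → B} (h₀ : Rels g₀ Rl) (hc : #(gen g₀ K) = c)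
    {h : ℕ → A} (hh : ∀ k, h k ∈ H) (hr : ∀ W ∈ Rl, evA h W ∈ R) (hR : R ≤ H) (hH : H ≤ gen h K ⊔ R)
    (h1 : c * #R ≤ #H) : ∃ f : A → gen g₀ K, PH H R f ∧ ∀ k < K, (f (h k)).1 = g₀ k := by
  have := normal_subgroupOf_of_le_normalizer hN
  let g := fun k => QuotientGroup.mk' (R.subgroupOf H) ⟨h k, hh k⟩
  have t : gen g K = ⊤ := top_le_iff.1 fun x _ => by
    obtain ⟨x, rfl⟩ := QuotientGroup.mk'_surjective _ x
    have : gen h K ⊔ R ≤ ((gen g K).comap (QuotientGroup.mk' _)).map H.subtype := sup_le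
      (gen_le.2 fun k hk => ⟨_, mem_gen g hk, rfl⟩) fun y hy => ⟨⟨y, hR hy⟩, by
        rw [SetLike.mem_coe, mem_comap, QuotientGroup.mk'_apply, (QuotientGroup.eq_one_iff (N := R.subgroupOf H) ⟨y, hR hy⟩).2 hy]
        exact one_mem _, rfl⟩
    obtain ⟨y, p, q⟩ := this (hH x.2)
    exact (Subtype.ext q : y = x) ▸ p
  obtain ⟨e, he⟩ := hB.exists_equiv h₀ hc (g := g) (fun W hW => by
      rw [← map_evA (fun k => (⟨h k, hh k⟩ : H)), QuotientGroup.mk'_apply, QuotientGroup.eq_one_iff,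
        mem_subgroupOf]
      exact Set.mem_of_eq_of_mem (map_evA _ H.subtype W) (hr W hW)) (by
    rw [card_eq_card_quotient_mul_card_subgroup (R.subgroupOf H),
      Nat.card_congr (subgroupOfEquivOfLe hR).toEquiv] at h1
    rw [t, card_top]; exact Nat.le_of_mul_le_mul_right h1 Nat.card_pos)
  let e' := e.trans ((MulEquiv.subgroupCongr t).trans topEquiv)
  obtain ⟨f, p, q⟩ := ph_of (K := R) (e'.symm.toMonoidHom.comp (QuotientGroup.mk' _))
    (e'.symm.surjective.comp (QuotientGroup.mk'_surjective _))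
    (fun x => (map_eq_one_iff _ e'.symm.injective).trans (QuotientGroup.eq_one_iff x)) hR
  refine ⟨f, p, fun k hk => ?_⟩
  exact congrArg Subtype.val ((q ⟨h k, hh k⟩).trans
    (e'.symm_apply_eq.2 (congrArg Subtype.val (he k hk)).symm : _ = (⟨g₀ k, mem_gen g₀ hk⟩ : gen g₀ K)))

theorem ea_conj [Finite A] {T J E : Subgroup A} {n : ℕ} (hT : #T = 2 ^ n) (hG : ¬ 2 ^ (n + 1) ∣ Nat.card A)
    (hJ : thompsonSubgroupOf 2 T = J) (hE : ∀ x ∈ E, x * x = 1) (c : #J ≤ #E) : ∃ g, cj g E = J := by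
  have : Fact (Nat.Prime 2) := ⟨Nat.prime_two⟩
  obtain ⟨S, hS⟩ := (IsPGroup.of_card hT).exists_le_sylow
  obtain rfl : T = S := by
    obtain ⟨m, hm⟩ := IsPGroup.iff_card.1 S.isPGroup'
    refine eq_of_le_of_card_ge hS ?_
    rw [hT, hm]
    exact Nat.pow_le_pow_right two_pos (not_lt.1 fun l => hG ((pow_dvd_pow 2 l).trans (hm ▸ card_subgroup_dvd_card _)))
  obtain ⟨R, hR⟩ := (show IsPGroup 2 E from fun x => ⟨1, Subtype.ext (by simpa [sq] using hE x x.2)⟩).exists_le_sylow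
  obtain ⟨g, e⟩ := MulAction.exists_smul_eq A R S
  have le : cj g E ≤ S := by rw [← e]; exact map_mono hR
  have sq : ∀ x ∈ cj g E, x * x = 1 := by rintro _ ⟨x, hx, rfl⟩; rw [← map_mul, hE x hx, map_one]
  have ea : IsElementaryAbelian 2 ((cj g E).subgroupOf S) :=
    ⟨⟨⟨fun x y => Subtype.ext (Subtype.ext (by
      have := sq _ (mul_mem x.2 y.2)
      rw [mul_eq_one_iff_eq_inv, mul_inv_rev, inv_eq_of_mul_eq_one_right (sq _ x.2),
        inv_eq_of_mul_eq_one_right (sq _ y.2)] at this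
      exact this))⟩⟩, fun x hx => Subtype.ext (by rw [pow_two]; exact sq _ hx)⟩
  obtain ⟨M, hM, mx⟩ := Set.exists_max_image {M : Subgroup S | IsElementaryAbelian 2 M} (fun M => #M)
    (Set.toFinite _) ⟨_, ea⟩
  have k : ∀ X : Subgroup S, IsElementaryAbelian 2 X → #M ≤ #X → X.map (S : Subgroup A).subtype ≤ J := fun X p q =>
    hJ ▸ map_mono (le_sSup ⟨p, fun Y hY => (mx Y hY).trans q⟩)
  refine ⟨g, eq_of_le_of_card_ge (map_subgroupOf_eq_of_le le ▸ k _ ea ?_) (by rwa [card_cj])⟩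
  rw [Nat.card_congr (subgroupOfEquivOfLe le).toEquiv, card_cj, ← card_map_of_injective (S : Subgroup A).subtype_injective]
  exact (card_le_of_le (k M hM le_rfl)).trans c

theorem cen_dual [Finite A] {t y : ℕ → A} {n : ℕ} (h : PC0 t n 2) (h1 : ∀ j < n, y j ∈ gen t n ∧
    ∀ i < j, t i * y j = y j * t i) (h2 : ∀ j, j + 1 < n → t (j + 1) * y (j + 1) ≠ y (j + 1) * t (j + 1))
    {x : A} (hx : x ∈ C(gen t n)) : ∀ j, j + 1 ≤ n → x ∈ gen t (j + 1) → x ∈ gen t 1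
  | 0, _, p => p
  | j + 1, l, p => by
    obtain ⟨e, he, q⟩ := h.dec l p
    refine cen_dual h h1 h2 hx j (by omega) ?_
    interval_cases e
    · simpa using q
    have := mem_cent1.1 (gen_le.2 (fun i hi => mem_cent1.2 ((h1 _ l).2 i hi)) q)
    rw [pow_one, mul_assoc, ← mem_cent.1 hx _ (h1 _ l).1, ← mul_assoc, ← mul_assoc, mul_left_inj] at this
    exact (h2 j l (by rw [inv_mul_eq_iff_eq_mul, ← mul_assoc, eq_mul_inv_iff_mul_eq] at this; exact this.symm)).elim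

end H18.TE
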