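import Cfsg.Agent.H18.TE8
import Cfsg.Agent.H18.TEg.D

/-! The centralizer of a root involution in the model. -/

set_option autoImplicit false
set_option linter.unusedSectionVars false

open Cfsg Subgroup
namespace H18.TE
open H19 H16 H0 H0.PM H0.Am H0.Co H0.TR H0.Fi D
open scoped commutatorElement

universe u v w
variable {A : Type v} {B : Type u} {Ω : Type w} [Group A] [Group B] [MulAction B Ω] [Finite A]

/-- the letters of the model -/
structure AX (a : ℕ → A) (π : A → B) (pt : ℕ → Ω) : Prop where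
  eq : ∀ {U V}, eqA U V = 0 → evA a U = evA a V
  ph : PH C[a 53] (zpowers (a 53)) π
  am : AM (fun k => π (a k)) pt M.P 1782 53
  z2 : orderOf (a 53) = 2

/-- the extraspecial group -/
noncomputable abbrev Q0 (a : ℕ → A) : Subgroup A := gen (rl σq a) 21
/-- the Sylow subgroup -/
noncomputable abbrev U0 (a : ℕ → A) : Subgroup A := gen (rl σu a) 7

theorem σq_lt : ∀ j < 21, 10 ≤ nth 0 σq j ∧ nth 0 σq j < 30 ∨ nth 0 σq j = 53 := by decide +kernel

theorem mq (a : ℕ → A) {k : ℕ} (hk : 10 ≤ k ∧ k < 30 ∨ k = 53 := by decide) : a k ∈ Q0 a := by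
  obtain ⟨j, hj, rfl⟩ := (by decide +kernel : ∀ k < 54, 10 ≤ k ∧ k < 30 ∨ k = 53 → ∃ j < 21, nth 0 σq j = k) k
    (by omega) hk
  exact mem_gen (rl σq a) hj

theorem rl_mem {a : ℕ → A} {σ W : List ℕ} {n : ℕ} (h : ltAll n W = 0) : evA a (rlW σ W) ∈ gen (rl σ a) n :=
  evA_rl a σ W ▸ evA_mem_gen _ (ltAll_zero h)

namespace AX
variable {a : ℕ → A} {π : A → B} {pt : ℕ → Ω} (X : AX a π pt)
include X

theorem e2 {i j k l : ℕ} (h : eqA [i, j] [k, l] = 0) : a j * a i = a l * a k := by simpa using X.eq h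
theorem cz {k : ℕ} (hk : k < 65 := by decide) : a k ∈ C[a 53] := mem_cent1.2 (X.e2 (D.cz k hk)).symm
theorem cs {k : ℕ} (hk : k < 65 ∧ 10 ≤ k ∧ k ≠ 29 ∧ k ≠ 54 ∧ k ≠ 58 := by decide) : a k ∈ C[a 10] :=
  mem_cent1.2 (X.e2 (D.cs k hk.1 hk.2.1 hk.2.2.1 hk.2.2.2.1 hk.2.2.2.2)).symm
theorem sq {k : ℕ} (hk : 10 ≤ k ∧ k < 45 ∨ k = 53 ∨ k = 54 ∨ k = 66 := by decide) : a k * a k = 1 := by
  simpa using X.eq (D.sq k (by omega) hk)
theorem iv {k : ℕ} (hk : 10 ≤ k ∧ k < 45 ∨ k = 53 ∨ k = 54 ∨ k = 66 := by decide) : (a k)⁻¹ = a k :=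
  inv_eq_of_mul_eq_one_right (X.sq hk)
theorem z1 : a 53 ≠ 1 := ne_one_of_order X.z2
theorem zp {x : A} : x ∈ zpowers (a 53) ↔ x = 1 ∨ x = a 53 := mem_zpowers_inv X.sq
theorem czp : #(zpowers (a 53)) = 2 := by rw [Nat.card_zpowers, X.z2]

theorem eqs : a 66 * a 53 = a 10 * a 66 ∧ (a 66 * a 29) ^ 3 = 1 ∧ a 29 * a 10 = a 53 * a 10 * a 29 ∧
    a 54 * a 29 = a 28 * a 54 ∧ a 66 * a 28 = a 38 * a 66 ∧ (a 66 * a 54) ^ 3 = 1 ∧ (a 54 * a 38) ^ 3 = 1 ∧
    a 54 * a 10 = a 11 * a 54 ∧ a 66 * a 11 = a 11 * a 66 ∧ a 45 ^ 7 = 1 ∧ a 49 * a 28 = a 28 * a 49 ∧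
    a 50 * a 28 = a 28 * a 50 ∧ a 45 * a 46 = 1 ∧ a 47 * a 48 = 1 ∧ a 51 * a 45 * a 28 = a 28 * a 45 ∧
    a 52 * a 45 * a 38 = a 38 * a 45 ∧ a 55 ^ 3 = 1 ∧ a 56 = a 42 * a 41 ∧ a 57 = a 44 * a 43 := by
  have := fun p hp => X.eq (allL_sound D.eqs p hp)
  simpa only [EQ, List.forall_mem_cons, List.not_mem_nil, IsEmpty.forall_iff, implies_true, and_true, evA_cons,
    evA_nil, one_mul, pow_succ, pow_zero, mul_assoc] using this

theorem ts : a 29 * a 10 * (a 29)⁻¹ = a 53 * a 10 := mul_inv_eq_iff_eq_mul.2 X.eqs.2.2.1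
theorem nts : a 29 ∉ C[a 10] := fun h => X.z1 (by simpa [mem_cent1.1 h] using X.ts.symm)

theorem es : ∀ i < 21, ∀ j < 21, ⁅rl σq a i, rl σq a j⁆ ∈ zpowers (a 53) := fun i hi j hj =>
  X.zp.2 ((orZ_zero (allZ2_sound D.es j hj i hi)).imp (fun h => comm_eq_one.2 (X.e2 h)) fun h => by
    rw [commutatorElement_def, mul_inv_eq_iff_eq_mul, mul_inv_eq_iff_eq_mul]
    simpa [mul_assoc, rl] using X.eq h)

theorem QC : Q0 a ≤ C[a 53] := gen_le.2 fun j hj => X.cz (by have := σq_lt j hj; omega)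

theorem pc : PC0 (rl σq a) 21 2 := ⟨two_pos, fun j hj i hi _ => by
    rcases j with _ | j
    · rw [gen_zero, mem_bot]; exact comm_eq_one.2 (mem_cent1.1 (X.QC (mem_gen _ hi)))
    · exact zpowers_le.2 (mem_gen (rl σq a) j.succ_pos) (X.es i hi _ hj),
  fun j hj => by rw [pow_two, show rl σq a j * rl σq a j = 1 from X.sq (by have := σq_lt j hj; omega)]; exact one_mem _⟩

theorem lv {k : ℕ} (hk : k ∈ LV.map Prod.fst := by decide) : a k ∈ gen a 10 := by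
  obtain ⟨p, hp, rfl⟩ := List.mem_map.1 hk
  obtain ⟨h1, h2⟩ := Nat.add_eq_zero_iff.1 (allL_sound D.lv p hp)
  rw [show a p.1 = _ by simpa using X.eq h2]; exact evA_mem_gen a (ltAll_zero h1)

theorem UC : U0 a ≤ C[a 53] := gen_le.2 fun j hj => X.cz ((by decide +kernel : ∀ j < 7, nth 0 σu j < 65) j hj)

theorem cardU : 2 ^ 36 ≤ #(U0 a) := by
  have := X.am.fin
  rw [← X.ph.card_im' (zpowers_le.2 (mem_gen (rl σu a) (k := 6) (by decide))) X.UC, X.czp, pow_succ']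
  refine Nat.mul_le_mul_left 2 ((M.ul X.am).trans (card_le_of_le (X.ph.gen_le_im rfl X.UC fun k hk => ?_)))
  obtain ⟨j, hj, rfl⟩ := (by decide +kernel : ∀ k ∈ [29, 38, 41, 42, 43, 44], ∃ j < 7, nth 0 σu j = k) k hk
  exact mem_gen (rl σu a) hj

theorem hN : a 55 ∈ N(U0 a) := mem_norm_gen fun j hj => by
  obtain ⟨h1, h2⟩ := Nat.add_eq_zero_iff.1 (D.hn j hj)
  rw [mul_inv_eq_iff_eq_mul.2 (show a 55 * rl σu a j = _ by simpa [rl] using X.eq h2)]
  exact rl_mem h1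

theorem h1 : a 55 ≠ 1 := fun e => not_mem_of_fix (K := 0) (fun _ h => by omega) X.am.act X.am.inj _ D.h1.1 (by
  rw [← X.ph.ev fun k hk => X.cz (by revert k; decide), ← X.eq D.h1.2, evA_cons, e, mul_one, evA_nil, X.ph.one]
  exact one_mem (gen (fun k => π (a k)) 0))

theorem LN : gen a 10 ≤ N(Q0 a) := gen_le.2 fun k hk => mem_norm_gen fun j hj => by
  obtain ⟨h1, h2⟩ := Nat.add_eq_zero_iff.1 (allZ2_sound D.nq k hk j hj)
  rw [mul_inv_eq_iff_eq_mul.2 (show a k * rl σq a j = _ by simpa [rl] using X.eq h2)]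
  exact rl_mem h1

theorem rels : Rels (rl (List.range 10) a) U62.Rl := fun W hW => by
  rw [evA_rl, (by decide +kernel : ∀ W ∈ U62.Rl, rlW (List.range 10) W = W) W hW]
  exact X.eq (allL_sound D.rc W hW)

omit X in
theorem genL (a : ℕ → A) : gen a 10 ≤ gen (rl (List.range 10) a) 10 := gen_le.2 fun k hk => by
  simpa only [rl, (by decide +kernel : ∀ k < 10, nth 0 (List.range 10) k = k) k hk] using
    mem_gen (rl (List.range 10) a) hk

variable (hC : C[a 53] ≤ gen a 10 ⊔ Q0 a)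
include hC

theorem nrm : C[a 53] ≤ N(Q0 a) := hC.trans (sup_le X.LN le_normalizer)

theorem big : #(Q0 a) = 2 ^ 21 ∧ Md (fun k => π (a k)) pt M.P 1782 53 M.B 9643575969054720 ∧
    ∃ f : A → gen U62.g 10, PH C[a 53] (Q0 a) f ∧ ∀ k < 10, (f (a k)).1 = U62.g k := by
  have := X.am.fin
  have c1 := X.ph.card
  have c2 : #(Q0 a) ≤ _ := X.pc.card_le' le_rfl
  have c3 := M.lo X.am
  have c4 := card_le_card_group (gen (fun k => π (a k)) 30)
  rw [X.czp] at c1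
  obtain ⟨f, p, q⟩ := quot_hom (X.nrm hC) U62.bound U62.rels U62.card (h := rl (List.range 10) a)
    (fun k => X.cz ((nth_mem 0 (List.range 10) k).elim (fun h => by omega) fun h => by have := List.mem_range.1 h; omega))
    (fun W hW => X.rels W hW ▸ one_mem _) X.QC (hC.trans (sup_le_sup_right (genL a) _)) (by omega)
  have c5 := p.card
  rw [U62.card] at c5
  refine ⟨by omega, M.md X.am (top_le_iff.1 ((eq_top_of_le_card _ (by omega)).ge.trans (gen_mono _ (by decide : 30 ≤ 53))))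
    (by omega), f, p, fun k hk => ?_⟩
  simpa only [rl, (by decide +kernel : ∀ k < 10, nth 0 (List.range 10) k = k) k hk] using q k hk

theorem cQ : #(Q0 a) = 2 ^ 21 := (X.big hC).1
theorem md : Md (fun k => π (a k)) pt M.P 1782 53 M.B 9643575969054720 := (X.big hC).2.1
theorem s1 : π (a 10) ≠ 1 := by simpa using M.n1 (X.md hC)
omit hC in
theorem cq {x y : A} (hx : x ∈ Q0 a) (hy : y ∈ Q0 a) : π x * π y = π y * π x :=
  (X.ph.comm (X.QC hx) (X.QC hy)).2 (comm_gen (X.QC.trans (cent_zpowers (a 53) ▸ cent_le_norm _)) X.es x hx y hy)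
theorem n4 : π (a 11) * π (a 38) ≠ π (a 38) * π (a 11) := by simpa using M.n4 (X.md hC)

theorem le0 : LE (Q0 a) (a 53) := by
  obtain ⟨-, -, f, p, -⟩ := X.big hC
  have := U62.simple
  have k : C(Q0 a) ≤ C[a 53] := fun x hx => mem_cent1.2 (mem_cent.1 hx _ (mq a)).symm
  have : (p.im C(Q0 a)).Normal := (normal_subgroupOf_of_le_normalizer ((X.nrm hC).trans (norm_le_norm_cent _))).map _ p.hom_sur
  have k2 : C(Q0 a) ≤ Q0 a := by
    rcases this.eq_bot_or_eq_top with e | e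
    · exact fun x hx => (p.ker x (k hx)).1 (mem_bot.1 (e ▸ p.to_im hx (k hx)))
    obtain ⟨x, h1, h2, h3⟩ := p.mem_im.1 (e.ge (mem_top (f (a 38))))
    have h4 := (p.eq h2 X.cz).1 h3
    refine (X.n4 hC ?_).elim
    rw [← mul_inv_cancel_left x (a 38), X.ph.mul _ h2 _ (X.QC h4), ← mul_assoc, X.ph.cm X.cz h2 (mem_cent.1 h1 _ (mq a)),
      mul_assoc, X.cq (mq a) h4, mul_assoc]
  refine le_of_pc ⟨X.pc, X.cQ hC⟩ (by decide) X.es ?_ (X.nrm hC)
  rw [← X.czp, le_antisymm (fun x hx => gen_one (rl σq a) ▸ cen_dual (y := fun j => evA a (rlW σq (nth [] Y j))) X.pc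
    (fun j hj => ⟨rl_mem (D.d1 j hj).1, fun i hi => by simpa [rlW, evA_append, rl] using X.eq ((D.d1 j hj).2 i hi)⟩)
    (fun j hj e => X.z1 ?_) hx 20 le_rfl (k2 hx)) (zpowers_le.2 (le_cent1_iff.1 X.QC))]
  have := X.eq (D.d2 j (by omega))
  simp only [rlW, List.map_append, List.map_cons, List.map_nil, evA_append, evA_cons, evA_nil, one_mul, List.cons_append] at this
  rw [rl, rlW, this, mul_left_inj, mul_eq_right] at e
  exact e

end AX

end H18.TE
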